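import Groth.Prelude.Def_CAlg
import Groth.Agent.Lib.Helper29.DepthRees
import Groth.Agent.Lib.Helper29.DepthFinite
import Groth.Agent.H76.InjFlat
import Mathlib.RingTheory.Flat.Equalizer
import Mathlib.LinearAlgebra.TensorProduct.Pi
import Mathlib.LinearAlgebra.TensorProduct.Quotient

/-!
# Depth and flat local homomorphisms (helper93)

For a local homomorphism `R → S` of Noetherian local rings, a finite `R`-module `M` and a finite
`S`-module `N` flat over `R`:
`depth_S (N ⊗[R] M) = depth_R M + depth_S (N / 𝔪_R N)`  (`depth_tensor_of_flat`).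
-/

set_option autoImplicit false
universe u v

namespace Groth.Agent.Lib.Helper93.DepthFlat

open TensorProduct IsLocalRing
open scoped Pointwise

section General

variable {R S : Type*} [CommRing R] [CommRing S] [Algebra R S]
variable {N : Type*} [AddCommGroup N] [Module S N] [Module R N] [IsScalarTower R S N]
variable {M : Type*} [AddCommGroup M] [Module R M]

/-- `N ⊗[R] M` is a finite `S`-module when `N` is finite over `S` and `M` is finite over `R`. -/
theorem finite_tensor [Module.Finite S N] [Module.Finite R M] : Module.Finite S (N ⊗[R] M) := by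
  classical
  obtain ⟨k, f, hf⟩ := Module.Finite.exists_fin' R M
  have h1 : Function.Surjective (AlgebraTensorModule.lTensor S N f) :=
    LinearMap.lTensor_surjective N hf
  have : Module.Finite S (N ⊗[R] (Fin k → R)) :=
    Module.Finite.equiv (TensorProduct.piScalarRight R S N (Fin k)).symm
  exact Module.Finite.of_surjective _ h1

/-- A surjective linear map whose kernel is `s • ⊤` identifies the target with `QuotSMulTop s`. -/
noncomputable def quotSMulTopEquivOfSurjective {T T' : Type*} [AddCommGroup T] [Module S T]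
    [AddCommGroup T'] [Module S T'] (s : S) (π : T →ₗ[S] T') (hπ : Function.Surjective π)
    (hker : ∀ t, π t = 0 ↔ ∃ t', s • t' = t) : QuotSMulTop s T ≃ₗ[S] T' :=
  (Submodule.quotEquivOfEq _ _ (by
    ext t
    rw [LinearMap.mem_ker, hker, Submodule.mem_smul_pointwise_iff_exists]
    simp)).trans (π.quotKerEquivOfSurjective hπ)

/-- The action of `algebraMap R S x` on `N ⊗[R] M` is `N ⊗ (x • ·)`. -/
theorem algebraMap_smul_tensor (x : R) (t : N ⊗[R] M) :
    algebraMap R S x • t = LinearMap.lTensor N (LinearMap.lsmul R M x) t := by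
  rw [algebraMap_smul]
  induction t with
  | zero => simp
  | tmul n m => simp [TensorProduct.tmul_smul]
  | add a b ha hb => rw [smul_add, ha, hb, map_add]

/-- The action of `y : S` on `N ⊗[R] M` is `(y • ·) ⊗ M`. -/
theorem smul_tensor (y : S) (t : N ⊗[R] M) :
    y • t = LinearMap.rTensor M ((LinearMap.lsmul S N y).restrictScalars R) t := by
  induction t with
  | zero => simp
  | tmul n m => simp [TensorProduct.smul_tmul']
  | add a b ha hb => rw [smul_add, ha, hb, map_add]

/-- An `M`-regular element of `R` is `N ⊗[R] M`-regular when `N` is flat. -/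
theorem isSMulRegular_tensor_of_flat [Module.Flat R N] {x : R} (hx : IsSMulRegular M x) :
    IsSMulRegular (N ⊗[R] M) (algebraMap R S x) := by
  have h1 : Function.Injective (LinearMap.lTensor N (LinearMap.lsmul R M x)) :=
    Module.Flat.lTensor_preserves_injective_linearMap _ hx
  intro a b hab
  apply h1
  rw [← algebraMap_smul_tensor (S := S), ← algebraMap_smul_tensor (S := S)]
  exact hab

/-- `(N ⊗ M)/x(N ⊗ M) ≃ N ⊗ (M/xM)`, `S`-linearly. -/
noncomputable def quotSMulTopTensorEquivRight (x : R) :
    QuotSMulTop (algebraMap R S x) (N ⊗[R] M) ≃ₗ[S] N ⊗[R] QuotSMulTop x M :=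
  quotSMulTopEquivOfSurjective (algebraMap R S x)
    (AlgebraTensorModule.lTensor S N (Submodule.mkQ (x • (⊤ : Submodule R M))))
    (LinearMap.lTensor_surjective N (Submodule.mkQ_surjective (x • (⊤ : Submodule R M))))
    (by
      intro t
      have hex : Function.Exact (LinearMap.lsmul R M x) (Submodule.mkQ (x • (⊤ : Submodule R M))) := by
        intro m
        rw [Submodule.mkQ_apply, Submodule.Quotient.mk_eq_zero,
          Submodule.mem_smul_pointwise_iff_exists]
        simp
      have := lTensor_exact N hex (Submodule.mkQ_surjective (x • (⊤ : Submodule R M))) t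
      rw [AlgebraTensorModule.coe_lTensor, this]
      constructor
      · rintro ⟨t', rfl⟩
        exact ⟨t', algebraMap_smul_tensor x t'⟩
      · rintro ⟨t', rfl⟩
        exact ⟨t', (algebraMap_smul_tensor x t').symm⟩)

/-- `N --y--> N --> N/yN` is exact (as `R`-linear maps). -/
theorem exact_lsmul_mkQ (y : S) :
    Function.Exact ((LinearMap.lsmul S N y).restrictScalars R)
      ((Submodule.mkQ (y • (⊤ : Submodule S N))).restrictScalars R) := by
  intro n
  constructor
  · intro h
    have h' : n ∈ y • (⊤ : Submodule S N) := (Submodule.Quotient.mk_eq_zero _).mp h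
    obtain ⟨b, -, hb⟩ := (Submodule.mem_smul_pointwise_iff_exists _ _ _).mp h'
    exact ⟨b, hb⟩
  · rintro ⟨b, rfl⟩
    exact (Submodule.Quotient.mk_eq_zero _).mpr
      ((Submodule.mem_smul_pointwise_iff_exists _ _ _).mpr ⟨b, Submodule.mem_top, rfl⟩)

/-- If `y : S` is `N`-regular and `N/yN` is flat over `R`, then `y` is `N ⊗[R] M`-regular. -/
theorem isSMulRegular_tensor_of_flat_quot {y : S} (hy : IsSMulRegular N y)
    [Module.Flat R (QuotSMulTop y N)] : IsSMulRegular (N ⊗[R] M) y := by
  let u : N →ₗ[R] N := (LinearMap.lsmul S N y).restrictScalars R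
  let g : N →ₗ[R] QuotSMulTop y N := (Submodule.mkQ (y • (⊤ : Submodule S N))).restrictScalars R
  have hg : Function.Surjective g := Submodule.mkQ_surjective (y • (⊤ : Submodule S N))
  have hex : Function.Exact u g := exact_lsmul_mkQ y
  have h1 : Function.Injective (LinearMap.lTensor M u) :=
    LinearMap.lTensor_injective_of_exact_of_flat g hg u hy hex M
  have h2 : Function.Injective (LinearMap.rTensor M u) :=
    (LinearMap.lTensor_inj_iff_rTensor_inj M u).mp h1
  intro a b hab
  apply h2
  rw [← smul_tensor, ← smul_tensor]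
  exact hab

/-- `(N ⊗ M)/y(N ⊗ M) ≃ (N/yN) ⊗ M`, `S`-linearly. -/
noncomputable def quotSMulTopTensorEquivLeft (y : S) :
    QuotSMulTop y (N ⊗[R] M) ≃ₗ[S] (QuotSMulTop y N) ⊗[R] M :=
  quotSMulTopEquivOfSurjective y
    (AlgebraTensorModule.rTensor R M (Submodule.mkQ (y • (⊤ : Submodule S N))))
    (LinearMap.rTensor_surjective M (g := (Submodule.mkQ (y • (⊤ : Submodule S N))).restrictScalars R)
      (Submodule.mkQ_surjective (y • (⊤ : Submodule S N))))
    (by
      intro t
      have hex : Function.Exact ((LinearMap.lsmul S N y).restrictScalars R)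
          ((Submodule.mkQ (y • (⊤ : Submodule S N))).restrictScalars R) := exact_lsmul_mkQ y
      have := rTensor_exact M hex (Submodule.mkQ_surjective (y • (⊤ : Submodule S N))) t
      rw [AlgebraTensorModule.coe_rTensor]
      change (LinearMap.rTensor M
        ((Submodule.mkQ (y • (⊤ : Submodule S N))).restrictScalars R)) t = 0 ↔ _
      rw [this]
      constructor
      · rintro ⟨t', rfl⟩
        exact ⟨t', smul_tensor y t'⟩
      · rintro ⟨t', rfl⟩
        exact ⟨t', (smul_tensor y t').symm⟩)

end General

section Fibre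

variable {R S : Type*} [CommRing R] [CommRing S] [Algebra R S]
variable (N : Type*) [AddCommGroup N] [Module S N] [Module R N] [IsScalarTower R S N]

/-- `(I S) N = I N` as sets. -/
theorem map_smul_top_restrictScalars (I : Ideal R) :
    ((I.map (algebraMap R S)) • (⊤ : Submodule S N)).restrictScalars R =
      I • (⊤ : Submodule R N) := by
  apply le_antisymm
  · have key : ∀ a ∈ I.map (algebraMap R S), ∀ n' : N, a • n' ∈ I • (⊤ : Submodule R N) := by
      intro a ha
      refine Submodule.span_induction (p := fun a _ => ∀ n' : N, a • n' ∈ I • (⊤ : Submodule R N))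
        ?_ ?_ ?_ ?_ ha
      · rintro _ ⟨i, hi, rfl⟩ n'
        rw [algebraMap_smul]
        exact Submodule.smul_mem_smul hi Submodule.mem_top
      · intro n'
        rw [zero_smul]
        exact Submodule.zero_mem _
      · intro a b _ _ ha hb n'
        rw [add_smul]
        exact Submodule.add_mem _ (ha n') (hb n')
      · intro s a _ ha n'
        rw [smul_eq_mul, mul_comm, mul_smul]
        exact ha (s • n')
    intro n hn
    have hn' : n ∈ (I.map (algebraMap R S)) • (⊤ : Submodule S N) := hn
    refine Submodule.smul_induction_on hn' (fun a ha n' _ => key a ha n') ?_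
    intro a b ha hb
    exact Submodule.add_mem _ ha hb
  · rw [Submodule.smul_le]
    intro i hi n _
    change i • n ∈ (I.map (algebraMap R S)) • (⊤ : Submodule S N)
    rw [← algebraMap_smul S i n]
    exact Submodule.smul_mem_smul (Ideal.mem_map_of_mem _ hi) Submodule.mem_top

variable {N} in
theorem mem_map_smul_top_iff (I : Ideal R) (n : N) :
    n ∈ (I.map (algebraMap R S)) • (⊤ : Submodule S N) ↔ n ∈ I • (⊤ : Submodule R N) := by
  rw [← map_smul_top_restrictScalars (S := S) N I]
  rfl

end Fibre

section Local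

variable {R S : Type*} [CommRing R] [CommRing S] [Algebra R S] [IsLocalRing R]
variable (N : Type*) [AddCommGroup N] [Module S N] [Module R N] [IsScalarTower R S N]

/-- If `y` is regular on the fibre `N/𝔪_R N`, then `κ(R) ⊗ (y • ·)` is injective. -/
theorem lTensor_residueField_injective_of_regular {y : S}
    (hy : IsSMulRegular
      (N ⧸ ((maximalIdeal R).map (algebraMap R S)) • (⊤ : Submodule S N)) y) :
    Function.Injective (LinearMap.lTensor (ResidueField R)
      ((LinearMap.lsmul S N y).restrictScalars R)) := by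
  rw [injective_iff_map_eq_zero]
  intro t ht
  let e := TensorProduct.quotTensorEquivQuotSMul N (maximalIdeal R)
  obtain ⟨n, hn⟩ := Submodule.mkQ_surjective _ (e t)
  have ht' : t = (1 : R ⧸ maximalIdeal R) ⊗ₜ[R] n := by
    rw [← TensorProduct.quotTensorEquivQuotSMul_symm_mk, ← Submodule.mkQ_apply, hn]
    exact (e.symm_apply_apply t).symm
  rw [ht'] at ht ⊢
  have h1 : e ((1 : R ⧸ maximalIdeal R) ⊗ₜ[R] (y • n)) = 0 := by
    have : (LinearMap.lTensor (ResidueField R) ((LinearMap.lsmul S N y).restrictScalars R))
        ((1 : R ⧸ maximalIdeal R) ⊗ₜ[R] n) = (1 : R ⧸ maximalIdeal R) ⊗ₜ[R] (y • n) := rfl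
    exact (congrArg e this).symm.trans ((congrArg e ht).trans (map_zero e))
  have h2 : y • n ∈ maximalIdeal R • (⊤ : Submodule R N) := by
    have h3 := TensorProduct.quotTensorEquivQuotSMul_mk_tmul (maximalIdeal R) (1 : R) (y • n)
    rw [one_smul] at h3
    have h4 : Submodule.Quotient.mk (p := maximalIdeal R • (⊤ : Submodule R N)) (y • n) = 0 :=
      h3.symm.trans h1
    exact (Submodule.Quotient.mk_eq_zero _).mp h4
  have h5 : y • n ∈ ((maximalIdeal R).map (algebraMap R S)) • (⊤ : Submodule S N) :=
    (mem_map_smul_top_iff _ _).mpr h2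
  have h6 : y • (Submodule.Quotient.mk n :
      N ⧸ ((maximalIdeal R).map (algebraMap R S)) • (⊤ : Submodule S N)) = 0 := by
    rw [← Submodule.Quotient.mk_smul]
    exact (Submodule.Quotient.mk_eq_zero _).mpr h5
  have h7 := (Submodule.Quotient.mk_eq_zero _).mp (hy.right_eq_zero_of_smul h6)
  have h8 : n ∈ maximalIdeal R • (⊤ : Submodule R N) := (mem_map_smul_top_iff _ _).mp h7
  have h9 : e ((1 : R ⧸ maximalIdeal R) ⊗ₜ[R] n) = 0 := by
    have h3 := TensorProduct.quotTensorEquivQuotSMul_mk_tmul (maximalIdeal R) (1 : R) n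
    rw [one_smul] at h3
    exact h3.trans ((Submodule.Quotient.mk_eq_zero _).mpr h8)
  exact e.map_eq_zero_iff.mp h9

end Local

section FibreQuot

variable {S : Type*} [CommRing S] (N : Type*) [AddCommGroup N] [Module S N]

/-- `(N/yN)/I(N/yN) ≃ (N/IN)/y(N/IN)`. -/
noncomputable def fibreQuotSMulTopEquiv (I : Ideal S) (y : S) :
    (QuotSMulTop y N ⧸ I • (⊤ : Submodule S (QuotSMulTop y N))) ≃ₗ[S]
      QuotSMulTop y (N ⧸ I • (⊤ : Submodule S N)) :=
  ((Submodule.quotEquivOfEq _ _ (by
      rw [Submodule.map_smul'', Submodule.map_top, Submodule.range_mkQ])).trans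
    (Submodule.quotientQuotientEquivQuotientSup (y • (⊤ : Submodule S N))
      (I • (⊤ : Submodule S N)))).trans
  ((Submodule.quotEquivOfEq _ _ (sup_comm _ _)).trans
    ((Submodule.quotEquivOfEq _ _ (by
      rw [Submodule.map_pointwise_smul, Submodule.map_top, Submodule.range_mkQ])).trans
    (Submodule.quotientQuotientEquivQuotientSup (I • (⊤ : Submodule S N))
      (y • (⊤ : Submodule S N)))).symm)

end FibreQuot

section LocalHom

variable {R S : Type*} [CommRing R] [CommRing S] [Algebra R S] [IsLocalRing R] [IsLocalRing S]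
  [IsNoetherianRing S] [IsLocalHom (algebraMap R S)]
variable (N : Type*) [AddCommGroup N] [Module S N] [Module R N] [IsScalarTower R S N]
  [Module.Finite S N] [Module.Flat R N]

/-- If `y ∈ S` is regular on the fibre `N/𝔪_R N` then `y` is `N`-regular and `N/yN` is `R`-flat. -/
theorem isSMulRegular_and_flat_of_regular_fibre {y : S}
    (hy : IsSMulRegular
      (N ⧸ ((maximalIdeal R).map (algebraMap R S)) • (⊤ : Submodule S N)) y) :
    IsSMulRegular N y ∧ Module.Flat R (QuotSMulTop y N) := by
  obtain ⟨h1, h2⟩ := Groth.Agent.H76.InjFlat.injective_and_flat (S := S)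
    ((LinearMap.lsmul S N y).restrictScalars R) (lTensor_residueField_injective_of_regular N hy)
  refine ⟨h1, ?_⟩
  have hrange : LinearMap.range ((LinearMap.lsmul S N y).restrictScalars R) =
      (y • (⊤ : Submodule S N)).restrictScalars R := by
    ext n
    rw [LinearMap.mem_range, Submodule.restrictScalars_mem,
      Submodule.mem_smul_pointwise_iff_exists]
    simp
  let e : (N ⧸ LinearMap.range ((LinearMap.lsmul S N y).restrictScalars R)) ≃ₗ[R]
      QuotSMulTop y N :=
    (Submodule.quotEquivOfEq _ _ hrange).trans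
      (Submodule.Quotient.restrictScalarsEquiv R (y • (⊤ : Submodule S N)))
  exact Module.Flat.of_linearEquiv e.symm

end LocalHom

section Main

open Groth.Agent.Lib.Helper29

variable {R S : Type u} [CommRing R] [CommRing S] [Algebra R S] [IsLocalRing R] [IsLocalRing S]
  [IsNoetherianRing R] [IsNoetherianRing S] [IsLocalHom (algebraMap R S)]

omit [IsNoetherianRing R] [IsNoetherianRing S] in
theorem algebraMap_mem_maximalIdeal {x : R} (hx : x ∈ maximalIdeal R) :
    algebraMap R S x ∈ maximalIdeal S := by
  rw [mem_maximalIdeal, mem_nonunits_iff] at hx ⊢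
  rwa [isUnit_map_iff]

omit [IsNoetherianRing R] [IsNoetherianRing S] in
/-- The fibre `N/𝔪_R N` of a nonzero finite `S`-module is nonzero. -/
theorem nontrivial_fibre (N : Type v) [AddCommGroup N] [Module S N] [Module.Finite S N]
    [Nontrivial N] :
    Nontrivial (N ⧸ ((maximalIdeal R).map (algebraMap R S)) • (⊤ : Submodule S N)) := by
  rw [← not_subsingleton_iff_nontrivial, Submodule.Quotient.subsingleton_iff]
  exact (Submodule.top_ne_ideal_smul_of_le_jacobson_annihilator
    ((map_maximalIdeal_le (algebraMap R S)).trans (IsLocalRing.maximalIdeal_le_jacobson _))).symm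

omit [IsLocalHom (algebraMap R S)] in
/-- Step C: both depths zero. -/
theorem depth_tensor_eq_zero (M N : Type u) [AddCommGroup M] [Module R M] [Module.Finite R M]
    [AddCommGroup N] [Module S N] [Module R N] [IsScalarTower R S N] [Module.Finite S N]
    [Module.Flat R N] (hM : LocCoh.depth R M = 0)
    (hN : LocCoh.depth S
      (N ⧸ ((maximalIdeal R).map (algebraMap R S)) • (⊤ : Submodule S N)) = 0) :
    LocCoh.depth S (N ⊗[R] M) = 0 := by
  have hM' := (depth_eq_zero_iff R M).mp hM
  have hN' := (depth_eq_zero_iff S _).mp hN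
  obtain ⟨-, m0, hm0⟩ := isAssociatedPrime_iff.mp hM'
  obtain ⟨-, q0, hq0⟩ := isAssociatedPrime_iff.mp hN'
  obtain ⟨n0, rfl⟩ := Submodule.mkQ_surjective _ q0
  have hm0' : ∀ a : R, a ∈ maximalIdeal R ↔ a • m0 = 0 := by
    intro a
    rw [hm0, Submodule.mem_colon_singleton, Submodule.mem_bot]
  have hn0' : ∀ s : S, s ∈ maximalIdeal S ↔
      s • n0 ∈ ((maximalIdeal R).map (algebraMap R S)) • (⊤ : Submodule S N) := by
    intro s
    rw [hq0, Submodule.mem_colon_singleton, Submodule.mem_bot, Submodule.mkQ_apply,
      ← Submodule.Quotient.mk_smul, Submodule.Quotient.mk_eq_zero]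
  have hn0 : n0 ∉ maximalIdeal R • (⊤ : Submodule R N) := by
    intro h
    have h1 : (1 : S) • n0 ∈ ((maximalIdeal R).map (algebraMap R S)) • (⊤ : Submodule S N) := by
      rw [one_smul]
      exact (mem_map_smul_top_iff _ _).mpr h
    have h2 := (hn0' 1).mpr h1
    exact (maximalIdeal.isMaximal S).ne_top ((Ideal.eq_top_iff_one _).mpr h2)
  -- killing
  have hkill : ∀ w ∈ maximalIdeal R • (⊤ : Submodule R N), w ⊗ₜ[R] m0 = 0 := by
    intro w hw
    refine Submodule.smul_induction_on hw ?_ ?_
    · intro r hr n' _
      rw [TensorProduct.smul_tmul, (hm0' r).mp hr, TensorProduct.tmul_zero]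
    · intro a b ha hb
      rw [TensorProduct.add_tmul, ha, hb, add_zero]
  have hz_kill : ∀ s ∈ maximalIdeal S, s • (n0 ⊗ₜ[R] m0) = 0 := by
    intro s hs
    rw [TensorProduct.smul_tmul']
    exact hkill _ ((mem_map_smul_top_iff _ _).mp ((hn0' s).mp hs))
  -- nonvanishing
  have hz_ne : n0 ⊗ₜ[R] m0 ≠ 0 := by
    intro hz
    have hle : maximalIdeal R ≤ LinearMap.ker (LinearMap.toSpanSingleton R M m0) := by
      intro a ha
      rw [LinearMap.mem_ker, LinearMap.toSpanSingleton_apply]
      exact (hm0' a).mp ha
    have hge : LinearMap.ker (LinearMap.toSpanSingleton R M m0) ≤ maximalIdeal R := by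
      intro a ha
      rw [LinearMap.mem_ker, LinearMap.toSpanSingleton_apply] at ha
      exact (hm0' a).mpr ha
    let φ : (R ⧸ maximalIdeal R) →ₗ[R] M :=
      Submodule.liftQ (maximalIdeal R) (LinearMap.toSpanSingleton R M m0) hle
    have hφ : Function.Injective φ :=
      LinearMap.ker_eq_bot.mp (Submodule.ker_liftQ_eq_bot _ _ hle hge)
    have hψ : Function.Injective (LinearMap.lTensor N φ) :=
      Module.Flat.lTensor_preserves_injective_linearMap _ hφ
    have h1 : LinearMap.lTensor N φ (n0 ⊗ₜ[R] (1 : R ⧸ maximalIdeal R)) = n0 ⊗ₜ[R] m0 := by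
      rw [LinearMap.lTensor_tmul]
      congr 1
      change φ (Submodule.Quotient.mk 1) = m0
      rw [Submodule.liftQ_apply, LinearMap.toSpanSingleton_apply, one_smul]
    have h2 : n0 ⊗ₜ[R] (1 : R ⧸ maximalIdeal R) = 0 := by
      apply hψ
      rw [h1, hz, map_zero]
    have h3 := TensorProduct.tensorQuotEquivQuotSMul_tmul_mk (maximalIdeal R) n0 (1 : R)
    rw [one_smul] at h3
    have h4 : (Submodule.Quotient.mk n0 : N ⧸ maximalIdeal R • (⊤ : Submodule R N)) = 0 := by
      rw [← h3]
      exact (congrArg _ h2).trans (map_zero _)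
    exact hn0 ((Submodule.Quotient.mk_eq_zero _).mp h4)
  have : Module.Finite S (N ⊗[R] M) := finite_tensor
  have : Nontrivial (N ⊗[R] M) := ⟨⟨_, _, hz_ne⟩⟩
  apply depth_eq_zero_of_forall_not_isSMulRegular
  intro s hs hreg
  exact hz_ne (hreg.right_eq_zero_of_smul (hz_kill s hs))

/-- Inductive form of the flat depth formula. -/
theorem depth_tensor_of_flat_aux (n : ℕ) :
    ∀ (M N : Type u) [AddCommGroup M] [Module R M] [Module.Finite R M]
      [AddCommGroup N] [Module S N] [Module R N] [IsScalarTower R S N] [Module.Finite S N]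
      [Module.Flat R N],
      LocCoh.depth R M + LocCoh.depth S
        (N ⧸ ((maximalIdeal R).map (algebraMap R S)) • (⊤ : Submodule S N)) = n →
      LocCoh.depth S (N ⊗[R] M) = n := by
  induction n with
  | zero =>
    intro M N _ _ _ _ _ _ _ _ _ h
    rw [Nat.cast_zero] at h ⊢
    obtain ⟨h1, h2⟩ := add_eq_zero.mp h
    exact depth_tensor_eq_zero M N h1 h2
  | succ n ih =>
    intro M N _ _ _ _ _ _ _ _ _ h
    by_cases hM0 : LocCoh.depth R M = 0
    · -- a regular element on the fibre
      rw [hM0, zero_add] at h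
      have hnt : Nontrivial
          (N ⧸ ((maximalIdeal R).map (algebraMap R S)) • (⊤ : Submodule S N)) := by
        by_contra hcon
        rw [not_nontrivial_iff_subsingleton] at hcon
        rw [depth_eq_top_of_subsingleton] at h
        exact ENat.top_ne_natCast _ h
      have hb : LocCoh.depth S
          (N ⧸ ((maximalIdeal R).map (algebraMap R S)) • (⊤ : Submodule S N)) ≠ 0 := by
        rw [h]
        exact_mod_cast Nat.succ_ne_zero n
      obtain ⟨y, hy_mem, hy_reg⟩ : ∃ y ∈ maximalIdeal S, IsSMulRegular
          (N ⧸ ((maximalIdeal R).map (algebraMap R S)) • (⊤ : Submodule S N)) y := by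
        by_contra hcon
        push Not at hcon
        exact hb (depth_eq_zero_of_forall_not_isSMulRegular S _ hcon)
      obtain ⟨hyN, hflat⟩ := isSMulRegular_and_flat_of_regular_fibre (R := R) N hy_reg
      have hreg' : IsSMulRegular (N ⊗[R] M) y := isSMulRegular_tensor_of_flat_quot hyN
      have : Module.Finite S (N ⊗[R] M) := finite_tensor
      have e1 := depth_quotSMulTop_add_one S (N ⊗[R] M) hy_mem hreg'
      have e2 : LocCoh.depth S (QuotSMulTop y (N ⊗[R] M)) =
          LocCoh.depth S (QuotSMulTop y N ⊗[R] M) :=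
        idealDepth_congr _ (quotSMulTopTensorEquivLeft y)
      have e3 := depth_quotSMulTop_add_one S
        (N ⧸ ((maximalIdeal R).map (algebraMap R S)) • (⊤ : Submodule S N)) hy_mem hy_reg
      have e4 : LocCoh.depth S (QuotSMulTop y N ⧸ ((maximalIdeal R).map (algebraMap R S)) •
          (⊤ : Submodule S (QuotSMulTop y N))) = LocCoh.depth S (QuotSMulTop y
            (N ⧸ ((maximalIdeal R).map (algebraMap R S)) • (⊤ : Submodule S N))) :=
        idealDepth_congr _ (fibreQuotSMulTopEquiv N _ y)
      have h' : LocCoh.depth R M + LocCoh.depth S (QuotSMulTop y N ⧸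
          ((maximalIdeal R).map (algebraMap R S)) • (⊤ : Submodule S (QuotSMulTop y N))) = n := by
        rw [e4, hM0, zero_add]
        rw [← e3, Nat.cast_succ] at h
        exact ENat.add_left_injective_of_ne_top ENat.one_ne_top h
      have h5 := ih M (QuotSMulTop y N) h'
      rw [← e1, e2, h5, Nat.cast_succ]
    · -- a regular element on `M`
      have hnt : Nontrivial M := by
        by_contra hcon
        rw [not_nontrivial_iff_subsingleton] at hcon
        rw [depth_eq_top_of_subsingleton R M, top_add] at h
        exact ENat.top_ne_natCast _ h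
      obtain ⟨x, hx_mem, hx_reg⟩ : ∃ x ∈ maximalIdeal R, IsSMulRegular M x := by
        by_contra hcon
        push Not at hcon
        exact hM0 (depth_eq_zero_of_forall_not_isSMulRegular R _ hcon)
      have hx' : algebraMap R S x ∈ maximalIdeal S := algebraMap_mem_maximalIdeal hx_mem
      have hreg' : IsSMulRegular (N ⊗[R] M) (algebraMap R S x) :=
        isSMulRegular_tensor_of_flat hx_reg
      have : Module.Finite S (N ⊗[R] M) := finite_tensor
      have e1 := depth_quotSMulTop_add_one S (N ⊗[R] M) hx' hreg'
      have e2 : LocCoh.depth S (QuotSMulTop (algebraMap R S x) (N ⊗[R] M)) =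
          LocCoh.depth S (N ⊗[R] QuotSMulTop x M) :=
        idealDepth_congr _ (quotSMulTopTensorEquivRight x)
      have e3 := depth_quotSMulTop_add_one R M hx_mem hx_reg
      have h' : LocCoh.depth R (QuotSMulTop x M) + LocCoh.depth S
          (N ⧸ ((maximalIdeal R).map (algebraMap R S)) • (⊤ : Submodule S N)) = n := by
        rw [← e3, Nat.cast_succ, add_right_comm] at h
        exact ENat.add_left_injective_of_ne_top ENat.one_ne_top h
      have h5 := ih (QuotSMulTop x M) N h'
      rw [← e1, e2, h5, Nat.cast_succ]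

/-- **Flat local depth formula**: `depth_S (N ⊗[R] M) = depth_R M + depth_S (N/𝔪_R N)`. -/
theorem depth_tensor_of_flat (M N : Type u) [AddCommGroup M] [Module R M] [Module.Finite R M]
    [AddCommGroup N] [Module S N] [Module R N] [IsScalarTower R S N] [Module.Finite S N]
    [Module.Flat R N] :
    LocCoh.depth S (N ⊗[R] M) = LocCoh.depth R M + LocCoh.depth S
      (N ⧸ ((maximalIdeal R).map (algebraMap R S)) • (⊤ : Submodule S N)) := by
  rcases subsingleton_or_nontrivial M with hM | hM
  · have : Subsingleton (N ⊗[R] M) := by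
      refine ⟨fun a b => ?_⟩
      have h0 : ∀ t : N ⊗[R] M, t = 0 := by
        intro t
        induction t with
        | zero => rfl
        | tmul n m => rw [Subsingleton.elim m 0, TensorProduct.tmul_zero]
        | add a b ha hb => rw [ha, hb, add_zero]
      rw [h0 a, h0 b]
    rw [depth_eq_top_of_subsingleton R M, top_add]
    exact depth_eq_top_of_subsingleton S _
  rcases subsingleton_or_nontrivial N with hN | hN
  · have : Subsingleton (N ⊗[R] M) := by
      refine ⟨fun a b => ?_⟩
      have h0 : ∀ t : N ⊗[R] M, t = 0 := by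
        intro t
        induction t with
        | zero => rfl
        | tmul n m => rw [Subsingleton.elim n 0, TensorProduct.zero_tmul]
        | add a b ha hb => rw [ha, hb, add_zero]
      rw [h0 a, h0 b]
    have h2 : Subsingleton
        (N ⧸ ((maximalIdeal R).map (algebraMap R S)) • (⊤ : Submodule S N)) := by
      refine ⟨fun a b => ?_⟩
      obtain ⟨a', rfl⟩ := Submodule.mkQ_surjective _ a
      obtain ⟨b', rfl⟩ := Submodule.mkQ_surjective _ b
      rw [Subsingleton.elim a' b']
    rw [depth_eq_top_of_subsingleton S (N ⧸ _), add_top]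
    exact depth_eq_top_of_subsingleton S _
  have hnt := nontrivial_fibre (R := R) (S := S) N
  obtain ⟨a, ha⟩ := ENat.ne_top_iff_exists.mp (depth_ne_top R M)
  obtain ⟨b, hb⟩ := ENat.ne_top_iff_exists.mp (depth_ne_top S
    (N ⧸ ((maximalIdeal R).map (algebraMap R S)) • (⊤ : Submodule S N)))
  have h := depth_tensor_of_flat_aux (a + b) M N (by rw [← ha, ← hb, Nat.cast_add])
  rw [h, ← ha, ← hb, Nat.cast_add]

end Main

section FiniteLength

open Groth.Agent.Lib.Helper29 in
/-- A nonzero module of finite length over a local ring has depth zero. -/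
theorem depth_eq_zero_of_isFiniteLength {S : Type u} [CommRing S] [IsLocalRing S]
    (P : Type v) [AddCommGroup P] [Module S P] [Nontrivial P] (hP : IsFiniteLength S P) :
    LocCoh.depth S P = 0 := by
  obtain ⟨hN, hA⟩ := isFiniteLength_iff_isNoetherian_isArtinian.mp hP
  have hfin : Module.Finite S P := inferInstance
  have hnak : (maximalIdeal S) • (⊤ : Submodule S P) ≠ ⊤ := by
    intro h
    have h1 : (⊤ : Submodule S P) ≤ (maximalIdeal S) • (⊤ : Submodule S P) := h.ge
    have h2 := Submodule.eq_bot_of_le_smul_of_le_jacobson_bot (maximalIdeal S) ⊤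
      (Module.finite_def.mp hfin) h1 (IsLocalRing.maximalIdeal_le_jacobson ⊥)
    exact top_ne_bot h2
  apply depth_eq_zero_of_forall_not_isSMulRegular
  intro r hr hreg
  have hsurj : Function.Surjective (LinearMap.lsmul S P r) :=
    IsArtinian.surjective_of_injective_endomorphism _ hreg
  apply hnak
  rw [eq_top_iff]
  intro x _
  obtain ⟨y, rfl⟩ := hsurj x
  exact Submodule.smul_mem_smul hr Submodule.mem_top

end FiniteLength

end Groth.Agent.Lib.Helper93.DepthFlat
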