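import Groth.Prelude.Def_HopfRep
import Groth.Prelude.Def_Hoch
import Mathlib

/-! # Comodules over a coalgebra over a field, via the action of linear forms

For a right comodule `V` over a coalgebra `A` over a field `k`, every linear form `φ : A → k`
gives an endomorphism `dualAct φ = (id ⊗ φ) ∘ ρ` of `V`.  Subcomodules are exactly the subspaces
stable under all `dualAct φ` and comodule maps are exactly the linear maps commuting with them.
-/

universe u v w w' w''

open TensorProduct

namespace Groth.Agent.Lib.Helper93.Comod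

section Sep

variable {k : Type u} [Field k] {A : Type v} [AddCommGroup A] [Module k A]
variable {M : Type w} [AddCommGroup M] [Module k M]

/-- Linear forms on the second factor separate the points of a tensor product over a field. -/
theorem eq_zero_of_forall_lTensor_eq_zero (x : M ⊗[k] A)
    (h : ∀ φ : A →ₗ[k] k, (TensorProduct.rid k M) (φ.lTensor M x) = 0) : x = 0 := by
  classical
  let b := Module.Free.chooseBasis k A
  apply (TensorProduct.equivFinsuppOfBasisRight (M := M) b).injective
  rw [map_zero]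
  ext i
  have key : ∀ y : M ⊗[k] A, (TensorProduct.equivFinsuppOfBasisRight (M := M) b) y i =
      (TensorProduct.rid k M) ((b.coord i).lTensor M y) := by
    intro y
    induction y using TensorProduct.induction_on with
    | zero => simp
    | tmul m a =>
      rw [TensorProduct.equivFinsuppOfBasisRight_apply_tmul_apply]
      simp
    | add y z hy hz =>
      rw [map_add, Finsupp.add_apply, hy, hz, map_add, map_add]
  rw [key, h]
  rfl

end Sep

section Basic

variable {k : Type u} [CommRing k] {A : Type v} [AddCommGroup A] [Module k A] [Coalgebra k A]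
variable {V : Type w} [AddCommGroup V] [Module k V] [HopfRep.Comod k A V]
variable {U : Type w'} [AddCommGroup U] [Module k U] [HopfRep.Comod k A U]

variable (A V) in
/-- The endomorphism `(id ⊗ φ) ∘ ρ` of a comodule attached to a linear form on the coalgebra. -/
noncomputable def dualAct (φ : A →ₗ[k] k) : V →ₗ[k] V :=
  (TensorProduct.rid k V).toLinearMap ∘ₗ φ.lTensor V ∘ₗ HopfRep.Comod.coact (k := k) (A := A)

theorem dualAct_apply (φ : A →ₗ[k] k) (v : V) :
    dualAct A V φ v = (TensorProduct.rid k V) (φ.lTensor V (HopfRep.Comod.coact (k := k) (A := A) v)) :=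
  rfl

omit [Coalgebra k A] in
/-- Naturality of `rid ∘ (id ⊗ φ)` with respect to `f ⊗ id`. -/
theorem rid_lTensor_rTensor (φ : A →ₗ[k] k) (f : U →ₗ[k] V) (x : U ⊗[k] A) :
    (TensorProduct.rid k V) (φ.lTensor V (f.rTensor A x)) =
      f ((TensorProduct.rid k U) (φ.lTensor U x)) := by
  induction x using TensorProduct.induction_on with
  | zero => simp
  | tmul u a => simp
  | add y z hy hz => simp only [map_add, hy, hz]

/-- A comodule map commutes with the action of linear forms. -/
theorem dualAct_comm_of_isComodHom (f : U →ₗ[k] V) (hf : Hoch.IsComodHom A f) (φ : A →ₗ[k] k)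
    (u : U) : dualAct A V φ (f u) = f (dualAct A U φ u) := by
  have h1 : HopfRep.Comod.coact (k := k) (A := A) (f u) =
      f.rTensor A (HopfRep.Comod.coact (k := k) (A := A) u) := LinearMap.congr_fun hf u
  rw [dualAct_apply, h1, rid_lTensor_rTensor, dualAct_apply]

/-- A subcomodule is stable under the action of linear forms. -/
theorem dualAct_mem_of_isSubcomod (W : Submodule k V) (hW : HopfRep.IsSubcomod (k := k) (A := A) W)
    (φ : A →ₗ[k] k) (w : V) (hw : w ∈ W) : dualAct A V φ w ∈ W := by
  obtain ⟨y, hy⟩ := hW w hw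
  rw [dualAct_apply, ← hy, rid_lTensor_rTensor]
  exact Submodule.coe_mem _

end Basic

section Field

variable {k : Type u} [Field k] {A : Type v} [AddCommGroup A] [Module k A] [Coalgebra k A]
variable {V : Type w} [AddCommGroup V] [Module k V] [HopfRep.Comod k A V]
variable {U : Type w'} [AddCommGroup U] [Module k U] [HopfRep.Comod k A U]

/-- Over a field, a subspace stable under the action of all linear forms is a subcomodule. -/
theorem isSubcomod_of_dualAct_mem (W : Submodule k V)
    (h : ∀ (φ : A →ₗ[k] k) (w : V), w ∈ W → dualAct A V φ w ∈ W) :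
    HopfRep.IsSubcomod (k := k) (A := A) W := by
  intro w hw
  rw [← rTensor_mkQ, LinearMap.mem_ker]
  apply eq_zero_of_forall_lTensor_eq_zero
  intro φ
  rw [rid_lTensor_rTensor]
  have := h φ w hw
  rw [dualAct_apply] at this
  simpa using this

theorem isSubcomod_iff (W : Submodule k V) :
    HopfRep.IsSubcomod (k := k) (A := A) W ↔
      ∀ (φ : A →ₗ[k] k) (w : V), w ∈ W → dualAct A V φ w ∈ W :=
  ⟨fun hW φ w hw => dualAct_mem_of_isSubcomod W hW φ w hw, isSubcomod_of_dualAct_mem W⟩

/-- Over a field, a linear map commuting with the action of all linear forms is a comodule map. -/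
theorem isComodHom_of_dualAct_comm (f : U →ₗ[k] V)
    (h : ∀ (φ : A →ₗ[k] k) (u : U), dualAct A V φ (f u) = f (dualAct A U φ u)) :
    Hoch.IsComodHom A f := by
  apply LinearMap.ext
  intro u
  rw [LinearMap.comp_apply, LinearMap.comp_apply, ← sub_eq_zero]
  apply eq_zero_of_forall_lTensor_eq_zero
  intro φ
  rw [map_sub, map_sub, rid_lTensor_rTensor, sub_eq_zero]
  exact h φ u

theorem isComodHom_iff (f : U →ₗ[k] V) :
    Hoch.IsComodHom A f ↔
      ∀ (φ : A →ₗ[k] k) (u : U), dualAct A V φ (f u) = f (dualAct A U φ u) :=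
  ⟨fun hf φ u => dualAct_comm_of_isComodHom f hf φ u, isComodHom_of_dualAct_comm f⟩

theorem isSubcomod_bot : HopfRep.IsSubcomod (k := k) (A := A) (⊥ : Submodule k V) := by
  rw [isSubcomod_iff]
  intro φ w hw
  rw [Submodule.mem_bot] at hw ⊢
  rw [hw, map_zero]

theorem isSubcomod_top : HopfRep.IsSubcomod (k := k) (A := A) (⊤ : Submodule k V) := by
  rw [isSubcomod_iff]
  intro φ w _
  trivial

theorem isSubcomod_inf (W₁ W₂ : Submodule k V) (h₁ : HopfRep.IsSubcomod (k := k) (A := A) W₁)
    (h₂ : HopfRep.IsSubcomod (k := k) (A := A) W₂) :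
    HopfRep.IsSubcomod (k := k) (A := A) (W₁ ⊓ W₂) := by
  rw [isSubcomod_iff] at h₁ h₂ ⊢
  intro φ w hw
  exact ⟨h₁ φ w hw.1, h₂ φ w hw.2⟩

theorem isSubcomod_iSup {ι : Sort*} (W : ι → Submodule k V)
    (h : ∀ i, HopfRep.IsSubcomod (k := k) (A := A) (W i)) :
    HopfRep.IsSubcomod (k := k) (A := A) (⨆ i, W i) := by
  rw [isSubcomod_iff]
  intro φ w hw
  induction hw using Submodule.iSup_induction' with
  | mem i x hx => exact Submodule.mem_iSup_of_mem i ((isSubcomod_iff _).mp (h i) φ x hx)
  | zero => rw [map_zero]; exact zero_mem _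
  | add x y _ _ hx hy => rw [map_add]; exact add_mem hx hy

theorem isSubcomod_sup (W₁ W₂ : Submodule k V) (h₁ : HopfRep.IsSubcomod (k := k) (A := A) W₁)
    (h₂ : HopfRep.IsSubcomod (k := k) (A := A) W₂) :
    HopfRep.IsSubcomod (k := k) (A := A) (W₁ ⊔ W₂) := by
  rw [isSubcomod_iff] at h₁ h₂ ⊢
  intro φ w hw
  obtain ⟨x, hx, y, hy, rfl⟩ := Submodule.mem_sup.mp hw
  rw [map_add]
  exact Submodule.add_mem_sup (h₁ φ x hx) (h₂ φ y hy)

theorem isSubcomod_sSup (S : Set (Submodule k V))
    (h : ∀ W ∈ S, HopfRep.IsSubcomod (k := k) (A := A) W) :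
    HopfRep.IsSubcomod (k := k) (A := A) (sSup S) := by
  rw [sSup_eq_iSup']
  exact isSubcomod_iSup _ (fun W => h W.1 W.2)

theorem isSubcomod_ker (f : U →ₗ[k] V) (hf : Hoch.IsComodHom A f) :
    HopfRep.IsSubcomod (k := k) (A := A) (LinearMap.ker f) := by
  rw [isSubcomod_iff]
  intro φ u hu
  rw [LinearMap.mem_ker] at hu ⊢
  rw [← dualAct_comm_of_isComodHom f hf, hu, map_zero]

theorem isSubcomod_range (f : U →ₗ[k] V) (hf : Hoch.IsComodHom A f) :
    HopfRep.IsSubcomod (k := k) (A := A) (LinearMap.range f) := by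
  rw [isSubcomod_iff]
  rintro φ _ ⟨u, rfl⟩
  rw [dualAct_comm_of_isComodHom f hf]
  exact ⟨_, rfl⟩

theorem isSubcomod_map (f : U →ₗ[k] V) (hf : Hoch.IsComodHom A f) (W : Submodule k U)
    (hW : HopfRep.IsSubcomod (k := k) (A := A) W) :
    HopfRep.IsSubcomod (k := k) (A := A) (W.map f) := by
  rw [isSubcomod_iff] at hW ⊢
  rintro φ _ ⟨u, hu, rfl⟩
  rw [dualAct_comm_of_isComodHom f hf]
  exact ⟨_, hW φ u hu, rfl⟩

theorem isSubcomod_comap (f : U →ₗ[k] V) (hf : Hoch.IsComodHom A f) (W : Submodule k V)
    (hW : HopfRep.IsSubcomod (k := k) (A := A) W) :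
    HopfRep.IsSubcomod (k := k) (A := A) (W.comap f) := by
  rw [isSubcomod_iff] at hW ⊢
  intro φ u hu
  rw [Submodule.mem_comap] at hu ⊢
  rw [← dualAct_comm_of_isComodHom f hf]
  exact hW φ _ hu

end Field

end Groth.Agent.Lib.Helper93.Comod
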