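import Groth.Agent.Lib.Helper93.Comod

/-! # Comodules as modules over a free algebra

A right comodule `V` over a coalgebra `A` over a field `k` is turned into a module over the free
algebra `DualAlg k A` on the linear forms of `A` (the form `φ` acting by `dualAct φ`).  The
submodules are the subcomodules and the linear maps are the comodule maps, so that Mathlib's
theory of simple and semisimple modules applies.
-/

universe u v w w' w''

open TensorProduct

namespace Groth.Agent.Lib.Helper93.Comod

section Bridge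

variable (k : Type u) [Field k] (A : Type v) [AddCommGroup A] [Module k A] [Coalgebra k A]
variable (V : Type w) [AddCommGroup V] [Module k V] [HopfRep.Comod k A V]

/-- The free algebra on the linear forms of `A`. -/
abbrev DualAlg : Type (max u v) := FreeAlgebra k (A →ₗ[k] k)

/-- A type synonym of a comodule `V`, carrying the module structure over `DualAlg k A`. -/
@[nolint unusedArguments]
def AsMod (k : Type u) (A : Type v) (V : Type w) : Type w := V

instance AsMod.instAddCommGroup : AddCommGroup (AsMod k A V) := inferInstanceAs (AddCommGroup V)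

instance AsMod.instModule : Module k (AsMod k A V) := inferInstanceAs (Module k V)

/-- The identification of a comodule with its type synonym. -/
def AsMod.equiv : V ≃ₗ[k] AsMod k A V := LinearEquiv.refl k V

/-- The algebra map from the free algebra to the endomorphisms of a comodule. -/
noncomputable def actHom : DualAlg k A →ₐ[k] Module.End k V := FreeAlgebra.lift k (dualAct A V)

noncomputable instance AsMod.instModuleDualAlg : Module (DualAlg k A) (AsMod k A V) :=
  Module.compHom V (actHom k A V).toRingHom

variable {k A V}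

theorem AsMod.smul_def (r : DualAlg k A) (v : AsMod k A V) :
    r • v = AsMod.equiv k A V (actHom k A V r ((AsMod.equiv k A V).symm v)) := rfl

theorem AsMod.ι_smul (φ : A →ₗ[k] k) (v : AsMod k A V) :
    (FreeAlgebra.ι k φ : DualAlg k A) • v =
      AsMod.equiv k A V (dualAct A V φ ((AsMod.equiv k A V).symm v)) := by
  rw [AsMod.smul_def, actHom, FreeAlgebra.lift_ι_apply]

theorem AsMod.algebraMap_smul (c : k) (v : AsMod k A V) :
    (algebraMap k (DualAlg k A) c) • v = c • v := by
  rw [AsMod.smul_def, AlgHom.commutes]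
  rfl

instance AsMod.instIsScalarTower : IsScalarTower k (DualAlg k A) (AsMod k A V) := by
  refine ⟨fun c r v => ?_⟩
  rw [Algebra.smul_def, mul_smul, AsMod.algebraMap_smul]

/-- A subspace stable under the action of all linear forms is stable under the free algebra. -/
theorem actHom_mem (W : Submodule k V)
    (h : ∀ (φ : A →ₗ[k] k) (w : V), w ∈ W → dualAct A V φ w ∈ W) (r : DualAlg k A) :
    ∀ w ∈ W, actHom k A V r w ∈ W := by
  induction r using FreeAlgebra.induction with
  | grade0 c =>
    intro w hw
    rw [AlgHom.commutes]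
    exact W.smul_mem c hw
  | grade1 φ =>
    intro w hw
    rw [actHom, FreeAlgebra.lift_ι_apply]
    exact h φ w hw
  | mul a b ha hb =>
    intro w hw
    rw [map_mul]
    exact ha _ (hb w hw)
  | add a b ha hb =>
    intro w hw
    rw [map_add]
    exact add_mem (ha w hw) (hb w hw)

variable (k A V) in
/-- The order isomorphism between subcomodules and submodules over the free algebra. -/
noncomputable def subcomodIso :
    {W : Submodule k V // HopfRep.IsSubcomod (k := k) (A := A) W} ≃o
      Submodule (DualAlg k A) (AsMod k A V) where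
  toFun W :=
    { carrier := (W.1.map (AsMod.equiv k A V).toLinearMap : Set (AsMod k A V))
      add_mem' := fun ha hb => add_mem ha hb
      zero_mem' := zero_mem _
      smul_mem' := by
        rintro r _ ⟨w, hw, rfl⟩
        exact ⟨_, actHom_mem W.1 ((isSubcomod_iff W.1).mp W.2) r w hw, rfl⟩ }
  invFun N :=
    ⟨(N.restrictScalars k).comap (AsMod.equiv k A V).toLinearMap, by
      rw [isSubcomod_iff]
      intro φ w hw
      have h1 : (FreeAlgebra.ι k φ : DualAlg k A) • (AsMod.equiv k A V w) ∈ N :=
        N.smul_mem _ hw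
      rw [AsMod.ι_smul] at h1
      exact h1⟩
  left_inv W := by
    ext x
    constructor
    · rintro ⟨w, hw, hwx⟩
      have : w = x := (AsMod.equiv k A V).injective hwx
      exact this ▸ hw
    · intro hx
      exact ⟨x, hx, rfl⟩
  right_inv N := by
    ext x
    constructor
    · rintro ⟨w, hw, rfl⟩
      exact hw
    · intro hx
      exact ⟨(AsMod.equiv k A V).symm x, hx, rfl⟩
  map_rel_iff' := by
    intro W₁ W₂
    constructor
    · intro h x hx
      obtain ⟨w, hw, hwx⟩ := h ⟨x, hx, rfl⟩
      have : w = x := (AsMod.equiv k A V).injective hwx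
      exact this ▸ hw
    · rintro h _ ⟨w, hw, rfl⟩
      exact ⟨w, h hw, rfl⟩

theorem mem_subcomodIso (W : {W : Submodule k V // HopfRep.IsSubcomod (k := k) (A := A) W})
    (x : V) : AsMod.equiv k A V x ∈ subcomodIso k A V W ↔ x ∈ W.1 := by
  constructor
  · rintro ⟨w, hw, hwx⟩
    have : w = x := (AsMod.equiv k A V).injective hwx
    exact this ▸ hw
  · intro hx
    exact ⟨x, hx, rfl⟩

theorem mem_subcomodIso_symm (N : Submodule (DualAlg k A) (AsMod k A V)) (x : V) :
    x ∈ ((subcomodIso k A V).symm N).1 ↔ AsMod.equiv k A V x ∈ N := Iff.rfl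

end Bridge

section Hom

variable {k : Type u} [Field k] {A : Type v} [AddCommGroup A] [Module k A] [Coalgebra k A]
variable {V : Type w} [AddCommGroup V] [Module k V] [HopfRep.Comod k A V]
variable {U : Type w'} [AddCommGroup U] [Module k U] [HopfRep.Comod k A U]

theorem actHom_comm_of_isComodHom (f : U →ₗ[k] V) (hf : Hoch.IsComodHom A f) (r : DualAlg k A) :
    ∀ u : U, actHom k A V r (f u) = f (actHom k A U r u) := by
  induction r using FreeAlgebra.induction with
  | grade0 c =>
    intro u
    rw [AlgHom.commutes, AlgHom.commutes]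
    simp
  | grade1 φ =>
    intro u
    rw [actHom, actHom, FreeAlgebra.lift_ι_apply, FreeAlgebra.lift_ι_apply]
    exact dualAct_comm_of_isComodHom f hf φ u
  | mul a b ha hb =>
    intro u
    rw [map_mul, map_mul, Module.End.mul_apply, Module.End.mul_apply, hb, ha]
  | add a b ha hb =>
    intro u
    rw [map_add, map_add, LinearMap.add_apply, LinearMap.add_apply, ha, hb, map_add]

/-- A comodule map as a linear map over the free algebra. -/
noncomputable def toModHom (f : U →ₗ[k] V) (hf : Hoch.IsComodHom A f) :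
    AsMod k A U →ₗ[DualAlg k A] AsMod k A V where
  toFun x := AsMod.equiv k A V (f ((AsMod.equiv k A U).symm x))
  map_add' x y := by simp
  map_smul' r x := by
    simp only [RingHom.id_apply]
    rw [AsMod.smul_def, AsMod.smul_def]
    simp only [LinearEquiv.symm_apply_apply]
    rw [actHom_comm_of_isComodHom f hf]

@[simp] theorem toModHom_apply (f : U →ₗ[k] V) (hf : Hoch.IsComodHom A f) (x : AsMod k A U) :
    toModHom f hf x = AsMod.equiv k A V (f ((AsMod.equiv k A U).symm x)) := rfl

/-- A linear map over the free algebra as a comodule map. -/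
noncomputable def ofModHom (g : AsMod k A U →ₗ[DualAlg k A] AsMod k A V) : U →ₗ[k] V :=
  (AsMod.equiv k A V).symm.toLinearMap ∘ₗ (g.restrictScalars k) ∘ₗ (AsMod.equiv k A U).toLinearMap

@[simp] theorem ofModHom_apply (g : AsMod k A U →ₗ[DualAlg k A] AsMod k A V) (u : U) :
    ofModHom g u = (AsMod.equiv k A V).symm (g (AsMod.equiv k A U u)) := rfl

theorem isComodHom_ofModHom (g : AsMod k A U →ₗ[DualAlg k A] AsMod k A V) :
    Hoch.IsComodHom A (ofModHom g) := by
  rw [isComodHom_iff]
  intro φ u
  have h1 := g.map_smul (FreeAlgebra.ι k φ : DualAlg k A) (AsMod.equiv k A U u)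
  rw [AsMod.ι_smul, AsMod.ι_smul] at h1
  simp only [LinearEquiv.symm_apply_apply] at h1
  rw [ofModHom_apply, ofModHom_apply]
  apply (AsMod.equiv k A V).injective
  rw [LinearEquiv.apply_symm_apply]
  exact h1.symm

/-- A bijective comodule map as a linear equivalence over the free algebra. -/
noncomputable def toModEquiv (e : U ≃ₗ[k] V) (he : Hoch.IsComodHom A (e : U →ₗ[k] V)) :
    AsMod k A U ≃ₗ[DualAlg k A] AsMod k A V :=
  LinearEquiv.ofBijective (toModHom (e : U →ₗ[k] V) he) (by
    constructor
    · intro x y hxy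
      simp only [toModHom_apply, LinearEquiv.coe_coe] at hxy
      exact (AsMod.equiv k A U).symm.injective (e.injective ((AsMod.equiv k A V).injective hxy))
    · intro y
      refine ⟨AsMod.equiv k A U (e.symm ((AsMod.equiv k A V).symm y)), ?_⟩
      simp)

/-- A linear equivalence over the free algebra as a bijective comodule map. -/
noncomputable def ofModEquiv (g : AsMod k A U ≃ₗ[DualAlg k A] AsMod k A V) : U ≃ₗ[k] V :=
  (AsMod.equiv k A U) ≪≫ₗ (g.restrictScalars k) ≪≫ₗ (AsMod.equiv k A V).symm

theorem isComodHom_ofModEquiv (g : AsMod k A U ≃ₗ[DualAlg k A] AsMod k A V) :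
    Hoch.IsComodHom A (ofModEquiv g : U →ₗ[k] V) :=
  isComodHom_ofModHom (g : AsMod k A U →ₗ[DualAlg k A] AsMod k A V)

end Hom

end Groth.Agent.Lib.Helper93.Comod

namespace Groth.Agent.Lib.Helper93.Comod

section Lattice

variable {k : Type u} [Field k] {A : Type v} [AddCommGroup A] [Module k A] [Coalgebra k A]
variable {V : Type w} [AddCommGroup V] [Module k V] [HopfRep.Comod k A V]

/-- The submodule over the free algebra attached to a subcomodule. -/
noncomputable def toSub (W : Submodule k V) (hW : HopfRep.IsSubcomod (k := k) (A := A) W) :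
    Submodule (DualAlg k A) (AsMod k A V) := subcomodIso k A V ⟨W, hW⟩

/-- The subcomodule attached to a submodule over the free algebra. -/
noncomputable def ofSub (N : Submodule (DualAlg k A) (AsMod k A V)) : Submodule k V :=
  ((subcomodIso k A V).symm N).1

theorem isSubcomod_ofSub (N : Submodule (DualAlg k A) (AsMod k A V)) :
    HopfRep.IsSubcomod (k := k) (A := A) (ofSub N) := ((subcomodIso k A V).symm N).2

@[simp] theorem mem_toSub (W : Submodule k V) (hW : HopfRep.IsSubcomod (k := k) (A := A) W)
    (x : AsMod k A V) : x ∈ toSub W hW ↔ (AsMod.equiv k A V).symm x ∈ W := by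
  have := mem_subcomodIso (k := k) (A := A) ⟨W, hW⟩ ((AsMod.equiv k A V).symm x)
  simpa [toSub] using this

@[simp] theorem mem_ofSub (N : Submodule (DualAlg k A) (AsMod k A V)) (x : V) :
    x ∈ ofSub N ↔ AsMod.equiv k A V x ∈ N := Iff.rfl

@[simp] theorem toSub_ofSub (N : Submodule (DualAlg k A) (AsMod k A V)) :
    toSub (ofSub N) (isSubcomod_ofSub N) = N := by
  ext x
  simp

@[simp] theorem ofSub_toSub (W : Submodule k V) (hW : HopfRep.IsSubcomod (k := k) (A := A) W) :
    ofSub (toSub W hW) = W := by
  ext x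
  simp

theorem toSub_le_toSub {W₁ W₂ : Submodule k V} (h₁ : HopfRep.IsSubcomod (k := k) (A := A) W₁)
    (h₂ : HopfRep.IsSubcomod (k := k) (A := A) W₂) : toSub W₁ h₁ ≤ toSub W₂ h₂ ↔ W₁ ≤ W₂ := by
  constructor
  · intro h x hx
    have := h ((mem_toSub W₁ h₁ (AsMod.equiv k A V x)).mpr (by simpa using hx))
    simpa using this
  · intro h x hx
    rw [mem_toSub] at hx ⊢
    exact h hx

theorem ofSub_le_ofSub {N₁ N₂ : Submodule (DualAlg k A) (AsMod k A V)} :
    ofSub N₁ ≤ ofSub N₂ ↔ N₁ ≤ N₂ := by
  constructor
  · intro h x hx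
    have := h ((mem_ofSub N₁ ((AsMod.equiv k A V).symm x)).mpr (by simpa using hx))
    simpa using this
  · intro h x hx
    rw [mem_ofSub] at hx ⊢
    exact h hx

theorem ofSub_injective : Function.Injective (ofSub (k := k) (A := A) (V := V)) := by
  intro N₁ N₂ h
  apply le_antisymm
  · exact ofSub_le_ofSub.mp h.le
  · exact ofSub_le_ofSub.mp h.ge

@[simp] theorem ofSub_bot : ofSub (⊥ : Submodule (DualAlg k A) (AsMod k A V)) = ⊥ := by
  ext x
  simp

@[simp] theorem ofSub_top : ofSub (⊤ : Submodule (DualAlg k A) (AsMod k A V)) = ⊤ := by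
  ext x
  simp

theorem toSub_bot : toSub (⊥ : Submodule k V) (isSubcomod_bot (A := A)) = ⊥ := by
  apply ofSub_injective
  simp

theorem toSub_top : toSub (⊤ : Submodule k V) (isSubcomod_top (A := A)) = ⊤ := by
  apply ofSub_injective
  simp

theorem ofSub_eq_bot_iff {N : Submodule (DualAlg k A) (AsMod k A V)} : ofSub N = ⊥ ↔ N = ⊥ := by
  rw [← ofSub_bot (k := k) (A := A) (V := V)]
  exact ofSub_injective.eq_iff

theorem ofSub_eq_top_iff {N : Submodule (DualAlg k A) (AsMod k A V)} : ofSub N = ⊤ ↔ N = ⊤ := by
  rw [← ofSub_top (k := k) (A := A) (V := V)]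
  exact ofSub_injective.eq_iff

@[simp] theorem ofSub_inf (N₁ N₂ : Submodule (DualAlg k A) (AsMod k A V)) :
    ofSub (N₁ ⊓ N₂) = ofSub N₁ ⊓ ofSub N₂ := by
  ext x
  simp

@[simp] theorem ofSub_sup (N₁ N₂ : Submodule (DualAlg k A) (AsMod k A V)) :
    ofSub (N₁ ⊔ N₂) = ofSub N₁ ⊔ ofSub N₂ := by
  apply le_antisymm
  · intro x hx
    rw [mem_ofSub] at hx
    obtain ⟨y, hy, z, hz, hyz⟩ := Submodule.mem_sup.mp hx
    have : x = (AsMod.equiv k A V).symm y + (AsMod.equiv k A V).symm z := by
      rw [← map_add, hyz]; simp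
    rw [this]
    exact Submodule.add_mem_sup (by simpa using hy) (by simpa using hz)
  · rw [sup_le_iff]
    exact ⟨ofSub_le_ofSub.mpr le_sup_left, ofSub_le_ofSub.mpr le_sup_right⟩

theorem isCompl_ofSub_iff {N₁ N₂ : Submodule (DualAlg k A) (AsMod k A V)} :
    IsCompl (ofSub N₁) (ofSub N₂) ↔ IsCompl N₁ N₂ := by
  rw [isCompl_iff, isCompl_iff, disjoint_iff, disjoint_iff, codisjoint_iff, codisjoint_iff,
    ← ofSub_inf, ← ofSub_sup, ofSub_eq_bot_iff, ofSub_eq_top_iff]

variable (k A V) in
theorem isSemisimpleComod_iff :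
    HopfRep.IsSemisimpleComod k A V ↔ IsSemisimpleModule (DualAlg k A) (AsMod k A V) := by
  rw [isSemisimpleModule_iff]
  constructor
  · intro h
    refine ⟨fun N => ?_⟩
    obtain ⟨W', hW', hc⟩ := h (ofSub N) (isSubcomod_ofSub N)
    refine ⟨toSub W' hW', ?_⟩
    rw [← isCompl_ofSub_iff, ofSub_toSub]
    exact hc
  · intro h W hW
    obtain ⟨N', hN'⟩ := h.exists_isCompl (toSub W hW)
    refine ⟨ofSub N', isSubcomod_ofSub N', ?_⟩
    rw [← isCompl_ofSub_iff, ofSub_toSub] at hN'
    exact hN'

variable (k A V) in
theorem isSimpleComod_iff :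
    HopfRep.IsSimpleComod k A V ↔ IsSimpleModule (DualAlg k A) (AsMod k A V) := by
  rw [isSimpleModule_iff]
  constructor
  · rintro ⟨hnt, h⟩
    haveI : Nontrivial (AsMod k A V) := hnt
    refine { toNontrivial := inferInstance, eq_bot_or_eq_top := fun N => ?_ }
    rcases h (ofSub N) (isSubcomod_ofSub N) with h1 | h1
    · exact Or.inl (ofSub_eq_bot_iff.mp h1)
    · exact Or.inr (ofSub_eq_top_iff.mp h1)
  · intro h
    refine ⟨?_, fun W hW => ?_⟩
    · have : Nontrivial (AsMod k A V) := by
        by_contra hnt
        rw [not_nontrivial_iff_subsingleton] at hnt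
        have : (⊥ : Submodule (DualAlg k A) (AsMod k A V)) = ⊤ := Subsingleton.elim _ _
        exact bot_ne_top this
      exact this
    · rcases h.eq_bot_or_eq_top (toSub W hW) with h1 | h1
      · left
        rw [← ofSub_toSub W hW, h1, ofSub_bot]
      · right
        rw [← ofSub_toSub W hW, h1, ofSub_top]

end Lattice

end Groth.Agent.Lib.Helper93.Comod
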