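import Groth.Prelude.Def_CAlg
import Mathlib

/-!
# Depth library (helper93)

Core facts about `LocCoh.idealDepth` (the `I`-depth of Def_CAlg) for finite modules over
Noetherian rings: the regular-sequence characterisation, the `Ext` characterisation (Rees), and the
depth lemma along short exact sequences.
-/

namespace Groth.Agent.Lib.Helper93.Depth

open LocCoh RingTheory.Sequence CategoryTheory Abelian

universe u v

section Basic

variable {R : Type u} [CommRing R] (I : Ideal R) (M : Type v) [AddCommGroup M] [Module R M]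

theorem idealDepth_of_smul_top_eq_top (h : I • (⊤ : Submodule R M) = ⊤) :
    idealDepth I M = ⊤ := by
  simp [idealDepth, h]

theorem idealDepth_of_smul_top_ne_top (h : I • (⊤ : Submodule R M) ≠ ⊤) :
    idealDepth I M = ⨆ (rs : List R) (_ : IsWeaklyRegular M rs ∧ ∀ r ∈ rs, r ∈ I),
      (rs.length : ℕ∞) := by
  simp [idealDepth, h]

variable {I M}

theorem length_le_idealDepth {rs : List R} (h : IsWeaklyRegular M rs) (hI : ∀ r ∈ rs, r ∈ I) :
    (rs.length : ℕ∞) ≤ idealDepth I M := by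
  by_cases hI' : I • (⊤ : Submodule R M) = ⊤
  · simp [idealDepth_of_smul_top_eq_top I M hI']
  · rw [idealDepth_of_smul_top_ne_top I M hI']
    refine le_iSup_of_le rs ?_
    refine le_iSup_of_le ⟨h, hI⟩ ?_
    exact le_rfl

theorem isRegular_of_isWeaklyRegular_of_mem {rs : List R} (h : IsWeaklyRegular M rs)
    (hI : ∀ r ∈ rs, r ∈ I) (hI' : I • (⊤ : Submodule R M) ≠ ⊤) : IsRegular M rs := by
  refine ⟨h, fun e => hI' ?_⟩
  rw [eq_top_iff]
  have hle : Ideal.ofList rs ≤ I := by
    rw [Ideal.ofList, Ideal.span_le]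
    exact fun r hr => hI r hr
  calc (⊤ : Submodule R M) = Ideal.ofList rs • ⊤ := e
    _ ≤ I • ⊤ := Submodule.smul_mono_left hle

/-- Regular-sequence characterisation of `n ≤ depth_I M` (no hypotheses on `R`, `M`). -/
theorem natCast_le_idealDepth_iff (n : ℕ) :
    (n : ℕ∞) ≤ idealDepth I M ↔ I • (⊤ : Submodule R M) = ⊤ ∨
      ∃ rs : List R, rs.length = n ∧ (∀ r ∈ rs, r ∈ I) ∧ IsWeaklyRegular M rs := by
  constructor
  · intro h
    by_cases hI' : I • (⊤ : Submodule R M) = ⊤
    · exact Or.inl hI'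
    · right
      rw [idealDepth_of_smul_top_ne_top I M hI'] at h
      rcases Nat.eq_zero_or_pos n with rfl | hn
      · exact ⟨[], rfl, by simp, IsWeaklyRegular.nil R M⟩
      · have hlt : ((n - 1 : ℕ) : ℕ∞) < ⨆ (rs : List R)
            (_ : IsWeaklyRegular M rs ∧ ∀ r ∈ rs, r ∈ I), (rs.length : ℕ∞) := by
          refine lt_of_lt_of_le ?_ h
          exact_mod_cast Nat.sub_lt hn Nat.one_pos
        rw [lt_iSup_iff] at hlt
        obtain ⟨rs, hlt⟩ := hlt
        rw [lt_iSup_iff] at hlt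
        obtain ⟨⟨hreg, hmem⟩, hlt⟩ := hlt
        have hlen : n ≤ rs.length := by
          have : n - 1 < rs.length := by exact_mod_cast hlt
          omega
        refine ⟨rs.take n, by simp [hlen], fun r hr => hmem r (List.mem_of_mem_take hr), ?_⟩
        have := (isWeaklyRegular_append_iff M (rs.take n) (rs.drop n)).mp
          (by rwa [List.take_append_drop])
        exact this.1
  · rintro (h | ⟨rs, rfl, hmem, hreg⟩)
    · simp [idealDepth_of_smul_top_eq_top I M h]
    · exact length_le_idealDepth hreg hmem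

theorem natCast_le_idealDepth_iff_of_ne (hI' : I • (⊤ : Submodule R M) ≠ ⊤) (n : ℕ) :
    (n : ℕ∞) ≤ idealDepth I M ↔
      ∃ rs : List R, rs.length = n ∧ (∀ r ∈ rs, r ∈ I) ∧ IsRegular M rs := by
  rw [natCast_le_idealDepth_iff]
  constructor
  · rintro (h | ⟨rs, h1, h2, h3⟩)
    · exact absurd h hI'
    · exact ⟨rs, h1, h2, isRegular_of_isWeaklyRegular_of_mem h3 h2 hI'⟩
  · rintro ⟨rs, h1, h2, h3⟩
    exact Or.inr ⟨rs, h1, h2, h3.toIsWeaklyRegular⟩

/-- `1 ≤ depth_I M` iff `IM = M` or some element of `I` is `M`-regular. -/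
theorem one_le_idealDepth_iff :
    1 ≤ idealDepth I M ↔ I • (⊤ : Submodule R M) = ⊤ ∨ ∃ r ∈ I, IsSMulRegular M r := by
  have := natCast_le_idealDepth_iff (I := I) (M := M) 1
  rw [Nat.cast_one] at this
  rw [this]
  refine or_congr Iff.rfl ?_
  constructor
  · rintro ⟨rs, hlen, hmem, hreg⟩
    obtain ⟨r, rfl⟩ := List.length_eq_one_iff.mp hlen
    exact ⟨r, hmem r (by simp), (isWeaklyRegular_singleton_iff M r).mp hreg⟩
  · rintro ⟨r, hr, hreg⟩
    exact ⟨[r], rfl, by simpa using hr, (isWeaklyRegular_singleton_iff M r).mpr hreg⟩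

end Basic


section Congr

variable {R : Type u} [CommRing R] {I : Ideal R} {M : Type v} [AddCommGroup M] [Module R M]
  {M' : Type*} [AddCommGroup M'] [Module R M']

theorem smul_top_eq_top_of_equiv (e : M ≃ₗ[R] M') (h : I • (⊤ : Submodule R M) = ⊤) :
    I • (⊤ : Submodule R M') = ⊤ := by
  have := congrArg (Submodule.map e.toLinearMap) h
  rwa [Submodule.map_smul'', Submodule.map_top, LinearEquiv.range] at this

theorem smul_top_eq_top_congr (e : M ≃ₗ[R] M') :
    I • (⊤ : Submodule R M) = ⊤ ↔ I • (⊤ : Submodule R M') = ⊤ :=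
  ⟨smul_top_eq_top_of_equiv e, smul_top_eq_top_of_equiv e.symm⟩

/-- `idealDepth` is invariant under linear equivalences (any universes). -/
theorem idealDepth_congr (e : M ≃ₗ[R] M') : idealDepth I M = idealDepth I M' := by
  refine le_antisymm ?_ ?_
  · rw [← ENat.forall_natCast_le_iff_le]
    intro n hn
    rw [natCast_le_idealDepth_iff] at hn ⊢
    rcases hn with h | ⟨rs, h1, h2, h3⟩
    · exact Or.inl ((smul_top_eq_top_congr e).mp h)
    · exact Or.inr ⟨rs, h1, h2, (e.isWeaklyRegular_congr rs).mp h3⟩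
  · rw [← ENat.forall_natCast_le_iff_le]
    intro n hn
    rw [natCast_le_idealDepth_iff] at hn ⊢
    rcases hn with h | ⟨rs, h1, h2, h3⟩
    · exact Or.inl ((smul_top_eq_top_congr e).mpr h)
    · exact Or.inr ⟨rs, h1, h2, (e.isWeaklyRegular_congr rs).mpr h3⟩

theorem idealDepth_of_subsingleton [Subsingleton M] : idealDepth I M = ⊤ :=
  idealDepth_of_smul_top_eq_top I M (Subsingleton.elim _ _)

/-- `depth_I M ≤ depth_J M` when `I ≤ J`. -/
theorem idealDepth_mono {I J : Ideal R} (h : I ≤ J) : idealDepth I M ≤ idealDepth J M := by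
  rw [← ENat.forall_natCast_le_iff_le]
  intro n hn
  rw [natCast_le_idealDepth_iff] at hn ⊢
  rcases hn with h' | ⟨rs, h1, h2, h3⟩
  · left
    rw [eq_top_iff]
    calc (⊤ : Submodule R M) = I • ⊤ := h'.symm
      _ ≤ J • ⊤ := Submodule.smul_mono_left h
  · exact Or.inr ⟨rs, h1, fun r hr => h (h2 r hr), h3⟩

end Congr

section ExtAnn

variable {R : Type u} [CommRing R] [Small.{v} R]

/-- An element annihilating the target acts as zero on `Ext`. -/
theorem ext_smul_eq_zero_of_ann_right {N M : ModuleCat.{v} R} {r : R}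
    (hr : ∀ m : M, r • m = 0) {i : ℕ} (x : Ext N M i) : r • x = 0 := by
  have : r • 𝟙 M = 0 := by
    ext m
    exact hr m
  rw [Ext.smul_eq_comp_mk₀, this, Ext.mk₀_zero, Ext.comp_zero]

/-- An element annihilating the source acts as zero on `Ext`. -/
theorem ext_smul_eq_zero_of_ann_left {N M : ModuleCat.{v} R} {r : R}
    (hr : ∀ n : N, r • n = 0) {i : ℕ} (x : Ext N M i) : r • x = 0 := by
  have : r • 𝟙 N = 0 := by
    ext m
    exact hr m
  have h2 : r • x = (Ext.mk₀ (r • 𝟙 N)).comp x (zero_add i) := by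
    rw [Ext.mk₀_smul, Ext.smul_comp, Ext.mk₀_id_comp]
  rw [h2, this, Ext.mk₀_zero, Ext.zero_comp]

/-- If `IM = M` (`M` finite) and `Supp N ⊆ V(I)` (`N` finite) then all `Ext^i(N, M)` vanish. -/
theorem subsingleton_ext_of_smul_top_eq_top (I : Ideal R) (N M : ModuleCat.{v} R)
    [Module.Finite R N] [Module.Finite R M]
    (hN : Module.support R N ⊆ PrimeSpectrum.zeroLocus I)
    (hM : I • (⊤ : Submodule R M) = ⊤) (i : ℕ) : Subsingleton (Ext N M i) := by
  obtain ⟨r, hr1, hr0⟩ := Submodule.exists_sub_one_mem_and_smul_eq_zero_of_fg_of_le_smul I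
    (⊤ : Submodule R M) Module.Finite.fg_top (by rw [hM])
  have hrad : (I : Set R) ⊆ (Module.annihilator R N).radical := by
    rw [Module.support_eq_zeroLocus, PrimeSpectrum.zeroLocus_subset_zeroLocus_iff] at hN
    simpa using hN
  have hs : 1 - r ∈ I := by
    have := I.neg_mem hr1
    simpa using this
  obtain ⟨k, hk⟩ := hrad hs
  suffices ∀ x : Ext N M i, x = 0 from ⟨fun x y => by rw [this x, this y]⟩
  intro x
  have h0 : r • x = 0 := ext_smul_eq_zero_of_ann_right (fun m => hr0 m trivial) x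
  have h1 : (1 - r) ^ k • x = 0 :=
    ext_smul_eq_zero_of_ann_left (fun n => Module.mem_annihilator.mp hk n) x
  have h2 : ∀ j : ℕ, (1 - r) ^ j • x = x := by
    intro j
    induction j with
    | zero => simp
    | succ j ih => rw [pow_succ, mul_smul, sub_smul, h0, one_smul, sub_zero, ih]
  rw [← h2 k, h1]

/-- **Ext characterisation of depth** (Rees).  `R` Noetherian, `M`, `N` finite, `Supp N = V(I)`:
`n ≤ depth_I M` iff `Ext^i(N, M) = 0` for all `i < n`. -/
theorem natCast_le_idealDepth_iff_ext [IsNoetherianRing R] (I : Ideal R)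
    (N M : ModuleCat.{v} R) [Module.Finite R N] [Module.Finite R M]
    (hN : Module.support R N = PrimeSpectrum.zeroLocus I) (n : ℕ) :
    (n : ℕ∞) ≤ idealDepth I M ↔ ∀ i < n, Subsingleton (Ext N M i) := by
  by_cases hM : I • (⊤ : Submodule R M) = ⊤
  · rw [idealDepth_of_smul_top_eq_top I M hM]
    simp only [le_top, true_iff]
    exact fun i _ => subsingleton_ext_of_smul_top_eq_top I N M hN.le hM i
  · rw [natCast_le_idealDepth_iff_of_ne hM]
    have hlt : I • (⊤ : Submodule R M) < ⊤ := lt_of_le_of_ne le_top hM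
    constructor
    · rintro ⟨rs, rfl, hmem, hreg⟩
      exact ModuleCat.subsingleton_ext_of_exists_isRegular I N hN.le M hlt rs hmem hreg
    · intro h
      exact ModuleCat.exists_isRegular_of_exists_subsingleton_ext I n M hlt N hN h

end ExtAnn

theorem support_quotient_ideal {R : Type u} [CommRing R] (I : Ideal R) :
    Module.support R (R ⧸ I) = PrimeSpectrum.zeroLocus I := by
  rw [Module.support_eq_zeroLocus, Ideal.annihilator_quotient]

section ExtSES

universe w

variable {C : Type u} [Category.{v} C] [Abelian C] [HasExt.{w} C]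

theorem subsingleton_ext_zero_of_mono (X : C) {A B : C} (f : A ⟶ B) [Mono f]
    (h₂ : Subsingleton (Ext X B 0)) : Subsingleton (Ext X A 0) :=
  (Ext.postcomp_mk₀_injective_of_mono X f).subsingleton

variable (X : C) {S : ShortComplex C} (hS : S.ShortExact)

include hS

theorem subsingleton_ext_X₁_succ (i : ℕ) (h₂ : Subsingleton (Ext X S.X₂ (i + 1)))
    (h₃ : Subsingleton (Ext X S.X₃ i)) : Subsingleton (Ext X S.X₁ (i + 1)) := by
  suffices ∀ x : Ext X S.X₁ (i + 1), x = 0 from ⟨fun x y => by rw [this x, this y]⟩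
  intro x
  obtain ⟨x₃, rfl⟩ := Ext.covariant_sequence_exact₁ X hS x (Subsingleton.elim _ _) rfl
  rw [Subsingleton.elim x₃ 0, Ext.zero_comp]

theorem subsingleton_ext_X₂ (i : ℕ) (h₁ : Subsingleton (Ext X S.X₁ i))
    (h₃ : Subsingleton (Ext X S.X₃ i)) : Subsingleton (Ext X S.X₂ i) := by
  suffices ∀ x : Ext X S.X₂ i, x = 0 from ⟨fun x y => by rw [this x, this y]⟩
  intro x
  obtain ⟨x₁, rfl⟩ := Ext.covariant_sequence_exact₂ X hS x (Subsingleton.elim _ _)
  rw [Subsingleton.elim x₁ 0, Ext.zero_comp]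

theorem subsingleton_ext_X₃ (i : ℕ) (h₂ : Subsingleton (Ext X S.X₂ i))
    (h₁ : Subsingleton (Ext X S.X₁ (i + 1))) : Subsingleton (Ext X S.X₃ i) := by
  suffices ∀ x : Ext X S.X₃ i, x = 0 from ⟨fun x y => by rw [this x, this y]⟩
  intro x
  obtain ⟨x₂, rfl⟩ := Ext.covariant_sequence_exact₃ X hS x rfl (Subsingleton.elim _ _)
  rw [Subsingleton.elim x₂ 0, Ext.zero_comp]

end ExtSES

section SameUniv

variable {R : Type u} [CommRing R] [IsNoetherianRing R]

/-- `n ≤ depth_I M` iff `Ext^i(R/I, M) = 0` for all `i < n`. -/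
theorem natCast_le_idealDepth_iff_ext_quotient (I : Ideal R) (M : Type u) [AddCommGroup M]
    [Module R M] [Module.Finite R M] (n : ℕ) :
    (n : ℕ∞) ≤ idealDepth I M ↔
      ∀ i < n, Subsingleton (Ext (ModuleCat.of R (R ⧸ I)) (ModuleCat.of R M) i) :=
  natCast_le_idealDepth_iff_ext I (ModuleCat.of R (R ⧸ I)) (ModuleCat.of R M)
    (support_quotient_ideal I) n

variable (I : Ideal R) {M₁ M₂ M₃ : Type u} [AddCommGroup M₁] [Module R M₁] [Module.Finite R M₁]
  [AddCommGroup M₂] [Module R M₂] [Module.Finite R M₂]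
  [AddCommGroup M₃] [Module R M₃] [Module.Finite R M₃]

/-- Depth `≥ 1` passes to submodules (more generally along injective maps). -/
theorem one_le_idealDepth_of_injective (f : M₁ →ₗ[R] M₂) (hf : Function.Injective f)
    (h : 1 ≤ idealDepth I M₂) : 1 ≤ idealDepth I M₁ := by
  have e : (1 : ℕ∞) = ((1 : ℕ) : ℕ∞) := rfl
  rw [e, natCast_le_idealDepth_iff_ext_quotient] at h ⊢
  intro i hi
  obtain rfl : i = 0 := by omega
  have : Mono (ModuleCat.ofHom f) := (ModuleCat.mono_iff_injective _).mpr hf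
  exact subsingleton_ext_zero_of_mono _ (ModuleCat.ofHom f) (h 0 hi)

section SES

variable (f : M₁ →ₗ[R] M₂) (g : M₂ →ₗ[R] M₃) (hf : Function.Injective f)
  (hfg : Function.Exact f g) (hg : Function.Surjective g)

include hf hfg hg

/-- Depth lemma, left term: `depth M₁ ≥ min (depth M₂) (depth M₃ + 1)` (nat form). -/
theorem natCast_le_idealDepth_left (n : ℕ) (h₂ : (n : ℕ∞) ≤ idealDepth I M₂)
    (h₃ : ((n - 1 : ℕ) : ℕ∞) ≤ idealDepth I M₃) : (n : ℕ∞) ≤ idealDepth I M₁ := by
  rw [natCast_le_idealDepth_iff_ext_quotient] at h₂ h₃ ⊢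
  have hS := ModuleCat.shortComplex_shortExact
    (ModuleCat.shortComplexOfCompEqZero f g hfg.linearMap_comp_eq_zero) hfg hf hg
  intro i hi
  cases i with
  | zero =>
    have := hS.mono_f
    exact subsingleton_ext_zero_of_mono _ (ModuleCat.ofHom f) (h₂ 0 hi)
  | succ j => exact subsingleton_ext_X₁_succ _ hS j (h₂ (j + 1) hi) (h₃ j (by omega))

/-- Depth lemma, middle term: `depth M₂ ≥ min (depth M₁) (depth M₃)` (nat form). -/
theorem natCast_le_idealDepth_middle (n : ℕ) (h₁ : (n : ℕ∞) ≤ idealDepth I M₁)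
    (h₃ : (n : ℕ∞) ≤ idealDepth I M₃) : (n : ℕ∞) ≤ idealDepth I M₂ := by
  rw [natCast_le_idealDepth_iff_ext_quotient] at h₁ h₃ ⊢
  have hS := ModuleCat.shortComplex_shortExact
    (ModuleCat.shortComplexOfCompEqZero f g hfg.linearMap_comp_eq_zero) hfg hf hg
  intro i hi
  exact subsingleton_ext_X₂ _ hS i (h₁ i hi) (h₃ i hi)

/-- Depth lemma, right term: `depth M₃ ≥ min (depth M₂) (depth M₁ - 1)` (nat form). -/
theorem natCast_le_idealDepth_right (n : ℕ) (h₂ : (n : ℕ∞) ≤ idealDepth I M₂)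
    (h₁ : ((n + 1 : ℕ) : ℕ∞) ≤ idealDepth I M₁) : (n : ℕ∞) ≤ idealDepth I M₃ := by
  rw [natCast_le_idealDepth_iff_ext_quotient] at h₁ h₂ ⊢
  have hS := ModuleCat.shortComplex_shortExact
    (ModuleCat.shortComplexOfCompEqZero f g hfg.linearMap_comp_eq_zero) hfg hf hg
  intro i hi
  exact subsingleton_ext_X₃ _ hS i (h₂ i hi) (h₁ (i + 1) (by omega))

/-- Depth lemma: `min (depth M₂) (depth M₃ + 1) ≤ depth M₁`. -/
theorem min_le_idealDepth_left :
    min (idealDepth I M₂) (idealDepth I M₃ + 1) ≤ idealDepth I M₁ := by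
  rw [← ENat.forall_natCast_le_iff_le]
  intro n hn
  rw [le_min_iff] at hn
  refine natCast_le_idealDepth_left I f g hf hfg hg n hn.1 ?_
  rcases Nat.eq_zero_or_pos n with rfl | hpos
  · simp
  · have h1 : ((n - 1 : ℕ) : ℕ∞) + 1 = (n : ℕ∞) := by
      exact_mod_cast Nat.sub_add_cancel hpos
    rw [← h1] at hn
    exact (ENat.add_le_add_iff_right (by simp)).mp hn.2

/-- Depth lemma: `min (depth M₁) (depth M₃) ≤ depth M₂`. -/
theorem min_le_idealDepth_middle :
    min (idealDepth I M₁) (idealDepth I M₃) ≤ idealDepth I M₂ := by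
  rw [← ENat.forall_natCast_le_iff_le]
  intro n hn
  rw [le_min_iff] at hn
  exact natCast_le_idealDepth_middle I f g hf hfg hg n hn.1 hn.2

/-- Depth lemma: `min (depth M₂ + 1) (depth M₁) ≤ depth M₃ + 1`. -/
theorem min_le_idealDepth_right :
    min (idealDepth I M₂ + 1) (idealDepth I M₁) ≤ idealDepth I M₃ + 1 := by
  rw [← ENat.forall_natCast_le_iff_le]
  intro n hn
  rw [le_min_iff] at hn
  rcases Nat.eq_zero_or_pos n with rfl | hpos
  · simp
  · have h1 : ((n - 1 : ℕ) : ℕ∞) + 1 = (n : ℕ∞) := by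
      exact_mod_cast Nat.sub_add_cancel hpos
    rw [← h1] at hn ⊢
    refine add_le_add_left ?_ 1
    refine natCast_le_idealDepth_right I f g hf hfg hg (n - 1)
      ((ENat.add_le_add_iff_right (by simp)).mp hn.1) ?_
    have : ((n - 1 + 1 : ℕ) : ℕ∞) = ((n - 1 : ℕ) : ℕ∞) + 1 := by push_cast; rfl
    rw [this]
    exact hn.2

end SES

end SameUniv

section Ker

variable {R : Type u} [CommRing R] [IsNoetherianRing R] (I : Ideal R)
  {E0 E1 : Type u} [AddCommGroup E0] [Module R E0] [Module.Finite R E0]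
  [AddCommGroup E1] [Module R E1] [Module.Finite R E1] (u : E0 →ₗ[R] E1)

omit [Module.Finite R E1] in
theorem one_le_idealDepth_ker (h : 1 ≤ idealDepth I E0) : 1 ≤ idealDepth I (LinearMap.ker u) :=
  one_le_idealDepth_of_injective I (LinearMap.ker u).subtype (Submodule.injective_subtype _) h

/-- `depth_I E⁰ ≥ 2` and `depth_I E¹ ≥ 1` imply `depth_I (ker (E⁰ → E¹)) ≥ 2`. -/
theorem two_le_idealDepth_ker (h0 : 2 ≤ idealDepth I E0) (h1 : 1 ≤ idealDepth I E1) :
    2 ≤ idealDepth I (LinearMap.ker u) := by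
  have hr : 1 ≤ idealDepth I (LinearMap.range u) :=
    one_le_idealDepth_of_injective I (LinearMap.range u).subtype (Submodule.injective_subtype _) h1
  have e2 : (2 : ℕ∞) = ((2 : ℕ) : ℕ∞) := rfl
  rw [e2] at h0 ⊢
  refine natCast_le_idealDepth_left I (LinearMap.ker u).subtype u.rangeRestrict
    (Submodule.injective_subtype _) ?_ u.surjective_rangeRestrict 2 h0 (by simpa using hr)
  intro x
  constructor
  · intro h
    have h' : u x = 0 := by
      have := congrArg Subtype.val h
      simpa using this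
    exact ⟨⟨x, h'⟩, rfl⟩
  · rintro ⟨⟨y, hy⟩, rfl⟩
    exact Subtype.ext (by simpa using hy)

end Ker

end Groth.Agent.Lib.Helper93.Depth
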