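import Groth.Prelude.Def_BlowUp2
import Groth.Agent.Lib.Helper18.IdealComap
import Mathlib.RingTheory.Localization.Finiteness

/-!
# Ideal sheaves of finite type (helper93)

Finite type is local; products, pullbacks of ideal sheaves of finite type are of finite type.
-/

set_option autoImplicit false
universe u
open CategoryTheory CategoryTheory.Limits AlgebraicGeometry TopologicalSpace

namespace Groth.Agent.Lib.Helper93.FiniteTypeIdeal

/-- An ideal whose extensions to a spanning family of localizations `S g` are finitely generated is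
finitely generated. -/
theorem _root_.Ideal.fg_of_isLocalization_span {R : Type u} [CommRing R] (I : Ideal R)
    (t : Set R) (ht : Ideal.span t = ⊤) (S : t → Type u) [∀ g, CommRing (S g)]
    [∀ g, Algebra R (S g)] [∀ g : t, IsLocalization.Away g.1 (S g)]
    (H : ∀ g : t, (I.map (algebraMap R (S g))).FG) : I.FG := by
  refine Ideal.fg_of_localizationSpan t ht fun g => ?_
  let e : S g ≃ₐ[R] Localization.Away g.1 :=
    IsLocalization.algEquiv (Submonoid.powers g.1) (S g) (Localization.Away g.1)
  have h1 : I.map (algebraMap R (Localization.Away g.1)) =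
      (I.map (algebraMap R (S g))).map (e : S g →+* Localization.Away g.1) := by
    rw [Ideal.map_map]
    congr 1
    ext r
    exact (e.commutes r).symm
  rw [h1]
  exact (H g).map _

variable {X Y : Scheme.{u}}

/-- Finite generation of the ideal on an affine open can be checked on a cover by basic opens. -/
theorem fg_of_basicOpen_cover (K : Y.IdealSheafData) (W : Y.affineOpens)
    (h : ∀ y ∈ W.1, ∃ r : Γ(Y, W.1), y ∈ Y.basicOpen r ∧ (K.ideal (Y.affineBasicOpen r)).FG) :
    (K.ideal W).FG := by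
  choose r hyr hr using h
  let t : Set Γ(Y, W.1) := {s | ∃ (y : Y) (hy : y ∈ W.1), s = r y hy}
  have ht : Ideal.span t = ⊤ := by
    rw [← W.2.self_le_iSup_basicOpen_iff]
    intro y hy
    exact Opens.mem_iSup.mpr ⟨⟨r y hy, y, hy, rfl⟩, hyr y hy⟩
  have hloc : ∀ g : t, IsLocalization.Away g.1 Γ(Y, Y.basicOpen g.1) := fun g =>
    W.2.isLocalization_basicOpen g.1
  refine Ideal.fg_of_isLocalization_span (K.ideal W) t ht (fun g => Γ(Y, Y.basicOpen g.1)) ?_
  rintro ⟨g, y, hy, rfl⟩
  have := K.map_ideal_basicOpen W (r y hy)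
  rw [RingHom.algebraMap_toAlgebra]
  erw [this]
  exact hr y hy

/-- The pullback of an ideal sheaf of finite type is of finite type. -/
theorem isFiniteTypeIdeal_comap (K : X.IdealSheafData) (hK : BlowUp.IsFiniteTypeIdeal K)
    (f : Y ⟶ X) : BlowUp.IsFiniteTypeIdeal (K.comap f) := by
  intro W
  refine fg_of_basicOpen_cover _ W fun y hy => ?_
  have hx : f y ∈ ⨆ V : X.affineOpens, (V : X.Opens) := iSup_affineOpens_eq_top X ▸ trivial
  obtain ⟨V, hV⟩ := Opens.mem_iSup.mp hx
  obtain ⟨r, hr1, hr2⟩ := W.2.exists_basicOpen_le (V := f ⁻¹ᵁ V.1) ⟨y, hV⟩ hy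
  refine ⟨r, hr2, ?_⟩
  rw [Groth.Agent.Lib.Helper18.ideal_comap_of_le f K (Y.affineBasicOpen r) V hr1]
  exact (hK V).map _

theorem isFiniteTypeIdeal_top : BlowUp.IsFiniteTypeIdeal (⊤ : X.IdealSheafData) := by
  intro U
  exact ⟨{1}, by simp⟩

theorem isFiniteTypeIdeal_mul (I J : X.IdealSheafData) (hI : BlowUp.IsFiniteTypeIdeal I)
    (hJ : BlowUp.IsFiniteTypeIdeal J) : BlowUp.IsFiniteTypeIdeal (I * J) := by
  intro U
  exact (hI U).mul (hJ U)

theorem isFiniteTypeIdeal_finset_prod {ι : Type*} (s : Finset ι) (I : ι → X.IdealSheafData)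
    (hI : ∀ i ∈ s, BlowUp.IsFiniteTypeIdeal (I i)) :
    BlowUp.IsFiniteTypeIdeal (∏ i ∈ s, I i) := by
  classical
  induction s using Finset.induction_on with
  | empty =>
    rw [Finset.prod_empty]
    exact isFiniteTypeIdeal_top
  | insert a s ha ih =>
    rw [Finset.prod_insert ha]
    exact isFiniteTypeIdeal_mul _ _ (hI a (Finset.mem_insert_self a s))
      (ih fun i hi => hI i (Finset.mem_insert_of_mem hi))

theorem support_finset_prod_subset {ι : Type*} (s : Finset ι) (I : ι → X.IdealSheafData)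
    (x : X) (hx : x ∈ (∏ i ∈ s, I i).support) : ∃ i ∈ s, x ∈ (I i).support := by
  classical
  induction s using Finset.induction_on with
  | empty =>
    rw [Finset.prod_empty] at hx
    change x ∈ (⊤ : X.IdealSheafData).support at hx
    rw [Scheme.IdealSheafData.support_top] at hx
    exact hx.elim
  | insert a s ha ih =>
    rw [Finset.prod_insert ha, Scheme.IdealSheafData.support_mul] at hx
    rcases hx with hx | hx
    · exact ⟨a, Finset.mem_insert_self a s, hx⟩
    · obtain ⟨i, hi, hxi⟩ := ih hx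
      exact ⟨i, Finset.mem_insert_of_mem hi, hxi⟩

/-- Admissibility of a finite product. -/
theorem isAdmissibleFor_finset_prod {ι : Type*} (s : Finset ι) (I : ι → X.IdealSheafData)
    (U : X.Opens) (hI : ∀ i ∈ s, BlowUp.IsAdmissibleFor U (I i)) :
    BlowUp.IsAdmissibleFor U (∏ i ∈ s, I i) := by
  refine ⟨isFiniteTypeIdeal_finset_prod s I fun i hi => (hI i hi).1, ?_⟩
  rw [Set.disjoint_left]
  intro x hx hxU
  obtain ⟨i, hi, hxi⟩ := support_finset_prod_subset s I x hx
  exact Set.disjoint_left.mp (hI i hi).2 hxi hxU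

/-- Admissibility of a pullback. -/
theorem isAdmissibleFor_comap (K : X.IdealSheafData) (U : X.Opens)
    (hK : BlowUp.IsAdmissibleFor U K) (f : Y ⟶ X) :
    BlowUp.IsAdmissibleFor (f ⁻¹ᵁ U) (K.comap f) := by
  refine ⟨isFiniteTypeIdeal_comap K hK.1 f, ?_⟩
  rw [Set.disjoint_left]
  intro y hy hyU
  rw [SetLike.mem_coe, Scheme.IdealSheafData.support_comap] at hy
  exact Set.disjoint_left.mp hK.2 hy hyU

end Groth.Agent.Lib.Helper93.FiniteTypeIdeal
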