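import Mathlib.AlgebraicGeometry.IdealSheaf.Functorial
import Mathlib.AlgebraicGeometry.Morphisms.QuasiSeparated
import Groth.Prelude.Def_BlowUp2
import Groth.Agent.Lib.Helper93.FiniteTypeIdeal

/-!
# Extending finite type ideal sheaves from quasi-compact opens (helper93)

On a quasi-compact quasi-separated scheme, every closed subset with quasi-compact complement is the
support of a quasi-coherent ideal sheaf of finite type, and a finite type ideal sheaf on a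
quasi-compact open extends (inside any given ideal sheaf) to a finite type ideal sheaf.
-/

set_option autoImplicit false
universe u

open CategoryTheory CategoryTheory.Limits AlgebraicGeometry TopologicalSpace

namespace Groth.Agent.Lib.Helper93.FiniteTypeExtend

/-- If the extension of an ideal is finitely generated, it is the extension of a finitely generated
subideal. -/
theorem exists_fg_le_map_eq {A B : Type*} [CommRing A] [CommRing B] (φ : A →+* B)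
    (I : Ideal A) (hI : (I.map φ).FG) :
    ∃ N : Ideal A, N.FG ∧ N ≤ I ∧ N.map φ = I.map φ := by
  classical
  rw [Ideal.map] at hI
  obtain ⟨t, ht, htI⟩ := (Submodule.fg_span_iff_fg_span_finset_subset _).mp hI
  obtain ⟨t', ht', rfl⟩ : ∃ t' : Finset A, (t' : Set A) ⊆ I ∧ t = t'.image φ := by
    obtain ⟨u, hu, rfl⟩ := Finset.subset_set_image_iff.mp ht
    exact ⟨u, hu, rfl⟩
  refine ⟨Ideal.span t', ⟨t', rfl⟩, Ideal.span_le.mpr ht', ?_⟩
  rw [Ideal.map_span, Ideal.map]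
  rw [Finset.coe_image] at htI
  exact htI.symm

variable {X : Scheme.{u}}

/-- A section lies in the kernel ideal of a quasi-compact morphism if it does so locally around
the image. -/
theorem mem_ker_ideal_of_locally {Y : Scheme.{u}} (g : Y ⟶ X) [QuasiCompact g] (W : X.affineOpens)
    (s : Γ(X, W.1))
    (H : ∀ y : Y, g y ∈ W.1 → ∃ (W' : X.affineOpens) (h : W'.1 ≤ W.1), g y ∈ W'.1 ∧
      (X.presheaf.map (homOfLE h).op).hom s ∈ g.ker.ideal W') :
    s ∈ g.ker.ideal W := by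
  rw [Scheme.Hom.ker_apply, RingHom.mem_ker]
  apply Y.IsSheaf.section_ext
  intro y hy
  obtain ⟨W', h, hyW', hs⟩ := H y hy
  rw [Scheme.Hom.ker_apply, RingHom.mem_ker] at hs
  refine ⟨g ⁻¹ᵁ W'.1, (Scheme.Hom.preimage_mono g h), hyW', ?_⟩
  rw [map_zero]
  have := g.naturality (homOfLE h).op
  have h2 := congr($(this).hom s)
  rw [CommRingCat.comp_apply, CommRingCat.comp_apply] at h2
  rw [hs] at h2
  exact h2.symm

/-- The morphism `Spec (Γ(X, U) ⧸ N) ⟶ X` for an ideal `N` on an affine open `U`. -/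
noncomputable def quotHom {U : X.Opens} (hU : IsAffineOpen U) (N : Ideal Γ(X, U)) :
    Spec (CommRingCat.of (Γ(X, U) ⧸ N)) ⟶ X :=
  Spec.map (CommRingCat.ofHom (Ideal.Quotient.mk N)) ≫ hU.fromSpec

/-- The largest ideal sheaf on `X` whose ideal on the affine open `U` is contained in `N`. -/
noncomputable def extIdeal {U : X.Opens} (hU : IsAffineOpen U) (N : Ideal Γ(X, U)) :
    X.IdealSheafData :=
  (quotHom hU N).ker

instance [QuasiSeparatedSpace X] {U : X.Opens} (hU : IsAffineOpen U) (N : Ideal Γ(X, U)) :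
    QuasiCompact (quotHom hU N) := by
  unfold quotHom
  infer_instance

theorem extIdeal_ideal_self [QuasiSeparatedSpace X] {U : X.Opens} (hU : IsAffineOpen U)
    (N : Ideal Γ(X, U)) : (extIdeal hU N).ideal ⟨U, hU⟩ = N := by
  unfold extIdeal
  rw [Scheme.Hom.ker_apply]
  let φ : Γ(X, U) ⟶ CommRingCat.of (Γ(X, U) ⧸ N) := CommRingCat.ofHom (Ideal.Quotient.mk N)
  have h1 : (quotHom hU N).app U =
      φ ≫ (Scheme.ΓSpecIso _).inv ≫ (Spec _).presheaf.map (homOfLE le_top).op := by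
    unfold quotHom
    have h0 : (Scheme.ΓSpecIso Γ(X, U)).inv ≫ (Spec.map φ).app ⊤ = φ ≫ (Scheme.ΓSpecIso _).inv :=
      (Scheme.ΓSpecIso_inv_naturality φ).symm
    rw [Scheme.Hom.comp_app, hU.fromSpec_app_self, Category.assoc,
      (Spec.map φ).naturality, reassoc_of% h0]
    rfl
  have e : (Spec.map φ) ⁻¹ᵁ (hU.fromSpec ⁻¹ᵁ U) = ⊤ := by
    rw [hU.fromSpec_preimage_self]
    rfl
  have hiso : IsIso ((Spec (CommRingCat.of (Γ(X, U) ⧸ N))).presheaf.map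
      (homOfLE (le_top : (Spec.map φ) ⁻¹ᵁ (hU.fromSpec ⁻¹ᵁ U) ≤ ⊤)).op) := by
    have : (homOfLE (le_top : (Spec.map φ) ⁻¹ᵁ (hU.fromSpec ⁻¹ᵁ U) ≤ ⊤)) = eqToHom e :=
      Subsingleton.elim _ _
    rw [this]
    infer_instance
  rw [h1, CommRingCat.hom_comp, RingHom.ker_comp_of_injective]
  · exact Ideal.mk_ker
  · exact (ConcreteCategory.bijective_of_isIso
      ((Scheme.ΓSpecIso (CommRingCat.of (Γ(X, U) ⧸ N))).inv ≫
        (Spec (CommRingCat.of (Γ(X, U) ⧸ N))).presheaf.map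
          (homOfLE (le_top : (Spec.map φ) ⁻¹ᵁ (hU.fromSpec ⁻¹ᵁ U) ≤ ⊤)).op)).1

theorem range_quotHom_subset {U : X.Opens} (hU : IsAffineOpen U) (N : Ideal Γ(X, U))
    (y : Spec (CommRingCat.of (Γ(X, U) ⧸ N))) : quotHom hU N y ∈ U := by
  unfold quotHom
  rw [Scheme.Hom.comp_apply]
  have : hU.fromSpec (Spec.map (CommRingCat.ofHom (Ideal.Quotient.mk N)) y) ∈
      hU.fromSpec.opensRange := ⟨_, rfl⟩
  rwa [hU.opensRange_fromSpec] at this

/-- `𝓖` is of finite type on the open `S`. -/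
def FiniteTypeOn (S : X.Opens) (𝓖 : X.IdealSheafData) : Prop :=
  ∀ W : X.affineOpens, W.1 ≤ S → (𝓖.ideal W).FG

/-- One step of the extension: from `S` to `S ⊔ U` with `U` affine. -/
theorem exists_finiteTypeOn_sup [QuasiSeparatedSpace X] (S : X.Opens)
    (hS : IsCompact (S : Set X)) (U : X.affineOpens) (𝓖 : X.IdealSheafData)
    (h𝓖 : FiniteTypeOn S 𝓖) :
    ∃ 𝓖' : X.IdealSheafData, 𝓖' ≤ 𝓖 ∧ FiniteTypeOn (S ⊔ U.1) 𝓖' ∧
      ∀ W : X.affineOpens, W.1 ≤ S → 𝓖'.ideal W = 𝓖.ideal W := by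
  classical
  have hT : IsCompact ((S ⊓ U.1 : X.Opens) : Set X) :=
    QuasiSeparatedSpace.inter_isCompact _ _ S.2 hS U.1.2 U.2.isCompact
  -- cover `S ⊓ U` by finitely many basic opens of `U`
  have hcov : ∀ x : (S ⊓ U.1 : X.Opens), ∃ f : Γ(X, U.1), X.basicOpen f ≤ S ⊓ U.1 ∧
      x.1 ∈ X.basicOpen f := fun x => U.2.exists_basicOpen_le x x.2.2
  choose h hle hmem using hcov
  obtain ⟨t, ht⟩ := hT.elim_nhds_subcover'
    (fun x hx => (X.basicOpen (h ⟨x, hx⟩) : Set X))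
    (fun x hx => (X.basicOpen (h ⟨x, hx⟩)).2.mem_nhds (hmem ⟨x, hx⟩))
  -- finitely generated subideals
  have hN : ∀ x : (S ⊓ U.1 : X.Opens), ∃ N : Ideal Γ(X, U.1), N.FG ∧ N ≤ 𝓖.ideal U ∧
      N.map (X.presheaf.map (homOfLE (X.basicOpen_le (h x))).op).hom =
        (𝓖.ideal U).map (X.presheaf.map (homOfLE (X.basicOpen_le (h x))).op).hom := by
    intro x
    apply exists_fg_le_map_eq
    rw [𝓖.map_ideal_basicOpen]
    exact h𝓖 _ ((hle x).trans inf_le_left)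
  choose Nx hNfg hNle hNmap using hN
  let N : Ideal Γ(X, U.1) := ⨆ x ∈ t, Nx ⟨x.1, x.2⟩
  have hNfg' : N.FG := Submodule.fg_biSup t _ fun x _ => hNfg _
  have hNle' : N ≤ 𝓖.ideal U := iSup₂_le fun x _ => hNle _
  have hNmap' : ∀ x ∈ t, N.map (X.presheaf.map (homOfLE (X.basicOpen_le (h ⟨x.1, x.2⟩))).op).hom =
      (𝓖.ideal U).map (X.presheaf.map (homOfLE (X.basicOpen_le (h ⟨x.1, x.2⟩))).op).hom := by
    intro x hx
    refine le_antisymm (Ideal.map_mono hNle') ?_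
    rw [← hNmap ⟨x.1, x.2⟩]
    exact Ideal.map_mono (le_iSup₂_of_le x hx le_rfl)
  let 𝓝 := extIdeal U.2 N
  have h𝓝U : 𝓝.ideal U = N := extIdeal_ideal_self U.2 N
  -- `𝓖 ≤ 𝓝` on affine opens inside `S`
  have hP2 : ∀ W : X.affineOpens, W.1 ≤ S → 𝓖.ideal W ≤ 𝓝.ideal W := by
    intro W hWS s hs
    refine mem_ker_ideal_of_locally (quotHom U.2 N) W s fun y hy => ?_
    have hyU : quotHom U.2 N y ∈ U.1 := range_quotHom_subset U.2 N y
    have hyT : quotHom U.2 N y ∈ (S ⊓ U.1 : X.Opens) := ⟨hWS hy, hyU⟩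
    obtain ⟨x, hxt, hyx⟩ := Set.mem_iUnion₂.mp (ht hyT)
    set D : X.affineOpens := X.affineBasicOpen (h ⟨x.1, x.2⟩) with hD
    obtain ⟨_, ⟨W', hW', rfl⟩, hyW', hW'le⟩ := X.isBasis_affineOpens.exists_subset_of_mem_open
      (show quotHom U.2 N y ∈ ((W.1 ⊓ D.1 : X.Opens) : Set X) from ⟨hy, hyx⟩) (W.1 ⊓ D.1).2
    have hW'W : W' ≤ W.1 := fun z hz => (hW'le hz).1
    have hW'D : (⟨W', hW'⟩ : X.affineOpens) ≤ D := fun z hz => (hW'le hz).2
    have hDU : D ≤ U := X.basicOpen_le _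
    refine ⟨⟨W', hW'⟩, hW'W, hyW', ?_⟩
    have h1 : (X.presheaf.map (homOfLE hW'W).op).hom s ∈ 𝓖.ideal ⟨W', hW'⟩ :=
      𝓖.ideal_le_comap_ideal (U := ⟨W', hW'⟩) (V := W) hW'W hs
    have h2 : 𝓖.ideal ⟨W', hW'⟩ = 𝓝.ideal ⟨W', hW'⟩ := by
      rw [← 𝓖.map_ideal hW'D, ← 𝓝.map_ideal hW'D, ← 𝓖.map_ideal hDU, ← 𝓝.map_ideal hDU, h𝓝U]
      congr 1
      exact (hNmap' x hxt).symm
    have h3 : (X.presheaf.map (homOfLE hW'W).op).hom s ∈ 𝓝.ideal ⟨W', hW'⟩ := h2 ▸ h1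
    exact h3
  refine ⟨𝓖 ⊓ 𝓝, inf_le_left, ?_, ?_⟩
  · intro W hW
    refine FiniteTypeIdeal.fg_of_basicOpen_cover _ W fun y hy => ?_
    rcases hW hy with hyS | hyU
    · obtain ⟨r, hr1, hr2⟩ := W.2.exists_basicOpen_le (V := S) ⟨y, hyS⟩ hy
      refine ⟨r, hr2, ?_⟩
      rw [Scheme.IdealSheafData.ideal_inf, Pi.inf_apply,
        inf_eq_left.mpr (hP2 (X.affineBasicOpen r) hr1)]
      exact h𝓖 _ hr1
    · obtain ⟨r, hr1, hr2⟩ := W.2.exists_basicOpen_le (V := U.1) ⟨y, hyU⟩ hy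
      refine ⟨r, hr2, ?_⟩
      have hrU : X.affineBasicOpen r ≤ U := hr1
      rw [← (𝓖 ⊓ 𝓝).map_ideal hrU, Scheme.IdealSheafData.ideal_inf, Pi.inf_apply, h𝓝U,
        inf_eq_right.mpr hNle']
      exact hNfg'.map _
  · intro W hW
    rw [Scheme.IdealSheafData.ideal_inf, Pi.inf_apply, inf_eq_left.mpr (hP2 W hW)]

/-- Extension of ideal sheaves which are of finite type on a quasi-compact open. -/
theorem exists_isFiniteTypeIdeal_le [CompactSpace X] [QuasiSeparatedSpace X] (S : X.Opens)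
    (hS : IsCompact (S : Set X)) (𝓖 : X.IdealSheafData) (h𝓖 : FiniteTypeOn S 𝓖) :
    ∃ 𝓖' : X.IdealSheafData, 𝓖' ≤ 𝓖 ∧ BlowUp.IsFiniteTypeIdeal 𝓖' ∧
      ∀ W : X.affineOpens, W.1 ≤ S → 𝓖'.ideal W = 𝓖.ideal W := by
  have key : ∀ T : X.Opens, IsCompact (T : Set X) →
      ∃ 𝓖' : X.IdealSheafData, 𝓖' ≤ 𝓖 ∧ FiniteTypeOn (S ⊔ T) 𝓖' ∧
        ∀ W : X.affineOpens, W.1 ≤ S → 𝓖'.ideal W = 𝓖.ideal W := by
    intro T hT
    refine compact_open_induction_on (P := fun T => IsCompact (T : Set X) →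
      ∃ 𝓖' : X.IdealSheafData, 𝓖' ≤ 𝓖 ∧ FiniteTypeOn (S ⊔ T) 𝓖' ∧
        ∀ W : X.affineOpens, W.1 ≤ S → 𝓖'.ideal W = 𝓖.ideal W) T hT ?_ ?_ hT
    · intro _
      refine ⟨𝓖, le_rfl, ?_, fun _ _ => rfl⟩
      rw [sup_bot_eq]
      exact h𝓖
    · intro T hT U ih _
      obtain ⟨𝓖₁, h1, h2, h3⟩ := ih hT
      obtain ⟨𝓖₂, k1, k2, k3⟩ := exists_finiteTypeOn_sup (S ⊔ T) (hS.union hT) U 𝓖₁ h2
      refine ⟨𝓖₂, k1.trans h1, ?_, fun W hW => ?_⟩
      · rw [← sup_assoc]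
        exact k2
      · rw [k3 W (hW.trans le_sup_left), h3 W hW]
  obtain ⟨𝓖', h1, h2, h3⟩ := key ⊤ isCompact_univ
  refine ⟨𝓖', h1, fun W => h2 W ?_, h3⟩
  rw [sup_top_eq]
  exact le_top

/-- On a quasi-compact quasi-separated scheme every closed subset with quasi-compact complement
is the support of a quasi-coherent ideal sheaf of finite type. -/
theorem exists_isFiniteTypeIdeal_support_eq [CompactSpace X] [QuasiSeparatedSpace X] (Z : Set X)
    (hZ : IsClosed Z) (hZc : IsCompact Zᶜ) :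
    ∃ 𝓘 : X.IdealSheafData, BlowUp.IsFiniteTypeIdeal 𝓘 ∧ (𝓘.support : Set X) = Z := by
  let S : X.Opens := ⟨Zᶜ, hZ.isOpen_compl⟩
  let 𝓖 : X.IdealSheafData := Scheme.IdealSheafData.vanishingIdeal ⟨Z, hZ⟩
  have htop : ∀ W : X.affineOpens, W.1 ≤ S → 𝓖.ideal W = ⊤ := by
    intro W hW
    rw [Scheme.IdealSheafData.vanishingIdeal_ideal]
    have : W.2.fromSpec ⁻¹' ((⟨Z, hZ⟩ : Closeds X) : Set X) = ∅ := by
      ext p
      simp only [Set.mem_preimage, Set.mem_empty_iff_false, iff_false]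
      intro hp
      have h1 : W.2.fromSpec p ∈ W.2.fromSpec.opensRange := ⟨p, rfl⟩
      rw [W.2.opensRange_fromSpec] at h1
      exact hW h1 hp
    convert PrimeSpectrum.vanishingIdeal_empty using 2
    exact this
  obtain ⟨𝓘, h1, h2, h3⟩ := exists_isFiniteTypeIdeal_le S hZc 𝓖
    (fun W hW => by rw [htop W hW]; exact ⟨{1}, by simp⟩)
  refine ⟨𝓘, h2, Set.Subset.antisymm ?_ ?_⟩
  · intro x hx
    by_contra hxZ
    obtain ⟨_, ⟨W, hW, rfl⟩, hxW, hWS⟩ := X.isBasis_affineOpens.exists_subset_of_mem_open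
      (show x ∈ (S : Set X) from hxZ) S.2
    have h4 : 𝓘.ideal ⟨W, hW⟩ = ⊤ := (h3 ⟨W, hW⟩ hWS).trans (htop ⟨W, hW⟩ hWS)
    rw [SetLike.mem_coe, Scheme.IdealSheafData.mem_support_iff_of_mem (U := ⟨W, hW⟩) hxW, h4] at hx
    have := (X.mem_zeroLocus_iff _ x).mp hx 1 trivial
    rw [X.basicOpen_of_isUnit isUnit_one] at this
    exact this hxW
  · have := Scheme.IdealSheafData.support_antitone h1
    intro x hx
    exact this (show x ∈ ((𝓖.support : Closeds X) : Set X) by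
      rw [Scheme.IdealSheafData.coe_support_vanishingIdeal]; exact hx)

end Groth.Agent.Lib.Helper93.FiniteTypeExtend
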