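import Groth.Agent.Lib.Helper93.Depth

/-!
# Depth of products, of `Hom(N, M)` and of duals (helper93)

`R` Noetherian, all modules finite and in the universe of `R`.
* `min_le_idealDepth_prod`, `idealDepth_le_pi_fin`: depth of `M × P`, `Fin n → M`.
* `one_le_idealDepth_of_exact`, `two_le_idealDepth_of_exact`: for `0 → X → Y → Z` exact.
* `one_le_idealDepth_linearMap`, `two_le_idealDepth_linearMap`: `depth_I Hom(N, M) ≥ min 2 (depth_I M)`.
* `one_le_idealDepth_of_isReflexive`, `two_le_idealDepth_of_isReflexive`.
-/

namespace Groth.Agent.Lib.Helper93.Depth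

open LocCoh

universe u

variable {R : Type u} [CommRing R] [IsNoetherianRing R] (I : Ideal R)

section Prod

variable (M P : Type u) [AddCommGroup M] [Module R M] [Module.Finite R M]
  [AddCommGroup P] [Module R P] [Module.Finite R P]

theorem min_le_idealDepth_prod :
    min (idealDepth I M) (idealDepth I P) ≤ idealDepth I (M × P) := by
  refine min_le_idealDepth_middle I (LinearMap.inl R M P) (LinearMap.snd R M P)
    LinearMap.inl_injective ?_ LinearMap.snd_surjective
  intro x
  constructor
  · intro h
    exact ⟨x.1, Prod.ext rfl (by simpa using h.symm)⟩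
  · rintro ⟨m, rfl⟩
    simp

theorem idealDepth_le_pi_fin (n : ℕ) : idealDepth I M ≤ idealDepth I (Fin n → M) := by
  induction n with
  | zero => rw [idealDepth_of_subsingleton (M := Fin 0 → M)]; exact le_top
  | succ n ih =>
    rw [← idealDepth_congr (Fin.consLinearEquiv R (fun _ : Fin (n + 1) => M))]
    exact le_trans (le_min le_rfl ih) (min_le_idealDepth_prod I M (Fin n → M))

end Prod

section Exact

variable {X Y Z : Type u} [AddCommGroup X] [Module R X] [Module.Finite R X]
  [AddCommGroup Y] [Module R Y] [Module.Finite R Y] [AddCommGroup Z] [Module R Z] [Module.Finite R Z]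
  (f : X →ₗ[R] Y) (g : Y →ₗ[R] Z) (hf : Function.Injective f) (hfg : Function.Exact f g)

include hf hfg

omit [Module.Finite R X] in
/-- `0 → X → Y → Z` exact, `depth Y ≥ 2`, `depth Z ≥ 1` ⟹ `depth X ≥ 2`. -/
theorem two_le_idealDepth_of_exact (hY : 2 ≤ idealDepth I Y) (hZ : 1 ≤ idealDepth I Z) :
    2 ≤ idealDepth I X := by
  have e : X ≃ₗ[R] LinearMap.ker g :=
    (LinearEquiv.ofInjective f hf).trans (LinearEquiv.ofEq _ _ hfg.linearMap_ker_eq.symm)
  rw [idealDepth_congr e]
  exact two_le_idealDepth_ker I g hY hZ

end Exact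

section Hom

variable (N M : Type u) [AddCommGroup N] [Module R N] [Module.Finite R N]
  [AddCommGroup M] [Module R M] [Module.Finite R M]

theorem one_le_idealDepth_linearMap (hM : 1 ≤ idealDepth I M) :
    1 ≤ idealDepth I (N →ₗ[R] M) := by
  obtain ⟨n, π, hπ⟩ := Module.Finite.exists_fin' R N
  have h1 : 1 ≤ idealDepth I ((Fin n → R) →ₗ[R] M) := by
    rw [idealDepth_congr (LinearEquiv.piRing R M (Fin n) R)]
    exact le_trans hM (idealDepth_le_pi_fin I M n)
  refine one_le_idealDepth_of_injective I (LinearMap.lcomp R M π) ?_ h1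
  intro a b hab
  ext x
  obtain ⟨y, rfl⟩ := hπ x
  exact LinearMap.congr_fun hab y

theorem two_le_idealDepth_linearMap (hM : 2 ≤ idealDepth I M) :
    2 ≤ idealDepth I (N →ₗ[R] M) := by
  obtain ⟨n, π, hπ⟩ := Module.Finite.exists_fin' R N
  obtain ⟨m, ρ, hρ⟩ := Module.Finite.exists_fin' R (LinearMap.ker π)
  have hn : ∀ k : ℕ, idealDepth I M ≤ idealDepth I ((Fin k → R) →ₗ[R] M) := by
    intro k
    rw [idealDepth_congr (LinearEquiv.piRing R M (Fin k) R)]
    exact idealDepth_le_pi_fin I M k
  have h1 : (1 : ℕ∞) ≤ 2 := by norm_num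
  refine two_le_idealDepth_of_exact I (LinearMap.lcomp R M π)
    (LinearMap.lcomp R M ((LinearMap.ker π).subtype ∘ₗ ρ)) ?_ ?_ (le_trans hM (hn n))
    (le_trans (le_trans h1 hM) (hn m))
  · intro a b hab
    ext x
    obtain ⟨y, rfl⟩ := hπ x
    exact LinearMap.congr_fun hab y
  · intro h
    constructor
    · intro hh
      -- `h` vanishes on `ker π`, so factors through `π`
      have hker : LinearMap.ker π ≤ LinearMap.ker h := by
        intro x hx
        obtain ⟨y, hy⟩ := hρ ⟨x, hx⟩
        have := LinearMap.congr_fun hh y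
        simp only [LinearMap.lcomp_apply, LinearMap.coe_comp, Function.comp_apply, hy,
          Submodule.subtype_apply, LinearMap.zero_apply] at this
        exact this
      refine ⟨(LinearMap.ker π).liftQ h hker ∘ₗ
        (π.quotKerEquivOfSurjective hπ).symm.toLinearMap, ?_⟩
      refine LinearMap.ext fun x => ?_
      simp only [LinearMap.lcomp_apply, LinearMap.coe_comp, LinearEquiv.coe_coe,
        Function.comp_apply]
      have : (π.quotKerEquivOfSurjective hπ).symm (π x) = Submodule.Quotient.mk x := by
        rw [LinearEquiv.symm_apply_eq]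
        rfl
      rw [this, Submodule.liftQ_apply]
    · rintro ⟨a, rfl⟩
      refine LinearMap.ext fun y => ?_
      simp only [LinearMap.lcomp_apply, LinearMap.coe_comp, Function.comp_apply,
        Submodule.subtype_apply, LinearMap.zero_apply]
      rw [LinearMap.mem_ker.mp (ρ y).2, map_zero]

end Hom

section Reflexive

variable (G : Type u) [AddCommGroup G] [Module R G] [Module.Finite R G] [Module.IsReflexive R G]

theorem one_le_idealDepth_of_isReflexive (h : 1 ≤ idealDepth I R) : 1 ≤ idealDepth I G := by
  rw [idealDepth_congr (Module.evalEquiv R G)]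
  exact one_le_idealDepth_linearMap I (Module.Dual R G) R h

theorem two_le_idealDepth_of_isReflexive (h : 2 ≤ idealDepth I R) : 2 ≤ idealDepth I G := by
  rw [idealDepth_congr (Module.evalEquiv R G)]
  exact two_le_idealDepth_linearMap I (Module.Dual R G) R h

end Reflexive

end Groth.Agent.Lib.Helper93.Depth
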