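import Groth.Agent.Lib.Helper93.SkKer

/-!
# Reflexive modules and depth (helper93)

* `dualLoc`, `ddualLoc`: localization maps `G^∨ → (G_S)^∨`, `G^∨∨ → (G_S)^∨∨` (finite `G` over
  Noetherian `A`); both are `IsLocalizedModule`; `ddualLoc_eval`: evaluation commutes with them.
* `subsingleton_localizedModule_ker_eval`, `subsingleton_localizedModule_coker_eval`.
* `subsingleton_ext_of_lt_idealDepth` (Rees, general `N` with `Supp N ⊆ V(I)`).
* `isReflexive_of_two_le_idealDepth`: `depth_I A ≥ 1`, `G` reflexive off `V(I)`, `depth_I G ≥ 2`
  ⟹ `G` reflexive.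
-/

namespace Groth.Agent.Lib.Helper93.Depth

open LocCoh CategoryTheory Abelian

universe u v

section DDualLoc

variable {A : Type u} [CommRing A] [IsNoetherianRing A] (S : Submonoid A)
  (G : Type u) [AddCommGroup G] [Module A G] [Module.Finite A G]

/-- The localization map `G^∨ → (G_S)^∨`. -/
noncomputable def dualLoc : Module.Dual A G →ₗ[A] Module.Dual (Localization S) (LocalizedModule S G) :=
  IsLocalizedModule.mapExtendScalars S (LocalizedModule.mkLinearMap S G)
    (Algebra.linearMap A (Localization S)) (Localization S)

instance : IsLocalizedModule S (dualLoc S G) := by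
  have : Module.FinitePresentation A G := Module.finitePresentation_of_finite A G
  unfold dualLoc
  infer_instance

omit [IsNoetherianRing A] [Module.Finite A G] in
theorem dualLoc_apply (f : Module.Dual A G) (g : G) :
    dualLoc S G f (LocalizedModule.mkLinearMap S G g) = algebraMap A (Localization S) (f g) := by
  unfold dualLoc
  rw [IsLocalizedModule.mapExtendScalars_apply_apply]
  exact IsLocalizedModule.map_apply S _ _ f g

/-- The localization map `G^∨∨ → (G_S)^∨∨`. -/
noncomputable def ddualLoc : Module.Dual A (Module.Dual A G) →ₗ[A]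
    Module.Dual (Localization S) (Module.Dual (Localization S) (LocalizedModule S G)) :=
  IsLocalizedModule.mapExtendScalars S (dualLoc S G)
    (Algebra.linearMap A (Localization S)) (Localization S)

instance : IsLocalizedModule S (ddualLoc S G) := by
  have : Module.FinitePresentation A (Module.Dual A G) :=
    Module.finitePresentation_of_finite A _
  unfold ddualLoc
  infer_instance

theorem ddualLoc_apply (ξ : Module.Dual A (Module.Dual A G)) (f : Module.Dual A G) :
    ddualLoc S G ξ (dualLoc S G f) = algebraMap A (Localization S) (ξ f) := by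
  unfold ddualLoc
  rw [IsLocalizedModule.mapExtendScalars_apply_apply]
  exact IsLocalizedModule.map_apply S _ _ ξ f

/-- The evaluation map commutes with localization. -/
theorem ddualLoc_eval (g : G) :
    ddualLoc S G (Module.Dual.eval A G g) =
      Module.Dual.eval (Localization S) (LocalizedModule S G) (LocalizedModule.mkLinearMap S G g) := by
  refine LinearMap.ext fun f' => ?_
  obtain ⟨⟨f, s⟩, hfs⟩ := IsLocalizedModule.surj S (dualLoc S G) f'
  have hfs' : algebraMap A (Localization S) s • f' = dualLoc S G f := by
    rw [algebraMap_smul]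
    exact hfs
  have hs : IsUnit (algebraMap A (Localization S) s) := IsLocalization.map_units _ s
  apply hs.mul_left_cancel
  rw [Module.Dual.eval_apply, ← smul_eq_mul, ← smul_eq_mul, ← LinearMap.map_smul,
    ← LinearMap.smul_apply, hfs', ddualLoc_apply, dualLoc_apply, Module.Dual.eval_apply]

theorem map_eval_eq :
    IsLocalizedModule.map S (LocalizedModule.mkLinearMap S G) (ddualLoc S G)
      (Module.Dual.eval A G) =
    (Module.Dual.eval (Localization S) (LocalizedModule S G)).restrictScalars A := by
  refine IsLocalizedModule.linearMap_ext S (LocalizedModule.mkLinearMap S G) (ddualLoc S G) ?_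
  rw [IsLocalizedModule.map_comp]
  refine LinearMap.ext fun g => ?_
  exact ddualLoc_eval S G g

theorem subsingleton_localizedModule_ker_eval
    (h : Function.Injective (Module.Dual.eval (Localization S) (LocalizedModule S G))) :
    Subsingleton (LocalizedModule S (LinearMap.ker (Module.Dual.eval A G))) := by
  have ex := IsLocalizedModule.map_exact S
    (LocalizedModule.mkLinearMap S (LinearMap.ker (Module.Dual.eval A G)))
    (LocalizedModule.mkLinearMap S G) (ddualLoc S G)
    (LinearMap.ker (Module.Dual.eval A G)).subtype (Module.Dual.eval A G)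
    (LinearMap.exact_subtype_ker_map _)
  have hinj := IsLocalizedModule.map_injective S
    (LocalizedModule.mkLinearMap S (LinearMap.ker (Module.Dual.eval A G)))
    (LocalizedModule.mkLinearMap S G)
    (LinearMap.ker (Module.Dual.eval A G)).subtype (Submodule.injective_subtype _)
  rw [map_eval_eq] at ex
  refine ⟨fun x y => hinj ?_⟩
  have hx := (ex _).mpr ⟨x, rfl⟩
  have hy := (ex _).mpr ⟨y, rfl⟩
  exact h (hx.trans hy.symm)

theorem subsingleton_localizedModule_coker_eval
    (h : Function.Surjective (Module.Dual.eval (Localization S) (LocalizedModule S G))) :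
    Subsingleton (LocalizedModule S
      (Module.Dual A (Module.Dual A G) ⧸ LinearMap.range (Module.Dual.eval A G))) := by
  have ex := IsLocalizedModule.map_exact S (LocalizedModule.mkLinearMap S G) (ddualLoc S G)
    (LocalizedModule.mkLinearMap S
      (Module.Dual A (Module.Dual A G) ⧸ LinearMap.range (Module.Dual.eval A G)))
    (Module.Dual.eval A G) (LinearMap.range (Module.Dual.eval A G)).mkQ
    (LinearMap.exact_map_mkQ_range _)
  have hsurj := IsLocalizedModule.map_surjective S (ddualLoc S G)
    (LocalizedModule.mkLinearMap S
      (Module.Dual A (Module.Dual A G) ⧸ LinearMap.range (Module.Dual.eval A G)))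
    (LinearMap.range (Module.Dual.eval A G)).mkQ (Submodule.mkQ_surjective _)
  rw [map_eval_eq] at ex
  suffices ∀ c, c = (0 : LocalizedModule S
      (Module.Dual A (Module.Dual A G) ⧸ LinearMap.range (Module.Dual.eval A G))) from
    ⟨fun x y => by rw [this x, this y]⟩
  intro c
  obtain ⟨y, rfl⟩ := hsurj c
  obtain ⟨x, rfl⟩ := h y
  exact (ex _).mpr ⟨x, rfl⟩

end DDualLoc

section Rees

variable {R : Type u} [CommRing R] [Small.{v} R] [IsNoetherianRing R]

/-- Rees: `Ext^i(N, M) = 0` for `i < depth_I M` whenever `Supp N ⊆ V(I)` (`N`, `M` finite). -/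
theorem subsingleton_ext_of_lt_idealDepth (I : Ideal R) (N M : ModuleCat.{v} R)
    [Module.Finite R N] [Module.Finite R M]
    (hN : Module.support R N ⊆ PrimeSpectrum.zeroLocus I) (i : ℕ)
    (hi : (i : ℕ∞) < idealDepth I M) : Subsingleton (Ext N M i) := by
  by_cases hM : I • (⊤ : Submodule R M) = ⊤
  · exact subsingleton_ext_of_smul_top_eq_top I N M hN hM i
  · have h1 : ((i + 1 : ℕ) : ℕ∞) ≤ idealDepth I M := by
      have := Order.add_one_le_of_lt hi
      exact_mod_cast this
    obtain ⟨rs, hlen, hmem, hreg⟩ := (natCast_le_idealDepth_iff_of_ne hM (i + 1)).mp h1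
    exact ModuleCat.subsingleton_ext_of_exists_isRegular I N hN M (lt_of_le_of_ne le_top hM)
      rs hmem hreg i (by omega)

end Rees

section Criterion

variable {A : Type u} [CommRing A] [IsNoetherianRing A] (I : Ideal A)
  (G : Type u) [AddCommGroup G] [Module A G] [Module.Finite A G]

/-- If a finite module `N` with `Supp N ⊆ V(I)` maps injectively into `M` with `depth_I M ≥ 1`,
then `N = 0`. -/
theorem subsingleton_of_injective_of_support_subset {N M : Type u} [AddCommGroup N] [Module A N]
    [Module.Finite A N] [AddCommGroup M] [Module A M] [Module.Finite A M]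
    (hN : Module.support A N ⊆ PrimeSpectrum.zeroLocus I) (hM : 1 ≤ idealDepth I M)
    (f : N →ₗ[A] M) (hf : Function.Injective f) : Subsingleton N := by
  have h0 : Subsingleton (Ext (ModuleCat.of A N) (ModuleCat.of A M) 0) :=
    subsingleton_ext_of_lt_idealDepth I (ModuleCat.of A N) (ModuleCat.of A M) hN 0
      (lt_of_lt_of_le (by norm_num) hM)
  have h1 : Subsingleton (ModuleCat.of A N ⟶ ModuleCat.of A M) :=
    Ext.addEquiv₀.subsingleton_congr.mp h0
  have h2 : ModuleCat.ofHom f = 0 := Subsingleton.elim _ _
  refine ⟨fun x y => hf ?_⟩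
  have h3 : ∀ z, f z = 0 := fun z => by
    have := congrArg (fun φ => φ.hom z) h2
    simpa using this
  rw [h3 x, h3 y]

theorem isReflexive_of_two_le_idealDepth (hA : 1 ≤ idealDepth I A)
    (hU : ∀ p : PrimeSpectrum A, ¬ I ≤ p.asIdeal →
      Module.IsReflexive (Localization.AtPrime p.asIdeal)
        (LocalizedModule p.asIdeal.primeCompl G))
    (hG : 2 ≤ idealDepth I G) : Module.IsReflexive A G := by
  -- supports of kernel and cokernel of `eval`
  have hK : Module.support A (LinearMap.ker (Module.Dual.eval A G)) ⊆
      PrimeSpectrum.zeroLocus I := by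
    intro p hp
    by_contra hIp
    rw [PrimeSpectrum.mem_zeroLocus, SetLike.coe_subset_coe] at hIp
    have := (hU p hIp).bijective_dual_eval'.1
    have hs := subsingleton_localizedModule_ker_eval p.asIdeal.primeCompl G this
    rw [Module.mem_support_iff] at hp
    exact not_subsingleton _ hs
  have hC : Module.support A (Module.Dual A (Module.Dual A G) ⧸
      LinearMap.range (Module.Dual.eval A G)) ⊆ PrimeSpectrum.zeroLocus I := by
    intro p hp
    by_contra hIp
    rw [PrimeSpectrum.mem_zeroLocus, SetLike.coe_subset_coe] at hIp
    have := (hU p hIp).bijective_dual_eval'.2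
    have hs := subsingleton_localizedModule_coker_eval p.asIdeal.primeCompl G this
    rw [Module.mem_support_iff] at hp
    exact not_subsingleton _ hs
  -- injectivity
  have hinj : Function.Injective (Module.Dual.eval A G) := by
    have hsub := subsingleton_of_injective_of_support_subset I hK
      (le_trans (by norm_num) hG) (LinearMap.ker (Module.Dual.eval A G)).subtype
      (Submodule.injective_subtype _)
    rw [← LinearMap.ker_eq_bot]
    exact Submodule.eq_bot_of_subsingleton
  -- surjectivity
  have hsurj : Function.Surjective (Module.Dual.eval A G) := by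
    have hS := ModuleCat.shortComplex_shortExact
      (ModuleCat.shortComplexOfCompEqZero (Module.Dual.eval A G)
        (LinearMap.range (Module.Dual.eval A G)).mkQ
        (LinearMap.exact_map_mkQ_range _).linearMap_comp_eq_zero)
      (LinearMap.exact_map_mkQ_range _) hinj (Submodule.mkQ_surjective _)
    have h2 : Subsingleton (Ext (ModuleCat.of A (Module.Dual A (Module.Dual A G) ⧸
        LinearMap.range (Module.Dual.eval A G)))
        (ModuleCat.of A (Module.Dual A (Module.Dual A G))) 0) :=
      subsingleton_ext_of_lt_idealDepth I _ _ hC 0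
        (lt_of_lt_of_le (by norm_num) (one_le_idealDepth_linearMap I (Module.Dual A G) A hA))
    have h1 : Subsingleton (Ext (ModuleCat.of A (Module.Dual A (Module.Dual A G) ⧸
        LinearMap.range (Module.Dual.eval A G))) (ModuleCat.of A G) 1) :=
      subsingleton_ext_of_lt_idealDepth I _ _ hC 1 (lt_of_lt_of_le (by norm_num) hG)
    have h3 := subsingleton_ext_X₃ (ModuleCat.of A (Module.Dual A (Module.Dual A G) ⧸
        LinearMap.range (Module.Dual.eval A G))) hS 0 h2 h1
    have h4 : Subsingleton (ModuleCat.of A (Module.Dual A (Module.Dual A G) ⧸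
        LinearMap.range (Module.Dual.eval A G)) ⟶ ModuleCat.of A (Module.Dual A (Module.Dual A G) ⧸
        LinearMap.range (Module.Dual.eval A G))) :=
      Ext.addEquiv₀.subsingleton_congr.mp h3
    have h5 : Subsingleton (Module.Dual A (Module.Dual A G) ⧸
        LinearMap.range (Module.Dual.eval A G)) := by
      refine ⟨fun x y => ?_⟩
      have h6 : 𝟙 (ModuleCat.of A (Module.Dual A (Module.Dual A G) ⧸
        LinearMap.range (Module.Dual.eval A G))) = 0 := Subsingleton.elim _ _
      have h7 : ∀ z : (Module.Dual A (Module.Dual A G) ⧸
        LinearMap.range (Module.Dual.eval A G)), z = 0 := fun z => by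
        have := congrArg (fun φ => φ.hom z) h6
        simpa using this
      rw [h7 x, h7 y]
    rw [← LinearMap.range_eq_top]
    exact Submodule.Quotient.subsingleton_iff.mp h5
  exact ⟨⟨hinj, hsurj⟩⟩

end Criterion

section HeightDim

variable {A : Type u} [CommRing A]

/-- `dim Supp (A_p)` (as the localized module) is the height of `p`. -/
theorem supportDim_localizedModule_self (p : Ideal A) [p.IsPrime] :
    Module.supportDim (Localization.AtPrime p) (LocalizedModule p.primeCompl A) =
      (p.height : WithBot ℕ∞) := by
  rw [← IsLocalization.AtPrime.ringKrullDim_eq_height p (Localization.AtPrime p)]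
  unfold Module.supportDim ringKrullDim
  have h : Module.support (Localization.AtPrime p) (LocalizedModule p.primeCompl A) = Set.univ := by
    rw [support_localizedModule_eq_preimage, support_self_eq_univ, Set.preimage_univ]
  rw [h]
  exact Order.krullDim_eq_of_orderIso (OrderIso.setCongr _ _ rfl |>.trans OrderIso.Set.univ)

end HeightDim

end Groth.Agent.Lib.Helper93.Depth
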