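import Groth.Agent.Lib.Helper93.BlowUpExists
import Mathlib.AlgebraicGeometry.ProjectiveSpectrum.Proper
import Mathlib.AlgebraicGeometry.Morphisms.Proper

/-!
# A blow-up in a finite type ideal is proper (helper93)
-/

set_option autoImplicit false
universe u

open CategoryTheory CategoryTheory.Limits AlgebraicGeometry TopologicalSpace
open Groth.Agent.Lib.Helper93.BlowUpProjAlg

namespace Groth.Agent.Lib.Helper93.BlowUpProper

open Groth.Agent.Lib.Helper93.BlowUpLocal

/-! ### Transport lemmas -/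

/-- Precomposing a blow-up with an isomorphism gives a blow-up. -/
theorem isBlowUp_iso_comp {X X₁ X₂ : Scheme.{u}} (K : X.IdealSheafData) (θ : X₁ ≅ X₂)
    (b : X₂ ⟶ X) (hb : BlowUp.IsBlowUp b K) : BlowUp.IsBlowUp (θ.hom ≫ b) K := by
  constructor
  · rw [Scheme.IdealSheafData.comap_comp]
    exact Groth.Agent.H8.EffCartier.isEffCartierIdeal_comap_of_flat _ _ hb.1
  · intro Y g hg
    obtain ⟨h, hh, huniq⟩ := hb.2 Y g hg
    refine ⟨h ≫ θ.inv, ?_, ?_⟩
    · change (h ≫ θ.inv) ≫ θ.hom ≫ b = g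
      rw [Category.assoc, Iso.inv_hom_id_assoc, hh]
    · intro h' hh'
      change h' ≫ θ.hom ≫ b = g at hh'
      rw [← huniq (h' ≫ θ.hom) (by change (h' ≫ θ.hom) ≫ b = g; rw [Category.assoc, hh']),
        Category.assoc, Iso.hom_inv_id, Category.comp_id]

/-- Flat base change of a blow-up, for an arbitrary pullback square. -/
theorem isBlowUp_of_isPullback {X₁ X₂ X₂' P : Scheme.{u}} {b' : P ⟶ X₁} {g' : P ⟶ X₂'}
    {g : X₁ ⟶ X₂} {b : X₂' ⟶ X₂} (h : IsPullback b' g' g b) [Flat g]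
    (K : X₂.IdealSheafData) (hb : BlowUp.IsBlowUp b K) : BlowUp.IsBlowUp b' (K.comap g) := by
  have := isBlowUp_iso_comp (K.comap g) h.isoPullback _
    (Groth.Agent.H8.EffCartier.isBlowUp_flat_baseChange g K b hb)
  rwa [h.isoPullback_hom_fst] at this

/-- The restriction of a blow-up over an open is a blow-up. -/
theorem isBlowUp_morphismRestrict {X X' : Scheme.{u}} (K : X.IdealSheafData) (b : X' ⟶ X)
    (hb : BlowUp.IsBlowUp b K) (U : X.Opens) : BlowUp.IsBlowUp (b ∣_ U) (K.comap U.ι) :=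
  isBlowUp_of_isPullback (isPullback_morphismRestrict b U) K hb

/-! ### Properness -/

section Affine

variable {A : Type u} [CommRing A] (I : Ideal A)

lemma algebraMap_zero_surjective :
    Function.Surjective (algebraMap A (Rees.deg (reesAlgebra I) 0)) := by
  intro x
  refine ⟨((x : reesAlgebra I) : Polynomial A).coeff 0, ?_⟩
  apply Subtype.ext
  rw [SetLike.GradeZero.coe_algebraMap, algebraMap_eq_mono]
  exact (eq_mono_of_mem I x.2).symm

instance : IsScalarTower A (Rees.deg (reesAlgebra I) 0) (reesAlgebra I) :=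
  IsScalarTower.of_algebraMap_eq (R := A) (S := Rees.deg (reesAlgebra I) 0)
    (A := reesAlgebra I) fun _ => rfl

theorem isProper_p (hI : I.FG) : IsProper (BlowUpProj.p I) := by
  have h1 : Algebra.FiniteType A (reesAlgebra I) :=
    (Subalgebra.fg_iff_finiteType _).mp (reesAlgebra.fg hI)
  have h2 : Algebra.FiniteType (Rees.deg (reesAlgebra I) 0) (reesAlgebra I) :=
    Algebra.FiniteType.of_restrictScalars_finiteType A _ _
  have h3 : IsClosedImmersion (Spec.map (CommRingCat.ofHom (R := A)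
      (S := Rees.deg (reesAlgebra I) 0) (algebraMap A (Rees.deg (reesAlgebra I) 0)))) := by
    apply IsClosedImmersion.spec_of_surjective
    exact algebraMap_zero_surjective I
  rw [BlowUpProj.p]
  infer_instance

end Affine

/-- A blow-up of an affine scheme in a finite type ideal is proper. -/
theorem isProper_of_isBlowUp_of_isAffine {V X' : Scheme.{u}} [IsAffine V] (K : V.IdealSheafData)
    (hK : (K.ideal ⟨⊤, isAffineOpen_top V⟩).FG) (b : X' ⟶ V) (hb : BlowUp.IsBlowUp b K) :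
    IsProper b := by
  set J : Ideal Γ(V, ⊤) := K.ideal ⟨⊤, isAffineOpen_top V⟩ with hJ
  have hKeq : K = (BlowUpProj.idealSheaf J).comap V.isoSpec.hom := by
    apply Scheme.IdealSheafData.ext_of_isAffine
    rw [BlowUpProj.ideal_comap_top]
    have h1 : BlowUpProj.toΓ V.isoSpec.hom = RingHom.id _ := by
      have : CommRingCat.ofHom (BlowUpProj.toΓ V.isoSpec.hom) = 𝟙 _ := by
        rw [BlowUpProj.ofHom_toΓ]
        have h2 : V.isoSpec.hom.appTop = (Scheme.ΓSpecIso Γ(V, ⊤)).hom := Scheme.toSpecΓ_appTop V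
        rw [h2, Iso.inv_hom_id]
      exact congrArg CommRingCat.Hom.hom this
    rw [h1, Ideal.map_id]
  have hb₀ : BlowUp.IsBlowUp (BlowUpProj.p J ≫ V.isoSpec.inv) K := by
    rw [hKeq]
    exact isBlowUp_comp_iso V.isoSpec _ _ BlowUpProj.isBlowUp
  obtain ⟨θ, hθ⟩ := exists_iso_of_isBlowUp K b hb _ hb₀
  have : IsProper (BlowUpProj.p J) := isProper_p J hK
  rw [← hθ]
  infer_instance

/-- A blow-up in a locally finitely generated ideal is proper. -/
theorem isProper_of_isBlowUp_of_locally_fg {X X' : Scheme.{u}} (K : X.IdealSheafData)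
    (hK : ∀ x : X, ∃ U : X.affineOpens, x ∈ U.1 ∧ (K.ideal U).FG) (b : X' ⟶ X)
    (hb : BlowUp.IsBlowUp b K) : IsProper b := by
  choose U hxU hU using hK
  have hcov : ⨆ x : X, (U x).1 = ⊤ :=
    eq_top_iff.mpr fun x _ => Opens.mem_iSup.mpr ⟨x, hxU x⟩
  refine (IsZariskiLocalAtTarget.iff_of_iSup_eq_top (P := @IsProper)
    (fun x : X => (U x).1) hcov).mpr fun x => ?_
  have : IsAffine ((U x).1 : Scheme.{u}) := (U x).2
  refine isProper_of_isBlowUp_of_isAffine (K.comap (U x).1.ι) ?_ _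
    (isBlowUp_morphismRestrict K b hb (U x).1)
  rw [Groth.Agent.Lib.Helper18.ideal_comap_ι_top]
  exact (hU x).map _

/-- A blow-up in a finite type ideal is proper. -/
theorem isProper_of_isBlowUp {X X' : Scheme.{u}} (K : X.IdealSheafData)
    (hK : BlowUp.IsFiniteTypeIdeal K) (b : X' ⟶ X) (hb : BlowUp.IsBlowUp b K) : IsProper b := by
  refine isProper_of_isBlowUp_of_locally_fg K (fun x => ?_) b hb
  have hx : x ∈ ⨆ U : X.affineOpens, (U : X.Opens) := iSup_affineOpens_eq_top X ▸ trivial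
  obtain ⟨U, hU⟩ := Opens.mem_iSup.mp hx
  exact ⟨U, hU, hK U⟩

/-- The sum of two pulled back effective Cartier ideals is locally finitely generated. -/
theorem exists_fg_comap_sup_comap {X T W : Scheme.{u}} (I : X.IdealSheafData)
    (J : T.IdealSheafData) (hI : BlowUp.IsEffCartierIdeal I) (hJ : BlowUp.IsEffCartierIdeal J)
    (h₁ : W ⟶ X) (h₂ : W ⟶ T) (y : W) :
    ∃ U : W.affineOpens, y ∈ U.1 ∧ ((I.comap h₁ ⊔ J.comap h₂).ideal U).FG := by
  obtain ⟨V₁, hy₁, f₁, -, hV₁⟩ := hI (h₁ y)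
  obtain ⟨V₂, hy₂, f₂, -, hV₂⟩ := hJ (h₂ y)
  obtain ⟨U, hU, hyU, hUW⟩ := TopologicalSpace.Opens.isBasis_iff_nbhd.mp W.isBasis_affineOpens
    (show y ∈ h₁ ⁻¹ᵁ V₁.1 ⊓ h₂ ⁻¹ᵁ V₂.1 from ⟨hy₁, hy₂⟩)
  refine ⟨⟨U, hU⟩, hyU, ?_⟩
  rw [Scheme.IdealSheafData.ideal_sup, Pi.sup_apply,
    Groth.Agent.Lib.Helper18.ideal_comap_of_le h₁ I ⟨U, hU⟩ V₁ (hUW.trans inf_le_left),
    Groth.Agent.Lib.Helper18.ideal_comap_of_le h₂ J ⟨U, hU⟩ V₂ (hUW.trans inf_le_right),
    hV₁, hV₂, Ideal.map_span, Ideal.map_span, Set.image_singleton, Set.image_singleton]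
  exact Submodule.FG.sup (Submodule.fg_span_singleton _) (Submodule.fg_span_singleton _)

end Groth.Agent.Lib.Helper93.BlowUpProper
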