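import Groth.Prelude.Def_Coh
import Groth.Prelude.Def_CohB1
import Mathlib.AlgebraicGeometry.ProjectiveSpectrum.Proper
import Mathlib.AlgebraicGeometry.Morphisms.ClosedImmersion
import Mathlib.AlgebraicGeometry.Morphisms.Separated
import Mathlib.AlgebraicGeometry.Morphisms.Affine
import Mathlib.RingTheory.MvPolynomial.Ideal

/-!
# The standard affine cover of projective space and of its closed subschemes (helper93)

* `irrelevant_le_span`: the irrelevant ideal of `R[T_0..T_n]` is generated by the variables
  (same argument as helper17's `PnIrrelevant.irrelevant_le_span`, restated here to keep the import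
  closure light).
* `iSup_basicOpen_X`: the `D_+(T_i)` cover `P^n_R`.
* `exists_affine_cover_of_isClosedImmersion`: a closed subscheme `X` of `P^n_R` is covered by
  `n + 1` affine opens, and intersections of affine opens of `X` are affine.
-/

set_option autoImplicit false
universe u
open AlgebraicGeometry CategoryTheory CategoryTheory.Limits

namespace Groth.Agent.Lib.Helper93.PnCover

variable (n : ℕ) (R : Type u) [CommRing R]

theorem X_mem (i : Fin (n + 1)) :
    (MvPolynomial.X i : MvPolynomial (Fin (n + 1)) R) ∈ CohB1.polyGrading n R 1 :=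
  MvPolynomial.isHomogeneous_X _ _

open Classical in
theorem irrelevant_le_span :
    (HomogeneousIdeal.irrelevant (CohB1.polyGrading n R)).toIdeal ≤
      Ideal.span (Set.range (MvPolynomial.X : Fin (n + 1) → MvPolynomial (Fin (n + 1)) R)) := by
  intro p hp
  rw [HomogeneousIdeal.mem_iff, HomogeneousIdeal.mem_irrelevant_iff] at hp
  have hr : Set.range (MvPolynomial.X : Fin (n + 1) → MvPolynomial (Fin (n + 1)) R) =
      (MvPolynomial.X : Fin (n + 1) → MvPolynomial (Fin (n + 1)) R) '' Set.univ := by
    rw [Set.image_univ]
  rw [hr, MvPolynomial.mem_ideal_span_X_image]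
  intro m hm
  by_contra h
  push Not at h
  have hm0 : m = 0 := by
    ext i
    simpa using h i (Set.mem_univ i)
  subst hm0
  have h1 : GradedRing.proj (CohB1.polyGrading n R) 0 p =
      MvPolynomial.homogeneousComponent 0 p :=
    MvPolynomial.decomposition.decompose'_apply p 0
  rw [h1, MvPolynomial.homogeneousComponent_zero] at hp
  rw [MvPolynomial.mem_support_iff] at hm
  apply hm
  simpa using congrArg (MvPolynomial.coeff 0) hp

/-- The standard open `D_+(T_i)` of projective space. -/
noncomputable def D (i : Fin (n + 1)) : (CohB1.ProjSpace n R).Opens :=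
  Proj.basicOpen (CohB1.polyGrading n R) (MvPolynomial.X i : MvPolynomial (Fin (n + 1)) R)

theorem iSup_D : ⨆ i : Fin (n + 1), D n R i = ⊤ :=
  Proj.iSup_basicOpen_eq_top _ _ (irrelevant_le_span n R)

theorem isAffineOpen_D (i : Fin (n + 1)) : IsAffineOpen (D n R i) :=
  Proj.isAffineOpen_basicOpen _ _ (X_mem n R i) one_pos

instance : Scheme.IsSeparated (CohB1.ProjSpace n R) := by
  unfold CohB1.ProjSpace
  infer_instance

variable {n R}

/-- A scheme admitting a closed immersion into projective space is separated. -/
theorem isSeparated_of_isClosedImmersion {X : Scheme.{u}} (ι : X ⟶ CohB1.ProjSpace n R)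
    [IsClosedImmersion ι] : X.IsSeparated := by
  constructor
  have h : terminal.from X = ι ≫ terminal.from (CohB1.ProjSpace n R) := Subsingleton.elim _ _
  rw [h]
  infer_instance

theorem isAffineOpen_inf_of_isClosedImmersion {X : Scheme.{u}} (ι : X ⟶ CohB1.ProjSpace n R)
    [IsClosedImmersion ι] (V W : X.Opens) (hV : IsAffineOpen V) (hW : IsAffineOpen W) :
    IsAffineOpen (V ⊓ W) := by
  have := isSeparated_of_isClosedImmersion ι
  exact hV.inf hW

/-- The standard cover of a closed subscheme of `P^n_R` by `n + 1` affine opens. -/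
theorem exists_affine_cover_of_isClosedImmersion {X : Scheme.{u}} (ι : X ⟶ CohB1.ProjSpace n R)
    [IsClosedImmersion ι] :
    ∃ U : Fin (n + 1) → X.Opens, (∀ i, IsAffineOpen (U i)) ∧ ⨆ i, U i = ⊤ := by
  refine ⟨fun i => ι ⁻¹ᵁ (D n R i), fun i => (isAffineOpen_D n R i).preimage ι, ?_⟩
  rw [← Scheme.Hom.preimage_iSup, iSup_D]
  rfl

end Groth.Agent.Lib.Helper93.PnCover
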