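import Groth.Agent.Lib.Helper93.BlowUpProj
import Groth.Agent.H8.BlowUpBaseChange

/-!
# Blow-ups: transport along isomorphisms, uniqueness, affine existence, locality on the base
(helper93)
-/

set_option autoImplicit false
universe u

open CategoryTheory CategoryTheory.Limits AlgebraicGeometry TopologicalSpace

namespace Groth.Agent.Lib.Helper93.BlowUpLocal

/-- Transport of a blow-up along an isomorphism of the base. -/
theorem isBlowUp_comp_iso {V V' X' : Scheme.{u}} (e : V ≅ V') (K' : V'.IdealSheafData)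
    (b' : X' ⟶ V') (hb' : BlowUp.IsBlowUp b' K') :
    BlowUp.IsBlowUp (b' ≫ e.inv) (K'.comap e.hom) := by
  constructor
  · rw [← Scheme.IdealSheafData.comap_comp, Category.assoc, Iso.inv_hom_id, Category.comp_id]
    exact hb'.1
  · intro Y g hg
    rw [← Scheme.IdealSheafData.comap_comp] at hg
    obtain ⟨h, hh, huniq⟩ := hb'.2 Y (g ≫ e.hom) hg
    refine ⟨h, ?_, ?_⟩
    · change h ≫ b' ≫ e.inv = g
      rw [← Category.assoc, hh, Category.assoc, Iso.hom_inv_id, Category.comp_id]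
    · intro h' hh'
      apply huniq
      change h' ≫ b' ≫ e.inv = g at hh'
      rw [← hh', Category.assoc, Category.assoc, Iso.inv_hom_id, Category.comp_id]

/-- Blow-ups of affine schemes exist. -/
theorem exists_isBlowUp_of_isAffine {V : Scheme.{u}} [IsAffine V] (K : V.IdealSheafData) :
    ∃ (X' : Scheme.{u}) (b : X' ⟶ V), BlowUp.IsBlowUp b K := by
  set J : Ideal Γ(V, ⊤) := K.ideal ⟨⊤, isAffineOpen_top V⟩ with hJ
  have hK : K = (BlowUpProj.idealSheaf J).comap V.isoSpec.hom := by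
    apply Scheme.IdealSheafData.ext_of_isAffine
    rw [BlowUpProj.ideal_comap_top]
    have h1 : BlowUpProj.toΓ V.isoSpec.hom = RingHom.id _ := by
      have : CommRingCat.ofHom (BlowUpProj.toΓ V.isoSpec.hom) = 𝟙 _ := by
        rw [BlowUpProj.ofHom_toΓ]
        have h2 : V.isoSpec.hom.appTop = (Scheme.ΓSpecIso Γ(V, ⊤)).hom := Scheme.toSpecΓ_appTop V
        rw [h2, Iso.inv_hom_id]
      exact congrArg CommRingCat.Hom.hom this
    rw [h1, Ideal.map_id]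
  refine ⟨BlowUpProj.P J, BlowUpProj.p J ≫ V.isoSpec.inv, ?_⟩
  rw [hK]
  exact isBlowUp_comp_iso V.isoSpec _ _ BlowUpProj.isBlowUp

/-- Two blow-ups of the same ideal sheaf are uniquely isomorphic over the base. -/
theorem exists_iso_of_isBlowUp {X X₁ X₂ : Scheme.{u}} (K : X.IdealSheafData)
    (b₁ : X₁ ⟶ X) (h₁ : BlowUp.IsBlowUp b₁ K) (b₂ : X₂ ⟶ X) (h₂ : BlowUp.IsBlowUp b₂ K) :
    ∃ θ : X₁ ≅ X₂, θ.hom ≫ b₂ = b₁ := by
  obtain ⟨f, hf, -⟩ := h₂.2 X₁ b₁ h₁.1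
  obtain ⟨g, hg, -⟩ := h₁.2 X₂ b₂ h₂.1
  obtain ⟨_, _, u₁⟩ := h₁.2 X₁ b₁ h₁.1
  obtain ⟨_, _, u₂⟩ := h₂.2 X₂ b₂ h₂.1
  refine ⟨⟨f, g, ?_, ?_⟩, hf⟩
  · rw [u₁ (f ≫ g) (by change (f ≫ g) ≫ b₁ = b₁; rw [Category.assoc, hg, hf]),
      u₁ (𝟙 _) (Category.id_comp _)]
  · rw [u₂ (g ≫ f) (by change (g ≫ f) ≫ b₂ = b₂; rw [Category.assoc, hf, hg]),
      u₂ (𝟙 _) (Category.id_comp _)]


/-! ### Locality on the base -/

section Local

variable {X X' : Scheme.{u}} (K : X.IdealSheafData) (b : X' ⟶ X)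
  {σ : Type u} (U : σ → X.Opens) (hU : ⨆ i, U i = ⊤)
  (X'i : σ → Scheme.{u}) (bi : ∀ i, X'i i ⟶ (U i : Scheme.{u})) (ιi : ∀ i, X'i i ⟶ X')
  (hpb : ∀ i, IsPullback (ιi i) (bi i) b (U i).ι)
  (hbi : ∀ i, BlowUp.IsBlowUp (bi i) (K.comap (U i).ι))

include hpb in
lemma isOpenImmersion_ιi (i : σ) : IsOpenImmersion (ιi i) :=
  MorphismProperty.of_isPullback (P := @IsOpenImmersion) (hpb i).flip inferInstance

include hU hpb in
lemma iSup_opensRange_ιi :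
    haveI := isOpenImmersion_ιi b U X'i bi ιi hpb
    ⨆ i, (ιi i).opensRange = ⊤ := by
  have := isOpenImmersion_ιi b U X'i bi ιi hpb
  rw [eq_top_iff]
  intro x' _
  have hx : b x' ∈ ⨆ i, U i := hU ▸ trivial
  obtain ⟨i, hi⟩ := Opens.mem_iSup.mp hx
  obtain ⟨a, ha, -⟩ := Scheme.exists_preimage_of_isPullback (hpb i) x' ⟨b x', hi⟩ rfl
  exact Opens.mem_iSup.mpr ⟨i, a, ha⟩

include hU hpb hbi in
lemma isEffCartierIdeal_comap_of_cover : BlowUp.IsEffCartierIdeal (K.comap b) := by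
  have := isOpenImmersion_ιi b U X'i bi ιi hpb
  refine Groth.Agent.Lib.Helper93.IdealClopenCover.isEffCartierIdeal_of_comap ιi
    (iSup_opensRange_ιi b U hU X'i bi ιi hpb) _ fun i => ?_
  rw [← Scheme.IdealSheafData.comap_comp, (hpb i).w, Scheme.IdealSheafData.comap_comp]
  exact (hbi i).1

include hU hpb hbi in
lemma hom_ext_of_cover {Y : Scheme.{u}} (g : Y ⟶ X) (hg : BlowUp.IsEffCartierIdeal (K.comap g))
    (h h' : Y ⟶ X') (e : h ≫ b = g) (e' : h' ≫ b = g) : h = h' := by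
  have hcov : ⨆ i, g ⁻¹ᵁ U i = ⊤ := by
    rw [eq_top_iff]
    intro y _
    have hy : g y ∈ ⨆ i, U i := hU ▸ trivial
    obtain ⟨i, hi⟩ := Opens.mem_iSup.mp hy
    exact Opens.mem_iSup.mpr ⟨i, hi⟩
  refine (Y.openCoverOfIsOpenCover (fun i => g ⁻¹ᵁ U i) hcov).hom_ext _ _ fun i => ?_
  change (g ⁻¹ᵁ U i).ι ≫ h = (g ⁻¹ᵁ U i).ι ≫ h'
  have w : ((g ⁻¹ᵁ U i).ι ≫ h) ≫ b = (g ∣_ U i) ≫ (U i).ι := by
    rw [Category.assoc, e, morphismRestrict_ι]
  have w' : ((g ⁻¹ᵁ U i).ι ≫ h') ≫ b = (g ∣_ U i) ≫ (U i).ι := by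
    rw [Category.assoc, e', morphismRestrict_ι]
  have hgi : BlowUp.IsEffCartierIdeal ((K.comap (U i).ι).comap (g ∣_ U i)) := by
    rw [← Scheme.IdealSheafData.comap_comp, morphismRestrict_ι,
      Scheme.IdealSheafData.comap_comp]
    exact Groth.Agent.H8.EffCartier.isEffCartierIdeal_comap_of_flat _ _ hg
  obtain ⟨_, _, huniq⟩ := (hbi i).2 _ (g ∣_ U i) hgi
  have h1 := huniq ((hpb i).lift _ _ w) ((hpb i).lift_snd _ _ w)
  have h2 := huniq ((hpb i).lift _ _ w') ((hpb i).lift_snd _ _ w')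
  rw [← (hpb i).lift_fst _ _ w, ← (hpb i).lift_fst _ _ w', h1, h2]

include hU hpb hbi in
/-- Being a blow-up is local on the base. -/
theorem isBlowUp_of_cover : BlowUp.IsBlowUp b K := by
  refine ⟨isEffCartierIdeal_comap_of_cover K b U hU X'i bi ιi hpb hbi, fun Y g hg => ?_⟩
  have hcov : ⨆ i, g ⁻¹ᵁ U i = ⊤ := by
    rw [eq_top_iff]
    intro y _
    have hy : g y ∈ ⨆ i, U i := hU ▸ trivial
    obtain ⟨i, hi⟩ := Opens.mem_iSup.mp hy
    exact Opens.mem_iSup.mpr ⟨i, hi⟩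
  have hgi : ∀ i, BlowUp.IsEffCartierIdeal ((K.comap (U i).ι).comap (g ∣_ U i)) := by
    intro i
    rw [← Scheme.IdealSheafData.comap_comp, morphismRestrict_ι,
      Scheme.IdealSheafData.comap_comp]
    exact Groth.Agent.H8.EffCartier.isEffCartierIdeal_comap_of_flat _ _ hg
  have key : ∀ i, ∃ k : ((g ⁻¹ᵁ U i : Y.Opens) : Scheme.{u}) ⟶ X', k ≫ b = (g ⁻¹ᵁ U i).ι ≫ g := by
    intro i
    obtain ⟨hi, hhi, -⟩ := (hbi i).2 _ (g ∣_ U i) (hgi i)
    refine ⟨hi ≫ ιi i, ?_⟩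
    rw [Category.assoc, (hpb i).w, ← Category.assoc, hhi, morphismRestrict_ι]
  choose k hk using key
  let 𝒴 := Y.openCoverOfIsOpenCover (fun i => g ⁻¹ᵁ U i) hcov
  let k' : ∀ i : 𝒴.I₀, 𝒴.X i ⟶ X' := k
  have hk' : ∀ i : 𝒴.I₀, k' i ≫ b = 𝒴.f i ≫ g := hk
  have compat : ∀ i j : 𝒴.I₀, pullback.fst (𝒴.f i) (𝒴.f j) ≫ k' i =
      pullback.snd (𝒴.f i) (𝒴.f j) ≫ k' j := by
    intro i j
    refine hom_ext_of_cover K b U hU X'i bi ιi hpb hbi
      (pullback.fst (𝒴.f i) (𝒴.f j) ≫ 𝒴.f i ≫ g) ?_ _ _ ?_ ?_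
    · rw [← Category.assoc, Scheme.IdealSheafData.comap_comp]
      exact Groth.Agent.H8.EffCartier.isEffCartierIdeal_comap_of_flat _ _ hg
    · rw [Category.assoc, hk']
    · rw [Category.assoc, hk']
      exact (pullback.condition_assoc (f := 𝒴.f i) (g := 𝒴.f j) g).symm
  refine ⟨𝒴.glueMorphisms k' compat, ?_, ?_⟩
  · refine 𝒴.hom_ext _ _ fun i => ?_
    rw [Scheme.Cover.ι_glueMorphisms_assoc]
    exact hk' i
  · intro h' hh'
    refine hom_ext_of_cover K b U hU X'i bi ιi hpb hbi g hg _ _ hh' ?_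
    refine 𝒴.hom_ext _ _ fun i => ?_
    rw [Scheme.Cover.ι_glueMorphisms_assoc]
    exact hk' i

end Local

end Groth.Agent.Lib.Helper93.BlowUpLocal
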