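import Mathlib

/-!
# `ht (p/q) + ht q ≤ ht p` for primes `q ≤ p` — helper93
-/

set_option autoImplicit false
universe u

namespace Groth.Agent.Lib.Helper93.HeightQuot

open Order

/-- In a preorder, for `a ≤ b`: `height a + height_{Ici a} b ≤ height b`. -/
theorem height_add_height_Ici_le {α : Type*} [Preorder α] (a b : α) (hab : a ≤ b) :
    height a + height (⟨b, hab⟩ : Set.Ici a) ≤ height b := by
  have key : ∀ (m : ℕ) (c : α) (hc : a ≤ c), (m : ℕ∞) ≤ height (⟨c, hc⟩ : Set.Ici a) →
      height a + m ≤ height c := by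
    intro m
    induction m with
    | zero =>
      intro c hc _
      simpa using height_mono hc
    | succ m ih =>
      intro c hc hm
      obtain ⟨p, hlast, hlen⟩ := exists_series_of_le_height (⟨c, hc⟩ : Set.Ici a) (n := m + 1)
        (by exact_mod_cast hm)
      have hmlt : m < p.length + 1 := by omega
      let y : Set.Ici a := p ⟨m, hmlt⟩
      have hy : (m : ℕ∞) ≤ height y := by
        have := index_le_height p ⟨m, hmlt⟩
        simpa using this
      have hyc : y < ⟨c, hc⟩ := by
        rw [← hlast]
        apply p.strictMono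
        change (⟨m, hmlt⟩ : Fin (p.length + 1)) < Fin.last p.length
        rw [Fin.lt_def]
        simp only [Fin.val_last]
        omega
      have h1 := ih y.1 y.2 hy
      have h2 : height y.1 + 1 ≤ height c := height_add_one_le (show y.1 < c from hyc)
      calc height a + ((m + 1 : ℕ) : ℕ∞) = height a + m + 1 := by push_cast; rw [add_assoc]
        _ ≤ height y.1 + 1 := by gcongr
        _ ≤ height c := h2
  rcases eq_or_ne (height (⟨b, hab⟩ : Set.Ici a)) ⊤ with h | h
  · have : height b = ⊤ := by
      rw [ENat.eq_top_iff_forall_ge]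
      intro m
      exact le_trans le_add_self (key m b hab (h ▸ le_top))
    rw [this]
    exact le_top
  · obtain ⟨m, hm⟩ := ENat.ne_top_iff_exists.mp h
    rw [← hm]
    exact key m b hab hm.le

variable {R : Type u} [CommRing R]

/-- `ht (p/q) + ht q ≤ ht p` for primes `q ≤ p`. -/
theorem height_map_add_height_le (q p : Ideal R) [hq : q.IsPrime] [hp : p.IsPrime] (hqp : q ≤ p) :
    (p.map (Ideal.Quotient.mk q)).height + q.height ≤ p.height := by
  have hprime : (p.map (Ideal.Quotient.mk q)).IsPrime :=
    Ideal.map_isPrime_of_surjective Ideal.Quotient.mk_surjective (by rwa [Ideal.mk_ker])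
  have hcomap : (p.map (Ideal.Quotient.mk q)).comap (Ideal.Quotient.mk q) = p := by
    rw [Ideal.comap_map_of_surjective _ Ideal.Quotient.mk_surjective,
      ← RingHom.ker_eq_comap_bot, Ideal.mk_ker, sup_eq_left.2 hqp]
  let Q : PrimeSpectrum R := ⟨q, hq⟩
  let P : PrimeSpectrum R := ⟨p, hp⟩
  let P' : PrimeSpectrum (R ⧸ q) := ⟨p.map (Ideal.Quotient.mk q), hprime⟩
  have h1 : (p.map (Ideal.Quotient.mk q)).height = height P' := P'.height_eq_orderHeight
  have h2 : q.height = height Q := Q.height_eq_orderHeight
  have h3 : p.height = height P := P.height_eq_orderHeight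
  rw [h1, h2, h3, add_comm]
  let e := q.primeSpectrumQuotientOrderIsoZeroLocus
  have hz : PrimeSpectrum.zeroLocus (q : Set R) = Set.Ici Q := by
    ext x
    rw [PrimeSpectrum.mem_zeroLocus, Set.mem_Ici]
    rfl
  let e2 : PrimeSpectrum.zeroLocus (q : Set R) ≃o Set.Ici Q := OrderIso.setCongr _ _ hz
  have h4 : height P' = height (⟨P, hqp⟩ : Set.Ici Q) := by
    rw [← height_orderIso (e.trans e2) P']
    congr 1
    apply Subtype.ext
    apply PrimeSpectrum.ext
    exact hcomap
  rw [h4]
  exact height_add_height_Ici_le Q P hqp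

end Groth.Agent.Lib.Helper93.HeightQuot
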