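import Groth.Agent.Lib.Helper93.HeightQuot

/-!
# More on heights in quotients and chains — helper93
-/

set_option autoImplicit false
universe u

namespace Groth.Agent.Lib.Helper93.HeightQuot

open Order

variable {R : Type u} [CommRing R]

/-- `ht (Q/P)` is the order height of `Q` in `Ici P`. -/
theorem height_map_eq_height_Ici (P Q : PrimeSpectrum R) (hPQ : P ≤ Q) :
    (Q.asIdeal.map (Ideal.Quotient.mk P.asIdeal)).height = height (⟨Q, hPQ⟩ : Set.Ici P) := by
  have hqp : P.asIdeal ≤ Q.asIdeal := hPQ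
  have hprime : (Q.asIdeal.map (Ideal.Quotient.mk P.asIdeal)).IsPrime :=
    Ideal.map_isPrime_of_surjective Ideal.Quotient.mk_surjective (by rwa [Ideal.mk_ker])
  have hcomap : (Q.asIdeal.map (Ideal.Quotient.mk P.asIdeal)).comap (Ideal.Quotient.mk P.asIdeal) =
      Q.asIdeal := by
    rw [Ideal.comap_map_of_surjective _ Ideal.Quotient.mk_surjective,
      ← RingHom.ker_eq_comap_bot, Ideal.mk_ker, sup_eq_left.2 hqp]
  let Q' : PrimeSpectrum (R ⧸ P.asIdeal) := ⟨Q.asIdeal.map (Ideal.Quotient.mk P.asIdeal), hprime⟩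
  have h1 : (Q.asIdeal.map (Ideal.Quotient.mk P.asIdeal)).height = height Q' :=
    Q'.height_eq_orderHeight
  rw [h1]
  let e := P.asIdeal.primeSpectrumQuotientOrderIsoZeroLocus
  have hz : PrimeSpectrum.zeroLocus (P.asIdeal : Set R) = Set.Ici P := by
    ext x
    rw [PrimeSpectrum.mem_zeroLocus, Set.mem_Ici]
    rfl
  let e2 : PrimeSpectrum.zeroLocus (P.asIdeal : Set R) ≃o Set.Ici P := OrderIso.setCongr _ _ hz
  rw [← height_orderIso (e.trans e2) Q']
  congr 1
  apply Subtype.ext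
  apply PrimeSpectrum.ext
  exact hcomap

/-- In a partial order, an element `b` of `Ici a` of finite positive height `c` there has a lower
cover `b' ≥ a` whose height in `Ici a` is at most `c - 1`. -/
theorem exists_covBy_of_height_Ici {α : Type*} [PartialOrder α] (a b : α) (hab : a ≤ b) (c : ℕ)
    (hc : height (⟨b, hab⟩ : Set.Ici a) = ((c + 1 : ℕ) : ℕ∞)) :
    ∃ (b' : α) (hab' : a ≤ b'), b' ⋖ b ∧ height (⟨b', hab'⟩ : Set.Ici a) = (c : ℕ∞) := by
  obtain ⟨p, hlast, hlen⟩ := exists_series_of_height_eq_coe (⟨b, hab⟩ : Set.Ici a) hc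
  have hclt : c < p.length + 1 := by omega
  let y : Set.Ici a := p ⟨c, hclt⟩
  have hy : (c : ℕ∞) ≤ height y := by
    have := index_le_height p ⟨c, hclt⟩
    simpa using this
  have hyb : y < ⟨b, hab⟩ := by
    rw [← hlast]
    apply p.strictMono
    change (⟨c, hclt⟩ : Fin (p.length + 1)) < Fin.last p.length
    rw [Fin.lt_def]
    simp only [Fin.val_last]
    omega
  have hy2 : height y + 1 ≤ ((c + 1 : ℕ) : ℕ∞) := by
    rw [← hc]
    exact height_add_one_le hyb
  have hyc : height y = (c : ℕ∞) := by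
    refine le_antisymm ?_ hy
    have hfin : height y ≠ ⊤ := by
      intro h
      rw [h, top_add] at hy2
      exact (ENat.natCast_ne_top (c + 1)) (top_le_iff.mp hy2)
    obtain ⟨k, hk⟩ := ENat.ne_top_iff_exists.mp hfin
    rw [← hk] at hy2 ⊢
    have : k + 1 ≤ c + 1 := by exact_mod_cast hy2
    exact_mod_cast (by omega : k ≤ c)
  refine ⟨y.1, y.2, ⟨hyb, ?_⟩, hyc⟩
  intro z hyz hzb
  have hz : a ≤ z := le_trans y.2 hyz.le
  have h1 : height y + 1 ≤ height (⟨z, hz⟩ : Set.Ici a) :=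
    height_add_one_le (show y < ⟨z, hz⟩ from hyz)
  have h2 : height (⟨z, hz⟩ : Set.Ici a) + 1 ≤ height (⟨b, hab⟩ : Set.Ici a) :=
    height_add_one_le (show (⟨z, hz⟩ : Set.Ici a) < ⟨b, hab⟩ from hzb)
  rw [hc] at h2
  rw [hyc] at h1
  have h3 : ((c : ℕ∞) + 1) + 1 ≤ ((c + 1 : ℕ) : ℕ∞) := le_trans (by gcongr) h2
  have : c + 1 + 1 ≤ c + 1 := by exact_mod_cast h3
  omega

/-- If `p ⋖ q` then the height of `q` in `Ici p` is at most one. -/
theorem height_Ici_le_one_of_covBy {α : Type*} [PartialOrder α] (a b : α) (hab : a ⋖ b) :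
    height (⟨b, hab.le⟩ : Set.Ici a) ≤ 1 := by
  have h1 : (1 : ℕ∞) = ((1 : ℕ) : ℕ∞) := rfl
  rw [h1, height_le_coe_iff]
  intro y hy
  have hya : y.1 = a := by
    by_contra hne
    exact hab.2 (lt_of_le_of_ne y.2 (Ne.symm hne)) hy
  have hmin : IsMin y := by
    intro z _
    change y.1 ≤ z.1
    rw [hya]
    exact z.2
  rw [height_eq_zero.mpr hmin]
  exact_mod_cast Nat.zero_lt_one

end Groth.Agent.Lib.Helper93.HeightQuot
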