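import Groth.Agent.Lib.Helper79.AdjDepthQuot

/-!
# Adjusted depth along a surjective ring map — helper93

Generalization of helper79's `AdjDepthQuot` (which treats `R → R ⧸ c`) to an arbitrary algebra
`R → R'` with surjective structure map.
-/

set_option autoImplicit false
universe u

namespace Groth.Agent.Lib.Helper93.AdjDepthSurj

open LocCoh IsLocalRing

section Surj

variable {R : Type u} [CommRing R] {R' : Type u} [CommRing R'] [Algebra R R']
  (hsurj : Function.Surjective (algebraMap R R')) (M : Type u) [AddCommGroup M] [Module R M]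
  [Module R' M] [IsScalarTower R R' M]

/-- the canonical `R`-linear map `M → M_Q`, `Q` a prime of `R'`. -/
noncomputable def toLoc (Q : Ideal R') [Q.IsPrime] :
    M →ₗ[R] LocalizedModule Q.primeCompl M :=
  (LocalizedModule.mkLinearMap Q.primeCompl M).restrictScalars R

omit [IsScalarTower R R' M] in
theorem smul_eq_map_smul [IsScalarTower R R' M] (Q : Ideal R') [Q.IsPrime] (r : R)
    (y : LocalizedModule Q.primeCompl M) : r • y = (algebraMap R R' r) • y := by
  rw [algebraMap_smul]

include hsurj in
theorem isLocalizedModule_toLoc (Q : Ideal R') [Q.IsPrime] :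
    IsLocalizedModule (Q.comap (algebraMap R R')).primeCompl (toLoc M Q) where
  map_units := by
    intro x
    rw [Module.End.isUnit_iff]
    have hx : algebraMap R R' x.1 ∈ Q.primeCompl := x.2
    have h1 := IsLocalizedModule.map_units (LocalizedModule.mkLinearMap Q.primeCompl M)
      ⟨_, hx⟩
    rw [Module.End.isUnit_iff] at h1
    convert h1 using 1
    ext y
    simp only [Module.algebraMap_end_apply]
    exact smul_eq_map_smul M Q x.1 y
  surj := by
    intro y
    induction y using LocalizedModule.induction_on with
    | h m t =>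
      obtain ⟨s, hs⟩ := hsurj t.1
      have hsp : s ∈ (Q.comap (algebraMap R R')).primeCompl := by
        change algebraMap R R' s ∉ Q
        rw [hs]
        exact t.2
      refine ⟨(m, ⟨s, hsp⟩), ?_⟩
      change s • LocalizedModule.mk m t = LocalizedModule.mk m 1
      rw [smul_eq_map_smul, hs]
      change t • LocalizedModule.mk m t = LocalizedModule.mk m 1
      rw [Submonoid.smul_def, LocalizedModule.smul'_mk, LocalizedModule.mk_eq]
      exact ⟨1, by simp [Submonoid.smul_def]⟩
  exists_of_eq := by
    intro m m' h
    have h' : LocalizedModule.mkLinearMap Q.primeCompl M m =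
        LocalizedModule.mkLinearMap Q.primeCompl M m' := h
    obtain ⟨t, ht⟩ := IsLocalizedModule.exists_of_eq (S := Q.primeCompl) h'
    obtain ⟨s, hs⟩ := hsurj t.1
    have hsp : s ∈ (Q.comap (algebraMap R R')).primeCompl := by
      change algebraMap R R' s ∉ Q
      rw [hs]
      exact t.2
    refine ⟨⟨s, hsp⟩, ?_⟩
    change s • m = s • m'
    rw [← algebraMap_smul R' s m, ← algebraMap_smul R' s m', hs]
    exact ht

end Surj

section Main

variable {R : Type u} [CommRing R] [IsNoetherianRing R] {R' : Type u} [CommRing R'] [Algebra R R']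
  (hsurj : Function.Surjective (algebraMap R R')) (M : Type u)
  [AddCommGroup M] [Module R M] [Module R' M] [IsScalarTower R R' M] [Module.Finite R M]

include hsurj in
theorem depth_eq (Q : Ideal R') [Q.IsPrime] :
    LocCoh.depth (Localization.AtPrime Q) (LocalizedModule Q.primeCompl M) =
      LocCoh.depth (Localization.AtPrime (Q.comap (algebraMap R R')))
        (LocalizedModule (Q.comap (algebraMap R R')).primeCompl M) := by
  have := isLocalizedModule_toLoc hsurj M Q
  refine Groth.Agent.Lib.Helper79.AdjDepthQuot.depth_eq_of_surjective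
    (Q.comap (algebraMap R R')) (Localization.AtPrime Q)
    (Localization.localRingHom (Q.comap (algebraMap R R')) Q (algebraMap R R') rfl) ?_
    (RingHom.surjective_localRingHom_of_surjective (algebraMap R R') hsurj Q) (toLoc M Q)
  intro a
  rw [Localization.localRingHom_to_map]
  rfl

omit [IsNoetherianRing R] in
include hsurj in
theorem height_eq (a : Ideal R) (Q : Ideal R') [Q.IsPrime] :
    ((a ⊔ Q.comap (algebraMap R R')).map
        (Ideal.Quotient.mk (Q.comap (algebraMap R R')))).height =
      ((a.map (algebraMap R R') ⊔ Q).map (Ideal.Quotient.mk Q)).height := by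
  set p := Q.comap (algebraMap R R') with hp
  let eh : (R ⧸ p) →+* (R' ⧸ Q) := Ideal.quotientMap Q (algebraMap R R') le_rfl
  have hbij : Function.Bijective eh :=
    ⟨Ideal.quotientMap_injective, Ideal.quotientMap_surjective hsurj⟩
  let e : (R ⧸ p) ≃+* (R' ⧸ Q) := RingEquiv.ofBijective eh hbij
  have h1 := RingEquiv.height_map e ((a ⊔ p).map (Ideal.Quotient.mk p))
  rw [← h1]
  congr 1
  change Ideal.map eh (Ideal.map (Ideal.Quotient.mk p) (a ⊔ p)) = _
  rw [Ideal.map_map]
  have h2 : eh.comp (Ideal.Quotient.mk p) = (Ideal.Quotient.mk Q).comp (algebraMap R R') :=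
    RingHom.ext fun x => rfl
  rw [h2, ← Ideal.map_map, Ideal.map_sup, hp,
    Ideal.map_comap_of_surjective _ hsurj]

include hsurj in
theorem adjDepth_eq (a : Ideal R) (q : PrimeSpectrum R') :
    adjDepth a M ⟨q.asIdeal.comap (algebraMap R R'), inferInstance⟩ =
      adjDepth (a.map (algebraMap R R')) M q := by
  unfold adjDepth
  rw [depth_eq hsurj M q.asIdeal, height_eq hsurj a q.asIdeal]

omit [IsNoetherianRing R] [Module.Finite R M] in
theorem adjDepth_eq_top (a : Ideal R) (p : PrimeSpectrum R)
    (hc : ¬ RingHom.ker (algebraMap R R') ≤ p.asIdeal) :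
    adjDepth a M p = ⊤ := by
  unfold adjDepth
  have : Subsingleton (LocalizedModule p.asIdeal.primeCompl M) := by
    rw [LocalizedModule.subsingleton_iff]
    intro m
    obtain ⟨s, hsc, hsp⟩ := SetLike.not_le_iff_exists.1 hc
    refine ⟨s, hsp, ?_⟩
    rw [← algebraMap_smul R' s m, (RingHom.mem_ker).mp hsc, zero_smul]
  rw [Groth.Agent.Lib.Helper29.depth_eq_top_of_subsingleton, top_add]

include hsurj in
theorem minAdjDepth_eq (a b : Ideal R) :
    minAdjDepth a b M =
      minAdjDepth (a.map (algebraMap R R')) (b.map (algebraMap R R')) M := by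
  apply le_antisymm
  · refine le_iInf₂ fun q hq => ?_
    rw [← adjDepth_eq hsurj M a q]
    refine iInf₂_le (⟨q.asIdeal.comap (algebraMap R R'), inferInstance⟩ :
      PrimeSpectrum R) ?_
    intro hb
    exact hq (Ideal.map_le_iff_le_comap.2 hb)
  · refine le_iInf₂ fun p hp => ?_
    by_cases hc : RingHom.ker (algebraMap R R') ≤ p.asIdeal
    · have hprime : (p.asIdeal.map (algebraMap R R')).IsPrime :=
        Ideal.map_isPrime_of_surjective hsurj hc
      have hcomap : (p.asIdeal.map (algebraMap R R')).comap (algebraMap R R') =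
          p.asIdeal := by
        rw [Ideal.comap_map_of_surjective _ hsurj,
          ← RingHom.ker_eq_comap_bot, sup_eq_left.2 hc]
      have h1 := adjDepth_eq hsurj M a ⟨p.asIdeal.map (algebraMap R R'), hprime⟩
      have h2 : (⟨(p.asIdeal.map (algebraMap R R')).comap (algebraMap R R'),
          inferInstance⟩ : PrimeSpectrum R) = p := PrimeSpectrum.ext hcomap
      rw [h2] at h1
      rw [h1]
      refine iInf₂_le (⟨p.asIdeal.map (algebraMap R R'), hprime⟩ :
        PrimeSpectrum R') ?_
      intro hb
      apply hp
      have h3 := Ideal.comap_mono (f := algebraMap R R') hb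
      rw [hcomap] at h3
      exact Ideal.le_comap_map.trans h3
    · rw [adjDepth_eq_top M a p hc]
      exact le_top

end Main

end Groth.Agent.Lib.Helper93.AdjDepthSurj
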