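import Groth.Agent.Lib.Helper93.FaltAnn1
import Groth.Agent.S11682
import Groth.Agent.S15426
import Groth.Agent.Lib.Helper60.LocalCohLocalize

/-!
# Faltings' annihilator theorem over a regular ring — helper93

Noetherian induction on `a`: for `i < λ_a^b(M)` some power of `b` kills `H^i_a(M)`.
-/

set_option autoImplicit false
universe u

namespace Groth.Agent.Lib.Helper93.FaltAnn

open CategoryTheory LocCoh

theorem minAdjDepth_mono_left {S : Type u} [CommRing S] {a a' : Ideal S} (h : a ≤ a') (b : Ideal S)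
    (M : Type u) [AddCommGroup M] [Module S M] :
    LocCoh.minAdjDepth a b M ≤ LocCoh.minAdjDepth a' b M := by
  unfold LocCoh.minAdjDepth LocCoh.adjDepth
  exact iInf₂_mono fun q _ => add_le_add_right
    (Ideal.height_mono (Ideal.map_mono (sup_le_sup_right h _))) _

theorem eq_zero_of_top {S : Type u} [CommRing S] (i : ℕ) (M : Type u) [AddCommGroup M]
    [Module S M] (y : LocCoh.H (⊤ : Ideal S) i M) : y = 0 := by
  obtain ⟨n, hn⟩ := Groth.Agent.S15426.result S ⊤ i M y
  have h1 : (1 : S) ∈ (⊤ : Ideal S) ^ n := by rw [Ideal.top_pow]; trivial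
  simpa using hn 1 h1

theorem exists_pow_smul_eq_zero (S : Type u) [CommRing S] [IsRegularRing S] (a : Ideal S) :
    ∀ (b : Ideal S) (M : Type u) [AddCommGroup M] [Module S M] [Module.Finite S M] (i : ℕ),
      (i : ℕ∞) < LocCoh.minAdjDepth a b M →
      ∃ n : ℕ, ∀ r ∈ b ^ n, ∀ y : LocCoh.H a i M, r • y = 0 := by
  classical
  refine IsNoetherian.induction (P := fun a : Ideal S => ∀ (b : Ideal S) (M : Type u)
    [AddCommGroup M] [Module S M] [Module.Finite S M] (i : ℕ),
      (i : ℕ∞) < LocCoh.minAdjDepth a b M →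
      ∃ n : ℕ, ∀ r ∈ b ^ n, ∀ y : LocCoh.H a i M, r • y = 0) ?_ a
  intro (a : Ideal S) IH b M _ _ _ i hi
  by_cases ha : a = ⊤
  · subst ha
    exact ⟨0, fun r _ y => by rw [eq_zero_of_top i M y, smul_zero]⟩
  -- minimal primes of minimal height
  have hfin := Ideal.finite_minimalPrimes_of_isNoetherianRing S a
  obtain ⟨p0, hp0, hp0h⟩ : ∃ p ∈ a.minimalPrimes, p.height = a.height := by
    have : Nonempty a.minimalPrimes := Ideal.nonempty_minimalPrimes ha
    obtain ⟨⟨p, hp⟩, hpe⟩ := ENat.exists_eq_iInf (fun p : a.minimalPrimes => (p : Ideal S).height)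
    refine ⟨p, hp, ?_⟩
    rw [a.height_eq_inf_minimalPrimes, iInf_subtype']
    exact hpe
  let Ph : Set (Ideal S) := {p | p ∈ a.minimalPrimes ∧ p.height = a.height}
  have hPhfin : Ph.Finite := hfin.subset fun _ h => h.1
  set J := Module.annihilator S (LocCoh.H a i M) with hJ
  -- (L')
  have hL : ∀ q : Ideal S, q.IsPrime → J ≤ q → (∃ p ∈ Ph, q ≤ p) → b ≤ q := by
    intro q hq hJq ⟨p, hp, hqp⟩
    by_contra hbq
    obtain ⟨s, hs, hkill⟩ := exists_notMem_smul_eq_zero S a b M i hi p hp.1 hp.2 ⟨q, hq⟩ hqp hbq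
    exact hs (hJq (Module.mem_annihilator.mpr hkill))
  have hJfin := Ideal.finite_minimalPrimes_of_isNoetherianRing S J
  let Bd : Set (Ideal S) := {q | q ∈ J.minimalPrimes ∧ ¬ b ≤ q}
  have hBdfin : Bd.Finite := hJfin.subset fun _ h => h.1
  let B : Ideal S := hBdfin.toFinset.inf id
  have havoid : ¬ ((B : Set S) ⊆ ⋃ p ∈ hPhfin.toFinset, (p : Set S)) := by
    refine (Ideal.subset_union_prime ⊥ ⊥ ?_).not.mpr ?_
    · rintro p hp - -
      rw [Set.Finite.mem_toFinset] at hp
      exact hp.1.1.1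
    · push Not
      intro p hp hBp
      rw [Set.Finite.mem_toFinset] at hp
      have hpprime : p.IsPrime := hp.1.1.1
      obtain ⟨q, hq, hqp⟩ := (Ideal.IsPrime.inf_le' hpprime).mp hBp
      rw [Set.Finite.mem_toFinset] at hq
      exact hq.2 (hL q hq.1.1.1 hq.1.1.2 ⟨p, hp, hqp⟩)
  simp_rw [Set.not_subset, Set.mem_iUnion, not_exists, Set.Finite.mem_toFinset] at havoid
  obtain ⟨x, hxB, hxP⟩ := havoid
  have hxa : x ∉ a := fun h => hxP p0 ⟨hp0, hp0h⟩ (hp0.1.2 h)
  -- b * (x) ≤ rad J
  have hrad : b * Ideal.span {x} ≤ J.radical := by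
    rw [← Ideal.sInf_minimalPrimes]
    refine le_sInf fun q hq => ?_
    by_cases hbq : b ≤ q
    · exact Ideal.mul_le_left.trans hbq
    · have hqB : q ∈ hBdfin.toFinset := by
        rw [Set.Finite.mem_toFinset]
        exact ⟨hq, hbq⟩
      have hBq : B ≤ q := Finset.inf_le (f := id) hqB
      refine Ideal.mul_le_right.trans ?_
      rw [Ideal.span_le, Set.singleton_subset_iff]
      exact hBq hxB
  have hfg : (b * Ideal.span {x}).FG := IsNoetherian.noetherian _
  obtain ⟨m, hm⟩ := Ideal.exists_pow_le_of_le_radical_of_fg hrad hfg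
  rw [mul_pow, Ideal.span_singleton_pow] at hm
  -- induction hypothesis for a ⊔ (x)
  have hlt : a < a ⊔ Ideal.span {x} := by
    refine lt_of_le_of_ne le_sup_left fun h => hxa ?_
    rw [h]
    exact Ideal.mem_sup_right (Ideal.mem_span_singleton_self x)
  obtain ⟨n', hn'⟩ := IH (a ⊔ Ideal.span {x}) hlt b M i
    (lt_of_lt_of_le hi (minAdjDepth_mono_left le_sup_left b M))
  obtain ⟨hex, -, -⟩ := Groth.Agent.S11682.result S a x M i
  refine ⟨n' + m, ?_⟩
  have hle : b ^ (n' + m) ≤ J := by
    rw [pow_add, Ideal.mul_le]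
    intro r hr t ht
    rw [hJ, Module.mem_annihilator]
    intro y
    rw [mul_smul]
    set z := t • y with hz
    -- x^m • z = 0
    have hxz : x ^ m • z = 0 := by
      have h1 : t * x ^ m ∈ J := hm (Ideal.mul_mem_mul ht (Ideal.mem_span_singleton_self _))
      rw [hJ, Module.mem_annihilator] at h1
      rw [hz, smul_smul, mul_comm]
      exact h1 y
    -- the image of z in H^i_a(M_x) vanishes
    set f := ((localCohomology a i).map (ModuleCat.ofHom
      (LocalizedModule.mkLinearMap (Submonoid.powers x) M))).hom with hf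
    have hfz : f z = 0 := by
      have hbij : Function.Bijective
          (fun w : LocalizedModule (Submonoid.powers x) M => x ^ m • w) := by
        have hu := IsLocalizedModule.map_units
          (LocalizedModule.mkLinearMap (Submonoid.powers x) M)
          (⟨x ^ m, ⟨m, rfl⟩⟩ : Submonoid.powers x)
        rw [Module.End.isUnit_iff] at hu
        exact hu
      have hb := Groth.Agent.Lib.Helper60.lc_smul_bijective a i
        (LocalizedModule (Submonoid.powers x) M) (x ^ m) hbij
      apply hb.1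
      change x ^ m • f z = x ^ m • 0
      rw [← map_smul, hxz, map_zero, smul_zero]
    obtain ⟨ξ, hξ⟩ := (hex z).mp hfz
    rw [← hξ, ← map_smul, hn' r hr ξ, map_zero]
  intro r hr y
  exact Module.mem_annihilator.mp (hle hr) y

end Groth.Agent.Lib.Helper93.FaltAnn
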