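import Mathlib
import Groth.Agent.S2680
import Groth.Prelude.Def_GrLC

/-!
# Height of the irrelevant ideal of a positively graded Noetherian ring over a field (helper93)

For a Noetherian `ℤ`-graded ring `R` with `R_n = 0` for `n < 0` and `R_0` the image of a field `k`:
* `finiteType_of_noetherian`: `R` is a finitely generated `k`-algebra;
* `irr_isMaximal`: the irrelevant ideal `R_+` is maximal;
* `le_irr_of_isHomogeneous`: proper homogeneous ideals lie in `R_+`;
* `height_irr_eq`: `ht R_+ = dim R`.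
-/

set_option autoImplicit false
universe u

namespace Groth.Agent.Lib.Helper93.GrHeight

open DirectSum

variable {R : Type u} [CommRing R] (𝒜 : ℤ → AddSubgroup R) [GradedRing 𝒜]

/-- the irrelevant ideal, generated by the homogeneous elements of positive degree -/
def irr : Ideal R := Ideal.span (⋃ n ∈ Set.Ioi (0 : ℤ), (𝒜 n : Set R))

theorem mem_irr_of_pos {n : ℤ} (hn : 0 < n) {x : R} (hx : x ∈ 𝒜 n) : x ∈ irr 𝒜 := by
  apply Ideal.subset_span
  simp only [Set.mem_iUnion, Set.mem_Ioi]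
  exact ⟨n, hn, hx⟩

theorem finiteType_of_noetherian [IsNoetherianRing R] (hpos : ∀ n : ℤ, n < 0 → 𝒜 n = ⊥)
    {k : Type u} [CommRing k] [Algebra k R] (hk : ∀ x ∈ 𝒜 0, ∃ c : k, algebraMap k R c = x) :
    Algebra.FiniteType k R := by
  classical
  have hfg : (irr 𝒜).FG := IsNoetherian.noetherian _
  obtain ⟨T, hTsub, hT⟩ := (Submodule.fg_span_iff_fg_span_finset_subset _).mp hfg
  have hdeg : ∀ t ∈ T, ∃ n : ℤ, 0 < n ∧ t ∈ 𝒜 n := fun t ht => by
    have := hTsub ht
    simp only [Set.mem_iUnion, Set.mem_Ioi] at this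
    obtain ⟨n, hn, htn⟩ := this
    exact ⟨n, hn, htn⟩
  choose! deg hdegpos hdegmem using hdeg
  refine ⟨⟨T, ?_⟩⟩
  have key : ∀ n : ℕ, ∀ m : ℤ, m ≤ n → ∀ r ∈ 𝒜 m, r ∈ Algebra.adjoin k (T : Set R) := by
    intro n
    induction n with
    | zero =>
      intro m hm r hr
      rcases lt_or_eq_of_le hm with h | h
      · rw [hpos m (by exact_mod_cast h), AddSubgroup.mem_bot] at hr
        rw [hr]
        exact zero_mem _
      · have hm0 : m = 0 := by exact_mod_cast h
        subst hm0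
        obtain ⟨c, rfl⟩ := hk r hr
        exact Subalgebra.algebraMap_mem _ c
    | succ n ih =>
      intro m hm r hr
      by_cases hmn : m ≤ n
      · exact ih m hmn r hr
      have hmpos : 0 < m := by push_cast at hm; omega
      have hra : r ∈ Submodule.span R (T : Set R) := by
        rw [← hT]
        exact mem_irr_of_pos 𝒜 hmpos hr
      obtain ⟨N, f, g, rfl⟩ := Submodule.mem_span_set'.mp hra
      have h1 := decompose_of_mem_same 𝒜 hr
      rw [← h1, decompose_sum, DFinsupp.finsetSum_apply, AddSubmonoidClass.coe_finsetSum]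
      refine Subalgebra.sum_mem _ (fun l _ => ?_)
      have hgl : (g l : R) ∈ 𝒜 (deg (g l)) := hdegmem _ (g l).2
      have h2 := coe_decompose_mul_add_of_right_mem 𝒜 (a := f l) (i := m - deg (g l)) hgl
      rw [sub_add_cancel] at h2
      rw [smul_eq_mul, h2]
      refine Subalgebra.mul_mem _ (ih _ ?_ _ (SetLike.coe_mem _)) (Algebra.subset_adjoin (g l).2)
      have := hdegpos _ (g l).2
      push_cast at hm
      omega
  rw [eq_top_iff]
  intro r _
  rw [← sum_support_decompose 𝒜 r]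
  refine Subalgebra.sum_mem _ (fun i _ => ?_)
  exact key i.toNat i (Int.self_le_toNat i) _ (SetLike.coe_mem _)

section Field
variable {k : Type u} [Field k] [Algebra k R]

theorem exists_sub_algebraMap_mem_irr (hpos : ∀ n : ℤ, n < 0 → 𝒜 n = ⊥)
    (hk : ∀ x ∈ 𝒜 0, ∃ c : k, algebraMap k R c = x) (f : R) :
    ∃ c : k, f - algebraMap k R c ∈ irr 𝒜 := by
  classical
  induction f using DirectSum.Decomposition.inductionOn 𝒜 with
  | zero => exact ⟨0, by simp⟩
  | @homogeneous n f =>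
    obtain ⟨f, h1⟩ := f
    change ∃ c : k, f - algebraMap k R c ∈ irr 𝒜
    rcases lt_trichotomy n 0 with hn | hn | hn
    · rw [hpos n hn, AddSubgroup.mem_bot] at h1
      exact ⟨0, by rw [h1]; simp⟩
    · subst hn
      obtain ⟨c, hc⟩ := hk f h1
      refine ⟨c, ?_⟩
      rw [hc, sub_self]
      exact Submodule.zero_mem _
    · exact ⟨0, by rw [map_zero, sub_zero]; exact mem_irr_of_pos 𝒜 hn h1⟩
  | add f g hf hg =>
    obtain ⟨c, hc⟩ := hf
    obtain ⟨c', hc'⟩ := hg
    refine ⟨c + c', ?_⟩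
    have : f + g - algebraMap k R (c + c') = (f - algebraMap k R c) + (g - algebraMap k R c') := by
      rw [map_add]; ring
    rw [this]
    exact Ideal.add_mem _ hc hc'

theorem irr_isMaximal (hpos : ∀ n : ℤ, n < 0 → 𝒜 n = ⊥)
    (hk : ∀ x ∈ 𝒜 0, ∃ c : k, algebraMap k R c = x) (hne : irr 𝒜 ≠ ⊤) : (irr 𝒜).IsMaximal := by
  rw [Ideal.isMaximal_iff]
  refine ⟨fun h1 => hne ((Ideal.eq_top_iff_one _).mpr h1), ?_⟩
  intro J x hpJ hxp hxJ
  obtain ⟨c, hc⟩ := exists_sub_algebraMap_mem_irr 𝒜 hpos hk x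
  have hcJ : algebraMap k R c ∈ J := by
    have h1 : x - algebraMap k R c ∈ J := hpJ hc
    have h2 : algebraMap k R c = x - (x - algebraMap k R c) := by ring
    rw [h2]
    exact J.sub_mem hxJ h1
  have hc0 : c ≠ 0 := by
    rintro rfl
    rw [map_zero, sub_zero] at hc
    exact hxp hc
  have h3 : (1 : R) = algebraMap k R c⁻¹ * algebraMap k R c := by
    rw [← map_mul, inv_mul_cancel₀ hc0, map_one]
  rw [h3]
  exact J.mul_mem_left _ hcJ

theorem le_irr_of_isHomogeneous (hpos : ∀ n : ℤ, n < 0 → 𝒜 n = ⊥)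
    (hk : ∀ x ∈ 𝒜 0, ∃ c : k, algebraMap k R c = x) (P : Ideal R) (hP : P.IsHomogeneous 𝒜)
    (hne : P ≠ ⊤) : P ≤ irr 𝒜 := by
  classical
  intro x hx
  rw [← sum_support_decompose 𝒜 x]
  refine Ideal.sum_mem _ (fun i _ => ?_)
  have hxi : (decompose 𝒜 x i : R) ∈ P := hP i hx
  have hmem : (decompose 𝒜 x i : R) ∈ 𝒜 i := SetLike.coe_mem _
  generalize (decompose 𝒜 x i : R) = y at hxi hmem ⊢
  rcases lt_trichotomy i 0 with hi | hi | hi
  · rw [hpos i hi, AddSubgroup.mem_bot] at hmem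
    rw [hmem]
    exact zero_mem _
  · subst hi
    obtain ⟨c, hc⟩ := hk _ hmem
    by_cases hc0 : c = 0
    · rw [← hc, hc0, map_zero]
      exact zero_mem _
    · exfalso
      apply hne
      rw [Ideal.eq_top_iff_one]
      have h3 : (1 : R) = algebraMap k R c⁻¹ * algebraMap k R c := by
        rw [← map_mul, inv_mul_cancel₀ hc0, map_one]
      rw [h3, hc]
      exact P.mul_mem_left _ hxi
  · exact mem_irr_of_pos 𝒜 hi hmem

omit [Algebra k R] in
theorem isHomogeneous_of_mem_minimalPrimes {P : Ideal R} (hP : P ∈ minimalPrimes R) :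
    P.IsHomogeneous 𝒜 := by
  have hPp : P.IsPrime := hP.1.1
  have hcore : (P.homogeneousCore 𝒜).toIdeal.IsPrime := Ideal.IsPrime.homogeneousCore hPp
  have hle : (P.homogeneousCore 𝒜).toIdeal ≤ P := Ideal.toIdeal_homogeneousCore_le 𝒜 P
  have hge : P ≤ (P.homogeneousCore 𝒜).toIdeal := hP.2 ⟨hcore, bot_le⟩ hle
  have : P = (P.homogeneousCore 𝒜).toIdeal := le_antisymm hge hle
  rw [this]
  exact (P.homogeneousCore 𝒜).isHomogeneous

/-- every maximal ideal has height at most that of the irrelevant ideal -/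
theorem height_le_height_irr [IsNoetherianRing R] (hpos : ∀ n : ℤ, n < 0 → 𝒜 n = ⊥)
    (hk : ∀ x ∈ 𝒜 0, ∃ c : k, algebraMap k R c = x) (hne : irr 𝒜 ≠ ⊤) (q : Ideal R)
    (hq : q.IsMaximal) : q.height ≤ (irr 𝒜).height := by
  haveI hmax : (irr 𝒜).IsMaximal := irr_isMaximal 𝒜 hpos hk hne
  haveI hqp : q.IsPrime := hq.isPrime
  haveI hmp : (irr 𝒜).IsPrime := hmax.isPrime
  haveI : Algebra.FiniteType k R := finiteType_of_noetherian 𝒜 hpos hk
  have h1 := PrimeSpectrum.height_eq_orderHeight (⟨q, hqp⟩ : PrimeSpectrum R)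
  change q.height = _ at h1
  rw [h1]
  apply Order.height_le
  intro p hp
  obtain ⟨P, hPmin, hPle⟩ := Ideal.exists_minimalPrimes_le (bot_le : (⊥ : Ideal R) ≤ (p 0).asIdeal)
  haveI hPp : P.IsPrime := hPmin.1.1
  have hPhom : P.IsHomogeneous 𝒜 := isHomogeneous_of_mem_minimalPrimes 𝒜 hPmin
  have hPirr : P ≤ irr 𝒜 := le_irr_of_isHomogeneous 𝒜 hpos hk P hPhom hPp.ne_top
  let e := P.primeSpectrumQuotientOrderIsoZeroLocus
  -- the chain inside the zero locus
  have hmemZ : ∀ i, p i ∈ PrimeSpectrum.zeroLocus (R := R) (P : Set R) := by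
    intro i
    rw [PrimeSpectrum.mem_zeroLocus]
    have h0i : p 0 ≤ p i := p.monotone (Fin.zero_le i)
    exact fun x hx => h0i (hPle hx)
  let p' : LTSeries (PrimeSpectrum.zeroLocus (R := R) (P : Set R)) :=
    { length := p.length
      toFun := fun i => ⟨p i, hmemZ i⟩
      step := fun i => p.step i }
  let p'' : LTSeries (PrimeSpectrum (R ⧸ P)) := p'.map e.symm e.symm.strictMono
  have hlen : (p.length : ℕ∞) ≤ Order.height p''.last := Order.length_le_height_last (p := p'')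
  -- the two maximal ideals of the quotient
  have hqZ : (⟨q, hqp⟩ : PrimeSpectrum R) ∈ PrimeSpectrum.zeroLocus (R := R) (P : Set R) := by
    rw [← hp]
    exact hmemZ _
  have hmZ : (⟨irr 𝒜, hmp⟩ : PrimeSpectrum R) ∈ PrimeSpectrum.zeroLocus (R := R) (P : Set R) := by
    rw [PrimeSpectrum.mem_zeroLocus]
    exact hPirr
  set yq : PrimeSpectrum (R ⧸ P) := e.symm ⟨⟨q, hqp⟩, hqZ⟩ with hyq
  set ym : PrimeSpectrum (R ⧸ P) := e.symm ⟨⟨irr 𝒜, hmp⟩, hmZ⟩ with hym
  have hlast : p''.last = yq := by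
    show e.symm (p'.last) = _
    congr 1
    apply Subtype.ext
    exact hp
  have hcomap_q : yq.asIdeal.comap (Ideal.Quotient.mk P) = q := by
    have : e yq = ⟨⟨q, hqp⟩, hqZ⟩ := e.apply_symm_apply _
    exact congrArg (fun z => z.1.asIdeal) this
  have hcomap_m : ym.asIdeal.comap (Ideal.Quotient.mk P) = irr 𝒜 := by
    have : e ym = ⟨⟨irr 𝒜, hmp⟩, hmZ⟩ := e.apply_symm_apply _
    exact congrArg (fun z => z.1.asIdeal) this
  have hmaxq : yq.asIdeal.IsMaximal := by
    have h2 := Ideal.map_comap_of_surjective (Ideal.Quotient.mk P) Ideal.Quotient.mk_surjective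
      yq.asIdeal
    rcases Ideal.map_eq_top_or_isMaximal_of_surjective (Ideal.Quotient.mk P)
      Ideal.Quotient.mk_surjective hq with h | h
    · rw [← hcomap_q, h2] at h
      exact absurd h yq.2.ne_top
    · rw [← hcomap_q, h2] at h
      exact h
  have hmaxm : ym.asIdeal.IsMaximal := by
    have h2 := Ideal.map_comap_of_surjective (Ideal.Quotient.mk P) Ideal.Quotient.mk_surjective
      ym.asIdeal
    rcases Ideal.map_eq_top_or_isMaximal_of_surjective (Ideal.Quotient.mk P)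
      Ideal.Quotient.mk_surjective hmax with h | h
    · rw [← hcomap_m, h2] at h
      exact absurd h ym.2.ne_top
    · rw [← hcomap_m, h2] at h
      exact h
  -- dimension theory of the finite type domain R/P
  haveI : Algebra.FiniteType k (R ⧸ P) :=
    Algebra.FiniteType.of_surjective (Ideal.Quotient.mkₐ k P) (Ideal.Quotient.mkₐ_surjective k P)
  obtain ⟨N, -, -, hN⟩ := Groth.Agent.S2680.result k (R ⧸ P)
  have e1 := hN yq.asIdeal
  have e2 := hN ym.asIdeal
  rw [IsLocalization.AtPrime.ringKrullDim_eq_height yq.asIdeal] at e1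
  rw [IsLocalization.AtPrime.ringKrullDim_eq_height ym.asIdeal] at e2
  have e3 : yq.asIdeal.height = ym.asIdeal.height := by
    have : ((yq.asIdeal.height : ℕ∞) : WithBot ℕ∞) = ym.asIdeal.height := e1.trans e2.symm
    exact_mod_cast this
  rw [PrimeSpectrum.height_eq_orderHeight, PrimeSpectrum.height_eq_orderHeight] at e3
  -- transfer back
  have h4 : Order.height ym ≤ Order.height (⟨irr 𝒜, hmp⟩ : PrimeSpectrum R) := by
    have hsm : StrictMono (fun y : PrimeSpectrum (R ⧸ P) => ((e y).1 : PrimeSpectrum R)) :=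
      fun a b hab => e.strictMono hab
    have := Order.height_le_height_apply_of_strictMono _ hsm ym
    have h5 : ((e ym).1 : PrimeSpectrum R) = ⟨irr 𝒜, hmp⟩ := by
      rw [hym, e.apply_symm_apply]
    rw [h5] at this
    exact this
  have h6 := PrimeSpectrum.height_eq_orderHeight (⟨irr 𝒜, hmp⟩ : PrimeSpectrum R)
  change (irr 𝒜).height = _ at h6
  rw [h6]
  calc (p.length : ℕ∞) ≤ Order.height p''.last := hlen
    _ = Order.height yq := by rw [hlast]
    _ = Order.height ym := e3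
    _ ≤ _ := h4

/-- **The irrelevant ideal has height `dim R`.** -/
theorem height_irr_eq [IsNoetherianRing R] (hpos : ∀ n : ℤ, n < 0 → 𝒜 n = ⊥)
    (hk : ∀ x ∈ 𝒜 0, ∃ c : k, algebraMap k R c = x) (hne : irr 𝒜 ≠ ⊤) :
    ((irr 𝒜).height : WithBot ℕ∞) = ringKrullDim R := by
  apply le_antisymm (Ideal.height_le_ringKrullDim_of_ne_top hne)
  rw [ringKrullDim_le_iff_isMaximal_height_le]
  intro q hq
  exact_mod_cast height_le_height_irr 𝒜 hpos hk hne q hq

end Field

end Groth.Agent.Lib.Helper93.GrHeight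

namespace Groth.Agent.Lib.Helper93.GrHeight

variable {R : Type u} [CommRing R] (𝒜 : ℤ → AddSubgroup R) [GradedRing 𝒜]

/-- `ht R_+ = dim R` when `R_0` is a field. -/
theorem height_irr_eq_of_isField [IsNoetherianRing R] (hpos : ∀ n : ℤ, n < 0 → 𝒜 n = ⊥)
    (h0 : IsField (GrLC.deg0 𝒜)) (hne : irr 𝒜 ≠ ⊤) :
    ((irr 𝒜).height : WithBot ℕ∞) = ringKrullDim R := by
  letI : Field (GrLC.deg0 𝒜) := h0.toField
  letI alg : Algebra (GrLC.deg0 𝒜) R := (GrLC.deg0 𝒜).subtype.toAlgebra
  exact height_irr_eq (k := GrLC.deg0 𝒜) 𝒜 hpos (fun x hx => ⟨⟨x, hx⟩, rfl⟩) hne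

end Groth.Agent.Lib.Helper93.GrHeight
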