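import Mathlib
import Groth.Agent.Lib.Helper39.GrTop
import Groth.Agent.Lib.Helper39.GrRegVanish

/-!
# The a-invariant of `M/xM` (helper93)

`endDeg_quot_step`: for a homogeneous `M`-regular element `x ∈ a` of degree `d ≥ 0` with
`H^k_a(M) = 0`, the end of `H^k_a(M/xM)` is the end of `H^{k+1}_a(M)` plus `d`.
-/

set_option autoImplicit false
universe u

namespace Groth.Agent.Lib.Helper93.GrAInv

open DirectSum GrLC Groth.Agent.Lib.Helper39 Groth.Agent.Lib.Helper39.GrLes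
  Groth.Agent.Lib.Helper39.GrRegVanish

theorem add_neg_add_cancel (x : WithBot (WithTop ℤ)) (d : ℤ) :
    x + (((-d : ℤ) : WithTop ℤ) : WithBot (WithTop ℤ)) + ((d : WithTop ℤ) : WithBot (WithTop ℤ))
      = x := by
  rw [add_assoc, ← WithBot.coe_add, ← WithTop.coe_add, neg_add_cancel]
  simp

theorem endDeg_eq_add {A B : Type u} [AddCommGroup A] [AddCommGroup B] (𝒢 : ℤ → AddSubgroup A)
    (ℋ : ℤ → AddSubgroup B) (d : ℤ) (h1 : ∀ g, 𝒢 g ≠ ⊥ → ℋ (g - d) ≠ ⊥)
    (h2 : ∀ h, ℋ h ≠ ⊥ → ∃ h', h ≤ h' ∧ 𝒢 (h' + d) ≠ ⊥) :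
    endDeg 𝒢 = endDeg ℋ + ((d : WithTop ℤ) : WithBot (WithTop ℤ)) := by
  apply le_antisymm
  · unfold endDeg
    apply iSup₂_le
    intro g hg
    have h := le_iSup₂ (f := fun (n : ℤ) (_ : ℋ n ≠ ⊥) => ((n : WithTop ℤ) : WithBot (WithTop ℤ)))
      (g - d) (h1 g hg)
    have e : ((g : WithTop ℤ) : WithBot (WithTop ℤ)) =
        (((g - d : ℤ) : WithTop ℤ) : WithBot (WithTop ℤ)) + ((d : WithTop ℤ) : WithBot (WithTop ℤ)) := by
      rw [← WithBot.coe_add, ← WithTop.coe_add, sub_add_cancel]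
    rw [e]
    exact add_le_add_left h _
  · have key : endDeg ℋ ≤ endDeg 𝒢 + (((-d : ℤ) : WithTop ℤ) : WithBot (WithTop ℤ)) := by
      unfold endDeg
      apply iSup₂_le
      intro h hh
      obtain ⟨h', hle, hne⟩ := h2 h hh
      have hs := le_iSup₂ (f := fun (n : ℤ) (_ : 𝒢 n ≠ ⊥) => ((n : WithTop ℤ) : WithBot (WithTop ℤ)))
        (h' + d) hne
      have e : ((h' : WithTop ℤ) : WithBot (WithTop ℤ)) =
          (((h' + d : ℤ) : WithTop ℤ) : WithBot (WithTop ℤ)) +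
            (((-d : ℤ) : WithTop ℤ) : WithBot (WithTop ℤ)) := by
        rw [← WithBot.coe_add, ← WithTop.coe_add, add_neg_cancel_right]
      calc ((h : WithTop ℤ) : WithBot (WithTop ℤ)) ≤ ((h' : WithTop ℤ) : WithBot (WithTop ℤ)) := by
            exact_mod_cast hle
        _ = _ := e
        _ ≤ _ := add_le_add_left hs _
    calc endDeg ℋ + ((d : WithTop ℤ) : WithBot (WithTop ℤ))
        ≤ endDeg 𝒢 + (((-d : ℤ) : WithTop ℤ) : WithBot (WithTop ℤ)) +
            ((d : WithTop ℤ) : WithBot (WithTop ℤ)) := add_le_add_left key _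
      _ = endDeg 𝒢 := add_neg_add_cancel _ d

section Step
variable {R : Type u} [CommRing R] {𝒜 : ℤ → AddSubgroup R} [GradedRing 𝒜]
  {M : Type u} [AddCommGroup M] [Module R M] {ℳ : ℤ → AddSubgroup M} [DirectSum.Decomposition ℳ]
  [SetLike.GradedSMul 𝒜 ℳ]
  {N : Type u} [AddCommGroup N] [Module R N] {𝒩 : ℤ → AddSubgroup N} [DirectSum.Decomposition 𝒩]
  [SetLike.GradedSMul 𝒜 𝒩]

theorem pow_smul_mem_Hgr (E : StarInjRes 𝒜 ℳ) (a : HomogeneousIdeal 𝒜) (k : ℕ) {d n : ℤ} {x : R}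
    (hx : x ∈ 𝒜 d) {y : E.H a k} (hy : y ∈ E.Hgr a k n) (t : ℕ) :
    x ^ t • y ∈ E.Hgr a k (n + t * d) := by
  induction t with
  | zero => simpa using hy
  | succ t ih =>
    have := smul_mem_Hgr E a k hx ih
    rw [pow_succ', mul_smul]
    have e : n + (t : ℤ) * d + d = n + ((t + 1 : ℕ) : ℤ) * d := by push_cast; ring
    rw [← e]
    exact this

/-- **One step**: the end of `H^k_a(M/xM)` is the end of `H^{k+1}_a(M)` plus `deg x`. -/
theorem endDeg_quot_step (a : HomogeneousIdeal 𝒜) {d : ℤ} (hd : 0 ≤ d) {x : R} (hx : x ∈ 𝒜 d)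
    (hxa : x ∈ a.toIdeal) (hreg : IsSMulRegular M x)
    (π : M →ₗ[R] N) (hπ : Function.Surjective π) (hπg : IsGrHom ℳ 𝒩 π)
    (hker : LinearMap.ker π = LinearMap.range (x • (LinearMap.id : M →ₗ[R] M)))
    (E : StarInjRes 𝒜 ℳ) (F : StarInjRes 𝒜 𝒩) (k : ℕ) (hvan : Subsingleton (E.H a k)) :
    endDeg (F.Hgr a k) = endDeg (E.Hgr a (k + 1)) + ((d : WithTop ℤ) : WithBot (WithTop ℤ)) := by
  classical
  obtain ⟨δ, hδ, -, h2, h3, -⟩ := exists_les_smul hx hreg π hπ hπg hker E F a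
  have hinj : Function.Injective (δ k) := by
    rw [injective_iff_map_eq_zero]
    intro y hy
    obtain ⟨w, rfl⟩ := (h2 k y).mp hy
    rw [Subsingleton.elim w 0, map_zero]
  apply endDeg_eq_add _ _ d
  · intro g hg
    obtain ⟨⟨y, hy⟩, hy0⟩ := (AddSubgroup.ne_bot_iff_exists_ne_zero).mp hg
    have hy0' : y ≠ 0 := fun h => hy0 (Subtype.ext h)
    have hmem : δ k y ∈ E.Hgr a (k + 1) (g + -d) := hδ k g y hy
    rw [← sub_eq_add_neg] at hmem
    intro hbot
    rw [hbot, AddSubgroup.mem_bot] at hmem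
    exact hy0' (hinj (hmem.trans (map_zero _).symm))
  · intro h hh
    obtain ⟨⟨y, hy⟩, hy0⟩ := (AddSubgroup.ne_bot_iff_exists_ne_zero).mp hh
    have hy0' : y ≠ 0 := fun h => hy0 (Subtype.ext h)
    have hex := exists_pow_smul_eq_zero E a (k + 1) y hxa
    have hs0 : Nat.find hex ≠ 0 := by
      intro h0
      have := Nat.find_spec hex
      rw [h0, pow_zero, one_smul] at this
      exact hy0' this
    obtain ⟨t, ht⟩ := Nat.exists_eq_succ_of_ne_zero hs0
    have hne : x ^ t • y ≠ 0 := Nat.find_min hex (by omega)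
    have hzero : x • (x ^ t • y) = 0 := by
      have := Nat.find_spec hex
      rw [ht, Nat.succ_eq_add_one, pow_succ', mul_smul] at this
      exact this
    obtain ⟨w, hw⟩ := (h3 k (x ^ t • y)).mp hzero
    have hmem : x ^ t • y ∈ E.Hgr a (k + 1) (h + t * d) := pow_smul_mem_Hgr E a (k + 1) hx hy t
    have hmem' : x ^ t • y ∈ E.Hgr a (k + 1) ((h + t * d + d) + -d) := by
      rw [add_neg_cancel_right]
      exact hmem
    obtain ⟨w', hw', hww⟩ := exists_mem_of_isInternal_deg (Hgr_isInternal F a k)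
      (Hgr_isInternal E a (k + 1)) (δ k) (hδ k) hmem' w hw
    refine ⟨h + t * d, ?_, ?_⟩
    · have : (0 : ℤ) ≤ t * d := mul_nonneg (by positivity) hd
      omega
    · intro hbot
      rw [hbot, AddSubgroup.mem_bot] at hw'
      rw [hw', map_zero] at hww
      exact hne hww.symm

end Step

end Groth.Agent.Lib.Helper93.GrAInv
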