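import Mathlib
import Groth.Agent.Lib.Helper93.GrAInvStep
import Groth.Agent.S13224
import Groth.Agent.S13215
import Groth.Agent.S0318
import Groth.Agent.S0320

/-!
# The a-invariant of a quotient by a homogeneous regular sequence (helper93)

`endDeg_regseq`: if `depth_a M = k` and `x_1, …, x_t ∈ a` is a homogeneous `M`-regular sequence
of degrees `d_1, …, d_t`, then the end of `H^{k-t}_a(M/(x)M)` is the end of `H^k_a(M)` plus `Σ d_i`.
-/

set_option autoImplicit false
universe u

namespace Groth.Agent.Lib.Helper93.GrAInv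

open scoped Pointwise
open DirectSum GrLC Groth.Agent.Lib.Helper39 Groth.Agent.Lib.Helper39.GrLes
  Groth.Agent.Lib.Helper39.GrRegVanish Groth.Agent.Lib.Helper39.GrTop

section Iso
variable {R : Type u} [CommRing R] [IsNoetherianRing R] {𝒜 : ℤ → AddSubgroup R} [GradedRing 𝒜]
  {M : Type u} [AddCommGroup M] [Module R M] {ℳ : ℤ → AddSubgroup M} [DirectSum.Decomposition ℳ]
  [SetLike.GradedSMul 𝒜 ℳ]
  {N : Type u} [AddCommGroup N] [Module R N] {𝒩 : ℤ → AddSubgroup N} [DirectSum.Decomposition 𝒩]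
  [SetLike.GradedSMul 𝒜 𝒩]

theorem Hgr_ne_bot_of_bijective (π : M →ₗ[R] N) (hπ : Function.Bijective π) (hπg : IsGrHom ℳ 𝒩 π)
    (E : StarInjRes 𝒜 ℳ) (F : StarInjRes 𝒜 𝒩) (a : HomogeneousIdeal 𝒜) (k : ℕ) (g : ℤ)
    (h : E.Hgr a k g ≠ ⊥) : F.Hgr a k g ≠ ⊥ := by
  obtain ⟨⟨y, hy⟩, hy0⟩ := (AddSubgroup.ne_bot_iff_exists_ne_zero).mp h
  have hy0' : y ≠ 0 := fun h => hy0 (Subtype.ext h)
  have hmem : Hmap₀ E F a π hπg k y ∈ F.Hgr a k g := Hmap₀_isGrHom E F a π hπg k g y hy
  intro hbot
  rw [hbot, AddSubgroup.mem_bot] at hmem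
  exact hy0' (Hmap₀_injective_of_bijective π hπ hπg E F a k (hmem.trans (map_zero _).symm))

theorem endDeg_of_bijective (π : M →ₗ[R] N) (hπ : Function.Bijective π) (hπg : IsGrHom ℳ 𝒩 π)
    (E : StarInjRes 𝒜 ℳ) (F : StarInjRes 𝒜 𝒩) (a : HomogeneousIdeal 𝒜) (k : ℕ) :
    endDeg (F.Hgr a k) = endDeg (E.Hgr a k) := by
  let e : M ≃ₗ[R] N := LinearEquiv.ofBijective π hπ
  have heg : IsGrHom 𝒩 ℳ e.symm.toLinearMap := by
    intro j n hn
    apply IsGrHom.mem_of_injective ℳ 𝒩 hπg hπ.1
    have : π (e.symm n) = n := e.apply_symm_apply n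
    show π (e.symm n) ∈ 𝒩 j
    rw [this]
    exact hn
  apply le_antisymm
  · unfold endDeg
    apply iSup₂_le
    intro g hg
    exact le_iSup₂ (f := fun (n : ℤ) (_ : E.Hgr a k n ≠ ⊥) => ((n : WithTop ℤ) : WithBot (WithTop ℤ)))
      g (Hgr_ne_bot_of_bijective e.symm.toLinearMap e.symm.bijective heg F E a k g hg)
  · unfold endDeg
    apply iSup₂_le
    intro g hg
    exact le_iSup₂ (f := fun (n : ℤ) (_ : F.Hgr a k n ≠ ⊥) => ((n : WithTop ℤ) : WithBot (WithTop ℤ)))
      g (Hgr_ne_bot_of_bijective π hπ hπg E F a k g hg)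

end Iso

section Seq
variable {R : Type u} [CommRing R] [IsNoetherianRing R] {𝒜 : ℤ → AddSubgroup R} [GradedRing 𝒜]

theorem smul_top_eq_range {M : Type u} [AddCommGroup M] [Module R M] (x : R) :
    (x • (⊤ : Submodule R M)) = LinearMap.range (x • (LinearMap.id : M →ₗ[R] M)) := by
  ext m
  rw [Submodule.mem_smul_pointwise_iff_exists]
  simp

/-- **The a-invariant of the quotient by a homogeneous regular sequence.** -/
theorem endDeg_regseq (hpos : ∀ n : ℤ, n < 0 → 𝒜 n = ⊥) (a : HomogeneousIdeal 𝒜) :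
    ∀ (l : List (R × ℤ)) (M : Type u) [AddCommGroup M] [Module R M] [Module.Finite R M]
      (ℳ : ℤ → AddSubgroup M) [DirectSum.Decomposition ℳ] [SetLike.GradedSMul 𝒜 ℳ]
      (E : StarInjRes 𝒜 ℳ) (k : ℕ),
      LocCoh.idealDepth a.toIdeal M = k → a.toIdeal • (⊤ : Submodule R M) ≠ ⊤ →
      (∀ p ∈ l, p.1 ∈ 𝒜 p.2 ∧ p.1 ∈ a.toIdeal) →
      RingTheory.Sequence.IsWeaklyRegular M (l.map Prod.fst) → l.length ≤ k →
      ∀ (N : Type u) [AddCommGroup N] [Module R N] (𝒩 : ℤ → AddSubgroup N)
        [DirectSum.Decomposition 𝒩] [SetLike.GradedSMul 𝒜 𝒩] (π : M →ₗ[R] N),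
        IsGrHom ℳ 𝒩 π → Function.Surjective π →
        LinearMap.ker π = Ideal.ofList (l.map Prod.fst) • (⊤ : Submodule R M) →
        ∀ F : StarInjRes 𝒜 𝒩,
          endDeg (F.Hgr a (k - l.length)) = endDeg (E.Hgr a k) +
            ((((l.map Prod.snd).sum : ℤ) : WithTop ℤ) : WithBot (WithTop ℤ)) := by
  classical
  intro l
  induction l with
  | nil =>
    intro M _ _ _ ℳ _ _ E k _ _ _ _ _ N _ _ 𝒩 _ _ π hπg hπs hker F
    have hinj : Function.Injective π := by
      rw [← LinearMap.ker_eq_bot, hker]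
      simp
    have := endDeg_of_bijective π ⟨hinj, hπs⟩ hπg E F a k
    simpa using this
  | cons p l ih =>
    obtain ⟨x, d⟩ := p
    intro M _ _ _ ℳ _ _ E k hk hne hl hreg hlen N _ _ 𝒩 _ _ π hπg hπs hker F
    obtain ⟨hx, hxa⟩ := hl (x, d) List.mem_cons_self
    have hl' : ∀ p ∈ l, p.1 ∈ 𝒜 p.2 ∧ p.1 ∈ a.toIdeal := fun p hp => hl p (List.mem_cons_of_mem _ hp)
    rw [List.map_cons] at hreg hker
    obtain ⟨hregx, hreg'⟩ := (RingTheory.Sequence.isWeaklyRegular_cons_iff M x _).mp hreg
    -- the degree is nonnegative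
    have hd : 0 ≤ d := by
      by_contra hlt
      rw [not_le] at hlt
      have hx0 : x = 0 := by
        have := hx
        rw [hpos d hlt, AddSubgroup.mem_bot] at this
        exact this
      subst hx0
      haveI : Subsingleton M := (IsSMulRegular.zero_iff_subsingleton).mp hregx
      exact hne (Subsingleton.elim _ _)
    -- k = j + 1
    obtain ⟨j, rfl⟩ : ∃ j, k = j + 1 := by
      rw [List.length_cons] at hlen
      exact ⟨k - 1, by omega⟩
    -- the quotient M/xM
    have hQ : (x • (⊤ : Submodule R M)).IsHomogeneous ℳ := by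
      rw [smul_top_eq_range]
      exact range_smul_isHomogeneous hx
    letI := quotDecomposition ℳ (x • (⊤ : Submodule R M)) hQ
    haveI := quotGradedSMul 𝒜 ℳ (x • (⊤ : Submodule R M))
    obtain ⟨E'⟩ := Groth.Agent.S13215.result R 𝒜 (QuotSMulTop x M)
      (quotPieces ℳ (x • (⊤ : Submodule R M)))
    -- vanishing below the depth
    have hvan : Subsingleton (E.H a j) := by
      obtain ⟨e⟩ := Groth.Agent.S13224.result R 𝒜 a M ℳ E j
      have h318 := (Groth.Agent.S0318.result R a.toIdeal M hne (j + 1)).mp hk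
      haveI := h318.1 j (Nat.lt_succ_self j)
      exact e.injective.subsingleton
    have step := endDeg_quot_step a hd hx hxa hregx (x • (⊤ : Submodule R M)).mkQ
      (Submodule.mkQ_surjective _) (isGrHom_mkQ ℳ _)
      (by rw [Submodule.ker_mkQ, smul_top_eq_range]) E E' j hvan
    -- the depth of the quotient
    have hdepth' : LocCoh.idealDepth a.toIdeal (QuotSMulTop x M) = j := by
      have h320 := Groth.Agent.S0320.result R a.toIdeal M hne x hxa hregx
      rw [hk] at h320
      induction hdep : LocCoh.idealDepth a.toIdeal (QuotSMulTop x M) using ENat.recTopCoe with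
      | top =>
        rw [hdep, top_add] at h320
        exact absurd h320 (ENat.top_ne_natCast _)
      | coe n =>
        rw [hdep] at h320
        have : n + 1 = j + 1 := by exact_mod_cast h320
        have : n = j := by omega
        rw [this]
    have hQle : (x • (⊤ : Submodule R M)) ≤ a.toIdeal • (⊤ : Submodule R M) := by
      intro m hm
      obtain ⟨b, -, rfl⟩ := (Submodule.mem_smul_pointwise_iff_exists _ _ _).mp hm
      exact Submodule.smul_mem_smul hxa trivial
    have hne' : a.toIdeal • (⊤ : Submodule R (QuotSMulTop x M)) ≠ ⊤ := by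
      intro htop
      apply hne
      have h1 : (a.toIdeal • (⊤ : Submodule R M)).map (x • (⊤ : Submodule R M)).mkQ = ⊤ := by
        rw [Submodule.map_smul'', Submodule.map_top, Submodule.range_mkQ]
        exact htop
      have h2 := Submodule.comap_map_eq (x • (⊤ : Submodule R M)).mkQ (a.toIdeal • (⊤ : Submodule R M))
      rw [h1, Submodule.comap_top, Submodule.ker_mkQ, sup_eq_left.mpr hQle] at h2
      exact h2.symm
    -- the induced map
    have hle : (x • (⊤ : Submodule R M)) ≤ LinearMap.ker π := by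
      rw [hker, Ideal.ofList_cons_smul]
      exact le_sup_left
    let π' : QuotSMulTop x M →ₗ[R] N := (x • (⊤ : Submodule R M)).liftQ π hle
    have hπ'g : IsGrHom (quotPieces ℳ (x • (⊤ : Submodule R M))) 𝒩 π' := by
      rintro g _ ⟨m, hm, rfl⟩
      exact hπg g m hm
    have hπ's : Function.Surjective π' := by
      intro n
      obtain ⟨m, rfl⟩ := hπs n
      exact ⟨(x • (⊤ : Submodule R M)).mkQ m, rfl⟩
    have hker' : LinearMap.ker π' =
        Ideal.ofList (l.map Prod.fst) • (⊤ : Submodule R (QuotSMulTop x M)) := by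
      show LinearMap.ker ((x • (⊤ : Submodule R M)).liftQ π hle) = _
      rw [Submodule.ker_liftQ, hker, Ideal.ofList_cons_smul, Submodule.map_sup,
        Submodule.mkQ_map_self, bot_sup_eq, Submodule.map_smul'', Submodule.map_top,
        Submodule.range_mkQ]
    have hlen' : l.length ≤ j := by
      rw [List.length_cons] at hlen
      omega
    have ih' := ih (QuotSMulTop x M) (quotPieces ℳ (x • (⊤ : Submodule R M))) E' j hdepth' hne' hl'
      hreg' hlen' N 𝒩 π' hπ'g hπ's hker' F
    rw [List.length_cons, Nat.add_sub_add_right, ih', step, List.map_cons, List.sum_cons, add_assoc,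
      ← WithBot.coe_add, ← WithTop.coe_add]

end Seq

end Groth.Agent.Lib.Helper93.GrAInv
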