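import Groth.Agent.Lib.Helper39.GrHullPrime
import Groth.Agent.Lib.Helper39.GrHomComp
import Groth.Agent.Lib.Helper39.GrSub
import Groth.Agent.Lib.Helper2.InjHull

/-!
# The *injective envelope of `R ⧸ m`, `m` a maximal ideal which is graded, is injective (helper93)
-/

set_option autoImplicit false
universe u
open GrLC DirectSum

namespace Groth.Agent.Lib.Helper93.GrHullMax

open Groth.Agent.Lib.Helper39 Groth.Agent.Lib.Helper2

section Lift
variable {ι : Type} [AddCommGroup ι] [DecidableEq ι]
  {R : Type u} [CommRing R] [IsNoetherianRing R]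
  (𝒜 : ι → AddSubgroup R) [GradedRing 𝒜]
  {E : Type u} [AddCommGroup E] [Module R E] (𝓔 : ι → AddSubgroup E) [DirectSum.Decomposition 𝓔]
  [SetLike.GradedSMul 𝒜 𝓔]

/-- If `E` is *injective, `i : E → I` is an injection, `J` is a graded ideal and `q ∈ I` has
`J • q ⊆ i(E)`, then there is `x₀ ∈ E` with `a • i x₀ = a • q` for all `a ∈ J`. -/
theorem exists_lift_of_smul_mem (hI : IsStarInj 𝒜 𝓔) {I : Type u} [AddCommGroup I] [Module R I]
    (i : E →ₗ[R] I) (hi : Function.Injective i) (J : Ideal R) (hJ : J.IsHomogeneous 𝒜) (q : I)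
    (hq : ∀ a ∈ J, a • q ∈ LinearMap.range i) :
    ∃ x₀ : E, ∀ a ∈ J, a • i x₀ = a • q := by
  let eqv := LinearEquiv.ofInjective i hi
  let g₀ : J →ₗ[R] LinearMap.range i :=
    LinearMap.codRestrict (LinearMap.range i) (LinearMap.toSpanSingleton R I q ∘ₗ J.subtype)
      (fun a => by
        have := hq a.1 a.2
        simpa using this)
  let g : J →ₗ[R] E := eqv.symm.toLinearMap ∘ₗ g₀
  have hg : ∀ a : J, i (g a) = (a : R) • q := by
    intro a
    have h1 : (eqv (eqv.symm (g₀ a)) : I) = i (eqv.symm (g₀ a)) := rfl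
    have h2 : i (g a) = (g₀ a : I) := by
      change i (eqv.symm (g₀ a)) = _
      rw [← h1, LinearEquiv.apply_symm_apply]
    rw [h2]
    simp [g₀]
  let decJ := subDecomposition 𝒜 J hJ
  have smulJ := subGradedSMul 𝒜 𝒜 J
  obtain ⟨h, hh⟩ := exists_extension_of_finite 𝒜 (subPieces 𝒜 J) 𝒜 𝓔 hI
    J.subtype (isGrHom_subtype 𝒜 J) Subtype.val_injective g
  refine ⟨h 1, fun a ha => ?_⟩
  have h3 : h a = g ⟨a, ha⟩ := LinearMap.congr_fun hh ⟨a, ha⟩
  rw [← map_smul, ← map_smul, smul_eq_mul, mul_one, h3, hg]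

end Lift

section Hull
variable {ι : Type} [AddCommGroup ι] [DecidableEq ι] [Module.Free ℤ ι] [Module.Finite ℤ ι]
  {R : Type u} [CommRing R] [IsNoetherianRing R]
  (𝒜 : ι → AddSubgroup R) [GradedRing 𝒜] (m : HomogeneousIdeal 𝒜) [hm : m.toIdeal.IsMaximal]
  {E : Type u} [AddCommGroup E] [Module R E] (𝓔 : ι → AddSubgroup E) [DirectSum.Decomposition 𝓔]
  [SetLike.GradedSMul 𝒜 𝓔] (e : (R ⧸ m.toIdeal) →ₗ[R] E)

/-- The *injective envelope of `R ⧸ m`, for a maximal ideal `m` which is graded, is an injective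
module. -/
theorem injective_of_isStarInjHull (he : IsStarInjHull 𝒜 (GrLC.quotGr 𝒜 m) 𝓔 e) :
    Module.Injective R E := by
  have hess : InjHull.IsEssentialInj e := isEssentialInj_of_isStarEss_quotGr 𝒜 m 𝓔 e he.toIsStarEss
  obtain ⟨I, _, _, i, hI, hi⟩ := exists_injective_embedding R E
  obtain ⟨Ē, C, hMĒ, hessĒ, hcompl⟩ := exists_essIn_isCompl hI (LinearMap.range i)
  -- the map `R ⧸ m → Ē`
  let e₂ : (R ⧸ m.toIdeal) →ₗ[R] Ē :=
    (i ∘ₗ e).codRestrict Ē (fun a => hMĒ ⟨e a, rfl⟩)
  have hess₂ : InjHull.IsEssentialInj e₂ := by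
    rw [isEssentialInj_iff]
    obtain ⟨h1, h2⟩ := (isEssentialInj_iff e).mp hess
    refine ⟨?_, ?_⟩
    · intro a b hab
      apply h1
      apply hi
      have := congrArg Subtype.val hab
      simpa [e₂] using this
    · intro x hx0
      have hx0' : (x : I) ≠ 0 := fun h => hx0 (Subtype.ext h)
      obtain ⟨r, hr0, y, hy⟩ := hessĒ x.1 x.2 hx0'
      have hy0 : y ≠ 0 := by
        intro h
        apply hr0
        rw [← hy, h, map_zero]
      obtain ⟨s, hs0, a, ha⟩ := h2 y hy0
      refine ⟨s * r, ?_, a, ?_⟩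
      · intro h
        apply hs0
        apply hi
        have := congrArg Subtype.val h
        rw [map_zero, map_smul, hy, ← mul_smul]
        simpa using this
      · apply Subtype.ext
        change i (e a) = ((s * r) • x : Ē)
        rw [ha, map_smul, hy, mul_smul]
        rfl
  have hprime : m.toIdeal.IsPrime := hm.isPrime
  -- every element of `Ē` lies in the image of `i`
  have key : ∀ n : ℕ, ∀ q ∈ Ē, (∀ r ∈ m.toIdeal ^ n, r • q = 0) → q ∈ LinearMap.range i := by
    intro n
    induction n with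
    | zero =>
      intro q _ h
      have := h 1 (by simp)
      rw [one_smul] at this
      rw [this]
      exact Submodule.zero_mem _
    | succ n ih =>
      intro q hq h
      have h1 : ∀ a ∈ m.toIdeal, a • q ∈ LinearMap.range i := by
        intro a ha
        refine ih (a • q) (Ē.smul_mem a hq) (fun r hr => ?_)
        rw [← mul_smul]
        refine h (r * a) ?_
        rw [pow_succ]
        exact Ideal.mul_mem_mul hr ha
      obtain ⟨x₀, hx₀⟩ := exists_lift_of_smul_mem 𝒜 𝓔 he.starInj i hi m.toIdeal m.isHomogeneous q h1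
      -- `z = q - i x₀` is killed by `m`
      have hz : ∀ a ∈ m.toIdeal, a • (q - i x₀) = 0 := by
        intro a ha
        rw [smul_sub, hx₀ a ha, sub_self]
      have hzĒ : q - i x₀ ∈ Ē := Ē.sub_mem hq (hMĒ ⟨x₀, rfl⟩)
      have hzM : q - i x₀ ∈ LinearMap.range i := by
        by_cases hz0 : q - i x₀ = 0
        · rw [hz0]; exact Submodule.zero_mem _
        · obtain ⟨r, hr0, hr⟩ := hessĒ _ hzĒ hz0
          have hrm : r ∉ m.toIdeal := fun hrm => hr0 (hz r hrm)
          obtain ⟨s, t, ht, hs⟩ := hm.exists_inv hrm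
          have h2 : t • (q - i x₀) = 0 := hz _ ht
          have h3 : q - i x₀ = s • (r • (q - i x₀)) := by
            rw [← mul_smul]
            nth_rewrite 1 [← one_smul R (q - i x₀)]
            rw [← hs, add_smul, h2, add_zero]
          rw [h3]
          exact Submodule.smul_mem _ s hr
      have : q = (q - i x₀) + i x₀ := by abel
      rw [this]
      exact Submodule.add_mem _ hzM ⟨x₀, rfl⟩
  have hle : Ē ≤ LinearMap.range i := by
    intro q hq
    obtain ⟨n, hn⟩ := exists_pow_smul_eq_zero_of_isEssentialInj 𝒜 m e₂ hess₂ ⟨q, hq⟩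
    refine key n q hq (fun r hr => ?_)
    have := congrArg Subtype.val (hn r hr)
    simpa using this
  have heq : LinearMap.range i = Ē := le_antisymm hMĒ hle
  have hinjR : Module.Injective R (LinearMap.range i) := by
    rw [heq]
    exact injective_of_isCompl hI hcompl
  refine injective_of_retract hinjR (LinearEquiv.ofInjective i hi).toLinearMap
    (LinearEquiv.ofInjective i hi).symm.toLinearMap ?_
  ext x
  simp

end Hull

end Groth.Agent.Lib.Helper93.GrHullMax
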