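import Mathlib

/-!
# Monotonicity of the Hilbert function via a generic linear form (helper93)

If the ideal generated by `R_1` contains a non-zerodivisor, then `dim_k R_n ≤ dim_k R_{n+1}`:
the "generic linear form" `f = Σ v_i X^i ∈ R[X]` (with `v_i` spanning `R_1`) is a non-zerodivisor of
`R[X]` by McCoy's theorem, and multiplication by `f` maps polynomials of degree `≤ D` with
coefficients in `R_n` injectively into polynomials of degree `≤ D + s` with coefficients in `R_{n+1}`.
-/

set_option autoImplicit false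
universe u

namespace Groth.Agent.Lib.Helper93.GrHilbMono

open Polynomial

theorem le_of_forall_mul_le {a b s : ℕ} (h : ∀ D : ℕ, (D + 1) * a ≤ (D + s + 1) * b) : a ≤ b := by
  by_contra hlt
  rw [not_le] at hlt
  have h1 := h (s * b + b)
  have h2 : (s * b + b + 1) * (b + 1) ≤ (s * b + b + 1) * a := Nat.mul_le_mul_left _ hlt
  nlinarith

section Main
variable {k : Type u} [Field k] {R : Type u} [CommRing R] [Algebra k R]
  (𝒜 : ℤ → AddSubgroup R) [GradedRing 𝒜]

/-- the polynomial with given coefficients -/
noncomputable def toPoly (V : Submodule k R) (D : ℕ) : (Fin (D + 1) → V) →ₗ[k] R[X] :=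
  ∑ l : Fin (D + 1), ((Polynomial.monomial (l : ℕ)).restrictScalars k) ∘ₗ V.subtype ∘ₗ
    (LinearMap.proj l : (Fin (D + 1) → V) →ₗ[k] V)

theorem toPoly_apply (V : Submodule k R) (D : ℕ) (c : Fin (D + 1) → V) :
    toPoly V D c = ∑ l : Fin (D + 1), Polynomial.monomial (l : ℕ) (c l : R) := by
  simp [toPoly]

theorem coeff_toPoly (V : Submodule k R) (D : ℕ) (c : Fin (D + 1) → V) (l : Fin (D + 1)) :
    (toPoly V D c).coeff l = c l := by
  rw [toPoly_apply, Polynomial.finsetSum_coeff]
  simp only [Polynomial.coeff_monomial]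
  rw [Finset.sum_eq_single l]
  · simp
  · intro b _ hb
    rw [if_neg]
    intro h
    exact hb (Fin.ext h)
  · simp

theorem coeff_toPoly_mem (V : Submodule k R) (D : ℕ) (c : Fin (D + 1) → V) (j : ℕ) :
    (toPoly V D c).coeff j ∈ V := by
  rw [toPoly_apply, Polynomial.finsetSum_coeff]
  refine Submodule.sum_mem _ (fun l _ => ?_)
  rw [Polynomial.coeff_monomial]
  split_ifs
  · exact (c l).2
  · exact zero_mem _

theorem natDegree_toPoly_le (V : Submodule k R) (D : ℕ) (c : Fin (D + 1) → V) :
    (toPoly V D c).natDegree ≤ D := by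
  rw [toPoly_apply]
  apply Polynomial.natDegree_sum_le_of_forall_le
  intro l _
  exact (Polynomial.natDegree_monomial_le _).trans (by omega)

theorem finrank_le_of_regular (n : ℤ) (V₁ V W : Submodule k R) (hV₁ : ∀ x, x ∈ V₁ ↔ x ∈ 𝒜 1)
    (hV : ∀ x, x ∈ V ↔ x ∈ 𝒜 n) (hW : ∀ x, x ∈ W ↔ x ∈ 𝒜 (n + 1)) [Module.Finite k V₁]
    [Module.Finite k V] [Module.Finite k W] (x₀ : R)
    (hx₀ : x₀ ∈ Ideal.span ((𝒜 1 : AddSubgroup R) : Set R)) (hreg : IsSMulRegular R x₀) :
    Module.finrank k V ≤ Module.finrank k W := by
  classical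
  obtain ⟨s, v, hv⟩ := Module.Finite.exists_fin (R := k) (M := V₁)
  let v' : Fin s → R := fun i => (v i : R)
  have hv'mem : ∀ i, v' i ∈ 𝒜 1 := fun i => (hV₁ _).mp (v i).2
  -- the ideal generated by R_1
  have hspan : Ideal.span ((𝒜 1 : AddSubgroup R) : Set R) ≤ Ideal.span (Set.range v') := by
    rw [Ideal.span_le]
    intro x hx
    have hxV : x ∈ V₁ := (hV₁ x).mpr hx
    have hx' : (⟨x, hxV⟩ : V₁) ∈ Submodule.span k (Set.range v) := by rw [hv]; trivial
    have key : ∀ y : V₁, y ∈ Submodule.span k (Set.range v) →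
        (y : R) ∈ Ideal.span (Set.range v') := by
      intro y hy
      induction hy using Submodule.span_induction with
      | mem y hy =>
        obtain ⟨i, rfl⟩ := hy
        exact Ideal.subset_span ⟨i, rfl⟩
      | zero => exact zero_mem _
      | add y z _ _ hy hz => exact add_mem hy hz
      | smul c y _ hy =>
        have : ((c • y : V₁) : R) = algebraMap k R c * (y : R) := by
          rw [Submodule.coe_smul, Algebra.smul_def]
        rw [this]
        exact Ideal.mul_mem_left _ _ hy
    exact key ⟨x, hxV⟩ hx'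
  -- the generic linear form
  let f : R[X] := ∑ i : Fin s, Polynomial.monomial (i : ℕ) (v' i)
  have hfcoeff : ∀ i : Fin s, f.coeff i = v' i := by
    intro i
    show (∑ i : Fin s, Polynomial.monomial (i : ℕ) (v' i)).coeff i = _
    rw [Polynomial.finsetSum_coeff]
    simp only [Polynomial.coeff_monomial]
    rw [Finset.sum_eq_single i]
    · simp
    · intro b _ hb
      rw [if_neg]
      intro h
      exact hb (Fin.ext h)
    · simp
  have hfmem : ∀ j : ℕ, f.coeff j ∈ 𝒜 1 := by
    intro j
    show (∑ i : Fin s, Polynomial.monomial (i : ℕ) (v' i)).coeff j ∈ _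
    rw [Polynomial.finsetSum_coeff]
    refine sum_mem (fun l _ => ?_)
    rw [Polynomial.coeff_monomial]
    split_ifs
    · exact hv'mem l
    · exact zero_mem _
  have hfdeg : f.natDegree ≤ s := by
    apply Polynomial.natDegree_sum_le_of_forall_le
    intro l _
    exact (Polynomial.natDegree_monomial_le _).trans (by omega)
  -- McCoy
  have hf : f ∈ nonZeroDivisors R[X] := by
    by_contra hnot
    obtain ⟨a, ha0, ha⟩ := Polynomial.notMem_nonZeroDivisors_iff.mp hnot
    apply ha0
    have hav : ∀ i, a * v' i = 0 := by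
      intro i
      have := congrArg (fun p => Polynomial.coeff p (i : ℕ)) ha
      simp only [Polynomial.coeff_smul, Polynomial.coeff_zero, smul_eq_mul] at this
      rw [hfcoeff] at this
      exact this
    have hax : ∀ x ∈ Ideal.span (Set.range v'), a * x = 0 := by
      intro x hx
      induction hx using Submodule.span_induction with
      | mem y hy =>
        obtain ⟨i, rfl⟩ := hy
        exact hav i
      | zero => simp
      | add y z _ _ hy hz => rw [mul_add, hy, hz, add_zero]
      | smul c y _ hy => rw [smul_eq_mul, mul_left_comm, hy, mul_zero]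
    have h0 : x₀ • a = 0 := by
      rw [smul_eq_mul, mul_comm]
      exact hax x₀ (hspan hx₀)
    exact hreg (h0.trans (smul_zero x₀).symm)
  -- the dimension count
  apply le_of_forall_mul_le (s := s)
  intro D
  -- the linear map
  let Ψ₀ : ∀ j : Fin (D + s + 1), (Fin (D + 1) → V) →ₗ[k] R := fun j =>
    ((Polynomial.lcoeff R (j : ℕ)).restrictScalars k) ∘ₗ (LinearMap.mulLeft k f) ∘ₗ toPoly V D
  have hΨ₀ : ∀ j c, Ψ₀ j c = (f * toPoly V D c).coeff j := fun j c => rfl
  have hΨmem : ∀ j c, Ψ₀ j c ∈ W := by
    intro j c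
    rw [hΨ₀, hW, Polynomial.coeff_mul]
    refine sum_mem (fun p _ => ?_)
    have h1 := hfmem p.1
    have h2 : (toPoly V D c).coeff p.2 ∈ 𝒜 n := (hV _).mp (coeff_toPoly_mem V D c p.2)
    have := SetLike.mul_mem_graded h1 h2
    rwa [add_comm] at this
  let Ψ : (Fin (D + 1) → V) →ₗ[k] (Fin (D + s + 1) → W) :=
    LinearMap.pi (fun j => (Ψ₀ j).codRestrict W (hΨmem j))
  have hΨinj : Function.Injective Ψ := by
    rw [injective_iff_map_eq_zero]
    intro c hc
    have hcoeff : ∀ j : Fin (D + s + 1), (f * toPoly V D c).coeff j = 0 := by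
      intro j
      have := congrArg (fun g => ((g j : W) : R)) hc
      simpa [Ψ, hΨ₀] using this
    have hprod : f * toPoly V D c = 0 := by
      ext j
      rw [Polynomial.coeff_zero]
      by_cases hj : j < D + s + 1
      · exact hcoeff ⟨j, hj⟩
      · apply Polynomial.coeff_eq_zero_of_natDegree_lt
        have := Polynomial.natDegree_mul_le (p := f) (q := toPoly V D c)
        have := natDegree_toPoly_le V D c
        omega
    have hT : toPoly V D c = 0 := by
      have := (mem_nonZeroDivisors_iff.mp hf).2 (toPoly V D c)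
      apply this
      rw [mul_comm]
      exact hprod
    funext l
    apply Subtype.ext
    rw [← coeff_toPoly V D c l, hT]
    simp
  have hle := LinearMap.finrank_le_finrank_of_injective hΨinj
  rw [Module.finrank_pi_fintype, Module.finrank_pi_fintype] at hle
  simpa using hle

end Main

end Groth.Agent.Lib.Helper93.GrHilbMono
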