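import Groth.Prelude.Def_AlgGrp
import Mathlib.AlgebraicGeometry.Morphisms.UniversallyOpen
import Mathlib.AlgebraicGeometry.Morphisms.FiniteType
import Mathlib.AlgebraicGeometry.PullbackCarrier
import Mathlib.AlgebraicGeometry.Noetherian

/-!
# Group scheme actions: the shear isomorphism, openness of the action map (helper93)
-/

set_option autoImplicit false
universe u

open CategoryTheory CategoryTheory.Limits MonoidalCategory CartesianMonoidalCategory MonObj
  AlgebraicGeometry

namespace Groth.Agent.Lib.Helper93.ActionOpen

section General

variable {S : Scheme.{u}} {G X : Over S} [GrpObj G]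

/-- points form of the unit law -/
theorem act_one (a : AlgGrp.Action G X) {T : Over S} (x : T ⟶ X) :
    lift (1 : T ⟶ G) x ≫ a.act = x := by
  rw [Hom.one_def, ← lift_whiskerRight_assoc (toUnit T) x η[G], a.one_act, leftUnitor_hom, lift_snd]

/-- points form of the multiplication law -/
theorem act_mul (a : AlgGrp.Action G X) {T : Over S} (g h : T ⟶ G) (x : T ⟶ X) :
    lift (g * h) x ≫ a.act = lift g (lift h x ≫ a.act) ≫ a.act := by
  rw [Hom.mul_def, ← lift_whiskerRight_assoc, a.mul_act, lift_lift_associator_hom_assoc,
    lift_whiskerLeft_assoc]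

theorem act_inv_act (a : AlgGrp.Action G X) {T : Over S} (g : T ⟶ G) (x : T ⟶ X) :
    lift g⁻¹ (lift g x ≫ a.act) ≫ a.act = x := by
  rw [← act_mul, inv_mul_cancel, act_one]

theorem act_act_inv (a : AlgGrp.Action G X) {T : Over S} (g : T ⟶ G) (x : T ⟶ X) :
    lift g (lift g⁻¹ x ≫ a.act) ≫ a.act = x := by
  rw [← act_mul, mul_inv_cancel, act_one]

/-- The shear isomorphism `(g, x) ↦ (g, g • x)` of `G ⊗ X`. -/
noncomputable def shear (a : AlgGrp.Action G X) : G ⊗ X ≅ G ⊗ X where
  hom := lift (fst G X) a.act
  inv := lift (fst G X) (lift (fst G X)⁻¹ (snd G X) ≫ a.act)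
  hom_inv_id := by
    apply CartesianMonoidalCategory.hom_ext
    · rw [Category.assoc, lift_fst, lift_fst, Category.id_comp]
    · rw [Category.assoc, lift_snd, Category.id_comp, comp_lift_assoc, lift_snd]
      have h1 : lift (fst G X) a.act ≫ (fst G X)⁻¹ = (fst G X)⁻¹ := by
        rw [Hom.inv_def, ← Category.assoc, lift_fst]
      rw [h1]
      have := act_inv_act a (fst G X) (snd G X)
      rw [lift_fst_snd, Category.id_comp] at this
      exact this
  inv_hom_id := by
    apply CartesianMonoidalCategory.hom_ext
    · rw [Category.assoc, lift_fst, lift_fst, Category.id_comp]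
    · rw [Category.assoc, lift_snd, Category.id_comp]
      have h2 : lift (fst G X) (lift (fst G X)⁻¹ (snd G X) ≫ a.act) ≫ a.act = snd G X :=
        act_act_inv a (fst G X) (snd G X)
      exact h2

@[simp] theorem shear_hom_snd (a : AlgGrp.Action G X) : (shear a).hom ≫ snd G X = a.act :=
  lift_snd _ _

/-- The action map is open when `G → S` is universally open. -/
theorem isOpenMap_act (a : AlgGrp.Action G X) [UniversallyOpen G.hom] :
    IsOpenMap a.act.left.base := by
  have h1 : a.act.left = (shear a).hom.left ≫ (snd G X).left := by
    rw [← Over.comp_left, shear_hom_snd]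
  have hiso : IsIso (shear a).hom.left :=
    inferInstanceAs (IsIso ((Over.forget S).map (shear a).hom))
  have h2 : UniversallyOpen (snd G X).left := by
    rw [Over.snd_left]
    infer_instance
  have h3 : UniversallyOpen a.act.left := by
    rw [h1]
    infer_instance
  exact a.act.left.isOpenMap

/-- For `f : Y ⟶ Z` over `S`, the square `G ⊗ Y → G ⊗ Z`, `Y → Z` is a pullback of schemes. -/
theorem isPullback_whiskerLeft_snd (G : Over S) {Y Z : Over S} (f : Y ⟶ Z) :
    IsPullback (G ◁ f).left (snd G Y).left (snd G Z).left f.left := by
  have hright : IsPullback (pullback.fst G.hom Z.hom) (pullback.snd G.hom Z.hom) G.hom Z.hom :=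
    IsPullback.of_hasPullback _ _
  have houter : IsPullback ((G ◁ f).left ≫ pullback.fst G.hom Z.hom) (pullback.snd G.hom Y.hom)
      G.hom (f.left ≫ Z.hom) := by
    rw [Over.whiskerLeft_left_fst, Over.w f]
    exact IsPullback.of_hasPullback _ _
  exact IsPullback.of_right houter (Over.whiskerLeft_left_snd f) hright

end General

section Field

variable {k : Type u} [Field k]

/-- A morphism locally of finite type to a locally Noetherian scheme is locally of finite
presentation. -/
theorem locallyOfFinitePresentation_of_isLocallyNoetherian {X Y : Scheme.{u}} (f : X ⟶ Y)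
    [IsLocallyNoetherian Y] [LocallyOfFiniteType f] : LocallyOfFinitePresentation f := by
  rw [HasRingHomProperty.iff_appLE (P := @LocallyOfFinitePresentation)]
  intro U V e
  have := IsLocallyNoetherian.component_noetherian U
  have h := HasRingHomProperty.appLE (P := @LocallyOfFiniteType) f inferInstance U V e
  exact RingHom.FinitePresentation.of_finiteType.mp h

/-- A scheme locally of finite type over a field is universally open over it. -/
theorem universallyOpen_of_field {X : Scheme.{u}} (f : X ⟶ Spec (CommRingCat.of k))
    [LocallyOfFiniteType f] : UniversallyOpen f := by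
  have : LocallyOfFinitePresentation f := locallyOfFinitePresentation_of_isLocallyNoetherian f
  have : Subsingleton ↥(Spec (CommRingCat.of k)) :=
    (inferInstance : Subsingleton (PrimeSpectrum k))
  have : Flat f := inferInstance
  infer_instance

end Field

end Groth.Agent.Lib.Helper93.ActionOpen
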