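import Groth.Agent.Lib.Helper93.Comod
import Groth.Prelude.Def_ComodTens

/-! # Pushing a comodule structure along a morphism of coalgebras -/

universe u v v' w w'

open TensorProduct

namespace Groth.Agent.Lib.Helper93.Comod

section Push

variable {k : Type u} [CommRing k]
variable {C : Type v} [AddCommGroup C] [Module k C] [Coalgebra k C]
variable {D : Type v'} [AddCommGroup D] [Module k D] [Coalgebra k D]
variable {V : Type w} [AddCommGroup V] [Module k V]

/-- The coaction of `D` obtained from a coaction of `C` and a morphism of coalgebras `C → D`. -/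
@[reducible] noncomputable def push (i : C →ₗc[k] D) (c : HopfRep.Comod k C V) :
    HopfRep.Comod k D V where
  coact := (i : C →ₗ[k] D).lTensor V ∘ₗ c.coact
  coassoc := by
    apply LinearMap.ext
    intro v
    simp only [LinearMap.coe_comp, Function.comp_apply, LinearEquiv.coe_coe]
    have hc := LinearMap.congr_fun c.coassoc v
    simp only [LinearMap.coe_comp, Function.comp_apply, LinearEquiv.coe_coe] at hc
    have h1 : ((i : C →ₗ[k] D).lTensor V ∘ₗ c.coact).rTensor D ((i : C →ₗ[k] D).lTensor V (c.coact v)) =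
        ((i : C →ₗ[k] D).lTensor V).rTensor D
          ((i : C →ₗ[k] D).lTensor (V ⊗[k] C) (c.coact.rTensor C (c.coact v))) := by
      rw [LinearMap.rTensor_comp, LinearMap.comp_apply,
        ComodTens.lTensor_rTensor_comm (i : C →ₗ[k] D) c.coact]
    rw [h1, ComodTens.assoc_rTensor_lTensor_lTensor, hc, ← LinearMap.comp_apply,
      ← LinearMap.lTensor_comp, CoalgHomClass.map_comp_comul i, LinearMap.lTensor_comp,
      LinearMap.comp_apply]
  counit_comp := by
    apply LinearMap.ext
    intro v
    have hc := LinearMap.congr_fun c.counit_comp v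
    simp only [LinearMap.coe_comp, Function.comp_apply] at hc ⊢
    rw [← LinearMap.comp_apply, ← LinearMap.lTensor_comp, CoalgHomClass.counit_comp i]
    exact hc

theorem push_coact (i : C →ₗc[k] D) (c : HopfRep.Comod k C V) :
    (push i c).coact = (i : C →ₗ[k] D).lTensor V ∘ₗ c.coact := rfl

omit [Coalgebra k C] [Coalgebra k D] in
theorem rid_lTensor_lTensor (g : C →ₗ[k] D) (ψ : D →ₗ[k] k) (x : V ⊗[k] C) :
    (TensorProduct.rid k V) (ψ.lTensor V (g.lTensor V x)) =
      (TensorProduct.rid k V) ((ψ ∘ₗ g).lTensor V x) := by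
  rw [LinearMap.lTensor_comp, LinearMap.comp_apply]

/-- If the `D`-coaction is the `C`-coaction followed by `V ⊗ i`, the action of a linear form `ψ`
on `D` is the action of `ψ ∘ i`. -/
theorem dualAct_of_push (i : C →ₗc[k] D) [HopfRep.Comod k C V] [HopfRep.Comod k D V]
    (hcd : (i : C →ₗ[k] D).lTensor V ∘ₗ HopfRep.Comod.coact (k := k) (A := C) =
      HopfRep.Comod.coact (k := k) (A := D) (V := V)) (ψ : D →ₗ[k] k) :
    dualAct D V ψ = dualAct C V (ψ ∘ₗ (i : C →ₗ[k] D)) := by
  apply LinearMap.ext
  intro v
  rw [dualAct_apply, dualAct_apply, ← hcd, LinearMap.comp_apply, rid_lTensor_lTensor]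

end Push

section PushField

variable {k : Type u} [Field k]
variable {C : Type v} [AddCommGroup C] [Module k C] [Coalgebra k C]
variable {D : Type v'} [AddCommGroup D] [Module k D] [Coalgebra k D]
variable {V : Type w} [AddCommGroup V] [Module k V] [HopfRep.Comod k C V] [HopfRep.Comod k D V]

/-- For an injective morphism of coalgebras over a field, subcomodules for the pushed structure are
the same as subcomodules for the original one. -/
theorem isSubcomod_push_iff (i : C →ₗc[k] D) (hi : Function.Injective i)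
    (hcd : (i : C →ₗ[k] D).lTensor V ∘ₗ HopfRep.Comod.coact (k := k) (A := C) =
      HopfRep.Comod.coact (k := k) (A := D) (V := V)) (W : Submodule k V) :
    HopfRep.IsSubcomod (k := k) (A := D) W ↔ HopfRep.IsSubcomod (k := k) (A := C) W := by
  rw [isSubcomod_iff, isSubcomod_iff]
  constructor
  · intro h φ w hw
    obtain ⟨g, hg⟩ := LinearMap.exists_leftInverse_of_injective (i : C →ₗ[k] D)
      (LinearMap.ker_eq_bot.mpr hi)
    have hψ : (φ ∘ₗ g) ∘ₗ (i : C →ₗ[k] D) = φ := by
      rw [LinearMap.comp_assoc, hg, LinearMap.comp_id]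
    rw [← hψ, ← dualAct_of_push i hcd (φ ∘ₗ g)]
    exact h (φ ∘ₗ g) w hw
  · intro h ψ w hw
    rw [dualAct_of_push i hcd ψ]
    exact h _ w hw

end PushField

end Groth.Agent.Lib.Helper93.Comod

namespace Groth.Agent.Lib.Helper93.Comod

section Pull

variable {k : Type u} [Field k]
variable {C : Type v} [AddCommGroup C] [Module k C] [Coalgebra k C]
variable {D : Type v'} [AddCommGroup D] [Module k D] [Coalgebra k D]
variable {V : Type w} [AddCommGroup V] [Module k V]

/-- Descending a comodule structure along an injective morphism of coalgebras over a field: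
a linear map `ρ : V → V ⊗ C` which composed with `V ⊗ i` is a `D`-coaction is a `C`-coaction. -/
@[reducible] noncomputable def pull (i : C →ₗc[k] D) (hi : Function.Injective i)
    (d : HopfRep.Comod k D V) (ρ : V →ₗ[k] V ⊗[k] C)
    (h : (i : C →ₗ[k] D).lTensor V ∘ₗ ρ = d.coact) : HopfRep.Comod k C V where
  coact := ρ
  coassoc := by
    apply LinearMap.ext
    intro v
    simp only [LinearMap.coe_comp, Function.comp_apply, LinearEquiv.coe_coe]
    have hd := LinearMap.congr_fun d.coassoc v
    simp only [LinearMap.coe_comp, Function.comp_apply, LinearEquiv.coe_coe] at hd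
    have hinj : Function.Injective ((TensorProduct.map (i : C →ₗ[k] D) (i : C →ₗ[k] D)).lTensor V) :=
      Module.Flat.lTensor_preserves_injective_linearMap _
        (TensorProduct.map_injective_of_flat_flat _ _ hi hi)
    apply hinj
    have hv : ∀ x : V, (i : C →ₗ[k] D).lTensor V (ρ x) = d.coact x := fun x => LinearMap.congr_fun h x
    have hA : (TensorProduct.map (i : C →ₗ[k] D) (i : C →ₗ[k] D)).lTensor V
        ((TensorProduct.assoc k V C C) (ρ.rTensor C (ρ v))) =
        (TensorProduct.assoc k V D D) ((((i : C →ₗ[k] D).lTensor V).rTensor D)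
          ((i : C →ₗ[k] D).lTensor (V ⊗[k] C) (ρ.rTensor C (ρ v)))) :=
      (ComodTens.assoc_rTensor_lTensor_lTensor (i : C →ₗ[k] D) (ρ.rTensor C (ρ v))).symm
    have hB : (i : C →ₗ[k] D).lTensor (V ⊗[k] C) (ρ.rTensor C (ρ v)) =
        ρ.rTensor D ((i : C →ₗ[k] D).lTensor V (ρ v)) :=
      ComodTens.lTensor_rTensor_comm (i : C →ₗ[k] D) ρ (ρ v)
    have hC : (((i : C →ₗ[k] D).lTensor V).rTensor D) (ρ.rTensor D ((i : C →ₗ[k] D).lTensor V (ρ v))) =
        d.coact.rTensor D (d.coact v) := by
      rw [← LinearMap.comp_apply, ← LinearMap.rTensor_comp, h, hv]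
    have hR : (TensorProduct.map (i : C →ₗ[k] D) (i : C →ₗ[k] D)).lTensor V
        ((CoalgebraStruct.comul (R := k) (A := C)).lTensor V (ρ v)) =
        (CoalgebraStruct.comul (R := k) (A := D)).lTensor V (d.coact v) := by
      rw [← LinearMap.comp_apply, ← LinearMap.lTensor_comp, CoalgHomClass.map_comp_comul i,
        LinearMap.lTensor_comp, LinearMap.comp_apply, hv]
    rw [hA, hB, hC, hd, hR]
  counit_comp := by
    apply LinearMap.ext
    intro v
    have hd := LinearMap.congr_fun d.counit_comp v
    have hv : (i : C →ₗ[k] D).lTensor V (ρ v) = d.coact v := LinearMap.congr_fun h v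
    have h1 : (CoalgebraStruct.counit (R := k) (A := C)).lTensor V (ρ v) =
        (CoalgebraStruct.counit (R := k) (A := D)).lTensor V ((i : C →ₗ[k] D).lTensor V (ρ v)) := by
      rw [← LinearMap.comp_apply ((CoalgebraStruct.counit (R := k) (A := D)).lTensor V),
        ← LinearMap.lTensor_comp, CoalgHomClass.counit_comp i]
    rw [LinearMap.comp_apply, h1, hv]
    exact hd

end Pull

end Groth.Agent.Lib.Helper93.Comod

namespace Groth.Agent.Lib.Helper93.Comod

section Admissible

variable {k : Type u} [Field k]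
variable {C : Type v} [AddCommGroup C] [Module k C]
variable {D : Type v'} [AddCommGroup D] [Module k D]
variable {M : Type w} [AddCommGroup M] [Module k M]

/-- Over a field, an element of `M ⊗ D` comes from `M ⊗ C` along `g : C → D` as soon as it is
killed by all linear forms of `D` vanishing on the image of `g`. -/
theorem mem_range_lTensor_of_forall (g : C →ₗ[k] D) (x : M ⊗[k] D)
    (h : ∀ ψ : D →ₗ[k] k, ψ ∘ₗ g = 0 → (TensorProduct.rid k M) (ψ.lTensor M x) = 0) :
    x ∈ LinearMap.range (g.lTensor M) := by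
  have hex : Function.Exact (g.lTensor M) ((LinearMap.range g).mkQ.lTensor M) :=
    lTensor_exact M g.exact_map_mkQ_range (Submodule.mkQ_surjective _)
  rw [LinearMap.mem_range]
  apply (hex x).mp
  apply eq_zero_of_forall_lTensor_eq_zero
  intro χ
  rw [← LinearMap.comp_apply (χ.lTensor M), ← LinearMap.lTensor_comp]
  apply h
  apply LinearMap.ext
  intro c
  have h0 : (Submodule.Quotient.mk (g c) : D ⧸ LinearMap.range g) = 0 :=
    (Submodule.Quotient.mk_eq_zero _).mpr ⟨c, rfl⟩
  simp [h0]

omit [Field k] in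
theorem rid_lTensor_eq_zero_of_mem_range {k : Type u} [CommRing k] {C : Type v} [AddCommGroup C]
    [Module k C] {D : Type v'} [AddCommGroup D] [Module k D] {M : Type w} [AddCommGroup M]
    [Module k M] (g : C →ₗ[k] D) (x : M ⊗[k] D)
    (hx : x ∈ LinearMap.range (g.lTensor M)) (ψ : D →ₗ[k] k) (hψ : ψ ∘ₗ g = 0) :
    (TensorProduct.rid k M) (ψ.lTensor M x) = 0 := by
  obtain ⟨y, rfl⟩ := hx
  rw [← LinearMap.comp_apply (ψ.lTensor M), ← LinearMap.lTensor_comp, hψ]
  simp

end Admissible

section Least

variable {k : Type u} [Field k]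
variable {C : Type v} [AddCommGroup C] [Module k C]
variable {D : Type v'} [AddCommGroup D] [Module k D] [Coalgebra k D]
variable {V : Type w} [AddCommGroup V] [Module k V] [HopfRep.Comod k D V]

/-- The quotient `V ⧸ K` "comes from `C`" iff `K` contains the images of all `dualAct ψ` for the
linear forms `ψ` on `D` vanishing on the image of `C`. -/
theorem admissible_iff (g : C →ₗ[k] D) (K : Submodule k V) :
    (∀ v : V, K.mkQ.rTensor D (HopfRep.Comod.coact (k := k) (A := D) v) ∈
        LinearMap.range (g.lTensor (V ⧸ K))) ↔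
      ∀ ψ : D →ₗ[k] k, ψ ∘ₗ g = 0 → ∀ v : V, dualAct D V ψ v ∈ K := by
  constructor
  · intro h ψ hψ v
    have h1 := rid_lTensor_eq_zero_of_mem_range g _ (h v) ψ hψ
    rw [rid_lTensor_rTensor] at h1
    rw [dualAct_apply]
    simpa using h1
  · intro h v
    apply mem_range_lTensor_of_forall
    intro ψ hψ
    rw [rid_lTensor_rTensor]
    have := h ψ hψ v
    rw [dualAct_apply] at this
    simpa using this

/-- There is a least subcomodule whose quotient comes from `C`. -/
theorem exists_least_admissible (g : C →ₗ[k] D) :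
    ∃ K : Submodule k V, HopfRep.IsSubcomod (k := k) (A := D) K ∧
      (∀ v : V, K.mkQ.rTensor D (HopfRep.Comod.coact (k := k) (A := D) v) ∈
        LinearMap.range (g.lTensor (V ⧸ K))) ∧
      ∀ K' : Submodule k V, HopfRep.IsSubcomod (k := k) (A := D) K' →
        (∀ v : V, K'.mkQ.rTensor D (HopfRep.Comod.coact (k := k) (A := D) v) ∈
          LinearMap.range (g.lTensor (V ⧸ K'))) → K ≤ K' := by
  let S : Set (Submodule k V) := {K' | HopfRep.IsSubcomod (k := k) (A := D) K' ∧
    ∀ ψ : D →ₗ[k] k, ψ ∘ₗ g = 0 → ∀ v : V, dualAct D V ψ v ∈ K'}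
  refine ⟨sInf S, ?_, ?_, ?_⟩
  · rw [isSubcomod_iff]
    intro φ w hw
    rw [Submodule.mem_sInf] at hw ⊢
    intro K' hK'
    exact (isSubcomod_iff K').mp hK'.1 φ w (hw K' hK')
  · rw [admissible_iff]
    intro ψ hψ v
    rw [Submodule.mem_sInf]
    intro K' hK'
    exact hK'.2 ψ hψ v
  · intro K' hK' hadm
    exact sInf_le ⟨hK', (admissible_iff g K').mp hadm⟩

end Least

end Groth.Agent.Lib.Helper93.Comod
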