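import Groth.Agent.Lib.Helper93.CechAug
import Groth.Agent.Lib.Helper5.CechZero
import Mathlib.Algebra.Homology.ShortComplex.Ab

/-!
# `H¹` of the augmented Čech complex of a sheaf (helper93)

For an abelian sheaf `G` and a family `U`, `H¹` of the augmented Čech complex is the cokernel of
the restriction `G(⊤) → G(⋃ U_i)`, and `H⁰` is its kernel.
-/

set_option autoImplicit false
universe u
open CategoryTheory CategoryTheory.Limits Opposite TopologicalSpace
open Groth.Agent.Lib.Helper1.Cech Groth.Agent.Lib.Helper93.CechAug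
open Groth.Agent.Lib.Helper5 Groth.Agent.Lib.Lead

namespace Groth.Agent.Lib.Helper93.CechAugH1

variable {X : TopCat.{u}} {ι : Type u} (U : ι → Opens X) (G : CohTop.Ab X)

lemma aug_eq_cechAug_res (t : G.obj.obj (op ⊤)) :
    aug U G.obj t = cechAug U G.obj (G.obj.map (homOfLE (le_top : iSup U ≤ ⊤)).op t) := by
  refine ext (U := U) (P := G.obj) (q := 0) (fun x => ?_)
  rw [comp_aug]
  refine Eq.trans ?_ (cechAug_apply_π U G.obj _ x).symm
  exact (map_map_apply G.obj _ _ t).symm

/-- the kernel of the augmentation is the kernel of the restriction to the union. -/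
lemma ker_aug_eq :
    (aug U G.obj).hom.ker = (G.obj.map (homOfLE (le_top : iSup U ≤ ⊤)).op).hom.ker := by
  ext t
  rw [AddMonoidHom.mem_ker, AddMonoidHom.mem_ker]
  constructor
  · intro h
    apply cechAug_injective U G
    rw [map_zero]
    exact (aug_eq_cechAug_res U G t).symm.trans h
  · intro h
    refine (aug_eq_cechAug_res U G t).trans ?_
    change cechAug U G.obj ((G.obj.map (homOfLE (le_top : iSup U ≤ ⊤)).op).hom t) = 0
    rw [h, map_zero]

/-- **`H¹` of the augmented Čech complex of a sheaf** is the cokernel of the restriction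
`G(⊤) → G(⋃ U_i)`. -/
theorem nonempty_quotient_addEquiv_homology_one :
    Nonempty ((G.obj.obj (op (iSup U)) ⧸ (G.obj.map (homOfLE (le_top : iSup U ≤ ⊤)).op).hom.range) ≃+
      ((E U G.obj).homology 1 : AddCommGrpCat.{u})) := by
  let S := (E U G.obj).sc' 0 1 2
  have e1 : (E U G.obj).homology 1 ≅ S.homology :=
    (E U G.obj).homologyIsoSc' 0 1 2 (by simp) (by simp)
  have e2 := S.abHomologyIso
  let ca : G.obj.obj (op (iSup U)) ⟶ S.X₂ := cechAug U G.obj
  let ψ : G.obj.obj (op (iSup U)) →+ S.g.hom.ker :=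
    ca.hom.codRestrict _ (fun s => AddMonoidHom.mem_ker.mpr
      (ConcreteCategory.congr_hom (cechAug_d U G.obj) s))
  have hψ : Function.Bijective ψ := by
    constructor
    · intro s s' h
      exact cechAug_injective U G (congrArg Subtype.val h)
    · rintro ⟨c, hc⟩
      obtain ⟨s, hs⟩ := cechAug_exact U G c (AddMonoidHom.mem_ker.mp hc)
      exact ⟨s, Subtype.ext hs⟩
  let e3 : G.obj.obj (op (iSup U)) ≃+ S.g.hom.ker := AddEquiv.ofBijective ψ hψ
  have hmap : ((G.obj.map (homOfLE (le_top : iSup U ≤ ⊤)).op).hom.range).map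
      (e3 : G.obj.obj (op (iSup U)) →+ S.g.hom.ker) = S.abToCycles.range := by
    ext z
    constructor
    · rintro ⟨_, ⟨t, rfl⟩, rfl⟩
      refine ⟨t, Subtype.ext ?_⟩
      exact aug_eq_cechAug_res U G t
    · rintro ⟨t, rfl⟩
      refine ⟨_, ⟨t, rfl⟩, Subtype.ext ?_⟩
      exact (aug_eq_cechAug_res U G t).symm
  exact ⟨(QuotientAddGroup.congr _ _ e3 hmap).trans
    (e2.symm ≪≫ e1.symm).addCommGroupIsoToAddEquiv⟩

end Groth.Agent.Lib.Helper93.CechAugH1
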