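import Groth.Agent.Lib.Helper93.CechKoszulFlasque
import Groth.Agent.Lib.Helper93.CechAugH1
import Groth.Agent.Lib.Helper17.CechHHLin
import Groth.Agent.S6031
import Groth.Prelude.Def_LocCohZ
import Groth.Prelude.Def_Wider

/-!
# `colim_n H^i(f^n; M)` is the cohomology of `M~` with supports in `V(f)` (helper93)
-/

set_option autoImplicit false
universe u
open CategoryTheory CategoryTheory.Limits Opposite TopologicalSpace AlgebraicGeometry CohIII
open Groth.Agent.Lib.Helper1.Cech Groth.Agent.Lib.Helper93.CechAug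
open Groth.Agent.Lib.Helper93.CechAugSpec Groth.Agent.Lib.Helper93.CechKoszul
open Groth.Agent.Lib.Helper93.CechKoszulFlasque Groth.Agent.Lib.Helper93.CechAugH1
open Groth.Agent.Lib.Helper93.KoszulLC Groth.Agent.Lib.Helper47
open Groth.Agent.Lib.Helper5 Groth.Agent.Lib.Lead

namespace Groth.Agent.Lib.Helper93.LocCohKoszul

section ev

variable {X : TopCat.{u}} (F : CohTop.Ab X)

/-- maps out of `ℤ_V` are sections over `V`, additively. -/
noncomputable def evAdd (V : Opens X) : (ZU V ⟶ F) ≃+ F.obj.obj (op V) :=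
  AddEquiv.ofBijective
    ({ toFun := ZUev V F
       map_zero' := by
         unfold ZUev
         rfl
       map_add' := fun φ ψ => by
         unfold ZUev
         rfl } : (ZU V ⟶ F) →+ F.obj.obj (op V)) (ZUev_bijective V F)

/-- `H^0(V, F) = F(V)`. -/
noncomputable def ev0 (V : Opens X) : CohTop.HU F 0 V ≃+ F.obj.obj (op V) :=
  (Abelian.Ext.addEquiv₀ (X := ZU V) (Y := F)).trans (evAdd F V)

lemma ev0_res {V W : Opens X} (h : W ≤ V) (x : CohTop.HU F 0 V) :
    ev0 F W (CohTop.res F 0 h x) = F.obj.map (homOfLE h).op (ev0 F V x) := by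
  obtain ⟨φ, rfl⟩ := (Abelian.Ext.addEquiv₀ (X := ZU V) (Y := F)).symm.surjective x
  rw [HU_res_apply]
  change evAdd F W (Abelian.Ext.addEquiv₀ ((Abelian.Ext.mk₀ (ZUmap h)).comp
    (Abelian.Ext.mk₀ φ) (zero_add 0))) = F.obj.map (homOfLE h).op
      (evAdd F V (Abelian.Ext.addEquiv₀ (Abelian.Ext.mk₀ φ)))
  have hm : ∀ {A B : CohTop.Ab X} (ψ : A ⟶ B),
      Abelian.Ext.addEquiv₀ (Abelian.Ext.mk₀ ψ) = ψ := fun ψ => by
    rw [← Abelian.Ext.addEquiv₀_symm_apply, AddEquiv.apply_symm_apply]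
  rw [Abelian.Ext.mk₀_comp_mk₀, hm, hm]
  exact ZUev_map h F φ

/-- the kernel of the connecting map `H^0(W, F) → H^1_Z(X, F)` is the image of `H^0(X, F)`. -/
lemma ker_delta_zero (W : Opens X) :
    (LocCohZ.delta F 0 (le_top : W ≤ ⊤)).ker = (CohTop.res F 0 (le_top : W ≤ ⊤)).range := by
  have hS := LocCohZ.zqSeq_shortExact (X := X) (le_top : W ≤ ⊤)
  ext x
  constructor
  · intro hx
    obtain ⟨x₂, hx₂⟩ := Abelian.Ext.contravariant_sequence_exact₁ hS F x
      (show 1 + 0 = 0 + 1 by omega) (AddMonoidHom.mem_ker.mp hx)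
    exact ⟨x₂, hx₂⟩
  · rintro ⟨x₂, rfl⟩
    rw [AddMonoidHom.mem_ker]
    change hS.extClass.comp ((Abelian.Ext.mk₀ (LocCohZ.zqSeq (le_top : W ≤ ⊤)).f).comp x₂
      (zero_add 0)) (show 1 + 0 = 0 + 1 by omega) = 0
    rw [ShortComplex.ShortExact.extClass_comp_assoc]

/-- if the connecting map `H^0(W, F) → H^1_Z(X, F)` is surjective, `H^1_Z(X, F)` is the cokernel
of the restriction `F(X) → F(W)`. -/
theorem nonempty_HZ_one_addEquiv (W : Opens X)
    (hsurj : Function.Surjective (LocCohZ.delta F 0 (le_top : W ≤ ⊤))) :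
    Nonempty (LocCohZ.HZc F 1 W ≃+
      F.obj.obj (op W) ⧸ (F.obj.map (homOfLE (le_top : W ≤ ⊤)).op).hom.range) := by
  have hmap : ((CohTop.res F 0 (le_top : W ≤ ⊤)).range).map
      (ev0 F W : CohTop.HU F 0 W →+ F.obj.obj (op W)) =
      (F.obj.map (homOfLE (le_top : W ≤ ⊤)).op).hom.range := by
    ext z
    constructor
    · rintro ⟨_, ⟨x, rfl⟩, rfl⟩
      exact ⟨ev0 F ⊤ x, (ev0_res F (le_top : W ≤ ⊤) x).symm⟩
    · rintro ⟨t, rfl⟩
      refine ⟨_, ⟨(ev0 F ⊤).symm t, rfl⟩, ?_⟩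
      refine (ev0_res F (le_top : W ≤ ⊤) _).trans ?_
      rw [AddEquiv.apply_symm_apply]
  exact ⟨((QuotientAddGroup.quotientKerEquivOfSurjective _ hsurj).symm.trans
    (QuotientAddGroup.quotientAddEquivOfEq (ker_delta_zero F W))).trans
    (QuotientAddGroup.congr _ _ (ev0 F W) hmap)⟩

end ev

section spec

open Groth.Agent.S0464 Groth.Agent.Lib.Helper17.LerayNat Groth.Agent.Lib.Helper17.CechHHLin

variable {R : CommRingCat.{u}} (fs : List R) (M : ModuleCat.{u} R)

lemma isAffineOpen_basicOpen (f : R) (W : (Spec R).Opens)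
    (hW : W = PrimeSpectrum.basicOpen f) : IsAffineOpen W := by
  have h : W = (Spec R).basicOpen ((Scheme.ΓSpecIso R).inv f) :=
    hW.trans (basicOpen_eq_of_affine f).symm
  rw [h]
  exact (isAffineOpen_top (Spec R)).basicOpen _

lemma acyc_D : Acyc (X := (Spec R).toTopCat) (D fs) (G M) := by
  refine acyc_of_isAffineOpen (tilde M) (D fs) (fun p a => ?_)
  exact isAffineOpen_basicOpen (∏ k, fam fs (a k)) _
    (basicOpen_prod_eq_iInf (fun k => fam fs (a k))).symm

/-- **Degree `0`.** -/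
theorem nonempty_koszulHLim_zero_addEquiv_HZ :
    Nonempty (koszulHLim fs M 0 ≃+
      LocCohZ.HZc (X := (Spec R).toTopCat) (G M) 0 (iSup (D fs))) := by
  obtain ⟨e1⟩ := nonempty_ker_aug_addEquiv fs M
  let e3 : koszulHLim fs M 0 ≃ₗ[R] powTorsionList fs M :=
    (LinearEquiv.ofInjective (kosEps fs M) (kosEps_injective fs _)) ≪≫ₗ
      LinearEquiv.ofEq _ _ (range_kosEps fs _)
  let e0 := LocCohZ.sect0Equiv (X := (Spec R).toTopCat) (G M) (le_top : iSup (D fs) ≤ ⊤)
  let e2 : (aug (D fs) (G M).obj).hom.ker ≃+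
      LocCohZ.sectZ (X := (Spec R).toTopCat) (G M) (le_top : iSup (D fs) ≤ ⊤) :=
    AddEquiv.addSubgroupCongr (ker_aug_eq (D fs) (G M))
  exact ⟨(e3.toAddEquiv.trans e1.symm).trans (e2.trans e0.symm)⟩

/-- **Degree `1`.** -/
theorem nonempty_koszulHLim_one_addEquiv_HZ :
    Nonempty (koszulHLim fs M 1 ≃+
      LocCohZ.HZc (X := (Spec R).toTopCat) (G M) 1 (iSup (D fs))) := by
  obtain ⟨e1⟩ := nonempty_homology_EM_addEquiv_koszulHLim fs 1 M
  obtain ⟨e2⟩ := nonempty_quotient_addEquiv_homology_one (D fs) (G M)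
  obtain ⟨e3⟩ := nonempty_HZ_one_addEquiv (G M) (iSup (D fs))
    (Groth.Agent.S6031.result (Spec R) (tilde M) inferInstance (iSup (D fs))).1
  exact ⟨e1.symm.trans (e2.symm.trans e3.symm)⟩

/-- **Degrees `≥ 2`.** -/
theorem nonempty_koszulHLim_succ_succ_addEquiv_HZ (n : ℕ) :
    Nonempty (koszulHLim fs M (n + 2) ≃+
      LocCohZ.HZc (X := (Spec R).toTopCat) (G M) (n + 2) (iSup (D fs))) := by
  obtain ⟨e1⟩ := nonempty_cech_homology_addEquiv fs M n
  let e2 := leray (X := (Spec R).toTopCat) (D fs) (n + 1) (G M) (acyc_D fs M)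
  have hb := (Groth.Agent.S6031.result (Spec R) (tilde M) inferInstance (iSup (D fs))).2
    (n + 1) (by omega)
  let e3 := AddEquiv.ofBijective _ hb
  exact ⟨e1.symm.trans (e2.trans e3)⟩

lemma puncturedOpen_eq (A : Type u) [CommRing A] (gs : List A) :
    LocCoh.puncturedOpen A (Ideal.span {a | a ∈ gs}) = iSup (D (R := CommRingCat.of A) gs) := by
  ext x
  rw [SetLike.mem_coe, SetLike.mem_coe, mem_iSup_D_iff]
  change (show PrimeSpectrum A from x) ∈
    (PrimeSpectrum.zeroLocus (R := A) ((Ideal.span {a | a ∈ gs} : Ideal A) : Set A))ᶜ ↔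
      ∃ a ∈ gs, a ∉ (show PrimeSpectrum A from x).asIdeal
  generalize (show PrimeSpectrum A from x) = y
  rw [PrimeSpectrum.zeroLocus_span, Set.mem_compl_iff, PrimeSpectrum.mem_zeroLocus,
    Set.subset_def]
  constructor
  · intro h
    by_contra hcon
    refine h (fun a ha => ?_)
    by_contra hxa
    exact hcon ⟨a, ha, hxa⟩
  · rintro ⟨a, ha, hxa⟩ h
    exact hxa (h a ha)

end spec

end Groth.Agent.Lib.Helper93.LocCohKoszul
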