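import Mathlib

/-!
# Endomorphisms of deformations of a module with only scalar endomorphisms (helper93)

Pure algebra (no Prelude): `existsUnique_smul`.  Also the flatness lemma
`mem_colon_smul_top_of_flat`: for flat `F`, `t x ∈ I F` implies `x ∈ (I : t) F`.
-/

namespace Groth.Agent.Lib.Helper93.DefEnd

open TensorProduct

universe u v

section FF

variable {R : Type u} [CommRing R] {F : Type v} [AddCommGroup F] [Module R F] [Module.Flat R F]

/-- The colon ideal `(I : t) = {a | a * t ∈ I}`. -/
def colonElt (I : Ideal R) (t : R) : Ideal R :=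
  LinearMap.ker (I.mkQ ∘ₗ LinearMap.mulRight R t)

omit [Module.Flat R F] in
theorem mem_colonElt {I : Ideal R} {t a : R} : a ∈ colonElt I t ↔ a * t ∈ I := by
  simp only [colonElt, LinearMap.mem_ker, LinearMap.coe_comp, Function.comp_apply,
    LinearMap.mulRight_apply, Submodule.mkQ_apply]
  exact Submodule.Quotient.mk_eq_zero I

/-- Flatness: `t x ∈ I F` implies `x ∈ (I : t) F`. -/
theorem mem_colon_smul_top_of_flat (I : Ideal R) (t : R) (x : F)
    (h : t • x ∈ I • (⊤ : Submodule R F)) : x ∈ colonElt I t • (⊤ : Submodule R F) := by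
  -- multiplication by `t` : R/(I:t) → R/I is injective
  let μ : (R ⧸ colonElt I t) →ₗ[R] (R ⧸ I) :=
    (colonElt I t).liftQ (I.mkQ ∘ₗ LinearMap.mulRight R t) le_rfl
  have hμ : Function.Injective μ := by
    rw [← LinearMap.ker_eq_bot]
    exact Submodule.ker_liftQ_eq_bot _ _ _ le_rfl
  have hinj := Module.Flat.lTensor_preserves_injective_linearMap (M := F) μ hμ
  have h1 : (μ.lTensor F) (x ⊗ₜ[R] (Ideal.Quotient.mk (colonElt I t) 1)) = 0 := by
    apply (tensorQuotEquivQuotSMul F I).injective
    rw [LinearMap.lTensor_tmul, map_zero]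
    have : μ (Ideal.Quotient.mk (colonElt I t) 1) = Ideal.Quotient.mk I t := by
      change (colonElt I t).liftQ _ _ (Submodule.Quotient.mk 1) = _
      rw [Submodule.liftQ_apply]
      simp
    rw [this, tensorQuotEquivQuotSMul_tmul_mk]
    exact (Submodule.Quotient.mk_eq_zero _).mpr h
  have h2 : x ⊗ₜ[R] (Ideal.Quotient.mk (colonElt I t) 1) = 0 := hinj (by rw [h1, map_zero])
  have h3 := congrArg (tensorQuotEquivQuotSMul F (colonElt I t)) h2
  rw [tensorQuotEquivQuotSMul_tmul_mk, map_zero, one_smul] at h3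
  exact (Submodule.Quotient.mk_eq_zero _).mp h3

end FF

section Factor

variable {D : Type*} [Ring D] {F E Q : Type*} [AddCommGroup F] [Module D F] [AddCommGroup E]
  [Module D E] [AddCommGroup Q] [Module D Q]

/-- Factor a `D`-linear map through a surjection whose kernel it kills. -/
theorem exists_factor (θ : F →ₗ[D] E) (hsurj : Function.Surjective θ) (g : F →ₗ[D] Q)
    (h : ∀ x, θ x = 0 → g x = 0) : ∃ g' : E →ₗ[D] Q, ∀ x, g' (θ x) = g x := by
  refine ⟨(LinearMap.ker θ).liftQ g (fun x hx => h x hx) ∘ₗ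
    (θ.quotKerEquivOfSurjective hsurj).symm.toLinearMap, fun x => ?_⟩
  have : (θ.quotKerEquivOfSurjective hsurj).symm (θ x) = Submodule.Quotient.mk x := by
    rw [LinearEquiv.symm_apply_eq]
    rfl
  simp only [LinearMap.coe_comp, LinearEquiv.coe_coe, Function.comp_apply, this,
    Submodule.liftQ_apply]

end Factor

section Bimod

variable {R : Type*} [CommRing R] {D : Type*} [Ring D] {F : Type*} [AddCommGroup F] [Module R F]
  [Module D F] [SMulCommClass R D F]

def smulTopD (D : Type*) [Ring D] (F : Type*) [AddCommGroup F] [Module R F]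
    [Module D F] [SMulCommClass R D F] (I : Ideal R) : Submodule D F where
  carrier := ((I • (⊤ : Submodule R F) : Submodule R F) : Set F)
  add_mem' := fun ha hb => Submodule.add_mem _ ha hb
  zero_mem' := Submodule.zero_mem _
  smul_mem' := fun d x hx => by
    change x ∈ I • (⊤ : Submodule R F) at hx
    change d • x ∈ I • (⊤ : Submodule R F)
    refine Submodule.smul_induction_on hx (fun a ha y _ => ?_) (fun y z hy hz => ?_)
    · rw [← smul_comm]
      exact Submodule.smul_mem_smul ha trivial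
    · rw [smul_add]
      exact add_mem hy hz

theorem mem_smulTopD {I : Ideal R} {x : F} :
    x ∈ smulTopD D F I ↔ x ∈ I • (⊤ : Submodule R F) := Iff.rfl

end Bimod

section Step

variable {K : Type*} [Field K] {R : Type*} [CommRing R] [Algebra K R] [IsLocalRing R]
  {D : Type*} [Ring D] [Algebra K D]
  {E : Type*} [AddCommGroup E] [Module K E] [Module D E] [IsScalarTower K D E]
  (hE : ∀ ψ : E →ₗ[D] E, ∃ c : K, ∀ y : E, ψ y = c • y)
  {F : Type*} [AddCommGroup F] [Module K F] [Module R F] [Module D F]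
  [IsScalarTower K R F] [IsScalarTower K D F] [SMulCommClass R D F] [Module.Flat R F]
  (θ : F →ₗ[D] E)
  (hsurj : Function.Surjective θ)
  (hker : ∀ x : F, θ x = 0 ↔ x ∈ IsLocalRing.maximalIdeal R • (⊤ : Submodule R F))

include hE hsurj hker

theorem step (I' I : Ideal R) (hmI : IsLocalRing.maximalIdeal R * I ≤ I') (t : R) (ht : t ∈ I)
    (hI : I ≤ I' ⊔ Ideal.span {t}) (ψ : F →ₗ[R] F) (hψD : ∀ (d : D) (x : F), ψ (d • x) = d • ψ x)
    (hψI : ∀ x, ψ x ∈ I • (⊤ : Submodule R F)) :
    ∃ c : K, ∀ x, ψ x - (c • t) • x ∈ I' • (⊤ : Submodule R F) := by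
  by_cases htI' : t ∈ I'
  · refine ⟨0, fun x => ?_⟩
    rw [zero_smul, zero_smul, sub_zero]
    have : I ≤ I' := le_trans hI (sup_le le_rfl ((Ideal.span_singleton_le_iff_mem I').mpr htI'))
    exact Submodule.smul_mono_left this (hψI x)
  -- the colon ideal `(I' : t)` is contained in the maximal ideal
  have hcolon : colonElt I' t ≤ IsLocalRing.maximalIdeal R := by
    apply IsLocalRing.le_maximalIdeal
    intro h
    have : (1 : R) ∈ colonElt I' t := h ▸ Submodule.mem_top
    rw [mem_colonElt, one_mul] at this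
    exact htI' this
  -- the `D`-linear maps
  let Q := F ⧸ smulTopD D F I'
  let q : F →ₗ[D] Q := (smulTopD D F I').mkQ
  let ψD : F →ₗ[D] F := { toFun := ψ, map_add' := ψ.map_add, map_smul' := hψD }
  let tD : F →ₗ[D] F :=
    { toFun := fun x => t • x, map_add' := smul_add t, map_smul' := fun d x => smul_comm t d x }
  have hq : ∀ x, q x = 0 ↔ x ∈ I' • (⊤ : Submodule R F) := fun x =>
    (Submodule.Quotient.mk_eq_zero _).trans mem_smulTopD
  have hT_ker : ∀ x, (q ∘ₗ tD) x = 0 ↔ θ x = 0 := by
    intro x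
    rw [hker]
    change q (t • x) = 0 ↔ _
    rw [hq]
    constructor
    · intro h
      exact Submodule.smul_mono_left hcolon (mem_colon_smul_top_of_flat I' t x h)
    · intro h
      have h1 : t • x ∈ Ideal.span {t} • (IsLocalRing.maximalIdeal R • (⊤ : Submodule R F)) :=
        Submodule.smul_mem_smul (Ideal.mem_span_singleton_self t) h
      rw [← Submodule.mul_smul] at h1
      refine Submodule.smul_mono_left ?_ h1
      refine le_trans ?_ hmI
      rw [mul_comm]
      exact Ideal.mul_mono_right ((Ideal.span_singleton_le_iff_mem I).mpr ht)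
  have hΦ_ker : ∀ x, θ x = 0 → (q ∘ₗ ψD) x = 0 := by
    intro x hx
    rw [hker] at hx
    change q (ψ x) = 0
    rw [hq]
    refine Submodule.smul_induction_on hx (fun a ha y _ => ?_) (fun y z hy hz => ?_)
    · rw [map_smul]
      have h1 : a • ψ y ∈ IsLocalRing.maximalIdeal R • (I • (⊤ : Submodule R F)) :=
        Submodule.smul_mem_smul ha (hψI y)
      rw [← Submodule.mul_smul] at h1
      exact Submodule.smul_mono_left hmI h1
    · rw [map_add]
      exact add_mem hy hz
  have hΦ_range : ∀ x, ∃ z, (q ∘ₗ ψD) x = (q ∘ₗ tD) z := by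
    intro x
    have h1 : ψ x ∈ (I' ⊔ Ideal.span {t}) • (⊤ : Submodule R F) :=
      Submodule.smul_mono_left hI (hψI x)
    rw [Submodule.sup_smul, Submodule.mem_sup] at h1
    obtain ⟨y, hy, w, hw, hyw⟩ := h1
    rw [Submodule.ideal_span_singleton_smul, Submodule.mem_smul_pointwise_iff_exists] at hw
    obtain ⟨z, -, rfl⟩ := hw
    refine ⟨z, ?_⟩
    change q (ψ x) = q (t • z)
    rw [← hyw, map_add, (hq y).mpr hy, zero_add]
  obtain ⟨Φ', hΦ'⟩ := exists_factor θ hsurj (q ∘ₗ ψD) hΦ_ker
  obtain ⟨T', hT'⟩ := exists_factor θ hsurj (q ∘ₗ tD) (fun x hx => (hT_ker x).mpr hx)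
  have hT'inj : Function.Injective T' := by
    rw [← LinearMap.ker_eq_bot, Submodule.eq_bot_iff]
    intro e he
    obtain ⟨x, rfl⟩ := hsurj e
    rw [LinearMap.mem_ker, hT'] at he
    exact (hT_ker x).mp he
  have hΦ'range : ∀ e, Φ' e ∈ LinearMap.range T' := by
    intro e
    obtain ⟨x, rfl⟩ := hsurj e
    obtain ⟨z, hz⟩ := hΦ_range x
    exact ⟨θ z, by rw [hT', hΦ', hz]⟩
  let ψ' : E →ₗ[D] E := (LinearEquiv.ofInjective T' hT'inj).symm.toLinearMap ∘ₗ
    (Φ'.codRestrict (LinearMap.range T') hΦ'range)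
  have hψ' : ∀ e, T' (ψ' e) = Φ' e := by
    intro e
    have := (LinearEquiv.ofInjective T' hT'inj).apply_symm_apply
      (Φ'.codRestrict (LinearMap.range T') hΦ'range e)
    exact congrArg Subtype.val this
  obtain ⟨c, hc⟩ := hE ψ'
  refine ⟨c, fun x => ?_⟩
  rw [← hq, map_sub, sub_eq_zero]
  have h1 : q (ψ x) = Φ' (θ x) := (hΦ' x).symm
  rw [h1, ← hψ', hc, ← algebraMap_smul D c (θ x), map_smul, hT']
  change algebraMap K D c • q (t • x) = _
  rw [← map_smul, algebraMap_smul, smul_assoc]

variable [IsArtinianRing R]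

theorem exists_smul_of_mem (I : Ideal R) :
    ∀ (ψ : F →ₗ[R] F), (∀ (d : D) (x : F), ψ (d • x) = d • ψ x) →
      (∀ x, ψ x ∈ I • (⊤ : Submodule R F)) → ∃ r ∈ I, ∀ x, ψ x = r • x := by
  induction I using WellFoundedLT.induction with
  | ind I IH =>
    intro ψ hψD hψI
    by_cases hI0 : I = ⊥
    · refine ⟨0, I.zero_mem, fun x => ?_⟩
      have := hψI x
      rw [hI0, Submodule.bot_smul, Submodule.mem_bot] at this
      rw [this, zero_smul]
    -- a maximal proper subideal `I'` of `I`
    obtain ⟨I', hI'lt, hI'max⟩ := (wellFounded_gt (α := Ideal R)).has_min {J | J < I}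
      ⟨⊥, bot_lt_iff_ne_bot.mpr hI0⟩
    have hI'lt : I' < I := hI'lt
    obtain ⟨t, htI, htI'⟩ := SetLike.exists_of_lt hI'lt
    have hsup : I ≤ I' ⊔ Ideal.span {t} := by
      by_contra hcon
      have hle : I' ⊔ Ideal.span {t} ≤ I :=
        sup_le hI'lt.le ((Ideal.span_singleton_le_iff_mem I).mpr htI)
      have hlt : I' ⊔ Ideal.span {t} < I := lt_of_le_of_ne hle (fun h => hcon h.ge)
      refine hI'max _ hlt (lt_of_le_of_ne le_sup_left (fun h => htI' ?_))
      rw [h]
      exact Ideal.mem_sup_right (Ideal.mem_span_singleton_self t)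
    have hmI : IsLocalRing.maximalIdeal R * I ≤ I' := by
      by_contra hcon
      have hle : I' ⊔ IsLocalRing.maximalIdeal R * I ≤ I := sup_le hI'lt.le Ideal.mul_le_right
      by_cases heq : I' ⊔ IsLocalRing.maximalIdeal R * I = I
      · -- Nakayama
        have hfg : (I : Submodule R R).FG := IsNoetherian.noetherian I
        have := Submodule.le_of_le_smul_of_le_jacobson_bot (N := I') hfg
          (IsLocalRing.maximalIdeal_le_jacobson ⊥) (by rw [smul_eq_mul]; exact heq.ge)
        exact absurd hI'lt (not_lt_of_ge this)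
      · have hlt : I' ⊔ IsLocalRing.maximalIdeal R * I < I := lt_of_le_of_ne hle heq
        refine hI'max _ hlt (lt_of_le_of_ne le_sup_left (fun h => hcon ?_))
        rw [h]
        exact le_sup_right
    obtain ⟨c, hc⟩ := step hE θ hsurj hker I' I hmI t htI hsup ψ hψD hψI
    obtain ⟨r', hr', hr'x⟩ := IH I' hI'lt (ψ - (c • t) • LinearMap.id)
      (fun d x => by
        simp only [LinearMap.sub_apply, LinearMap.smul_apply, LinearMap.id_apply, hψD, smul_sub]
        rw [smul_comm])
      (fun x => by simpa using hc x)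
    refine ⟨c • t + r', I.add_mem (by rw [Algebra.smul_def]; exact I.mul_mem_left _ htI)
      (hI'lt.le hr'), fun x => ?_⟩
    have := hr'x x
    simp only [LinearMap.sub_apply, LinearMap.smul_apply, LinearMap.id_apply] at this
    rw [add_smul, ← this]
    abel


variable [Nontrivial E]

/-- **Endomorphisms of a deformation are scalars.**  `R` Artinian local `K`-algebra, `F` an
`(R, D)`-bimodule flat over `R`, `θ : F → E` a `D`-linear surjection with kernel `m_R F`, and
`End_D(E) = K`.  Then every `R`- and `D`-linear endomorphism of `F` is multiplication by a unique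
element of `R`. -/
theorem existsUnique_smul (φ : F →ₗ[R] F) (hφ : ∀ (d : D) (x : F), φ (d • x) = d • φ x) :
    ∃! r : R, ∀ x : F, φ x = r • x := by
  obtain ⟨r, -, hr⟩ := exists_smul_of_mem hE θ hsurj hker ⊤ φ hφ
    (fun x => by rw [Submodule.top_smul]; trivial)
  refine ⟨r, hr, fun r' hr' => ?_⟩
  by_contra hne
  have hs : r' - r ≠ 0 := sub_ne_zero.mpr hne
  have hcolon : colonElt ⊥ (r' - r) ≤ IsLocalRing.maximalIdeal R := by
    apply IsLocalRing.le_maximalIdeal
    intro h
    have : (1 : R) ∈ colonElt ⊥ (r' - r) := h ▸ Submodule.mem_top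
    rw [mem_colonElt, one_mul, Submodule.mem_bot] at this
    exact hs this
  have hall : ∀ x : F, θ x = 0 := by
    intro x
    rw [hker]
    refine Submodule.smul_mono_left hcolon (mem_colon_smul_top_of_flat ⊥ (r' - r) x ?_)
    rw [sub_smul, ← hr, ← hr', sub_self]
    exact Submodule.zero_mem _
  obtain ⟨e, he⟩ := exists_ne (0 : E)
  obtain ⟨x, rfl⟩ := hsurj e
  exact he (hall x)

end Step

end Groth.Agent.Lib.Helper93.DefEnd
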