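import Groth.Agent.Lib.Helper93.CurveH0
import Groth.Agent.Lib.Helper67.TensRank2
import Groth.Agent.Lib.Helper67.HHLES
import Groth.Agent.Lib.Helper11.NegPowers
import Groth.Agent.Lib.Helper11.AmpleBasis
import Groth.Agent.Lib.Helper11.FinFreeBasis

/-!
# Twisting locally free modules on integral proper curves by invertible modules (helper93)

* `mono_of_ne_zero_of_rank_one`: a nonzero map from a rank-one locally free module to a locally
  free module on an integral scheme is a monomorphism.
* `deg_tensor_rank_one`, `deg_tensorPow`, `deg_add_deg_of_inverse`: degrees of tensor products of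
  invertible modules.
-/

set_option autoImplicit false
set_option linter.style.haveILetI false
universe u
open AlgebraicGeometry CategoryTheory Limits Opposite TopologicalSpace Abelian

namespace Groth.Agent.Lib.Helper93.CurveTwist

open Groth.Agent.Lib.Helper67.EulerLES Groth.Agent.Lib.Helper67.CurveCoh
open Groth.Agent.Lib.Helper67.CurveDeg Groth.Agent.Lib.Helper67.CurveTors
open Groth.Agent.Lib.Helper67.TensRank Groth.Agent.Lib.Helper67.CurveInv
open Groth.Agent.Lib.Helper49 Groth.Agent.Lib.Helper11

section MonoSec

variable {X : Scheme.{u}} [IsIntegral X] {N L : X.Modules}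

/-- a nonzero map from a rank-one locally free module to a locally free module on an integral
scheme is a monomorphism. -/
theorem mono_of_ne_zero_of_rank_one (hN : FlatMod.IsFinLocFreeOfRank 1 N)
    (hL : FlatMod.IsFinLocFree L) (φ : N ⟶ L) (hφ : φ ≠ 0) : Mono φ := by
  obtain ⟨f1, g1, r1⟩ := stalk_of_rank hN (genericPoint X)
  letI : Field (X.presheaf.stalk (genericPoint X)) :=
    inferInstanceAs (Field X.functionField)
  have hne : ∃ a, (stalkMap φ (genericPoint X)).hom a ≠ 0 := by
    by_contra hcon
    push Not at hcon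
    exact hφ (eq_zero_of_stalkMap_generic_eq_zero hL φ hcon)
  obtain ⟨a, ha⟩ := hne
  obtain ⟨v, hv0, hv⟩ := finrank_eq_one_iff'.mp r1
  have hv' : stalkMapLinear φ (genericPoint X) v ≠ 0 := by
    intro h0
    obtain ⟨c, rfl⟩ := hv a
    apply ha
    change stalkMapLinear φ (genericPoint X) (c • v) = 0
    rw [map_smul, h0, smul_zero]
  have hinj : Function.Injective (stalkMapLinear φ (genericPoint X)) := by
    rw [injective_iff_map_eq_zero]
    intro w hw
    obtain ⟨c, rfl⟩ := hv w
    rw [map_smul, smul_eq_zero] at hw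
    rcases hw with hc | h0
    · rw [hc, zero_smul]
    · exact absurd h0 hv'
  exact mono_of_stalkMap_generic_injective (isFinLocFree_of_rank hN) φ hinj

end MonoSec

section Deg

variable (k : Type u) [Field k] (X : Scheme.{u}) [X.Over (Spec (CommRingCat.of k))]
  [IsIntegral X] [IsProper (X ↘ Spec (CommRingCat.of k))] (hdim : topologicalKrullDim X ≤ 1)

include hdim in
/-- `deg (A ⊗ B) = deg A + deg B` for rank one locally free modules. -/
theorem deg_tensor_rank_one {A B : X.Modules} (hA : FlatMod.IsFinLocFreeOfRank 1 A)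
    (hB : FlatMod.IsFinLocFreeOfRank 1 B) :
    Curv2.deg k X (CohB1.tensorMod A B) 1 = Curv2.deg k X A 1 + Curv2.deg k X B 1 := by
  have h1 := euler_tensor k X hdim B hB A (isCoh_of_rank hA)
  have hrk : rk A = 1 := (stalk_of_rank hA (genericPoint X)).2.2
  rw [hrk] at h1
  unfold Curv2.deg at h1 ⊢
  rw [h1]
  push_cast
  ring

omit [IsIntegral X] [IsProper (X ↘ Spec (CommRingCat.of k))] in
theorem deg_structureModule : Curv2.deg k X (Coh.structureModule X) 1 = 0 := by
  unfold Curv2.deg
  push_cast
  ring

include hdim in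
/-- `deg (Q^{⊗ n}) = n · deg Q`. -/
theorem deg_tensorPow {Q : X.Modules} (hQ : PicF.IsInvertible Q) (n : ℕ) :
    Curv2.deg k X (CohB1.tensorPow Q n) 1 = n * Curv2.deg k X Q 1 := by
  induction n with
  | zero =>
    change Curv2.deg k X (Coh.structureModule X) 1 = _
    rw [deg_structureModule]
    simp
  | succ n ih =>
    change Curv2.deg k X (CohB1.tensorMod (CohB1.tensorPow Q n) Q) 1 = _
    rw [deg_tensor_rank_one k X hdim
      (rank_one_of_isInvertible (GenLocus.isInvertible_tensorPow hQ n))
      (rank_one_of_isInvertible hQ), ih]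
    push_cast
    ring

omit [IsIntegral X] [IsProper (X ↘ Spec (CommRingCat.of k))] in
theorem deg_eq_of_iso {A B : X.Modules} (e : A ≅ B) (n : ℕ) :
    Curv2.deg k X A n = Curv2.deg k X B n := by
  unfold Curv2.deg
  rw [euler_eq_of_iso k e]

include hdim in
/-- if `A ⊗ B ≅ O` for rank one modules then `deg A + deg B = 0`. -/
theorem deg_add_deg_of_inverse {A B : X.Modules} (hA : FlatMod.IsFinLocFreeOfRank 1 A)
    (hB : FlatMod.IsFinLocFreeOfRank 1 B)
    (ε : CohB1.tensorMod A B ≅ Coh.structureModule X) :
    Curv2.deg k X A 1 + Curv2.deg k X B 1 = 0 := by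
  rw [← deg_tensor_rank_one k X hdim hA hB, deg_eq_of_iso k X ε, deg_structureModule]

end Deg

end Groth.Agent.Lib.Helper93.CurveTwist
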