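import Mathlib

/-!
# Additivity of relative heights in a catenary partial order — helper93
-/

set_option autoImplicit false
universe u

namespace Groth.Agent.Lib.Helper93.CatHeight

open Order

/-- the covering relation, as a `SetRel`. -/
def covRel (α : Type*) [Preorder α] : SetRel α α := {p | p.1 ⋖ p.2}

lemma covRel_le_lt (α : Type*) [Preorder α] : covRel α ≤ {p : α × α | p.1 < p.2} :=
  fun _ h => h.lt

variable {α : Type*} [PartialOrder α]

/-- A saturated chain from `a` to `b` of length the height of `b` in `Ici a`. -/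
theorem exists_covSeries (a : α) : ∀ (m : ℕ) (b : α) (hab : a ≤ b),
    height (⟨b, hab⟩ : Set.Ici a) = m →
      ∃ t : RelSeries (covRel α), t.head = a ∧ t.last = b ∧ t.length = m := by
  intro m
  induction m with
  | zero =>
    intro b hab hb
    have hmin : IsMin (⟨b, hab⟩ : Set.Ici a) := by
      rw [← height_eq_zero]; simpa using hb
    have haa : a ∈ Set.Ici a := Set.self_mem_Ici
    have hle : (⟨b, hab⟩ : Set.Ici a) ≤ ⟨a, haa⟩ :=
      hmin (show (⟨a, haa⟩ : Set.Ici a) ≤ ⟨b, hab⟩ from hab)
    have hba : b = a := le_antisymm hle hab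
    exact ⟨RelSeries.singleton _ b, hba, rfl, rfl⟩
  | succ m ih =>
    intro b hab hb
    have hb' : height (⟨b, hab⟩ : Set.Ici a) = (m : ℕ∞) + 1 := by simpa using hb
    obtain ⟨-, ⟨y, hy, hym⟩, hall⟩ := height_eq_coe_add_one_iff.mp hb'
    obtain ⟨t, ht1, ht2, ht3⟩ := ih y.1 y.2 hym
    have hcov : y.1 ⋖ b := by
      refine ⟨hy, fun c hyc hcb => ?_⟩
      have hac : a ≤ c := le_trans y.2 hyc.le
      have h1 : height y + 1 ≤ height (⟨c, hac⟩ : Set.Ici a) :=
        height_add_one_le (show y < ⟨c, hac⟩ from hyc)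
      have h2 := hall ⟨c, hac⟩ hcb
      rw [hym] at h1
      have : ((m : ℕ∞) + 1) ≤ m := h1.trans h2
      exact absurd this (by simp [ENat.add_one_le_iff])
    refine ⟨t.snoc b (by rw [ht2]; exact hcov), by simp [ht1], by simp, by simp [ht3]⟩

/-- In a partial order where saturated chains with the same endpoints have the same length,
relative heights add up. -/
theorem height_Ici_add
    (hcat : ∀ s t : LTSeries α, s.head = t.head → s.last = t.last →
      (∀ i : Fin s.length, s (Fin.castSucc i) ⋖ s (Fin.succ i)) →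
      (∀ i : Fin t.length, t (Fin.castSucc i) ⋖ t (Fin.succ i)) → s.length = t.length)
    (a b c : α) (hab : a ≤ b) (hbc : b ≤ c) (m1 m2 m3 : ℕ)
    (h1 : height (⟨b, hab⟩ : Set.Ici a) = m1) (h2 : height (⟨c, hbc⟩ : Set.Ici b) = m2)
    (h3 : height (⟨c, hab.trans hbc⟩ : Set.Ici a) = m3) : m3 = m1 + m2 := by
  obtain ⟨t1, h11, h12, h13⟩ := exists_covSeries a m1 b hab h1
  obtain ⟨t2, h21, h22, h23⟩ := exists_covSeries b m2 c hbc h2
  obtain ⟨t3, h31, h32, h33⟩ := exists_covSeries a m3 c (hab.trans hbc) h3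
  let t12 : RelSeries (covRel α) := t1.smash t2 (by rw [h12, h21])
  have := hcat (t12.ofLE (covRel_le_lt α)) (t3.ofLE (covRel_le_lt α))
    (by change t12.head = t3.head; simp [t12, h11, h31])
    (by change t12.last = t3.last; simp [t12, h22, h32])
    (fun i => t12.step i) (fun i => t3.step i)
  have hlen : m1 + m2 = m3 := by simpa [t12, h13, h23, h33] using this
  exact hlen.symm

end Groth.Agent.Lib.Helper93.CatHeight
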