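import Groth.Agent.Lib.Helper93.GrothFin
import Groth.Agent.Lib.Helper93.HeightQuot2
import Groth.Agent.Lib.Helper93.CatHeight
import Groth.Agent.S0603
import Groth.Prelude.Def_SGA2

/-!
# Relative codimension, catenary images of regular rings — helper93
-/

set_option autoImplicit false
universe u

namespace Groth.Agent.Lib.Helper93.GrothFin

open LocCoh Groth.Agent.Lib.Helper93.HeightQuot

variable {A : Type u} [CommRing A]

/-- `ht((I+p)/p) ≤ c(p)`. -/
theorem height_le_relCodim (I : Ideal A) (p : PrimeSpectrum A) :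
    ((I ⊔ p.asIdeal).map (Ideal.Quotient.mk p.asIdeal)).height ≤ SGA2.relCodim I p := by
  unfold SGA2.relCodim
  refine le_iInf fun q => ?_
  rw [← height_map_eq_height_Ici p q.1 q.2.1]
  exact Ideal.height_mono (Ideal.map_mono (sup_le q.2.2 q.2.1))

/-- A prime `Q ⊇ I + p` realizing `ht((I+p)/p)`. -/
theorem exists_prime_ge [IsNoetherianRing A] (I : Ideal A) (p : PrimeSpectrum A)
    (hJtop : ((I ⊔ p.asIdeal).map (Ideal.Quotient.mk p.asIdeal)).height ≠ ⊤) :
    ∃ (Q : PrimeSpectrum A) (hPQ : p ≤ Q), I ≤ Q.asIdeal ∧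
      Order.height (⟨Q, hPQ⟩ : Set.Ici p) =
        ((I ⊔ p.asIdeal).map (Ideal.Quotient.mk p.asIdeal)).height := by
  set J := (I ⊔ p.asIdeal).map (Ideal.Quotient.mk p.asIdeal) with hJ
  have hJne : J ≠ ⊤ := by
    intro h1
    rw [h1, Ideal.height_top] at hJtop
    exact hJtop rfl
  obtain ⟨q', hq'min, hq'h⟩ : ∃ q' ∈ J.minimalPrimes, q'.height = J.height := by
    have : Nonempty J.minimalPrimes := Ideal.nonempty_minimalPrimes hJne
    obtain ⟨⟨q', hq'⟩, hqe⟩ :=
      ENat.exists_eq_iInf (fun q' : J.minimalPrimes => (q' : Ideal (A ⧸ p.asIdeal)).height)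
    refine ⟨q', hq', ?_⟩
    rw [J.height_eq_inf_minimalPrimes, iInf_subtype']
    exact hqe
  have hq'prime : q'.IsPrime := hq'min.1.1
  let Q : PrimeSpectrum A := ⟨q'.comap (Ideal.Quotient.mk p.asIdeal), inferInstance⟩
  have hPQ : p ≤ Q := by
    change p.asIdeal ≤ q'.comap (Ideal.Quotient.mk p.asIdeal)
    intro x hx
    rw [Ideal.mem_comap, Ideal.Quotient.eq_zero_iff_mem.mpr hx]
    exact zero_mem _
  have hIQ : I ≤ Q.asIdeal := by
    change I ≤ q'.comap (Ideal.Quotient.mk p.asIdeal)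
    exact le_trans le_sup_left (le_trans Ideal.le_comap_map (Ideal.comap_mono hq'min.1.2))
  have hmapQ : Q.asIdeal.map (Ideal.Quotient.mk p.asIdeal) = q' :=
    Ideal.map_comap_of_surjective _ Ideal.Quotient.mk_surjective q'
  refine ⟨Q, hPQ, hIQ, ?_⟩
  rw [← height_map_eq_height_Ici, hmapQ, hq'h]

/-- relative heights are finite in a Noetherian ring. -/
theorem height_Ici_ne_top [IsNoetherianRing A] (P Q : PrimeSpectrum A) (hPQ : P ≤ Q) :
    Order.height (⟨Q, hPQ⟩ : Set.Ici P) ≠ ⊤ := by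
  rw [← height_map_eq_height_Ici]
  have hprime : (Q.asIdeal.map (Ideal.Quotient.mk P.asIdeal)).IsPrime :=
    Ideal.map_isPrime_of_surjective Ideal.Quotient.mk_surjective
      (by rw [Ideal.mk_ker]; exact hPQ)
  exact Ideal.height_ne_top hprime.ne_top

/-- A homomorphic image of a regular ring is catenary. -/
theorem isCatenary_of_surjective (R : Type u) [CommRing R] [IsRegularRing R] (π : R →+* A)
    (hπ : Function.Surjective π) : CAlg.IsCatenary A := by
  have hCM : LocCoh.IsCohenMacaulayRing R :=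
    Groth.Agent.Lib.Helper93.FaltAnn.isCohenMacaulayRing_of_isRegularRing R
  let alg : Algebra R A := π.toAlgebra
  have hft : Algebra.FiniteType R A :=
    Algebra.FiniteType.of_surjective (Algebra.ofId R A) hπ
  exact (Groth.Agent.S0603.result R).2 A hft

/-- Additivity of relative heights over a catenary Noetherian ring. -/
theorem height_Ici_add [IsNoetherianRing A] (hcat : CAlg.IsCatenary A) (P0 P Q : PrimeSpectrum A)
    (h1 : P0 ≤ P) (h2 : P ≤ Q) :
    Order.height (⟨Q, h1.trans h2⟩ : Set.Ici P0) =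
      Order.height (⟨P, h1⟩ : Set.Ici P0) + Order.height (⟨Q, h2⟩ : Set.Ici P) := by
  obtain ⟨m1, hm1⟩ := ENat.ne_top_iff_exists.mp (height_Ici_ne_top P0 P h1)
  obtain ⟨m2, hm2⟩ := ENat.ne_top_iff_exists.mp (height_Ici_ne_top P Q h2)
  obtain ⟨m3, hm3⟩ := ENat.ne_top_iff_exists.mp (height_Ici_ne_top P0 Q (h1.trans h2))
  have := Groth.Agent.Lib.Helper93.CatHeight.height_Ici_add hcat.2 P0 P Q h1 h2 m1 m2 m3
    hm1.symm hm2.symm hm3.symm
  rw [← hm1, ← hm2, ← hm3, this]
  push_cast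
  rfl

end Groth.Agent.Lib.Helper93.GrothFin
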