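import Groth.Agent.Lib.Helper93.HeightQuot
import Groth.Agent.S11656
import Groth.Agent.S11654
import Groth.Agent.S14424
import Groth.Agent.S0605
import Groth.Agent.Lib.Helper28.RegularCM
import Groth.Prelude.Def_W4bk5brsh7111920

/-!
# Faltings' annihilator theorem, local input — helper93

Over a regular ring `S`, for `i < λ_a^b(M)` and a prime `q ⊉ b` contained in a minimal prime `p` of
`a` with `ht p = ht a`, some `s ∉ q` annihilates `H^i_a(M)`.
-/

set_option autoImplicit false
universe u

namespace Groth.Agent.Lib.Helper93.FaltAnn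

open CategoryTheory LocCoh

theorem isCohenMacaulayRing_of_isRegularRing (S : Type u) [CommRing S] [IsRegularRing S] :
    LocCoh.IsCohenMacaulayRing S where
  isCohenMacaulayLocalRing_localization p _ :=
    Groth.Agent.Lib.Helper28.isCohenMacaulayLocalRing_of_isRegularLocalRing (Localization.AtPrime p)

theorem idealDepth_eq_height (S : Type u) [CommRing S] [IsRegularRing S] (a : Ideal S)
    (ha : a ≠ ⊤) : LocCoh.idealDepth a S = a.height :=
  (Groth.Agent.S14424.result S).mp (isCohenMacaulayRing_of_isRegularRing S) a ha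

theorem exists_notMem_smul_eq_zero (S : Type u) [CommRing S] [IsRegularRing S] (a b : Ideal S)
    (M : Type u) [AddCommGroup M] [Module S M] [Module.Finite S M] (i : ℕ)
    (hi : (i : ℕ∞) < LocCoh.minAdjDepth a b M) (p : Ideal S) (hp : p ∈ a.minimalPrimes)
    (hph : p.height = a.height) (q : PrimeSpectrum S) (hqp : q.asIdeal ≤ p)
    (hbq : ¬ b ≤ q.asIdeal) :
    ∃ s : S, s ∉ q.asIdeal ∧ ∀ x : LocCoh.H a i M, s • x = 0 := by
  classical
  have hpprime : p.IsPrime := hp.1.1
  have hap : a ≤ p := hp.1.2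
  have ha : a ≠ ⊤ := fun h => hpprime.ne_top (top_le_iff.mp (h ▸ hap))
  by_cases hsupp : q ∈ Module.support S M
  swap
  · obtain ⟨s, hs, hkill⟩ := Groth.Agent.S11654.result S M q hsupp
    exact ⟨s, hs, fun x => hkill a i x⟩
  rw [Module.mem_support_iff] at hsupp
  have hqprime : q.asIdeal.IsPrime := q.2
  obtain ⟨e, he, hsum⟩ := Groth.Agent.S0605.pd_add_depth (Localization.AtPrime q.asIdeal)
    (LocalizedModule q.asIdeal.primeCompl M)
  have hsf : ((IsLocalRing.maximalIdeal (Localization.AtPrime q.asIdeal)).spanFinrank : ℕ∞) =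
      q.asIdeal.height := by
    have h1 : (((IsLocalRing.maximalIdeal (Localization.AtPrime q.asIdeal)).spanFinrank : ℕ) :
        WithBot ℕ∞) = ringKrullDim (Localization.AtPrime q.asIdeal) :=
      IsRegularLocalRing.spanFinrank_maximalIdeal (R := Localization.AtPrime q.asIdeal)
    rw [IsLocalization.AtPrime.ringKrullDim_eq_height q.asIdeal (Localization.AtPrime q.asIdeal)]
      at h1
    have h2 : (((IsLocalRing.maximalIdeal (Localization.AtPrime q.asIdeal)).spanFinrank : ℕ∞) :
        WithBot ℕ∞) = ((q.asIdeal.height : ℕ∞) : WithBot ℕ∞) := by exact_mod_cast h1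
    exact WithBot.coe_injective h2
  rw [hsf] at hsum
  have hmin : LocCoh.minAdjDepth a b M ≤ LocCoh.adjDepth a M q := iInf₂_le q hbq
  have hI : ((a ⊔ q.asIdeal).map (Ideal.Quotient.mk q.asIdeal)).height ≤
      (p.map (Ideal.Quotient.mk q.asIdeal)).height :=
    Ideal.height_mono (Ideal.map_mono (sup_le hap hqp))
  have hK := Groth.Agent.Lib.Helper93.HeightQuot.height_map_add_height_le q.asIdeal p hqp
  have hafin : a.height ≠ ⊤ := Ideal.height_ne_top ha
  obtain ⟨h, hh⟩ := ENat.ne_top_iff_exists.mp hafin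
  rw [hph, ← hh] at hK
  unfold LocCoh.adjDepth at hmin
  set D := LocCoh.depth (Localization.AtPrime q.asIdeal)
    (LocalizedModule q.asIdeal.primeCompl M) with hD
  set c := (p.map (Ideal.Quotient.mk q.asIdeal)).height with hc
  -- arithmetic: e + i + 1 ≤ h
  have hqfin : q.asIdeal.height ≠ ⊤ := Ideal.height_ne_top hqprime.ne_top
  have hDfin : D ≠ ⊤ := by
    intro hDt
    rw [hDt, add_top] at hsum
    exact hqfin hsum
  have hcfin : c ≠ ⊤ := by
    intro hct
    rw [hct, top_add] at hK
    exact (ENat.natCast_ne_top h) (top_le_iff.mp hK)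
  have h1 : ((i : ℕ∞) + 1) ≤ D + c := by
    have : (i : ℕ∞) < D + c := lt_of_lt_of_le hi (hmin.trans (by gcongr))
    exact Order.add_one_le_of_lt this
  have h2 : (e : ℕ∞) + ((i : ℕ∞) + 1) ≤ h := by
    calc (e : ℕ∞) + ((i : ℕ∞) + 1) ≤ (e : ℕ∞) + (D + c) := by gcongr
      _ = c + q.asIdeal.height := by rw [hsum]; ring
      _ ≤ h := hK
  have h3 : e + (i + 1) ≤ h := by exact_mod_cast h2
  have hpd : HasProjectiveDimensionLE (ModuleCat.of (Localization.AtPrime q.asIdeal)
      (LocalizedModule q.asIdeal.primeCompl M)) (h - i - 1) := by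
    rw [← CategoryTheory.projectiveDimension_le_iff, he]
    have : e ≤ h - i - 1 := by omega
    exact_mod_cast this
  obtain ⟨s, hs, hkill⟩ := Groth.Agent.S11656.result S M q.asIdeal (h - i - 1) hpd
  refine ⟨s, hs, hkill a ha i ?_⟩
  rw [idealDepth_eq_height S a ha, ← hh]
  have : i + (h - i - 1) < h := by omega
  exact_mod_cast this

end Groth.Agent.Lib.Helper93.FaltAnn
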