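import Groth.Agent.Lib.Helper93.LimitHomFiniteType
import Mathlib.Algebra.Algebra.Subalgebra.Directed

/-!
# Morphisms from the spectrum of a directed union of subalgebras (helper93)
-/

set_option autoImplicit false
universe u

open CategoryTheory CategoryTheory.Limits AlgebraicGeometry

namespace Groth.Agent.Lib.Helper93.DirectedUnionSpec

/-- `Spec` of an injective ring map is scheme-theoretically dominant. -/
theorem isSchemeTheoreticallyDominant_SpecMap {A B : CommRingCat.{u}} (φ : A ⟶ B)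
    (hφ : Function.Injective φ.hom) : IsSchemeTheoreticallyDominant (Spec.map φ) := by
  rw [isSchemeTheoreticallyDominant_iff, Scheme.ker_of_isAffine]
  apply Scheme.IdealSheafData.ext_of_isAffine
  simp only [Scheme.IdealSheafData.ofIdealTop_ideal, homOfLE_refl, op_id,
    CategoryTheory.Functor.map_id, CommRingCat.hom_id, Ideal.map_id,
    Scheme.IdealSheafData.ideal_bot, Pi.bot_apply]
  rw [← RingHom.injective_iff_ker_eq_bot]
  have h := Scheme.ΓSpecIso_naturality φ
  have hinj : Function.Injective ((Spec.map φ).appTop ≫ (Scheme.ΓSpecIso B).hom).hom := by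
    rw [h]
    exact hφ.comp (ConcreteCategory.bijective_of_isIso (Scheme.ΓSpecIso A).hom).1
  exact Function.Injective.of_comp hinj

section Colimit

variable {A C : Type u} [CommRing A] [CommRing C] [Algebra A C]
  (T : Set (Subalgebra A C)) (hdir : DirectedOn (· ≤ ·) T) (hcov : ∀ c : C, ∃ B ∈ T, c ∈ B)

/-- The diagram of the subalgebras in `T`. -/
noncomputable def diag : T ⥤ CommRingCat.{u} where
  obj B := CommRingCat.of B.1
  map {B B'} h := CommRingCat.ofHom (Subalgebra.inclusion (show B.1 ≤ B'.1 from leOfHom h)).toRingHom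
  map_id _ := by ext; rfl
  map_comp _ _ := by ext; rfl

/-- The cocone with point `C`. -/
noncomputable def cocone : Cocone (diag T) where
  pt := CommRingCat.of C
  ι := { app := fun B => CommRingCat.ofHom B.1.val.toRingHom
         naturality := fun _ _ _ => by ext; rfl }

variable {T}

include hdir in
lemma cocone_eq (s : Cocone (diag T)) (B B' : T) (x : C) (hx : x ∈ B.1) (hx' : x ∈ B'.1) :
    (s.ι.app B).hom ⟨x, hx⟩ = (s.ι.app B').hom ⟨x, hx'⟩ := by
  obtain ⟨B'', hB'', h1, h2⟩ := hdir B.1 B.2 B'.1 B'.2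
  have e1 := s.w (homOfLE (show B ≤ ⟨B'', hB''⟩ from h1))
  have e2 := s.w (homOfLE (show B' ≤ ⟨B'', hB''⟩ from h2))
  rw [← e1, ← e2]
  rfl

/-- The descent function. -/
noncomputable def descFun (s : Cocone (diag T)) (x : C) : s.pt :=
  (s.ι.app ⟨(hcov x).choose, (hcov x).choose_spec.1⟩).hom ⟨x, (hcov x).choose_spec.2⟩

include hdir in
lemma descFun_eq (s : Cocone (diag T)) (B : T) (x : C) (hx : x ∈ B.1) :
    descFun hcov s x = (s.ι.app B).hom ⟨x, hx⟩ :=
  cocone_eq hdir s _ B x _ hx

include hdir hcov in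
lemma exists_common (x y : C) : ∃ B : T, x ∈ B.1 ∧ y ∈ B.1 := by
  obtain ⟨B₁, hB₁, hx⟩ := hcov x
  obtain ⟨B₂, hB₂, hy⟩ := hcov y
  obtain ⟨B, hB, h1, h2⟩ := hdir B₁ hB₁ B₂ hB₂
  exact ⟨⟨B, hB⟩, h1 hx, h2 hy⟩

/-- The descent ring hom. -/
noncomputable def descHom (s : Cocone (diag T)) : C →+* s.pt where
  toFun := descFun hcov s
  map_one' := by
    obtain ⟨B, hB, -⟩ := hcov 1
    rw [descFun_eq hdir hcov s ⟨B, hB⟩ 1 (one_mem _)]
    exact map_one (s.ι.app ⟨B, hB⟩).hom
  map_zero' := by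
    obtain ⟨B, hB, -⟩ := hcov 0
    rw [descFun_eq hdir hcov s ⟨B, hB⟩ 0 (zero_mem _)]
    exact map_zero (s.ι.app ⟨B, hB⟩).hom
  map_mul' x y := by
    obtain ⟨B, hx, hy⟩ := exists_common hdir hcov x y
    rw [descFun_eq hdir hcov s B x hx, descFun_eq hdir hcov s B y hy,
      descFun_eq hdir hcov s B (x * y) (mul_mem hx hy)]
    exact map_mul (s.ι.app B).hom ⟨x, hx⟩ ⟨y, hy⟩
  map_add' x y := by
    obtain ⟨B, hx, hy⟩ := exists_common hdir hcov x y
    rw [descFun_eq hdir hcov s B x hx, descFun_eq hdir hcov s B y hy,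
      descFun_eq hdir hcov s B (x + y) (add_mem hx hy)]
    exact map_add (s.ι.app B).hom ⟨x, hx⟩ ⟨y, hy⟩

/-- `C` is the colimit of the subalgebras in `T`. -/
noncomputable def isColimitCocone : IsColimit (cocone T) where
  desc s := CommRingCat.ofHom (descHom hdir hcov s)
  fac s B := by
    ext x
    exact descFun_eq hdir hcov s B x.1 x.2
  uniq s m hm := by
    ext x
    obtain ⟨B, hB, hx⟩ := hcov x
    have h1 := congr($(hm ⟨B, hB⟩) ⟨x, hx⟩)
    change m.hom x = descFun hcov s x
    rw [descFun_eq hdir hcov s ⟨B, hB⟩ x hx]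
    exact h1

end Colimit

/-- A morphism from the spectrum of a directed union of subalgebras to a scheme locally of finite
type over the base factors through the spectrum of one of the subalgebras. -/
theorem exists_hom_from_subalgebra {ι : Type u} (A C : Type u) [CommRing A] [CommRing C]
    [Algebra A C] (S : ι → Subalgebra A C) (hdir : Directed (· ≤ ·) S)
    (hcov : ∀ c : C, ∃ i, c ∈ S i) (X : Scheme.{u}) (f : X ⟶ Spec (CommRingCat.of A))
    [LocallyOfFiniteType f] (g : Spec (CommRingCat.of C) ⟶ X)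
    (hg : g ≫ f = Spec.map (CommRingCat.ofHom (algebraMap A C))) :
    ∃ (i : ι) (g' : Spec (CommRingCat.of (S i)) ⟶ X),
      g' ≫ f = Spec.map (CommRingCat.ofHom (algebraMap A (S i))) ∧
      Spec.map (CommRingCat.ofHom (S i).val.toRingHom) ≫ g' = g := by
  let T : Set (Subalgebra A C) := Set.range S
  have hdirT : DirectedOn (· ≤ ·) T := directedOn_range.mpr hdir
  have hcovT : ∀ c : C, ∃ B ∈ T, c ∈ B := fun c => by
    obtain ⟨i, hi⟩ := hcov c
    exact ⟨S i, ⟨i, rfl⟩, hi⟩
  have : Nonempty T := by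
    obtain ⟨B, hB, -⟩ := hcovT 0
    exact ⟨⟨B, hB⟩⟩
  have : IsDirected T (· ≤ ·) := ⟨fun a b => by
    obtain ⟨c, hc, h1, h2⟩ := hdirT a.1 a.2 b.1 b.2
    exact ⟨⟨c, hc⟩, h1, h2⟩⟩
  let D : Tᵒᵖ ⥤ Scheme.{u} := (diag T).op ⋙ Scheme.Spec
  let c : Cone D := Scheme.Spec.mapCone (cocone T).op
  have hc : IsLimit c := isLimitOfPreserves Scheme.Spec (isColimitCocone hdirT hcovT).op
  let t : D ⟶ (Functor.const Tᵒᵖ).obj (Spec (CommRingCat.of A)) :=
    { app := fun B => Spec.map (CommRingCat.ofHom (algebraMap A B.unop.1))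
      naturality := fun B B' h => by
        change Spec.map (CommRingCat.ofHom
            (Subalgebra.inclusion (show B'.unop.1 ≤ B.unop.1 from leOfHom h.unop)).toRingHom) ≫
          Spec.map (CommRingCat.ofHom (algebraMap A B'.unop.1)) =
          Spec.map (CommRingCat.ofHom (algebraMap A B.unop.1)) ≫ 𝟙 _
        rw [Category.comp_id, ← Spec.map_comp]
        rfl }
  have haff : ∀ {i j : Tᵒᵖ} (h : i ⟶ j), IsAffineHom (D.map h) := fun h => by
    change IsAffineHom (Spec.map _)
    infer_instance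
  have hdom : ∀ {i j : Tᵒᵖ} (h : i ⟶ j), IsSchemeTheoreticallyDominant (D.map h) := fun h => by
    change IsSchemeTheoreticallyDominant (Spec.map (CommRingCat.ofHom
      (Subalgebra.inclusion (leOfHom h.unop)).toRingHom))
    exact isSchemeTheoreticallyDominant_SpecMap _ (Subalgebra.inclusion_injective _)
  have hcomp : ∀ i : Tᵒᵖ, CompactSpace (D.obj i) := fun i => by
    change CompactSpace (Spec (CommRingCat.of i.unop.1))
    infer_instance
  have hqs : ∀ i : Tᵒᵖ, QuasiSeparatedSpace (D.obj i) := fun i => by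
    change QuasiSeparatedSpace (Spec (CommRingCat.of i.unop.1))
    infer_instance
  have ha : c.π ≫ t = (Functor.const _).map (g ≫ f) := by
    ext B : 2
    change Spec.map (CommRingCat.ofHom B.unop.1.val.toRingHom) ≫
      Spec.map (CommRingCat.ofHom (algebraMap A B.unop.1)) = g ≫ f
    rw [hg, ← Spec.map_comp]
    rfl
  obtain ⟨i, g', h1, h2⟩ :=
    Scheme.exists_π_app_comp_eq_of_locallyOfFiniteType_of_dominant_h93 D t f c hc g ha
  obtain ⟨⟨_, i₀, rfl⟩⟩ := i
  exact ⟨i₀, g', h2, h1⟩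

end Groth.Agent.Lib.Helper93.DirectedUnionSpec
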