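import Groth.Prelude.Def_Rees
import Mathlib.RingTheory.GradedAlgebra.HomogeneousLocalization
import Mathlib.RingTheory.Localization.Away.Basic
import Mathlib.RingTheory.GradedAlgebra.Homogeneous.Ideal

/-!
# Algebra of the charts of `Proj` of a Rees algebra (helper93)

For an ideal `I` of `A` and `a ∈ I`, the chart `B a = (R(I)_{aX})₀`, with structure map
`ψ : A → B a`.  We prove: `I · B a = (a)`, `a` is a nonzerodivisor of `B a`, rigidity of
`A`-algebra maps out of `B a`, and we construct the ring map `R(I) → C` attached to a ring map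
`A → C` making `I·C` principal generated by a nonzerodivisor.
-/

set_option autoImplicit false
universe u

open Polynomial HomogeneousLocalization

namespace Groth.Agent.Lib.Helper93.BlowUpProjAlg

variable {A : Type u} [CommRing A] (I : Ideal A)

/-- The element `c Xⁿ` of the Rees algebra, for `c ∈ Iⁿ`. -/
noncomputable def mono (n : ℕ) (c : A) (hc : c ∈ I ^ n) : reesAlgebra I :=
  ⟨monomial n c, reesAlgebra.monomial_mem.mpr hc⟩

@[simp] lemma coe_mono (n : ℕ) (c : A) (hc : c ∈ I ^ n) :
    ((mono I n c hc : reesAlgebra I) : A[X]) = monomial n c := rfl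

lemma mono_mem (n : ℕ) (c : A) (hc : c ∈ I ^ n) :
    mono I n c hc ∈ Rees.deg (reesAlgebra I) n := by
  intro m hm
  change (monomial n c).coeff m = 0
  rw [coeff_monomial, if_neg (fun h => hm h.symm)]

lemma eq_mono_of_mem {n : ℕ} {x : reesAlgebra I} (hx : x ∈ Rees.deg (reesAlgebra I) n) :
    x = mono I n ((x : A[X]).coeff n) (x.2 n) := by
  apply Subtype.ext
  ext m
  change _ = (monomial n _).coeff m
  rw [coeff_monomial]
  split_ifs with h
  · subst h; rfl
  · exact hx m (fun h' => h h'.symm)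

lemma mono_mul_mono (m n : ℕ) (c d : A) (hc : c ∈ I ^ m) (hd : d ∈ I ^ n) :
    mono I m c hc * mono I n d hd =
      mono I (m + n) (c * d) (by rw [pow_add]; exact Ideal.mul_mem_mul hc hd) := by
  apply Subtype.ext
  change monomial m c * monomial n d = monomial (m + n) (c * d)
  rw [monomial_mul_monomial]

lemma mono_zero_eq (n : ℕ) (h : (0 : A) ∈ I ^ n) : mono I n 0 h = 0 := by
  apply Subtype.ext
  change monomial n (0 : A) = 0
  simp

lemma mono_congr {m n : ℕ} (hmn : m = n) {c d : A} (hcd : c = d) (hc : c ∈ I ^ m) :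
    mono I m c hc = mono I n d (by subst hmn hcd; exact hc) := by
  subst hmn hcd; rfl

lemma algebraMap_eq_mono (c : A) :
    algebraMap A (reesAlgebra I) c = mono I 0 c (by simp) := by
  apply Subtype.ext
  change algebraMap A A[X] c = monomial 0 c
  rw [Polynomial.algebraMap_apply, Algebra.algebraMap_self, RingHom.id_apply, monomial_zero_left]

variable {I}

/-- The degree one element `aX`. -/
noncomputable def gen (a : A) (ha : a ∈ I) : reesAlgebra I := mono I 1 a (by rwa [pow_one])

lemma gen_mem (a : A) (ha : a ∈ I) : gen a ha ∈ Rees.deg (reesAlgebra I) 1 := mono_mem I 1 a _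

lemma gen_pow (a : A) (ha : a ∈ I) (n : ℕ) :
    gen a ha ^ n = mono I n (a ^ n) (Ideal.pow_mem_pow ha n) := by
  apply Subtype.ext
  change (monomial 1 a) ^ n = monomial n (a ^ n)
  rw [monomial_pow, one_mul]

/-- The chart ring `(R(I)_{aX})₀`. -/
abbrev B (a : A) (ha : a ∈ I) : Type u :=
  HomogeneousLocalization.Away (Rees.deg (reesAlgebra I)) (gen a ha)

/-- The structure map `A → B a`. -/
noncomputable def ψ (a : A) (ha : a ∈ I) : A →+* B a ha :=
  (HomogeneousLocalization.fromZeroRingHom (Rees.deg (reesAlgebra I)) _).comp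
    (algebraMap A (Rees.deg (reesAlgebra I) 0))

lemma val_ψ (a : A) (ha : a ∈ I) (c : A) :
    (ψ a ha c).val = Localization.mk (algebraMap A (reesAlgebra I) c) 1 := rfl

/-- The fraction `c Xⁿ / (aX)ⁿ`. -/
noncomputable def frac (a : A) (ha : a ∈ I) (n : ℕ) (c : A) (hc : c ∈ I ^ n) : B a ha :=
  HomogeneousLocalization.Away.mk _ (gen_mem a ha) n (mono I n c hc)
    (by rw [smul_eq_mul, mul_one]; exact mono_mem I n c hc)

lemma val_frac (a : A) (ha : a ∈ I) (n : ℕ) (c : A) (hc : c ∈ I ^ n) :
    (frac a ha n c hc).val = Localization.mk (mono I n c hc)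
      ⟨gen a ha ^ n, Submonoid.pow_mem _ (Submonoid.mem_powers _) n⟩ := rfl

lemma exists_frac (a : A) (ha : a ∈ I) (z : B a ha) :
    ∃ (n : ℕ) (c : A) (hc : c ∈ I ^ n), z = frac a ha n c hc := by
  obtain ⟨n, x, hx, rfl⟩ := HomogeneousLocalization.Away.mk_surjective _ (gen_mem a ha) z
  have hx' : x ∈ Rees.deg (reesAlgebra I) n := by
    rw [smul_eq_mul, mul_one] at hx; exact hx
  refine ⟨n, (x : A[X]).coeff n, x.2 n, ?_⟩
  apply HomogeneousLocalization.val_injective
  rw [val_frac, HomogeneousLocalization.Away.val_mk]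
  congr 1
  exact eq_mono_of_mem I hx'

lemma frac_mul_pow (a : A) (ha : a ∈ I) (n : ℕ) (c : A) (hc : c ∈ I ^ n) :
    frac a ha n c hc * ψ a ha a ^ n = ψ a ha c := by
  apply HomogeneousLocalization.val_injective
  rw [HomogeneousLocalization.val_mul, HomogeneousLocalization.val_pow, val_frac, val_ψ, val_ψ,
    Localization.mk_pow, Localization.mk_mul, Localization.mk_eq_mk_iff,
    Localization.r_iff_exists]
  refine ⟨1, ?_⟩
  simp only [OneMemClass.coe_one, one_mul, one_pow, mul_one]
  rw [gen_pow, algebraMap_eq_mono, algebraMap_eq_mono]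
  apply Subtype.ext
  change monomial n c * (monomial 0 a) ^ n = monomial n (a ^ n) * monomial 0 c
  rw [monomial_pow, monomial_mul_monomial, monomial_mul_monomial]
  rw [zero_mul, add_zero, mul_comm]

lemma frac_one_mul (a : A) (ha : a ∈ I) (c : A) (hc : c ∈ I) :
    frac a ha 1 c (by rwa [pow_one]) * ψ a ha a = ψ a ha c := by
  have := frac_mul_pow a ha 1 c (by rwa [pow_one])
  rw [pow_one (ψ a ha a)] at this
  exact this

lemma frac_eq_zero (a : A) (ha : a ∈ I) (n : ℕ) (c : A) (hc : c ∈ I ^ n) (k : ℕ)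
    (h : a ^ k * c = 0) : frac a ha n c hc = 0 := by
  apply HomogeneousLocalization.val_injective
  rw [val_frac, HomogeneousLocalization.val_zero, Localization.mk_eq_mk', IsLocalization.mk'_eq_zero_iff]
  refine ⟨⟨gen a ha ^ k, ⟨k, rfl⟩⟩, ?_⟩
  change gen a ha ^ k * mono I n c hc = 0
  rw [gen_pow, mono_mul_mono]
  apply Subtype.ext
  change monomial (k + n) (a ^ k * c) = 0
  rw [h, monomial_zero_right]

lemma ψ_mem_nonZeroDivisors (a : A) (ha : a ∈ I) : ψ a ha a ∈ nonZeroDivisors (B a ha) := by
  refine (mem_nonZeroDivisors_iff_right (M₀ := B a ha)).mpr ?_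
  intro z hz
  obtain ⟨n, c, hc, rfl⟩ := exists_frac a ha z
  have h1 := congrArg HomogeneousLocalization.val hz
  rw [HomogeneousLocalization.val_mul, val_frac, val_ψ, Localization.mk_mul,
    HomogeneousLocalization.val_zero, Localization.mk_eq_mk', IsLocalization.mk'_eq_zero_iff] at h1
  obtain ⟨⟨_, ⟨k, rfl⟩⟩, hk⟩ := h1
  change gen a ha ^ k * (mono I n c hc * algebraMap A (reesAlgebra I) a) = 0 at hk
  rw [gen_pow, algebraMap_eq_mono, mono_mul_mono, mono_mul_mono] at hk
  have h2 := congrArg (fun x : reesAlgebra I => (x : A[X]).coeff (k + (n + 0))) hk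
  simp only [coe_mono, coeff_monomial, if_true, ZeroMemClass.coe_zero, coeff_zero] at h2
  refine frac_eq_zero a ha n c hc (k + 1) ?_
  rw [pow_succ, ← h2]; ring

lemma map_ψ_eq (a : A) (ha : a ∈ I) : I.map (ψ a ha) = Ideal.span {ψ a ha a} := by
  apply le_antisymm
  · rw [Ideal.map_le_iff_le_comap]
    intro c hc
    rw [Ideal.mem_comap, ← frac_one_mul a ha c hc]
    exact Ideal.mul_mem_left _ _ (Ideal.mem_span_singleton_self _)
  · rw [Ideal.span_singleton_le_iff_mem]
    exact Ideal.mem_map_of_mem _ ha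

/-- Rigidity: a ring map out of `B a` is determined by its restriction to `A`, when `a` goes to a
nonzerodivisor. -/
lemma hom_ext {C : Type*} [CommRing C] (a : A) (ha : a ∈ I) (κ κ' : B a ha →+* C)
    (h : κ.comp (ψ a ha) = κ'.comp (ψ a ha)) (hnzd : κ (ψ a ha a) ∈ nonZeroDivisors C) :
    κ = κ' := by
  ext z
  obtain ⟨n, c, hc, rfl⟩ := exists_frac a ha z
  have h1 : κ (frac a ha n c hc) * κ (ψ a ha a) ^ n = κ (ψ a ha c) := by
    rw [← map_pow, ← map_mul, frac_mul_pow]
  have h2 : κ' (frac a ha n c hc) * κ' (ψ a ha a) ^ n = κ' (ψ a ha c) := by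
    rw [← map_pow, ← map_mul, frac_mul_pow]
  have h3 : ∀ x, κ' (ψ a ha x) = κ (ψ a ha x) := fun x => (RingHom.congr_fun h x).symm
  rw [h3, h3, ← h1] at h2
  exact (mul_cancel_right_mem_nonZeroDivisors (pow_mem hnzd n)).mp h2.symm


lemma isLocalizationElem_eq (a : A) (ha : a ∈ I) (a' : A) (ha' : a' ∈ I) :
    HomogeneousLocalization.Away.isLocalizationElem (gen_mem a ha) (gen_mem a' ha') =
      frac a ha 1 a' (by rwa [pow_one]) := by
  apply HomogeneousLocalization.val_injective
  rw [val_frac, HomogeneousLocalization.Away.val_mk]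
  congr 1
  exact pow_one _

lemma isLocalizationElem_mul (a : A) (ha : a ∈ I) (a' : A) (ha' : a' ∈ I) :
    HomogeneousLocalization.Away.isLocalizationElem (gen_mem a ha) (gen_mem a' ha') * ψ a ha a =
      ψ a ha a' := by
  rw [isLocalizationElem_eq, frac_one_mul a ha a' ha']

/-! ### The ring map `R(I) → C` -/

section Rho

variable {C : Type u} [CommRing C] (φ : A →+* C) (t : C)

variable (I) in
/-- `R(I) → C_t`, `X ↦ 1/t`. -/
noncomputable def rho₁ : reesAlgebra I →+* Localization.Away t :=
  (Polynomial.eval₂RingHom ((algebraMap C (Localization.Away t)).comp φ)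
    (IsLocalization.Away.invSelf t)).comp (reesAlgebra I).val.toRingHom

lemma rho₁_apply (x : reesAlgebra I) :
    rho₁ I φ t x = (x : A[X]).eval₂ ((algebraMap C (Localization.Away t)).comp φ)
      (IsLocalization.Away.invSelf t) := rfl

lemma rho₁_mono (n : ℕ) (c : A) (hc : c ∈ I ^ n) :
    rho₁ I φ t (mono I n c hc) =
      algebraMap C (Localization.Away t) (φ c) * IsLocalization.Away.invSelf t ^ n := by
  rw [rho₁_apply, coe_mono, eval₂_monomial]; rfl

variable (hI : I.map φ ≤ Ideal.span {t})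

include hI in
lemma exists_mul_pow_eq (n : ℕ) (c : A) (hc : c ∈ I ^ n) : ∃ w : C, w * t ^ n = φ c := by
  have h1 : φ c ∈ (I.map φ) ^ n := by
    rw [← Ideal.map_pow]; exact Ideal.mem_map_of_mem _ hc
  have h2 : φ c ∈ Ideal.span {t ^ n} := by
    rw [← Ideal.span_singleton_pow]; exact Ideal.pow_right_mono hI n h1
  exact Ideal.mem_span_singleton'.mp h2

lemma algebraMap_mul_invSelf_pow (w : C) (n : ℕ) :
    algebraMap C (Localization.Away t) (w * t ^ n) * IsLocalization.Away.invSelf t ^ n =
      algebraMap C (Localization.Away t) w := by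
  rw [map_mul, map_pow, mul_assoc, ← mul_pow, IsLocalization.Away.mul_invSelf, one_pow, mul_one]

include hI in
lemma rho₁_mem_range (x : reesAlgebra I) :
    rho₁ I φ t x ∈ (algebraMap C (Localization.Away t)).range := by
  rw [rho₁_apply, Polynomial.eval₂_eq_sum, Polynomial.sum_def]
  refine Subring.sum_mem _ fun i _ => ?_
  obtain ⟨w, hw⟩ := exists_mul_pow_eq φ t hI i _ (x.2 i)
  refine ⟨w, ?_⟩
  rw [RingHom.comp_apply, ← hw, algebraMap_mul_invSelf_pow]

variable (ht : t ∈ nonZeroDivisors C)

include ht in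
lemma algebraMap_injective : Function.Injective (algebraMap C (Localization.Away t)) :=
  IsLocalization.injective (Localization.Away t) (Submonoid.powers_le.mpr ht)

variable (I) in
/-- The ring map `R(I) → C`, `c Xⁿ ↦ φ(c)/tⁿ`. -/
noncomputable def rho : reesAlgebra I →+* C :=
  ((RingEquiv.ofBijective (algebraMap C (Localization.Away t)).rangeRestrict
    ⟨fun _ _ h => algebraMap_injective t ht (congrArg Subtype.val h),
      (algebraMap C (Localization.Away t)).rangeRestrict_surjective⟩).symm :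
      (algebraMap C (Localization.Away t)).range →+* C).comp
    ((rho₁ I φ t).codRestrict (algebraMap C (Localization.Away t)).range
      (rho₁_mem_range φ t hI))

lemma algebraMap_rho (x : reesAlgebra I) :
    algebraMap C (Localization.Away t) (rho I φ t hI ht x) = rho₁ I φ t x := by
  set e := RingEquiv.ofBijective (algebraMap C (Localization.Away t)).rangeRestrict
    ⟨fun _ _ h => algebraMap_injective t ht (congrArg Subtype.val h),
      (algebraMap C (Localization.Away t)).rangeRestrict_surjective⟩ with he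
  have h1 : rho I φ t hI ht x = e.symm ⟨rho₁ I φ t x, rho₁_mem_range φ t hI x⟩ := rfl
  have h2 : e (rho I φ t hI ht x) = ⟨rho₁ I φ t x, rho₁_mem_range φ t hI x⟩ := by
    rw [h1, RingEquiv.apply_symm_apply]
  exact congrArg Subtype.val h2

lemma rho_mono_mul (n : ℕ) (c : A) (hc : c ∈ I ^ n) :
    rho I φ t hI ht (mono I n c hc) * t ^ n = φ c := by
  apply algebraMap_injective t ht
  obtain ⟨w, hw⟩ := exists_mul_pow_eq φ t hI n c hc
  rw [map_mul, algebraMap_rho, rho₁_mono, ← hw, algebraMap_mul_invSelf_pow, ← map_mul]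

lemma rho_algebraMap (c : A) : rho I φ t hI ht (algebraMap A (reesAlgebra I) c) = φ c := by
  have := rho_mono_mul φ t hI ht 0 c (by simp)
  rw [pow_zero t, mul_one, ← algebraMap_eq_mono] at this
  exact this

lemma rho_gen_mul (a : A) (ha : a ∈ I) : rho I φ t hI ht (gen a ha) * t = φ a := by
  have := rho_mono_mul φ t hI ht 1 a (by rwa [pow_one])
  rw [pow_one t] at this
  exact this

lemma gen_mem_irrelevant (c : A) (hc : c ∈ I) :
    gen c hc ∈ (HomogeneousIdeal.irrelevant (Rees.deg (reesAlgebra I))).toIdeal := by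
  change gen c hc ∈ HomogeneousIdeal.irrelevant (Rees.deg (reesAlgebra I))
  rw [HomogeneousIdeal.mem_irrelevant_iff, GradedRing.proj_apply,
    DirectSum.decompose_of_mem_ne _ (gen_mem c hc) one_ne_zero]

lemma map_irrelevant_rho (hI' : I.map φ = Ideal.span {t}) :
    (HomogeneousIdeal.irrelevant (Rees.deg (reesAlgebra I))).toIdeal.map
      (rho I φ t hI'.le ht) = ⊤ := by
  set J := (HomogeneousIdeal.irrelevant (Rees.deg (reesAlgebra I))).toIdeal.map
      (rho I φ t hI'.le ht) with hJ
  have h1 : I.map φ ≤ Ideal.span {t} * J := by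
    rw [Ideal.map_le_iff_le_comap]
    intro c hc
    rw [Ideal.mem_comap, ← rho_gen_mul φ t hI'.le ht c hc]
    exact Ideal.mul_mem_mul_rev (Ideal.mem_span_singleton_self t)
      (Ideal.mem_map_of_mem _ (gen_mem_irrelevant c hc))
  have h2 : t ∈ Ideal.span {t} * J := h1 (hI' ▸ Ideal.mem_span_singleton_self t)
  obtain ⟨j, hj, hj'⟩ := Ideal.mem_span_singleton_mul.mp h2
  have h3 : (j - 1) * t = 0 := by rw [sub_mul, one_mul, mul_comm, hj', sub_self]
  have h4 : j = 1 := sub_eq_zero.mp ((mem_nonZeroDivisors_iff_right.mp ht) _ h3)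
  rw [Ideal.eq_top_iff_one, ← h4]
  exact hj

end Rho

end Groth.Agent.Lib.Helper93.BlowUpProjAlg
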