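import Groth.Prelude.Def_BlowUp2
import Groth.Agent.Lib.Helper93.BlowUpProjAlg

/-!
# The affine blow-up algebra `A[I/a]` and the chart ring of the Rees algebra (helper93)

* `AffAlg.lift`: universal property of `A[I/a]`.
* `AffAlg.hom_ext`: rigidity.
* `chartLift`: maps out of the chart ring `B a = (R(I)_{aX})₀`.
* `chartEquiv : B a ≃+* A[I/a]` compatible with the structure maps from `A`.
-/

set_option autoImplicit false
universe u
open Polynomial

namespace Groth.Agent.Lib.Helper93.AffineBlowUpAlg

open Groth.Agent.Lib.Helper93.BlowUpProjAlg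

variable {A : Type u} [CommRing A] {I : Ideal A}

namespace AffAlg

/-- The generator `x/a` of the affine blow-up algebra. -/
noncomputable def gen (a : A) (x : A) (hx : x ∈ I) : BlowUp.affineAlgebra A I a :=
  ⟨IsLocalization.mk' (Localization.Away a) x ⟨a, Submonoid.mem_powers a⟩,
    Algebra.subset_adjoin ⟨x, hx, rfl⟩⟩

lemma gen_mul (a : A) (x : A) (hx : x ∈ I) :
    gen a x hx * algebraMap A (BlowUp.affineAlgebra A I a) a =
      algebraMap A (BlowUp.affineAlgebra A I a) x := by
  apply Subtype.ext
  change IsLocalization.mk' (Localization.Away a) x ⟨a, Submonoid.mem_powers a⟩ *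
    algebraMap A (Localization.Away a) a = algebraMap A (Localization.Away a) x
  exact IsLocalization.mk'_spec (Localization.Away a) x ⟨a, Submonoid.mem_powers a⟩

lemma algebraMap_mem_nonZeroDivisors (a : A) :
    algebraMap A (BlowUp.affineAlgebra A I a) a ∈ nonZeroDivisors (BlowUp.affineAlgebra A I a) := by
  refine (mem_nonZeroDivisors_iff_right (M₀ := BlowUp.affineAlgebra A I a)).mpr ?_
  intro z hz
  have h1 : (z : Localization.Away a) * algebraMap A (Localization.Away a) a = 0 :=
    congrArg Subtype.val hz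
  have hu : IsUnit (algebraMap A (Localization.Away a) a) :=
    IsLocalization.Away.algebraMap_isUnit a
  apply Subtype.ext
  exact (hu.mul_left_eq_zero).mp h1

lemma map_algebraMap_eq (a : A) (ha : a ∈ I) :
    I.map (algebraMap A (BlowUp.affineAlgebra A I a)) =
      Ideal.span {algebraMap A (BlowUp.affineAlgebra A I a) a} := by
  apply le_antisymm
  · rw [Ideal.map_le_iff_le_comap]
    intro x hx
    rw [Ideal.mem_comap, ← gen_mul a x hx]
    exact Ideal.mul_mem_left _ _ (Ideal.mem_span_singleton_self _)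
  · rw [Ideal.span_singleton_le_iff_mem]
    exact Ideal.mem_map_of_mem _ ha

/-- Rigidity of maps out of the affine blow-up algebra. -/
lemma hom_ext {C : Type*} [CommRing C] (a : A) (κ κ' : BlowUp.affineAlgebra A I a →+* C)
    (h : κ.comp (algebraMap A (BlowUp.affineAlgebra A I a)) =
      κ'.comp (algebraMap A (BlowUp.affineAlgebra A I a)))
    (hnzd : κ (algebraMap A (BlowUp.affineAlgebra A I a) a) ∈ nonZeroDivisors C) : κ = κ' := by
  have hA : ∀ c : A, κ (algebraMap A _ c) = κ' (algebraMap A _ c) := fun c =>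
    RingHom.congr_fun h c
  ext ⟨z, hz⟩
  induction hz using Algebra.adjoin_induction with
  | mem z hz =>
    obtain ⟨x, hx, rfl⟩ := hz
    change κ (gen a x hx) = κ' (gen a x hx)
    have h1 : κ (gen a x hx) * κ (algebraMap A _ a) = κ' (gen a x hx) * κ (algebraMap A _ a) := by
      rw [← map_mul, gen_mul, hA a, ← map_mul, gen_mul, hA x]
    exact (mul_cancel_right_mem_nonZeroDivisors hnzd).mp h1
  | algebraMap c => exact hA c
  | add x y hx hy ihx ihy =>
    have : (⟨x + y, add_mem hx hy⟩ : BlowUp.affineAlgebra A I a) = ⟨x, hx⟩ + ⟨y, hy⟩ := rfl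
    rw [this, map_add, map_add, ihx, ihy]
  | mul x y hx hy ihx ihy =>
    have : (⟨x * y, mul_mem hx hy⟩ : BlowUp.affineAlgebra A I a) = ⟨x, hx⟩ * ⟨y, hy⟩ := rfl
    rw [this, map_mul, map_mul, ihx, ihy]

section Lift

variable {C : Type*} [CommRing C] (a : A) (φ : A →+* C)

/-- The auxiliary map `A_a → C_{φ a}`. -/
noncomputable def lift₁ : Localization.Away a →+* Localization.Away (φ a) :=
  IsLocalization.Away.lift (S := Localization.Away a) a
    (g := (algebraMap C (Localization.Away (φ a))).comp φ)
    (IsLocalization.Away.algebraMap_isUnit (φ a))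

lemma lift₁_algebraMap (c : A) :
    lift₁ a φ (algebraMap A (Localization.Away a) c) =
      algebraMap C (Localization.Away (φ a)) (φ c) :=
  IsLocalization.Away.lift_eq _ _ _

variable (hI : I.map φ ≤ Ideal.span {φ a})

include hI in
lemma lift₁_mem_range (z : Localization.Away a) (hz : z ∈ BlowUp.affineAlgebra A I a) :
    lift₁ a φ z ∈ (algebraMap C (Localization.Away (φ a))).range := by
  induction hz using Algebra.adjoin_induction with
  | mem z hz =>
    obtain ⟨x, hx, rfl⟩ := hz
    have h1 : φ x ∈ Ideal.span {φ a} := hI (Ideal.mem_map_of_mem φ hx)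
    obtain ⟨w, hw⟩ := Ideal.mem_span_singleton'.mp h1
    refine ⟨w, ?_⟩
    have hu : IsUnit (algebraMap C (Localization.Away (φ a)) (φ a)) :=
      IsLocalization.Away.algebraMap_isUnit (φ a)
    have h2 : lift₁ a φ (IsLocalization.mk' (Localization.Away a) x
        ⟨a, Submonoid.mem_powers a⟩) * algebraMap C (Localization.Away (φ a)) (φ a) =
        algebraMap C (Localization.Away (φ a)) w * algebraMap C (Localization.Away (φ a)) (φ a) := by
      rw [← lift₁_algebraMap a φ a, ← map_mul,
        IsLocalization.mk'_spec (Localization.Away a) x ⟨a, Submonoid.mem_powers a⟩,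
        lift₁_algebraMap, lift₁_algebraMap, ← map_mul, hw]
    exact (hu.mul_left_inj.mp h2).symm
  | algebraMap c => exact ⟨φ c, (lift₁_algebraMap a φ c).symm⟩
  | add x y hx hy ihx ihy => rw [map_add]; exact Subring.add_mem _ ihx ihy
  | mul x y hx hy ihx ihy => rw [map_mul]; exact Subring.mul_mem _ ihx ihy

variable (hnzd : φ a ∈ nonZeroDivisors C)

/-- The universal map `A[I/a] → C`. -/
noncomputable def lift : BlowUp.affineAlgebra A I a →+* C :=
  ((RingEquiv.ofBijective (algebraMap C (Localization.Away (φ a))).rangeRestrict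
    ⟨fun _ _ h => algebraMap_injective (φ a) hnzd (congrArg Subtype.val h),
      (algebraMap C (Localization.Away (φ a))).rangeRestrict_surjective⟩).symm :
      (algebraMap C (Localization.Away (φ a))).range →+* C).comp
    (((lift₁ a φ).comp (BlowUp.affineAlgebra A I a).val.toRingHom).codRestrict
      (algebraMap C (Localization.Away (φ a))).range (fun z => lift₁_mem_range a φ hI z.1 z.2))

lemma algebraMap_lift (z : BlowUp.affineAlgebra A I a) :
    algebraMap C (Localization.Away (φ a)) (lift a φ hI hnzd z) = lift₁ a φ z.1 := by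
  set e := RingEquiv.ofBijective (algebraMap C (Localization.Away (φ a))).rangeRestrict
    ⟨fun _ _ h => algebraMap_injective (φ a) hnzd (congrArg Subtype.val h),
      (algebraMap C (Localization.Away (φ a))).rangeRestrict_surjective⟩ with he
  have h1 : lift a φ hI hnzd z = e.symm ⟨lift₁ a φ z.1, lift₁_mem_range a φ hI z.1 z.2⟩ := rfl
  have h2 : e (lift a φ hI hnzd z) = ⟨lift₁ a φ z.1, lift₁_mem_range a φ hI z.1 z.2⟩ := by
    rw [h1, RingEquiv.apply_symm_apply]
  exact congrArg Subtype.val h2

lemma lift_comp_algebraMap :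
    (lift a φ hI hnzd).comp (algebraMap A (BlowUp.affineAlgebra A I a)) = φ := by
  ext c
  apply algebraMap_injective (φ a) hnzd
  rw [RingHom.comp_apply, algebraMap_lift]
  exact lift₁_algebraMap a φ c

end Lift

end AffAlg

section ChartLift

variable {C : Type u} [CommRing C] (a : A) (ha : a ∈ I) (φ : A →+* C)
  (hnzd : φ a ∈ nonZeroDivisors C) (hI : I.map φ = Ideal.span {φ a})

lemma rho_gen_eq_one : rho I φ (φ a) hI.le hnzd (BlowUpProjAlg.gen a ha) = 1 := by
  have h1 := rho_gen_mul φ (φ a) hI.le hnzd a ha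
  have h2 : rho I φ (φ a) hI.le hnzd (BlowUpProjAlg.gen a ha) * φ a = 1 * φ a := by
    rw [h1, one_mul]
  exact (mul_cancel_right_mem_nonZeroDivisors hnzd).mp h2

lemma isUnit_rho_gen : IsUnit (rho I φ (φ a) hI.le hnzd (BlowUpProjAlg.gen a ha)) := by
  rw [rho_gen_eq_one a ha φ hnzd hI]; exact isUnit_one

/-- Maps out of the chart ring `B a`. -/
noncomputable def chartLift : B a ha →+* C :=
  (IsLocalization.Away.lift (S := Localization.Away (BlowUpProjAlg.gen a ha))
    (BlowUpProjAlg.gen a ha) (g := rho I φ (φ a) hI.le hnzd)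
    (isUnit_rho_gen a ha φ hnzd hI)).comp
    (algebraMap (B a ha) (Localization.Away (BlowUpProjAlg.gen a ha)))

lemma chartLift_comp_ψ : (chartLift a ha φ hnzd hI).comp (ψ a ha) = φ := by
  ext c
  change IsLocalization.Away.lift (S := Localization.Away (BlowUpProjAlg.gen a ha))
    (BlowUpProjAlg.gen a ha) (g := rho I φ (φ a) hI.le hnzd) (isUnit_rho_gen a ha φ hnzd hI)
    (algebraMap (B a ha) (Localization.Away (BlowUpProjAlg.gen a ha)) (ψ a ha c)) = φ c
  rw [HomogeneousLocalization.algebraMap_apply, val_ψ, Localization.mk_one_eq_algebraMap,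
    IsLocalization.Away.lift_eq, rho_algebraMap]

end ChartLift

section Equiv

variable (a : A) (ha : a ∈ I)

/-- `A[I/a] → B a`. -/
noncomputable def toChart : BlowUp.affineAlgebra A I a →+* B a ha :=
  AffAlg.lift a (ψ a ha) (map_ψ_eq a ha).le (ψ_mem_nonZeroDivisors a ha)

lemma toChart_comp_algebraMap :
    (toChart a ha).comp (algebraMap A (BlowUp.affineAlgebra A I a)) = ψ a ha :=
  AffAlg.lift_comp_algebraMap a (ψ a ha) (map_ψ_eq a ha).le (ψ_mem_nonZeroDivisors a ha)

/-- `B a → A[I/a]`. -/
noncomputable def ofChart : B a ha →+* BlowUp.affineAlgebra A I a :=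
  chartLift a ha (algebraMap A (BlowUp.affineAlgebra A I a))
    (AffAlg.algebraMap_mem_nonZeroDivisors a) (AffAlg.map_algebraMap_eq a ha)

lemma ofChart_comp_ψ :
    (ofChart a ha).comp (ψ a ha) = algebraMap A (BlowUp.affineAlgebra A I a) :=
  chartLift_comp_ψ a ha _ _ _

lemma ofChart_comp_toChart :
    (ofChart a ha).comp (toChart a ha) = RingHom.id (BlowUp.affineAlgebra A I a) := by
  apply AffAlg.hom_ext a
  · rw [RingHom.comp_assoc, toChart_comp_algebraMap, ofChart_comp_ψ, RingHom.id_comp]
  · have h1 : ((ofChart a ha).comp (toChart a ha)) (algebraMap A _ a) =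
        algebraMap A (BlowUp.affineAlgebra A I a) a := by
      rw [← RingHom.comp_apply, RingHom.comp_assoc, toChart_comp_algebraMap, ofChart_comp_ψ]
    rw [h1]
    exact AffAlg.algebraMap_mem_nonZeroDivisors a

lemma toChart_comp_ofChart :
    (toChart a ha).comp (ofChart a ha) = RingHom.id (B a ha) := by
  apply BlowUpProjAlg.hom_ext a ha
  · rw [RingHom.comp_assoc, ofChart_comp_ψ, toChart_comp_algebraMap, RingHom.id_comp]
  · have h1 : ((toChart a ha).comp (ofChart a ha)) (ψ a ha a) = ψ a ha a := by
      rw [← RingHom.comp_apply, RingHom.comp_assoc, ofChart_comp_ψ, toChart_comp_algebraMap]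
    rw [h1]
    exact ψ_mem_nonZeroDivisors a ha

end Equiv

end Groth.Agent.Lib.Helper93.AffineBlowUpAlg
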