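import Groth.Agent.Lib.Helper93.DepthHom

/-!
# Serre's condition `(S_k)` for kernels and reflexive modules (helper93)

* `sk_transfer`: arithmetic core for transferring `min k dim ≤ depth`.
* `mem_support_localizedModule_iff`, `support_localizedModule_eq_preimage`,
  `supportDim_localizedModule_le_of_support_subset`: supports of localized modules.
* `localizedModule_map_exact`: exactness of `LocalizedModule.map`.
* `hasSk_one_of_injective`, `hasSk_two_of_exact`: `(S_1)`, `(S_2)` for kernels.
* `localizedHomEquiv`, `localizedReflexiveEquiv`, `hasSk_of_isReflexive`.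
-/

namespace Groth.Agent.Lib.Helper93.Depth

open LocCoh

universe u v

/-- Arithmetic core of "(S_k) transfers": if `dX ≤ dY`, `min k dY ≤ eY`, and for every natural
`j ≤ k` with `j ≤ eY`, `j ≤ dX` one has `j ≤ eX`, then `min k dX ≤ eX`. -/
theorem sk_transfer (k : ℕ) (dX dY : WithBot ℕ∞) (eX eY : ℕ∞) (hd : dX ≤ dY)
    (hY : min (k : WithBot ℕ∞) dY ≤ (eY : WithBot ℕ∞))
    (h : ∀ j : ℕ, j ≤ k → (j : ℕ∞) ≤ eY → (j : WithBot ℕ∞) ≤ dX → (j : ℕ∞) ≤ eX) :
    min (k : WithBot ℕ∞) dX ≤ (eX : WithBot ℕ∞) := by
  induction dX using WithBot.recBotCoe with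
  | bot => simp
  | coe a =>
    -- `min k a` is a natural number `j ≤ k`
    obtain ⟨j, hj⟩ : ∃ j : ℕ, (j : ℕ∞) = min (k : ℕ∞) a := by
      have : min (k : ℕ∞) a ≠ ⊤ := ne_top_of_le_ne_top (ENat.natCast_ne_top k) (min_le_left _ _)
      exact ⟨(min (k : ℕ∞) a).toNat, ENat.natCast_toNat this⟩
    have hjk : j ≤ k := by
      have : (j : ℕ∞) ≤ k := hj ▸ min_le_left _ _
      exact_mod_cast this
    have hja : (j : ℕ∞) ≤ a := hj ▸ min_le_right _ _
    have hmin : min (k : WithBot ℕ∞) ((a : ℕ∞) : WithBot ℕ∞) = ((j : ℕ∞) : WithBot ℕ∞) := by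
      rw [hj]
      rfl
    have hjdX : ((j : ℕ) : WithBot ℕ∞) ≤ ((a : ℕ∞) : WithBot ℕ∞) := by
      exact_mod_cast hja
    have hjY : (j : ℕ∞) ≤ eY := by
      have h1 : ((j : ℕ) : WithBot ℕ∞) ≤ min (k : WithBot ℕ∞) dY :=
        le_min (by exact_mod_cast hjk) (le_trans hjdX hd)
      have h2 := le_trans h1 hY
      exact_mod_cast h2
    rw [hmin]
    exact_mod_cast h j hjk hjY hjdX

section Support

variable {A : Type u} [CommRing A] (S : Submonoid A) (M : Type v) [AddCommGroup M] [Module A M]

/-- Support of a localized module over the localized ring: the preimage of the support. -/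
theorem mem_support_localizedModule_iff (q' : PrimeSpectrum (Localization S)) :
    q' ∈ Module.support (Localization S) (LocalizedModule S M) ↔
      PrimeSpectrum.comap (algebraMap A (Localization S)) q' ∈ Module.support A M := by
  rw [Module.mem_support_iff', Module.mem_support_iff']
  constructor
  · rintro ⟨x, hx⟩
    induction x using LocalizedModule.induction_on with
    | h m s =>
      refine ⟨m, fun r hr h0 => hx (algebraMap A (Localization S) r) hr ?_⟩
      rw [algebraMap_smul, LocalizedModule.smul'_mk, h0, LocalizedModule.zero_mk]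
  · rintro ⟨m, hm⟩
    refine ⟨LocalizedModule.mk m 1, fun b hb h0 => ?_⟩
    obtain ⟨a, s, rfl⟩ := IsLocalization.exists_mk'_eq S b
    have ha : algebraMap A (Localization S) a ∉ q'.asIdeal := by
      intro hmem
      apply hb
      rw [IsLocalization.mk'_eq_mul_mk'_one]
      exact q'.asIdeal.mul_mem_right _ hmem
    rw [← Localization.mk_eq_mk', LocalizedModule.mk_smul_mk, mul_one,
      ← LocalizedModule.zero_mk s, LocalizedModule.mk_eq] at h0
    obtain ⟨t, ht⟩ := h0
    simp only [smul_zero] at ht
    have hta : ((t * s : S) : A) * a ∉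
        (PrimeSpectrum.comap (algebraMap A (Localization S)) q').asIdeal := by
      intro hmem
      rw [PrimeSpectrum.comap_asIdeal, Ideal.mem_comap, map_mul] at hmem
      rcases q'.isPrime.mem_or_mem hmem with h1 | h1
      · exact q'.isPrime.ne_top
          (Ideal.eq_top_of_isUnit_mem _ h1 (IsLocalization.map_units _ (t * s)))
      · exact ha h1
    refine hm _ hta ?_
    rw [mul_smul, Submonoid.coe_mul, mul_smul]
    exact ht

theorem support_localizedModule_eq_preimage :
    Module.support (Localization S) (LocalizedModule S M) =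
      PrimeSpectrum.comap (algebraMap A (Localization S)) ⁻¹' Module.support A M := by
  ext q'
  exact mem_support_localizedModule_iff S M q'

variable {M} in
theorem supportDim_localizedModule_le_of_support_subset {N : Type*} [AddCommGroup N] [Module A N]
    (h : Module.support A M ⊆ Module.support A N) :
    Module.supportDim (Localization S) (LocalizedModule S M) ≤
      Module.supportDim (Localization S) (LocalizedModule S N) := by
  have hsub : Module.support (Localization S) (LocalizedModule S M) ⊆
      Module.support (Localization S) (LocalizedModule S N) := by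
    rw [support_localizedModule_eq_preimage, support_localizedModule_eq_preimage]
    exact Set.preimage_mono h
  exact Order.krullDim_le_of_strictMono (fun x => ⟨x.1, hsub x.2⟩) (fun x y hxy => hxy)

theorem support_self_eq_univ : Module.support A A = Set.univ := by
  ext q
  simp only [Set.mem_univ, iff_true]
  rw [Module.mem_support_iff']
  refine ⟨1, fun r hr h0 => hr ?_⟩
  have : r = 0 := by simpa using h0
  rw [this]
  exact q.asIdeal.zero_mem

end Support

section LocExact

variable {A : Type u} [CommRing A] (S : Submonoid A) {X Y Z : Type*} [AddCommGroup X] [Module A X]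
  [AddCommGroup Y] [Module A Y] [AddCommGroup Z] [Module A Z]

theorem localizedModule_map_exact (f : X →ₗ[A] Y) (g : Y →ₗ[A] Z) (h : Function.Exact f g) :
    Function.Exact (LocalizedModule.map S f) (LocalizedModule.map S g) :=
  LocalizedModule.map_exact S f g h

end LocExact

section SkKer

variable {A : Type u} [CommRing A] [IsNoetherianRing A]
  {X Y Z : Type u} [AddCommGroup X] [Module A X] [Module.Finite A X]
  [AddCommGroup Y] [Module A Y] [Module.Finite A Y] [AddCommGroup Z] [Module A Z] [Module.Finite A Z]

omit [Module.Finite A Z] in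
/-- `(S_1)` passes to submodules. -/
theorem hasSk_one_of_injective (f : X →ₗ[A] Y) (hf : Function.Injective f) (hY : HasSk 1 A Y) :
    HasSk 1 A X := by
  intro p _
  have hf' := LocalizedModule.map_injective p.primeCompl f hf
  refine sk_transfer 1 _ _ _ _ (Module.supportDim_le_of_injective _ hf') (hY p) ?_
  intro j hj hjY _
  interval_cases j
  · simp
  · exact one_le_idealDepth_of_injective _ _ hf' (by simpa [LocCoh.depth] using hjY)

/-- `0 → X → Y → Z` exact, `Supp X ⊆ Supp Z`, `Z` has `(S_1)`, `Y` has `(S_2)` ⟹ `X` has `(S_2)`. -/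
theorem hasSk_two_of_exact (f : X →ₗ[A] Y) (g : Y →ₗ[A] Z) (hf : Function.Injective f)
    (hfg : Function.Exact f g) (hsupp : Module.support A X ⊆ Module.support A Z)
    (hZ : HasSk 1 A Z) (hY : HasSk 2 A Y) : HasSk 2 A X := by
  intro p _
  have hf' := LocalizedModule.map_injective p.primeCompl f hf
  have hfg' := localizedModule_map_exact p.primeCompl f g hfg
  refine sk_transfer 2 _ _ _ _ (Module.supportDim_le_of_injective _ hf') (hY p) ?_
  intro j hj hjY hjX
  interval_cases j
  · simp
  · exact one_le_idealDepth_of_injective _ _ hf' (by simpa [LocCoh.depth] using hjY)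
  · have hdZ : ((2 : ℕ) : WithBot ℕ∞) ≤ Module.supportDim (Localization.AtPrime p)
        (LocalizedModule p.primeCompl Z) :=
      le_trans hjX (supportDim_localizedModule_le_of_support_subset p.primeCompl hsupp)
    have h1 : (1 : WithBot ℕ∞) ≤ ((depth (Localization.AtPrime p)
        (LocalizedModule p.primeCompl Z) : ℕ∞) : WithBot ℕ∞) := by
      refine le_trans (le_min ?_ ?_) (hZ p)
      · simp
      · refine le_trans ?_ hdZ
        norm_num
    have h1' : 1 ≤ depth (Localization.AtPrime p) (LocalizedModule p.primeCompl Z) := by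
      exact_mod_cast h1
    exact two_le_idealDepth_of_exact _ _ _ hf' hfg' (by simpa [LocCoh.depth] using hjY) h1'

end SkKer

section Refl

variable {A : Type u} [CommRing A] [IsNoetherianRing A] (S : Submonoid A)
  (N M : Type u) [AddCommGroup N] [Module A N] [Module.Finite A N] [AddCommGroup M] [Module A M]

/-- `Hom_A(N, M)_S ≅ Hom_{A_S}(N_S, M_S)`, linear over `A_S` (`N` finite over Noetherian `A`). -/
noncomputable def localizedHomEquiv :
    LocalizedModule S (N →ₗ[A] M) ≃ₗ[Localization S]
      (LocalizedModule S N →ₗ[Localization S] LocalizedModule S M) :=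
  haveI : Module.FinitePresentation A N := Module.finitePresentation_of_finite A N
  LinearEquiv.extendScalarsOfIsLocalization S (Localization S)
    (Module.FinitePresentation.linearEquivMapExtendScalars S)

variable (G : Type u) [AddCommGroup G] [Module A G] [Module.Finite A G] [Module.IsReflexive A G]

/-- For `G` finite reflexive: `G_S ≅ Hom_{A_S}((G^∨)_S, A_S)`. -/
noncomputable def localizedReflexiveEquiv :
    LocalizedModule S G ≃ₗ[Localization S]
      (LocalizedModule S (Module.Dual A G) →ₗ[Localization S] LocalizedModule S A) :=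
  (IsLocalizedModule.mapEquiv S (LocalizedModule.mkLinearMap S G)
    (LocalizedModule.mkLinearMap S (Module.Dual A (Module.Dual A G))) (Localization S)
    (Module.evalEquiv A G)).trans (localizedHomEquiv S (Module.Dual A G) A)

/-- `(S_k)` for `A` implies `(S_k)` for a finite reflexive module, `k ≤ 2`. -/
theorem hasSk_of_isReflexive (k : ℕ) (hk : k ≤ 2) (hA : HasSk k A A) : HasSk k A G := by
  intro p _
  have hd : Module.supportDim (Localization.AtPrime p) (LocalizedModule p.primeCompl G) ≤
      Module.supportDim (Localization.AtPrime p) (LocalizedModule p.primeCompl A) :=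
    supportDim_localizedModule_le_of_support_subset p.primeCompl
      (by rw [support_self_eq_univ]; exact Set.subset_univ _)
  refine sk_transfer k _ _ _ _ hd (hA p) ?_
  intro j hj hjY _
  have e := localizedReflexiveEquiv p.primeCompl G
  unfold LocCoh.depth at hjY ⊢
  rw [idealDepth_congr e]
  have hj2 : j ≤ 2 := le_trans hj hk
  interval_cases j
  · simp
  · exact one_le_idealDepth_linearMap (IsLocalRing.maximalIdeal (Localization.AtPrime p))
      (LocalizedModule p.primeCompl (Module.Dual A G)) (LocalizedModule p.primeCompl A)
      (by simpa using hjY)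
  · exact two_le_idealDepth_linearMap (IsLocalRing.maximalIdeal (Localization.AtPrime p))
      (LocalizedModule p.primeCompl (Module.Dual A G)) (LocalizedModule p.primeCompl A)
      (by simpa using hjY)

end Refl

end Groth.Agent.Lib.Helper93.Depth
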