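import Groth.Agent.Lib.Helper93.KoszulTopMap

/-!
# Koszul cohomology of the powers of the variables of a polynomial ring (helper93)
-/

set_option autoImplicit false
universe u
open CategoryTheory CategoryTheory.Limits CochainComplex HomComplex CohIII HomologicalComplex
open Groth.Agent.Lib.Helper12.Koszul Groth.Agent.Lib.Helper12.KoszulTop
open Groth.Agent.Lib.Helper93.KoszulTrans Groth.Agent.Lib.Helper93.ConeLES
open Groth.Agent.Lib.Helper93.KoszulBot Groth.Agent.Lib.Helper93.KoszulInj
open Groth.Agent.Lib.Helper93.KoszulTopMap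
open MvPolynomial RingTheory.Sequence

namespace Groth.Agent.Lib.Helper93.KoszulPoly

variable (A : Type u) [CommRing A] (k : ℕ)

/-- the `n`-th powers of the variables, as a list. -/
noncomputable def xpow (n : ℕ) : List (MvPolynomial (Fin k) A) :=
  List.ofFn fun j : Fin k => (X j : MvPolynomial (Fin k) A) ^ n

lemma xpow_length (n : ℕ) : (xpow A k n).length = k := List.length_ofFn

lemma map_pow_ofFn_X (n : ℕ) :
    (List.ofFn fun j : Fin k => (X j : MvPolynomial (Fin k) A)).map (· ^ n) = xpow A k n := by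
  unfold xpow
  rw [List.map_ofFn]
  rfl

/-- the exponents of the first `i` generators. -/
def expSet (i n : ℕ) : Set (Fin k →₀ ℕ) := {s | ∃ j : Fin k, j.val < i ∧ s = Finsupp.single j n}

lemma ofList_take (i n : ℕ) :
    Ideal.ofList ((xpow A k n).take i) =
      Ideal.span ((fun s => monomial s (1 : A)) '' expSet k i n) := by
  unfold Ideal.ofList
  congr 1
  ext x
  simp only [Set.mem_ofPred_eq, Set.mem_image, expSet]
  rw [List.mem_take_iff_getElem]
  constructor
  · rintro ⟨j, hj, rfl⟩
    rw [lt_min_iff, xpow_length] at hj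
    refine ⟨Finsupp.single ⟨j, hj.2⟩ n, ⟨⟨j, hj.2⟩, hj.1, rfl⟩, ?_⟩
    unfold xpow
    rw [List.getElem_ofFn, X_pow_eq_monomial]
  · rintro ⟨s, ⟨j, hj, rfl⟩, rfl⟩
    refine ⟨j.val, by rw [lt_min_iff, xpow_length]; exact ⟨hj, j.2⟩, ?_⟩
    unfold xpow
    rw [List.getElem_ofFn, X_pow_eq_monomial]

lemma mem_ofList_take_iff (i n : ℕ) (p : MvPolynomial (Fin k) A) :
    p ∈ Ideal.ofList ((xpow A k n).take i) ↔
      ∀ m ∈ p.support, ∃ j : Fin k, j.val < i ∧ n ≤ m j := by
  rw [ofList_take, mem_ideal_span_monomial_image]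
  refine forall₂_congr fun m _ => ?_
  constructor
  · rintro ⟨s, ⟨j, hj, rfl⟩, hs⟩
    exact ⟨j, hj, by simpa using hs j⟩
  · rintro ⟨j, hj, hn⟩
    refine ⟨_, ⟨j, hj, rfl⟩, ?_⟩
    intro l
    by_cases hl : l = j
    · subst hl; simpa using hn
    · rw [Finsupp.single_apply, if_neg (Ne.symm hl)]; exact Nat.zero_le _

lemma mem_ofList_iff (n : ℕ) (p : MvPolynomial (Fin k) A) :
    p ∈ Ideal.ofList (xpow A k n) ↔ ∀ m ∈ p.support, ∃ j : Fin k, n ≤ m j := by
  have h := mem_ofList_take_iff A k k n p
  rw [show (xpow A k n).take k = xpow A k n from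
    List.take_of_length_le (le_of_eq (xpow_length A k n))] at h
  rw [h]
  exact forall₂_congr fun m _ => ⟨fun ⟨j, _, hj⟩ => ⟨j, hj⟩, fun ⟨j, hj⟩ => ⟨j, j.2, hj⟩⟩

/-- the powers of the variables form a weakly regular sequence. -/
lemma isWeaklyRegular_xpow (n : ℕ) : IsWeaklyRegular (MvPolynomial (Fin k) A) (xpow A k n) := by
  rw [isWeaklyRegular_iff_Fin]
  intro i
  rw [isSMulRegular_iff_right_eq_zero_of_smul]
  intro q hq
  obtain ⟨p, rfl⟩ := Submodule.Quotient.mk_surjective _ q
  rw [← Submodule.Quotient.mk_smul, Submodule.Quotient.mk_eq_zero, smul_eq_mul, Ideal.mul_top,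
    mem_ofList_take_iff] at hq
  rw [Submodule.Quotient.mk_eq_zero, smul_eq_mul, Ideal.mul_top, mem_ofList_take_iff]
  intro m hm
  have hi : i.val < k := lt_of_lt_of_eq i.2 (xpow_length A k n)
  have hx : (xpow A k n)[i] = monomial (Finsupp.single (⟨i.val, hi⟩ : Fin k) n) (1 : A) := by
    have h1 : (xpow A k n)[i] = (xpow A k n)[i.val] := rfl
    rw [h1]
    unfold xpow
    rw [List.getElem_ofFn, X_pow_eq_monomial]
  have hm' : Finsupp.single (⟨i.val, hi⟩ : Fin k) n + m ∈ ((xpow A k n)[i] * p).support := by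
    rw [mem_support_iff, hx, coeff_monomial_mul, one_mul]
    exact mem_support_iff.mp hm
  obtain ⟨j, hj, hn⟩ := hq _ hm'
  refine ⟨j, hj, ?_⟩
  have hne : (⟨i.val, hi⟩ : Fin k) ≠ j := by
    intro h
    rw [← h] at hj
    exact lt_irrefl _ hj
  rwa [Finsupp.add_apply, Finsupp.single_apply, if_neg hne, zero_add] at hn

omit A k in
lemma isZero_homology_of_eq {R : Type u} [Ring R] {K : CochainComplex (ModuleCat.{u} R) ℤ}
    {j j' : ℤ} (h : j = j') (hz : IsZero (K.homology j)) : IsZero (K.homology j') := by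
  subst h
  exact hz

/-- the list of variables. -/
noncomputable abbrev vars : List (MvPolynomial (Fin k) A) :=
  List.ofFn fun j : Fin k => (X j : MvPolynomial (Fin k) A)

/-- the polynomial ring as a module over itself. -/
noncomputable abbrev SM : ModuleCat.{u} (MvPolynomial (Fin k) A) :=
  ModuleCat.of (MvPolynomial (Fin k) A) (MvPolynomial (Fin k) A)

lemma vars_length : (vars A k).length = k := List.length_ofFn

/-- **Vanishing outside the top degree.** -/
theorem subsingleton_koszulHLim_of_ne (i : ℕ) (hi : i ≠ k) :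
    Subsingleton (koszulHLim (vars A k) (SM A k) i) := by
  rw [HLim.subsingleton_iff]
  intro n x
  have hreg : IsWeaklyRegular (MvPolynomial (Fin k) A) ((vars A k).map (· ^ n)) := by
    rw [map_pow_ofFn_X]
    exact isWeaklyRegular_xpow A k n
  have hz := isZero_koszulH_of_isWeaklyRegular ((vars A k).map (· ^ n))
    (MvPolynomial (Fin k) A) hreg i (by rw [List.length_map, vars_length]; exact hi)
  have hz' : IsZero (koszulHPow (vars A k) (SM A k) i n) :=
    isZero_homology_of_eq (by rw [List.length_map]) hz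
  have : Subsingleton (koszulHPow (vars A k) (SM A k) i n) := ModuleCat.subsingleton_of_isZero hz'
  exact ⟨n, le_rfl, Subsingleton.elim _ _⟩

section basis

variable {A k}

/-- the all-ones exponent. -/
noncomputable def ones : Fin k →₀ ℕ := Finsupp.equivFunOnFinite.symm (fun _ => 1)

lemma ones_apply (j : Fin k) : (ones : Fin k →₀ ℕ) j = 1 := rfl

lemma prod_vars : (vars A k).prod = monomial (ones : Fin k →₀ ℕ) (1 : A) := by
  unfold vars
  rw [List.prod_ofFn, monomial_eq, C_1, one_mul, Finsupp.prod_fintype]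
  · simp [ones_apply]
  · intro i; simp

lemma prod_pow_smul_monomial (e : ℕ) (b : Fin k →₀ ℕ) (c : A) :
    (vars A k).prod ^ e • (monomial b c : MvPolynomial (Fin k) A) = monomial (b + e • ones) c := by
  rw [prod_vars, monomial_pow, one_pow, smul_eq_mul, monomial_mul, one_mul, add_comm]

/-- the complementary exponent `n - 1 - a`. -/
noncomputable def compl (n : ℕ) (a : Fin k →₀ ℕ) : Fin k →₀ ℕ :=
  Finsupp.equivFunOnFinite.symm (fun j => n - 1 - a j)

lemma compl_apply (n : ℕ) (a : Fin k →₀ ℕ) (j : Fin k) : compl n a j = n - 1 - a j := rfl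

lemma deg_eq : ((k : ℕ) : ℤ) - ((vars A k).length : ℤ) = 0 := by
  rw [vars_length]; simp

/-- the map from the polynomial ring to the limit through the `n`-th stage. -/
noncomputable def E (n : ℕ) :
    MvPolynomial (Fin k) A →ₗ[MvPolynomial (Fin k) A] koszulHLim (vars A k) (SM A k) k :=
  HLim.of (vars A k) (SM A k) k n ∘ₗ
    topAt (SM A k) ((vars A k).map (· ^ n)) _ deg_eq

lemma exists_E (x : koszulHLim (vars A k) (SM A k) k) : ∃ (n : ℕ) (q : MvPolynomial (Fin k) A),
    E n q = x := by
  obtain ⟨n, y, rfl⟩ := HLim.exists_of (vars A k) (SM A k) k x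
  obtain ⟨q, rfl⟩ := topAt_surjective (SM A k) ((vars A k).map (· ^ n)) _ deg_eq y
  exact ⟨n, q, rfl⟩

lemma E_trans {n m : ℕ} (h : n ≤ m) (q : MvPolynomial (Fin k) A) :
    E n q = E m ((vars A k).prod ^ (m - n) • q) := by
  unfold E
  rw [LinearMap.comp_apply, LinearMap.comp_apply, ← HLim.of_trans _ _ _ h, transH_topAt]

lemma E_eq_zero_iff (n : ℕ) (q : MvPolynomial (Fin k) A) :
    E n q = 0 ↔ ∃ (m : ℕ) (_ : n ≤ m), ∀ c ∈ ((vars A k).prod ^ (m - n) • q).support,
      ∃ j : Fin k, m ≤ c j := by
  unfold E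
  rw [LinearMap.comp_apply, HLim.of_eq_zero_iff]
  refine exists₂_congr fun m h => ?_
  rw [transH_topAt, topAt_eq_zero_iff, map_pow_ofFn_X]
  change _ ∈ Ideal.ofList (xpow A k m) • (⊤ : Ideal (MvPolynomial (Fin k) A)) ↔ _
  rw [smul_eq_mul, Ideal.mul_top, mem_ofList_iff]

/-- the class of a monomial at the `n`-th stage. -/
noncomputable def e (n : ℕ) (b : Fin k →₀ ℕ) : koszulHLim (vars A k) (SM A k) k :=
  E n (monomial b (1 : A))

lemma e_trans {n m : ℕ} (h : n ≤ m) (b : Fin k →₀ ℕ) : e (A := A) n b = e m (b + (m - n) • ones) := by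
  unfold e
  rw [E_trans h, prod_pow_smul_monomial]

lemma e_eq_zero {n : ℕ} {b : Fin k →₀ ℕ} (h : ∃ j, n ≤ b j) : e (A := A) n b = 0 := by
  unfold e
  rw [E_eq_zero_iff]
  refine ⟨n, le_rfl, fun c hc => ?_⟩
  rw [Nat.sub_self, pow_zero, one_smul] at hc
  have := support_monomial_subset hc
  rw [Finset.mem_singleton] at this
  subst this
  exact h

/-- the stage at which the basis vector indexed by `a` lives. -/
noncomputable def stage (a : Fin k →₀ ℕ) : ℕ := (∑ j, a j) + 1

lemma lt_stage (a : Fin k →₀ ℕ) (j : Fin k) : a j < stage a := by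
  unfold stage
  have : a j ≤ ∑ j, a j := Finset.single_le_sum (f := fun j => a j) (fun _ _ => Nat.zero_le _)
    (Finset.mem_univ j)
  omega

/-- the basis vectors (the classes `T^{-a-1}`). -/
noncomputable def v (a : Fin k →₀ ℕ) : koszulHLim (vars A k) (SM A k) k :=
  e (stage a) (compl (stage a) a)

lemma v_eq (a : Fin k →₀ ℕ) {N : ℕ} (h : stage a ≤ N) : v (A := A) a = e N (compl N a) := by
  unfold v
  rw [e_trans h]
  congr 1
  ext j
  have := lt_stage a j
  rw [Finsupp.add_apply, Finsupp.smul_apply, compl_apply, compl_apply, ones_apply, smul_eq_mul,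
    mul_one]
  omega

lemma e_eq_v {n : ℕ} {b : Fin k →₀ ℕ} (h : ∀ j, b j < n) : e (A := A) n b = v (compl n b) := by
  rw [v_eq (compl n b) (le_max_right n (stage (compl n b))), e_trans (le_max_left n _)]
  congr 1
  ext j
  have := h j
  have h2 : n ≤ max n (stage (compl n b)) := le_max_left _ _
  rw [Finsupp.add_apply, Finsupp.smul_apply, compl_apply, compl_apply, ones_apply, smul_eq_mul,
    mul_one]
  omega

end basis

section free

/-- the top limit cohomology as a module over the base ring. -/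
abbrev PA : Type u :=
  RestrictScalars A (MvPolynomial (Fin k) A) (koszulHLim (vars A k) (SM A k) k)

/-- the basis vectors, in the restricted module. -/
noncomputable def vA (a : Fin k →₀ ℕ) : PA A k := v a

lemma E_monomial (n : ℕ) (b : Fin k →₀ ℕ) (c : A) :
    E n (monomial b c) = (C c : MvPolynomial (Fin k) A) • e (A := A) n b := by
  unfold e
  rw [← map_smul, smul_eq_mul, C_mul_monomial, mul_one]

lemma E_mem_span (n : ℕ) (q : MvPolynomial (Fin k) A) :
    (show PA A k from E n q) ∈ Submodule.span A (Set.range (vA A k)) := by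
  have h1 : E n q = ∑ b ∈ q.support, E n (monomial b (coeff b q)) := by
    rw [← map_sum, support_sum_monomial_coeff]
  have h2 : (show PA A k from E n q) =
      ∑ b ∈ q.support, (show PA A k from E n (monomial b (coeff b q))) := h1
  rw [h2]
  refine Submodule.sum_mem _ fun b _ => ?_
  have h3 : (show PA A k from E n (monomial b (coeff b q))) =
      (coeff b q) • (show PA A k from e n b) := E_monomial A k n b _
  rw [h3]
  refine Submodule.smul_mem _ _ ?_
  by_cases h : ∀ j, b j < n
  · rw [e_eq_v h]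
    exact Submodule.subset_span ⟨_, rfl⟩
  · push Not at h
    rw [e_eq_zero h]
    exact Submodule.zero_mem _

lemma span_vA : ⊤ ≤ Submodule.span A (Set.range (vA A k)) := by
  intro x _
  obtain ⟨n, q, rfl⟩ := exists_E (show koszulHLim (vars A k) (SM A k) k from x)
  exact E_mem_span A k n q

lemma compl_injective {m : ℕ} {a a' : Fin k →₀ ℕ} (ha : ∀ j, a j < m) (ha' : ∀ j, a' j < m)
    (h : compl m a = compl m a') : a = a' := by
  ext j
  have h1 := DFunLike.congr_fun h j
  rw [compl_apply, compl_apply] at h1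
  have := ha j
  have := ha' j
  omega

lemma indep_aux (s : Finset (Fin k →₀ ℕ)) (g : (Fin k →₀ ℕ) → A)
    (hsum : ∑ a ∈ s, (C (g a) : MvPolynomial (Fin k) A) • v (A := A) a = 0) :
    ∀ a ∈ s, g a = 0 := by
  intro a₀ ha₀
  by_contra hne
  have hN : ∀ a ∈ s, stage a ≤ s.sup stage := fun a ha => Finset.le_sup ha
  set N := s.sup stage with hNdef
  have hq : E N (∑ a ∈ s, monomial (compl N a) (g a)) = 0 := by
    rw [map_sum, ← hsum]
    refine Finset.sum_congr rfl fun a ha => ?_
    rw [E_monomial, v_eq a (hN a ha)]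
  obtain ⟨m, hm, hsupp⟩ := (E_eq_zero_iff N _).mp hq
  have hq' : (vars A k).prod ^ (m - N) • (∑ a ∈ s, monomial (compl N a) (g a)) =
      ∑ a ∈ s, monomial (compl m a) (g a) := by
    rw [Finset.smul_sum]
    refine Finset.sum_congr rfl fun a ha => ?_
    have hexp : compl N a + (m - N) • ones = compl m a := by
      ext j
      have h1 := lt_stage a j
      have h2 := hN a ha
      rw [Finsupp.add_apply, Finsupp.smul_apply, compl_apply, compl_apply, ones_apply,
        smul_eq_mul, mul_one]
      omega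
    rw [prod_pow_smul_monomial, hexp]
  rw [hq'] at hsupp
  have hlt : ∀ a ∈ s, ∀ j, a j < m := fun a ha j =>
    lt_of_lt_of_le (lt_stage a j) ((hN a ha).trans hm)
  have hcoeff : coeff (compl m a₀) (∑ a ∈ s, monomial (compl m a) (g a)) = g a₀ := by
    rw [coeff_sum, Finset.sum_eq_single a₀]
    · rw [coeff_monomial, if_pos rfl]
    · intro a ha hne'
      rw [coeff_monomial, if_neg]
      intro h
      exact hne' (compl_injective k (hlt a ha) (hlt a₀ ha₀) h)
    · intro h; exact absurd ha₀ h
  obtain ⟨j, hj⟩ := hsupp (compl m a₀) (by rw [mem_support_iff, hcoeff]; exact hne)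
  rw [compl_apply] at hj
  have := hlt a₀ ha₀ j
  omega

lemma linearIndependent_vA : LinearIndependent A (vA A k) := by
  refine linearIndependent_iff'ₛ.mpr ?_
  intro s f g hsum a₀ ha₀
  have hsum' : ∑ a ∈ s, (C (f a) : MvPolynomial (Fin k) A) • v (A := A) a =
      ∑ a ∈ s, (C (g a) : MvPolynomial (Fin k) A) • v (A := A) a := hsum
  have h0 : ∑ a ∈ s, (C ((fun a => f a - g a) a) : MvPolynomial (Fin k) A) • v (A := A) a = 0 := by
    simp only [C_sub, sub_smul, Finset.sum_sub_distrib, hsum', sub_self]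
  exact sub_eq_zero.mp (indep_aux A k s (fun a => f a - g a) h0 a₀ ha₀)

/-- **The top limit cohomology of the polynomial ring is free over the base.** -/
theorem free_top : Module.Free A (PA A k) :=
  Module.Free.of_basis (Module.Basis.mk (linearIndependent_vA A k) (span_vA A k))

end free

end Groth.Agent.Lib.Helper93.KoszulPoly
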