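import Groth.Agent.Lib.Helper93.BlowUpLocal
import Mathlib.AlgebraicGeometry.RelativeGluing

/-!
# Existence of blow-ups (helper93)

The blow-ups of the affine opens of `X` glue (Mathlib's relative gluing over the directed cover by
all affine opens) to a blow-up of `X`.
-/

set_option autoImplicit false
universe u

open CategoryTheory CategoryTheory.Limits AlgebraicGeometry TopologicalSpace

namespace Groth.Agent.Lib.Helper93.BlowUpExists

open Groth.Agent.Lib.Helper93.BlowUpLocal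

variable (X : Scheme.{u}) (𝓘 : X.IdealSheafData)

lemma exists_bl (U : X.affineOpens) :
    ∃ (X' : Scheme.{u}) (b : X' ⟶ (U.1 : Scheme.{u})), BlowUp.IsBlowUp b (𝓘.comap U.1.ι) :=
  haveI : IsAffine (U.1 : Scheme.{u}) := U.2
  exists_isBlowUp_of_isAffine _

/-- A chosen blow-up of the affine open `U`. -/
noncomputable def Bl (U : X.affineOpens) : Scheme.{u} := (exists_bl X 𝓘 U).choose

/-- Its structure morphism. -/
noncomputable def bl (U : X.affineOpens) : Bl X 𝓘 U ⟶ (U.1 : Scheme.{u}) :=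
  (exists_bl X 𝓘 U).choose_spec.choose

lemma isBlowUp_bl (U : X.affineOpens) : BlowUp.IsBlowUp (bl X 𝓘 U) (𝓘.comap U.1.ι) :=
  (exists_bl X 𝓘 U).choose_spec.choose_spec

variable {X}

lemma exists_trans {U V : X.affineOpens} (hUV : U ≤ V) :
    ∃! m : Bl X 𝓘 U ⟶ Bl X 𝓘 V, m ≫ bl X 𝓘 V = bl X 𝓘 U ≫ X.homOfLE hUV :=
  (isBlowUp_bl X 𝓘 V).2 _ (bl X 𝓘 U ≫ X.homOfLE hUV) (by
    rw [← Scheme.IdealSheafData.comap_comp, Category.assoc, Scheme.homOfLE_ι,
      Scheme.IdealSheafData.comap_comp]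
    exact (isBlowUp_bl X 𝓘 U).1)

/-- The transition morphisms between the chosen blow-ups. -/
noncomputable def trans {U V : X.affineOpens} (hUV : U ≤ V) : Bl X 𝓘 U ⟶ Bl X 𝓘 V :=
  (exists_trans 𝓘 hUV).exists.choose

lemma trans_bl {U V : X.affineOpens} (hUV : U ≤ V) :
    trans 𝓘 hUV ≫ bl X 𝓘 V = bl X 𝓘 U ≫ X.homOfLE hUV :=
  (exists_trans 𝓘 hUV).exists.choose_spec

lemma trans_unique {U V : X.affineOpens} (hUV : U ≤ V) (m : Bl X 𝓘 U ⟶ Bl X 𝓘 V)
    (hm : m ≫ bl X 𝓘 V = bl X 𝓘 U ≫ X.homOfLE hUV) : m = trans 𝓘 hUV :=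
  (exists_trans 𝓘 hUV).unique hm (trans_bl 𝓘 hUV)

/-- The functor of blow-ups of affine opens. -/
noncomputable def functor : X.directedAffineCover.I₀ ⥤ Scheme.{u} where
  obj U := Bl X 𝓘 U
  map {U V} f := trans 𝓘 (leOfHom f)
  map_id U := (trans_unique 𝓘 _ (𝟙 (Bl X 𝓘 U)) (by
    rw [Category.id_comp]
    have : X.homOfLE (leOfHom (𝟙 U)) = 𝟙 _ := Scheme.homOfLE_rfl X U.1
    rw [this, Category.comp_id])).symm
  map_comp {U V W} f g := (trans_unique 𝓘 _ (trans 𝓘 (leOfHom f) ≫ trans 𝓘 (leOfHom g)) (by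
    rw [Category.assoc, trans_bl, ← Category.assoc, trans_bl, Category.assoc,
      Scheme.homOfLE_homOfLE])).symm

/-- The natural transformation to the affine opens. -/
noncomputable def natTrans : functor 𝓘 ⟶ X.directedAffineCover.functorOfLocallyDirected where
  app U := bl X 𝓘 U
  naturality {_ _} f := trans_bl 𝓘 (leOfHom f)

lemma equifibered : (natTrans 𝓘).Equifibered := by
  intro U V f
  change IsPullback (trans 𝓘 (leOfHom f)) (bl X 𝓘 U) (bl X 𝓘 V) (X.homOfLE (leOfHom f))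
  set j := X.homOfLE (leOfHom f) with hj
  have hb' : BlowUp.IsBlowUp (pullback.fst j (bl X 𝓘 V)) (𝓘.comap U.1.ι) := by
    have := Groth.Agent.H8.EffCartier.isBlowUp_flat_baseChange j _ (bl X 𝓘 V) (isBlowUp_bl X 𝓘 V)
    rwa [← Scheme.IdealSheafData.comap_comp, Scheme.homOfLE_ι] at this
  obtain ⟨θ, hθ⟩ := exists_iso_of_isBlowUp (𝓘.comap U.1.ι) (bl X 𝓘 U) (isBlowUp_bl X 𝓘 U)
    (pullback.fst j (bl X 𝓘 V)) hb'
  have hθ2 : θ.hom ≫ pullback.snd j (bl X 𝓘 V) = trans 𝓘 (leOfHom f) := by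
    apply trans_unique
    rw [Category.assoc, ← pullback.condition, ← Category.assoc, hθ]
  exact (IsPullback.of_iso_pullback ⟨(trans_bl 𝓘 (leOfHom f)).symm⟩ θ hθ hθ2).flip

/-- The relative gluing datum. -/
noncomputable def gluingData : Scheme.Cover.RelativeGluingData X.directedAffineCover where
  functor := functor 𝓘
  natTrans := natTrans 𝓘
  equifibered := equifibered 𝓘

/-- Blow-ups exist. -/
theorem exists_isBlowUp : ∃ (X' : Scheme.{u}) (b : X' ⟶ X), BlowUp.IsBlowUp b 𝓘 := by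
  refine ⟨(gluingData 𝓘).glued, (gluingData 𝓘).toBase, ?_⟩
  refine isBlowUp_of_cover 𝓘 (gluingData 𝓘).toBase (fun U : X.affineOpens => U.1)
    (iSup_affineOpens_eq_top X) (Bl X 𝓘) (bl X 𝓘) (fun U => colimit.ι (gluingData 𝓘).functor U)
    (fun U => ((gluingData 𝓘).isPullback_natTrans_ι_toBase U).flip) (isBlowUp_bl X 𝓘)

end Groth.Agent.Lib.Helper93.BlowUpExists
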