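import Mathlib.AlgebraicGeometry.IdealSheaf.Functorial
import Groth.Prelude.Def_BlowUp2

/-!
# Separating closed subsets by blowing up the sum of two ideals (helper93)

If the sum `𝓐 ⊔ 𝓑` of two ideal sheaves is effective Cartier (for instance on the blow-up of a
sum), then locally one of the two ideals equals the sum.  Consequently the closures of the
preimages of `V(𝓙₁) ∖ V(𝓙₁ ⊔ 𝓙₂)` and `V(𝓙₂) ∖ V(𝓙₁ ⊔ 𝓙₂)` in a blow-up of `𝓙₁ ⊔ 𝓙₂` are disjoint.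
-/

set_option autoImplicit false
universe u

open CategoryTheory CategoryTheory.Limits AlgebraicGeometry TopologicalSpace

namespace Groth.Agent.Lib.Helper93.BlowUpSeparate

variable {X : Scheme.{u}}

/-- If `𝓐 ⊔ 𝓑` is effective Cartier, then locally `𝓐` or `𝓑` equals `𝓐 ⊔ 𝓑`. -/
theorem exists_ideal_eq_sup (𝓐 𝓑 : X.IdealSheafData) (h : BlowUp.IsEffCartierIdeal (𝓐 ⊔ 𝓑))
    (x : X) : ∃ W : X.affineOpens, x ∈ W.1 ∧
      (𝓐.ideal W = (𝓐 ⊔ 𝓑).ideal W ∨ 𝓑.ideal W = (𝓐 ⊔ 𝓑).ideal W) := by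
  obtain ⟨W, hxW, t, ht, hW⟩ := h x
  have htmem : t ∈ 𝓐.ideal W ⊔ 𝓑.ideal W := by
    have : t ∈ (𝓐 ⊔ 𝓑).ideal W := hW ▸ Ideal.mem_span_singleton_self t
    exact this
  obtain ⟨a, ha, b, hb, hab⟩ := Submodule.mem_sup.mp htmem
  have hale : 𝓐.ideal W ≤ Ideal.span {t} := hW ▸ (show 𝓐.ideal W ≤ (𝓐 ⊔ 𝓑).ideal W from
    (le_sup_left : 𝓐 ≤ 𝓐 ⊔ 𝓑) W)
  have hble : 𝓑.ideal W ≤ Ideal.span {t} := hW ▸ (show 𝓑.ideal W ≤ (𝓐 ⊔ 𝓑).ideal W from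
    (le_sup_right : 𝓑 ≤ 𝓐 ⊔ 𝓑) W)
  obtain ⟨a', ha'⟩ := Ideal.mem_span_singleton'.mp (hale ha)
  obtain ⟨b', hb'⟩ := Ideal.mem_span_singleton'.mp (hble hb)
  have hsum : a' + b' = 1 := by
    have h1 : (a' + b') * t = 1 * t := by rw [add_mul, ha', hb', hab, one_mul]
    exact mul_cancel_right_mem_nonZeroDivisors ht |>.mp h1
  have hx1 : x ∈ X.basicOpen (a' + b') := by
    rw [hsum, X.basicOpen_of_isUnit isUnit_one]
    exact hxW
  -- the key computation on a basic open where the cofactor is invertible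
  have key : ∀ (𝓒 : X.IdealSheafData) (c c' : Γ(X, W.1)), 𝓒 ≤ 𝓐 ⊔ 𝓑 → c ∈ 𝓒.ideal W →
      c' * t = c → 𝓒.ideal (X.affineBasicOpen c') = (𝓐 ⊔ 𝓑).ideal (X.affineBasicOpen c') := by
    intro 𝓒 c c' h𝓒 hc hc'
    refine le_antisymm (h𝓒 _) ?_
    rw [← (𝓐 ⊔ 𝓑).map_ideal_basicOpen W c', hW, Ideal.map_span, Set.image_singleton]
    refine Ideal.span_le.mpr ?_
    intro z hz
    rw [Set.mem_singleton_iff] at hz
    subst hz
    set ρ := (X.presheaf.map (homOfLE (X.basicOpen_le c')).op).hom with hρ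
    have hunit : IsUnit (ρ c') := RingedSpace.isUnit_res_basicOpen _ c'
    have hmem : ρ c ∈ 𝓒.ideal (X.affineBasicOpen c') := by
      rw [← 𝓒.map_ideal_basicOpen W c']
      exact Ideal.mem_map_of_mem _ hc
    obtain ⟨u, hu⟩ := hunit
    have : ρ t = ↑u⁻¹ * ρ c := by
      rw [← hc', map_mul, ← hu, ← mul_assoc, Units.inv_mul, one_mul]
    rw [this]
    exact Ideal.mul_mem_left _ _ hmem
  rcases X.basicOpen_add_le a' b' hx1 with hxa | hxb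
  · exact ⟨X.affineBasicOpen a', hxa, Or.inl (key 𝓐 a a' le_sup_left ha ha')⟩
  · exact ⟨X.affineBasicOpen b', hxb, Or.inr (key 𝓑 b b' le_sup_right hb hb')⟩

/-- If two ideal sheaves have the same ideal on an affine open, their supports agree there. -/
theorem support_inter_eq_of_ideal_eq (𝓐 𝓒 : X.IdealSheafData) (W : X.affineOpens)
    (h : 𝓐.ideal W = 𝓒.ideal W) :
    (𝓐.support : Set X) ∩ W.1 = (𝓒.support : Set X) ∩ W.1 := by
  rw [Scheme.IdealSheafData.coe_support_inter, Scheme.IdealSheafData.coe_support_inter, h]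

/-- A point near which `𝓐 = 𝓐 ⊔ 𝓑` is not in the closure of a subset of `V(𝓐) ∖ V(𝓐 ⊔ 𝓑)`. -/
theorem notMem_closure_of_ideal_eq (𝓐 𝓒 : X.IdealSheafData) (W : X.affineOpens)
    (h : 𝓐.ideal W = 𝓒.ideal W) (T : Set X) (hT : T ⊆ 𝓐.support)
    (hT' : Disjoint T (𝓒.support : Set X)) (x : X) (hx : x ∈ W.1) : x ∉ closure T := by
  intro hxT
  obtain ⟨y, hyW, hyT⟩ := mem_closure_iff.mp hxT W.1 W.1.2 hx
  have h1 : y ∈ (𝓐.support : Set X) ∩ W.1 := ⟨hT hyT, hyW⟩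
  rw [support_inter_eq_of_ideal_eq 𝓐 𝓒 W h] at h1
  exact Set.disjoint_left.mp hT' hyT h1.1

/-- Separation of strict transforms: if `(𝓙₁ ⊔ 𝓙₂).comap b` is effective Cartier (e.g. `b` is a
blow-up of `𝓙₁ ⊔ 𝓙₂`), the closures of the preimages of subsets `T_i ⊆ V(𝓙_i)` missing
`V(𝓙₁ ⊔ 𝓙₂)` are disjoint. -/
theorem disjoint_closure_preimage {X' : Scheme.{u}} (b : X' ⟶ X) (𝓙₁ 𝓙₂ : X.IdealSheafData)
    (hb : BlowUp.IsEffCartierIdeal ((𝓙₁ ⊔ 𝓙₂).comap b)) (T₁ T₂ : Set X)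
    (h₁ : T₁ ⊆ 𝓙₁.support) (h₂ : T₂ ⊆ 𝓙₂.support)
    (h₁' : Disjoint T₁ ((𝓙₁ ⊔ 𝓙₂).support : Set X))
    (h₂' : Disjoint T₂ ((𝓙₁ ⊔ 𝓙₂).support : Set X)) :
    Disjoint (closure (b ⁻¹' T₁)) (closure (b ⁻¹' T₂)) := by
  rw [Set.disjoint_left]
  intro x hx1 hx2
  rw [Scheme.IdealSheafData.comap_sup] at hb
  have hsupp : ∀ 𝓙 : X.IdealSheafData, ((𝓙.comap b).support : Set X') = b ⁻¹' (𝓙.support : Set X) := by
    intro 𝓙
    rw [Scheme.IdealSheafData.support_comap]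
    rfl
  have hd : ∀ T : Set X, Disjoint T ((𝓙₁ ⊔ 𝓙₂).support : Set X) →
      Disjoint (b ⁻¹' T) ((𝓙₁.comap b ⊔ 𝓙₂.comap b).support : Set X') := by
    intro T hT
    rw [← Scheme.IdealSheafData.comap_sup, hsupp]
    exact hT.preimage _
  obtain ⟨W, hxW, hW | hW⟩ := exists_ideal_eq_sup _ _ hb x
  · refine notMem_closure_of_ideal_eq _ _ W hW (b ⁻¹' T₁) ?_ (hd T₁ h₁') x hxW hx1
    rw [hsupp]
    exact Set.preimage_mono h₁
  · refine notMem_closure_of_ideal_eq _ _ W hW (b ⁻¹' T₂) ?_ (hd T₂ h₂') x hxW hx2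
    rw [hsupp]
    exact Set.preimage_mono h₂

end Groth.Agent.Lib.Helper93.BlowUpSeparate
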