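import Groth.Prelude.Def_BlowUp2
import Mathlib.AlgebraicGeometry.IdealSheaf.Functorial
import Mathlib.AlgebraicGeometry.Morphisms.ClosedImmersion

/-!
# Ideal sheaves on a scheme covered by pairwise disjoint open subschemes (helper93)

`Y` is covered by open immersions `ι i : X i ⟶ Y` with pairwise disjoint ranges (so each range is
clopen).  Inequalities of ideal sheaves and effective Cartier-ness are checked after pulling back to
each `X i`, and any family of ideal sheaves `I i` on the `X i` is the family of restrictions of an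
ideal sheaf on `Y`.
-/

set_option autoImplicit false
universe u

open CategoryTheory CategoryTheory.Limits AlgebraicGeometry TopologicalSpace

namespace Groth.Agent.Lib.Helper93.IdealClopenCover

variable {Y : Scheme.{u}} {σ : Type*} {X : σ → Scheme.{u}} (ι : ∀ i, X i ⟶ Y)
  [∀ i, IsOpenImmersion (ι i)]

/-! ### Locality for a jointly surjective family of open immersions -/

/-- The ideal on the image of an affine open, in terms of the pulled back ideal sheaf. -/
theorem ideal_image {X' : Scheme.{u}} (f : X' ⟶ Y) [IsOpenImmersion f] (K : Y.IdealSheafData)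
    (U : X'.affineOpens) :
    K.ideal ⟨f ''ᵁ U.1, U.2.image_of_isOpenImmersion f⟩ =
      ((K.comap f).ideal U).comap (f.appIso U.1).hom.hom := by
  rw [Scheme.IdealSheafData.ideal_comap_of_isOpenImmersion, Ideal.comap_comap,
    ← CommRingCat.hom_comp, Iso.hom_inv_id]
  exact (Ideal.comap_id _).symm

include ι in
theorem le_of_comap_le (hcov : ⨆ i, (ι i).opensRange = ⊤) {K K' : Y.IdealSheafData}
    (h : ∀ i, K.comap (ι i) ≤ K'.comap (ι i)) : K ≤ K' := by
  refine Scheme.IdealSheafData.le_of_iSup_eq_top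
    (ι := Σ i, (X i).affineOpens)
    (fun p => ⟨ι p.1 ''ᵁ p.2.1, p.2.2.image_of_isOpenImmersion (ι p.1)⟩) ?_ ?_
  · rw [eq_top_iff]
    intro y _
    have hy : y ∈ ⨆ i, (ι i).opensRange := hcov ▸ trivial
    obtain ⟨i, x, rfl⟩ := Opens.mem_iSup.mp hy
    obtain ⟨U, hU, hxU, -⟩ := Opens.isBasis_iff_nbhd.mp (X i).isBasis_affineOpens
      (show x ∈ (⊤ : (X i).Opens) from trivial)
    exact Opens.mem_iSup.mpr ⟨⟨i, ⟨U, hU⟩⟩, ⟨x, hxU, rfl⟩⟩
  · rintro ⟨i, U⟩
    rw [ideal_image (ι i) K U, ideal_image (ι i) K' U]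
    exact Ideal.comap_mono (h i U)

include ι in
theorem eq_of_comap_eq (hcov : ⨆ i, (ι i).opensRange = ⊤) {K K' : Y.IdealSheafData}
    (h : ∀ i, K.comap (ι i) = K'.comap (ι i)) : K = K' :=
  le_antisymm (le_of_comap_le ι hcov fun i => (h i).le) (le_of_comap_le ι hcov fun i => (h i).ge)

include ι in
theorem isEffCartierIdeal_of_comap (hcov : ⨆ i, (ι i).opensRange = ⊤) (K : Y.IdealSheafData)
    (h : ∀ i, BlowUp.IsEffCartierIdeal (K.comap (ι i))) : BlowUp.IsEffCartierIdeal K := by
  intro y
  have hy : y ∈ ⨆ i, (ι i).opensRange := hcov ▸ trivial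
  obtain ⟨i, x, rfl⟩ := Opens.mem_iSup.mp hy
  obtain ⟨U, hxU, g, hg, hU⟩ := h i x
  refine ⟨⟨ι i ''ᵁ U.1, U.2.image_of_isOpenImmersion (ι i)⟩, ⟨x, hxU, rfl⟩,
    ((ι i).appIso U.1).inv.hom g, ?_, ?_⟩
  · rw [mem_nonZeroDivisors_iff_right]
    intro z hz
    have h1 : ((ι i).appIso U.1).hom.hom z * g = 0 := by
      have := congrArg ((ι i).appIso U.1).hom.hom hz
      rw [map_mul, map_zero] at this
      rw [← this]
      congr 1
      change g = (((ι i).appIso U.1).inv ≫ ((ι i).appIso U.1).hom).hom g
      rw [Iso.inv_hom_id]; rfl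
    have h2 := (mem_nonZeroDivisors_iff_right.mp hg) _ h1
    have := congrArg ((ι i).appIso U.1).inv.hom h2
    rw [map_zero] at this
    rw [← this]
    change z = (((ι i).appIso U.1).hom ≫ ((ι i).appIso U.1).inv).hom z
    rw [Iso.hom_inv_id]; rfl
  · rw [ideal_image (ι i) K U, hU]
    apply le_antisymm
    · intro z hz
      rw [Ideal.mem_comap, Ideal.mem_span_singleton'] at hz
      obtain ⟨a, ha⟩ := hz
      rw [Ideal.mem_span_singleton']
      refine ⟨((ι i).appIso U.1).inv.hom a, ?_⟩
      rw [← map_mul, ha]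
      change (((ι i).appIso U.1).hom ≫ ((ι i).appIso U.1).inv).hom z = z
      rw [Iso.hom_inv_id]; rfl
    · rw [Ideal.span_le, Set.singleton_subset_iff]
      change ((ι i).appIso U.1).hom.hom (((ι i).appIso U.1).inv.hom g) ∈ Ideal.span {g}
      have : ((ι i).appIso U.1).hom.hom (((ι i).appIso U.1).inv.hom g) = g := by
        change (((ι i).appIso U.1).inv ≫ ((ι i).appIso U.1).hom).hom g = g
        rw [Iso.inv_hom_id]; rfl
      rw [this]
      exact Ideal.mem_span_singleton_self g


/-! ### Pulling back along an open immersion commutes with binary infima -/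

theorem comap_inf {X' : Scheme.{u}} (f : X' ⟶ Y) [IsOpenImmersion f] (A B : Y.IdealSheafData) :
    (A ⊓ B).comap f = A.comap f ⊓ B.comap f := by
  ext U : 2
  rw [Scheme.IdealSheafData.ideal_inf, Pi.inf_apply,
    Scheme.IdealSheafData.ideal_comap_of_isOpenImmersion,
    Scheme.IdealSheafData.ideal_comap_of_isOpenImmersion,
    Scheme.IdealSheafData.ideal_comap_of_isOpenImmersion,
    Scheme.IdealSheafData.ideal_inf, Pi.inf_apply, Ideal.comap_inf]

/-- For an affine open immersion (e.g. a clopen one), `I ≤ (I.map f).comap f`. -/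
theorem le_comap_map {X' : Scheme.{u}} (f : X' ⟶ Y) [IsOpenImmersion f] [IsAffineHom f]
    (I : X'.IdealSheafData) : I ≤ (I.map f).comap f := by
  intro U x hx
  rw [Scheme.IdealSheafData.ideal_comap_of_isOpenImmersion,
    Scheme.IdealSheafData.ideal_map_of_isAffineHom, Ideal.mem_comap, Ideal.mem_comap]
  have h1 : (f.app (f ''ᵁ U.1)).hom ((f.appIso U.1).inv.hom x) =
      (X'.presheaf.map (eqToHom (f.preimage_image_eq U.1)).op).hom x := by
    rw [← f.appIso_inv_app U.1]; rfl
  rw [h1]
  have h2 := I.map_ideal' (U := ⟨f ⁻¹ᵁ f ''ᵁ U.1,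
      (U.2.image_of_isOpenImmersion f).preimage f⟩) (V := U)
    (eqToHom (f.preimage_image_eq U.1)).op
  rw [← h2]
  exact Ideal.mem_map_of_mem _ hx

/-! ### Clopen covers -/

section Clopen

variable (hcov : ⨆ i, (ι i).opensRange = ⊤)
  (hdisj : ∀ i j, i ≠ j → Disjoint ((ι i).opensRange : Set Y) ((ι j).opensRange : Set Y))

include hcov hdisj in
theorem isClosed_range (i : σ) : IsClosed (Set.range (ι i)) := by
  rw [← isOpen_compl_iff]
  have : (Set.range (ι i))ᶜ = ⋃ j ∈ {j | j ≠ i}, ((ι j).opensRange : Set Y) := by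
    ext y
    simp only [Set.mem_compl_iff, Set.mem_iUnion, Set.mem_ofPred_eq, exists_prop]
    constructor
    · intro hy
      have hy' : y ∈ ⨆ i, (ι i).opensRange := hcov ▸ trivial
      obtain ⟨j, hj⟩ := Opens.mem_iSup.mp hy'
      refine ⟨j, ?_, hj⟩
      rintro rfl
      exact hy hj
    · rintro ⟨j, hji, hj⟩ hy
      exact Set.disjoint_left.mp (hdisj j i hji) hj hy
  rw [this]
  exact isOpen_biUnion fun j _ => ((ι j).opensRange).2

include hcov hdisj in
theorem isClosedImmersion (i : σ) : IsClosedImmersion (ι i) :=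
  IsClosedImmersion.of_isPreimmersion _ (isClosed_range ι hcov hdisj i)

/-- The open complement of the `i`-th piece. -/
def compl (i : σ) : Y.Opens :=
  ⟨(Set.range (ι i))ᶜ, (isClosed_range ι hcov hdisj i).isOpen_compl⟩

theorem isClosedImmersion_compl_ι (i : σ) : IsClosedImmersion (compl ι hcov hdisj i).ι := by
  apply IsClosedImmersion.of_isPreimmersion
  rw [Scheme.Opens.range_ι]
  change IsClosed (Set.range (ι i))ᶜ
  rw [isClosed_compl_iff]
  exact (ι i).opensRange.2

include hcov hdisj in
/-- **Gluing**: every family of ideal sheaves on the pieces comes from an ideal sheaf on `Y`. -/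
theorem exists_comap_eq (I : ∀ i, (X i).IdealSheafData) :
    ∃ M : Y.IdealSheafData, ∀ i, M.comap (ι i) = I i := by
  classical
  refine ⟨⨅ i, (I i).map (ι i), fun i => le_antisymm ?_ ?_⟩
  · exact (Scheme.IdealSheafData.comap_mono (ι i) (iInf_le _ i)).trans
      (Scheme.IdealSheafData.comap_map_le _ _)
  · have hcl : IsClosedImmersion (ι i) := isClosedImmersion ι hcov hdisj i
    have hcl' : IsClosedImmersion (compl ι hcov hdisj i).ι := isClosedImmersion_compl_ι ι hcov hdisj i
    set c := (compl ι hcov hdisj i).ι with hc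
    set A := (I i).map (ι i) with hA
    set B := c.ker with hB
    -- `A ⊓ B` lies below every term of the infimum
    have hK : A ⊓ B ≤ ⨅ j, (I j).map (ι j) := by
      refine le_iInf fun j => ?_
      by_cases hji : j = i
      · subst hji; exact inf_le_left
      · refine inf_le_right.trans ?_
        have hrange : Set.range (ι j) ⊆ Set.range c := by
          rw [hc, Scheme.Opens.range_ι]
          rintro _ ⟨x, rfl⟩ ⟨x', hx'⟩
          exact Set.disjoint_left.mp (hdisj j i hji) ⟨x, rfl⟩ ⟨x', hx'⟩
        let l : X j ⟶ (compl ι hcov hdisj i : Scheme.{u}) := IsOpenImmersion.lift c (ι j) hrange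
        have hl : l ≫ c = ι j := IsOpenImmersion.lift_fac _ _ _
        change c.ker ≤ ((I j).subschemeι ≫ ι j).ker
        rw [← hl, ← Category.assoc]
        exact Scheme.Hom.le_ker_comp _ _
    refine le_trans ?_ (Scheme.IdealSheafData.comap_mono (ι i) hK)
    change I i ≤ (A ⊓ B).comap (ι i)
    rw [comap_inf]
    refine le_inf (le_comap_map (ι i) (I i)) ?_
    have hBtop : B.comap (ι i) = ⊤ := by
      rw [← Scheme.IdealSheafData.support_eq_bot_iff]
      ext x
      simp only [Scheme.IdealSheafData.support_comap, Closeds.coe_preimage, Set.mem_preimage,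
        SetLike.mem_coe, Closeds.coe_bot, Set.mem_empty_iff_false, iff_false]
      intro hx
      rw [hB] at hx
      have hx' : ι i x ∈ closure (Set.range c) := by
        rw [← Scheme.Hom.support_ker c]; exact hx
      rw [(IsClosedImmersion.isClosedEmbedding c).isClosed_range.closure_eq, hc,
        Scheme.Opens.range_ι] at hx'
      exact hx' ⟨x, rfl⟩
    rw [hBtop]
    exact le_top

end Clopen

end Groth.Agent.Lib.Helper93.IdealClopenCover
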