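import Groth.Agent.Lib.Helper93.FiniteTypeExtend
import Groth.Agent.Lib.Helper93.IdealClopenCover

/-!
# Extending a finite type ideal sheaf from a quasi-compact open subscheme (helper93)
-/

set_option autoImplicit false
universe u

open CategoryTheory CategoryTheory.Limits AlgebraicGeometry TopologicalSpace

namespace Groth.Agent.Lib.Helper93.FiniteTypeExtend

variable {X : Scheme.{u}}

/-- For a quasi-compact open immersion, restricting the maximal extension gives back the ideal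
sheaf. -/
theorem comap_map_of_isOpenImmersion {Y : Scheme.{u}} (j : Y ⟶ X) [IsOpenImmersion j]
    [QuasiCompact j] (𝓘 : Y.IdealSheafData) : (𝓘.map j).comap j = 𝓘 := by
  refine le_antisymm (Scheme.IdealSheafData.comap_map_le _ _) ?_
  intro W x hx
  rw [Scheme.IdealSheafData.ideal_comap_of_isOpenImmersion, Ideal.mem_comap]
  have H : IsAffineOpen (j ⁻¹ᵁ j ''ᵁ W.1) := by
    rw [Scheme.Hom.preimage_image_eq]
    exact W.2
  rw [Scheme.IdealSheafData.ideal_map 𝓘 j ⟨j ''ᵁ W.1, W.2.image_of_isOpenImmersion j⟩ H,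
    Ideal.mem_comap, ← CommRingCat.comp_apply, Scheme.Hom.appIso_inv_app]
  have h1 := 𝓘.map_ideal' (U := ⟨j ⁻¹ᵁ j ''ᵁ W.1, H⟩) (V := W)
    (eqToHom (Scheme.Hom.preimage_image_eq j W.1)).op
  rw [← h1]
  exact Ideal.mem_map_of_mem _ hx

theorem finiteTypeOn_sup {S₁ S₂ : X.Opens} {𝓖 : X.IdealSheafData} (h₁ : FiniteTypeOn S₁ 𝓖)
    (h₂ : FiniteTypeOn S₂ 𝓖) : FiniteTypeOn (S₁ ⊔ S₂) 𝓖 := by
  intro W hW
  refine FiniteTypeIdeal.fg_of_basicOpen_cover _ W fun y hy => ?_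
  rcases hW hy with hy1 | hy2
  · obtain ⟨r, hr1, hr2⟩ := W.2.exists_basicOpen_le (V := S₁) ⟨y, hy1⟩ hy
    exact ⟨r, hr2, h₁ _ hr1⟩
  · obtain ⟨r, hr1, hr2⟩ := W.2.exists_basicOpen_le (V := S₂) ⟨y, hy2⟩ hy
    exact ⟨r, hr2, h₂ _ hr1⟩

/-- If the support of an ideal sheaf misses an affine open, its ideal there is the unit ideal. -/
theorem ideal_eq_top_of_disjoint_support (𝓖 : X.IdealSheafData) (W : X.affineOpens)
    (h : Disjoint (𝓖.support : Set X) (W.1 : Set X)) : 𝓖.ideal W = ⊤ := by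
  rw [← PrimeSpectrum.zeroLocus_empty_iff_eq_top]
  have h1 := W.2.fromSpec_image_zeroLocus (𝓖.ideal W : Set Γ(X, W.1))
  rw [← Scheme.IdealSheafData.coe_support_inter, Set.disjoint_iff_inter_eq_empty.mp h,
    Set.image_eq_empty] at h1
  exact h1

/-- A point with an affine neighbourhood on which the ideal is the unit ideal is not in the
support. -/
theorem notMem_support_of_ideal_eq_top (𝓖 : X.IdealSheafData) (W : X.affineOpens)
    (h : 𝓖.ideal W = ⊤) (x : X) (hx : x ∈ W.1) : x ∉ (𝓖.support : Set X) := by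
  intro hx'
  rw [SetLike.mem_coe, Scheme.IdealSheafData.mem_support_iff_of_mem (U := W) hx, h] at hx'
  have := (X.mem_zeroLocus_iff _ x).mp hx' 1 trivial
  rw [X.basicOpen_of_isUnit isUnit_one] at this
  exact this hx

/-- Extension of a finite type ideal sheaf on a quasi-compact open `V`, trivial on `V ∩ U`, to a
finite type ideal sheaf on `X` which is trivial on `U`. -/
theorem exists_admissible_extension [CompactSpace X] [QuasiSeparatedSpace X] (U V : X.Opens)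
    (hU : IsCompact (U : Set X)) (hV : IsCompact (V : Set X))
    (𝓘 : (V : Scheme.{u}).IdealSheafData) (h𝓘 : BlowUp.IsAdmissibleFor (V.ι ⁻¹ᵁ U) 𝓘) :
    ∃ 𝓙 : X.IdealSheafData, BlowUp.IsAdmissibleFor U 𝓙 ∧ 𝓙.comap V.ι = 𝓘 := by
  have hcV : CompactSpace (V : Scheme.{u}) := isCompact_iff_compactSpace.mp hV
  have hqc : QuasiCompact V.ι := inferInstance
  set 𝓖 := 𝓘.map V.ι with h𝓖
  have h𝓖V : 𝓖.comap V.ι = 𝓘 := comap_map_of_isOpenImmersion V.ι 𝓘
  have hdisj : Disjoint (𝓖.support : Set X) (U : Set X) := by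
    rw [h𝓖, Scheme.IdealSheafData.support_map]
    rw [Set.disjoint_left]
    intro x hx hxU
    have hsub : closure (V.ι '' (𝓘.support : Set V)) ⊆ (U : Set X)ᶜ := by
      refine closure_minimal ?_ U.2.isClosed_compl
      rintro _ ⟨y, hy, rfl⟩ hyU
      exact Set.disjoint_left.mp h𝓘.2 hy hyU
    exact hsub hx hxU
  have hFU : FiniteTypeOn U 𝓖 := by
    intro W hW
    rw [ideal_eq_top_of_disjoint_support 𝓖 W (hdisj.mono_right hW)]
    exact ⟨{1}, by simp⟩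
  have hFV : FiniteTypeOn V 𝓖 := by
    intro W hW
    have hW' : IsAffineOpen (V.ι ⁻¹ᵁ W.1) := W.2.preimage_of_isOpenImmersion V.ι (by
      rw [Scheme.Opens.opensRange_ι]; exact hW)
    have heq : (⟨V.ι ''ᵁ V.ι ⁻¹ᵁ W.1, hW'.image_of_isOpenImmersion V.ι⟩ : X.affineOpens) = W := by
      apply Subtype.ext
      dsimp only
      rw [Scheme.Hom.image_preimage_eq_opensRange_inf, Scheme.Opens.opensRange_ι]
      exact inf_eq_right.mpr hW
    have hfg : (𝓖.ideal ⟨V.ι ''ᵁ V.ι ⁻¹ᵁ W.1, hW'.image_of_isOpenImmersion V.ι⟩).FG := by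
      have h1 := IdealClopenCover.ideal_image V.ι 𝓖 ⟨V.ι ⁻¹ᵁ W.1, hW'⟩
      rw [h𝓖V] at h1
      rw [h1]
      have h2 : (𝓘.ideal ⟨V.ι ⁻¹ᵁ W.1, hW'⟩).comap (V.ι.appIso (V.ι ⁻¹ᵁ W.1)).hom.hom =
          (𝓘.ideal ⟨V.ι ⁻¹ᵁ W.1, hW'⟩).map (V.ι.appIso (V.ι ⁻¹ᵁ W.1)).inv.hom := by
        have := Ideal.map_symm (I := 𝓘.ideal ⟨V.ι ⁻¹ᵁ W.1, hW'⟩)
          (f := (V.ι.appIso (V.ι ⁻¹ᵁ W.1)).commRingCatIsoToRingEquiv)
        exact this.symm
      rw [h2]
      exact (h𝓘.1 _).map _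
    exact heq ▸ hfg
  obtain ⟨𝓙, hle, hft, heq⟩ := exists_isFiniteTypeIdeal_le (U ⊔ V) (hU.union hV) 𝓖
    (finiteTypeOn_sup hFU hFV)
  refine ⟨𝓙, ⟨hft, ?_⟩, ?_⟩
  · rw [Set.disjoint_left]
    intro x hx hxU
    obtain ⟨_, ⟨W, hW, rfl⟩, hxW, hWU⟩ := X.isBasis_affineOpens.exists_subset_of_mem_open
      (show x ∈ (U : Set X) from hxU) U.2
    have h1 : 𝓙.ideal ⟨W, hW⟩ = ⊤ := by
      rw [heq ⟨W, hW⟩ (le_trans hWU le_sup_left)]
      exact ideal_eq_top_of_disjoint_support 𝓖 ⟨W, hW⟩ (hdisj.mono_right hWU)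
    exact notMem_support_of_ideal_eq_top 𝓙 ⟨W, hW⟩ h1 x hxW hx
  · rw [← h𝓖V]
    ext W : 2
    rw [Scheme.IdealSheafData.ideal_comap_of_isOpenImmersion,
      Scheme.IdealSheafData.ideal_comap_of_isOpenImmersion]
    congr 1
    refine heq _ (le_trans ?_ le_sup_right)
    intro x hx
    obtain ⟨y, _, rfl⟩ := hx
    exact y.2

end Groth.Agent.Lib.Helper93.FiniteTypeExtend
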