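import Mathlib.AlgebraicGeometry.IdealSheaf.Functorial
import Mathlib.AlgebraicGeometry.Morphisms.QuasiCompact
import Mathlib.RingTheory.Finiteness.Ideal
import Groth.Prelude.Def_BlowUp2
import Groth.Agent.Lib.Helper18.IdealComap

/-!
# Powers of finite type ideal sheaves and supports (helper93)

* `comap_pow`: pulling back commutes with powers of ideal sheaves.
* `exists_pow_ideal_le`: on a quasi-compact open, if `V(𝓟) ⊆ V(𝓠)` with `𝓠` of finite type, then a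
  fixed power of `𝓠` is contained in `𝓟` on the members of an affine cover.
* `ideal_basicOpen_eq_of_mul_eq`: if `𝓓(W) = (t)` and `c = c' t ∈ 𝓒(W)` with `𝓒 ≤ 𝓓`, then `𝓒 = 𝓓` on
  `D(c')`.
-/

set_option autoImplicit false
universe u

open CategoryTheory CategoryTheory.Limits AlgebraicGeometry TopologicalSpace

namespace Groth.Agent.Lib.Helper93.IdealPowerLe

variable {X Y : Scheme.{u}}

theorem comap_pow (f : Y ⟶ X) (K : X.IdealSheafData) (n : ℕ) :
    (K ^ n).comap f = (K.comap f) ^ n := by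
  induction n with
  | zero =>
    rw [pow_zero, pow_zero, Scheme.IdealSheafData.one_eq_top, Scheme.IdealSheafData.one_eq_top,
      Scheme.IdealSheafData.comap_top]
  | succ n ih => rw [pow_succ, pow_succ, Groth.Agent.Lib.Helper18.comap_mul, ih]

/-- On an affine open, containment of supports means containment in the radical. -/
theorem ideal_le_radical_of_support_subset (𝓟 𝓠 : X.IdealSheafData) (A : X.affineOpens)
    (h : (𝓟.support : Set X) ∩ A.1 ⊆ 𝓠.support) : 𝓠.ideal A ≤ (𝓟.ideal A).radical := by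
  rw [← PrimeSpectrum.zeroLocus_subset_zeroLocus_iff]
  intro p hp
  have h1 : A.2.fromSpec p ∈ X.zeroLocus (U := A.1) (𝓟.ideal A) ∩ A.1 := by
    rw [← A.2.fromSpec_image_zeroLocus]
    exact ⟨p, hp, rfl⟩
  rw [← Scheme.IdealSheafData.coe_support_inter] at h1
  have h2 : A.2.fromSpec p ∈ (𝓠.support : Set X) ∩ A.1 := ⟨h h1, h1.2⟩
  rw [Scheme.IdealSheafData.coe_support_inter, ← A.2.fromSpec_image_zeroLocus] at h2
  obtain ⟨p', hp', e⟩ := h2
  rwa [A.2.fromSpec.isOpenEmbedding.injective e] at hp'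

/-- If `V(𝓟) ∩ W ⊆ V(𝓠)` on a quasi-compact open `W` and `𝓠` is of finite type, a fixed power of `𝓠`
lies in `𝓟` on the members of an affine open cover of `W`. -/
theorem exists_pow_ideal_le (W : X.Opens) (hW : IsCompact (W : Set X)) (𝓟 𝓠 : X.IdealSheafData)
    (h𝓠 : BlowUp.IsFiniteTypeIdeal 𝓠) (h : (𝓟.support : Set X) ∩ W ⊆ 𝓠.support) :
    ∃ n : ℕ, ∀ y ∈ W, ∃ A : X.affineOpens, y ∈ A.1 ∧ A.1 ≤ W ∧
      (𝓠.ideal A) ^ n ≤ 𝓟.ideal A := by
  classical
  obtain ⟨t, ht, hWt⟩ := isCompact_iff_finite_and_eq_biUnion_affineOpens.mp hW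
  have hk : ∀ A : X.affineOpens, A.1 ≤ W → ∃ k : ℕ, (𝓠.ideal A) ^ k ≤ 𝓟.ideal A := by
    intro A hA
    refine Ideal.exists_pow_le_of_le_radical_of_fg ?_ (h𝓠 A)
    exact ideal_le_radical_of_support_subset 𝓟 𝓠 A
      (fun x hx => h ⟨hx.1, hA hx.2⟩)
  have hle : ∀ A ∈ t, (A : X.Opens) ≤ W := by
    intro A hA
    rw [hWt]
    exact le_iSup₂_of_le A hA le_rfl
  choose! k hk' using fun A (hA : A ∈ t) => hk A (hle A hA)
  refine ⟨ht.toFinset.sup k, fun y hy => ?_⟩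
  rw [hWt] at hy
  simp only [Opens.mem_iSup] at hy
  obtain ⟨A, hAt, hyA⟩ := hy
  refine ⟨A, hyA, hle A hAt, (Ideal.pow_le_pow_right ?_).trans (hk' A hAt)⟩
  exact Finset.le_sup (f := k) (ht.mem_toFinset.mpr hAt)

/-- If `𝓓(W) = (t)` and `c = c' t ∈ 𝓒(W)` with `𝓒 ≤ 𝓓`, then `𝓒 = 𝓓` on `D(c')`. -/
theorem ideal_basicOpen_eq_of_mul_eq (𝓒 𝓓 : X.IdealSheafData) (h𝓒 : 𝓒 ≤ 𝓓) (W : X.affineOpens)
    (t : Γ(X, W.1)) (hW : 𝓓.ideal W = Ideal.span {t}) (c c' : Γ(X, W.1)) (hc : c ∈ 𝓒.ideal W)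
    (hc' : c' * t = c) :
    𝓒.ideal (X.affineBasicOpen c') = 𝓓.ideal (X.affineBasicOpen c') := by
  refine le_antisymm (h𝓒 _) ?_
  rw [← 𝓓.map_ideal_basicOpen W c', hW, Ideal.map_span, Set.image_singleton]
  refine Ideal.span_le.mpr ?_
  intro z hz
  rw [Set.mem_singleton_iff] at hz
  subst hz
  set ρ := (X.presheaf.map (homOfLE (X.basicOpen_le c')).op).hom with hρ
  have hunit : IsUnit (ρ c') := RingedSpace.isUnit_res_basicOpen _ c'
  have hmem : ρ c ∈ 𝓒.ideal (X.affineBasicOpen c') := by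
    rw [← 𝓒.map_ideal_basicOpen W c']
    exact Ideal.mem_map_of_mem _ hc
  obtain ⟨u, hu⟩ := hunit
  have : ρ t = ↑u⁻¹ * ρ c := by
    rw [← hc', map_mul, ← hu, ← mul_assoc, Units.inv_mul, one_mul]
  rw [this]
  exact Ideal.mul_mem_left _ _ hmem

end Groth.Agent.Lib.Helper93.IdealPowerLe
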