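import Groth.Prelude.Def_W4c6modpairsegaMP
import Groth.Agent.H8.EffCartier
import Mathlib.AlgebraicGeometry.Morphisms.SchemeTheoreticallyDominant
import Mathlib.AlgebraicGeometry.Morphisms.Affine

/-!
# The interior of a modulus pair and its preimages (helper93)

For an effective Cartier ideal `I` on `X` and `f : X' ⟶ X`, the open immersion of
`f ⁻¹ᵁ interior I` into `X'` is quasi-compact (it is locally a basic open), and if it is
scheme-theoretically dominant then local generators of `I` pull back to nonzerodivisors.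
-/

set_option autoImplicit false
universe u

open CategoryTheory CategoryTheory.Limits AlgebraicGeometry TopologicalSpace

namespace Groth.Agent.Lib.Helper93.ModPairInterior

open Groth.Agent.Lib.Helper18 Groth.Agent.H8.EffCartier

variable {X X' : Scheme.{u}}

/-- Points of `D(t)` are off the support when `t` generates the ideal. -/
theorem notMem_support_of_mem_basicOpen (𝓔 : X.IdealSheafData) (U : X.affineOpens) (t : Γ(X, U.1))
    (hU : 𝓔.ideal U = Ideal.span {t}) (y : X) (hy : y ∈ X.basicOpen t) : y ∉ 𝓔.support := by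
  have hyU : y ∈ U.1 := X.basicOpen_le t hy
  rw [Scheme.IdealSheafData.mem_support_iff_of_mem hyU, hU, Scheme.zeroLocus_span,
    Scheme.zeroLocus_singleton]
  exact fun h => h hy

/-- Where `I` is generated by `b`, the preimage of the interior is the basic open of the pulled back
generator. -/
theorem preimage_interior_inf_eq_basicOpen (I : X.IdealSheafData) (f : X' ⟶ X)
    (V : X.affineOpens) (b : Γ(X, V.1)) (hV : I.ideal V = Ideal.span {b})
    (U : X'.Opens) (e : U ≤ f ⁻¹ᵁ V.1) :
    f ⁻¹ᵁ ModPair.interior I ⊓ U = X'.basicOpen ((f.appLE V.1 U e).hom b) := by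
  rw [Scheme.basicOpen_appLE]
  ext y
  constructor
  · rintro ⟨hy0, hyU⟩
    refine ⟨hyU, ?_⟩
    have hfyV : f y ∈ V.1 := e hyU
    have h1 : f y ∉ I.support := hy0
    rw [Scheme.IdealSheafData.mem_support_iff_of_mem hfyV, hV, Scheme.zeroLocus_span,
      Scheme.zeroLocus_singleton] at h1
    by_contra h2
    exact h1 h2
  · rintro ⟨hyU, hyb⟩
    exact ⟨notMem_support_of_mem_basicOpen I V b hV (f y) hyb, hyU⟩

/-- The inclusion of the preimage of the interior of an effective Cartier ideal is quasi-compact. -/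
theorem quasiCompact_ι_preimage_interior (I : X.IdealSheafData) (hI : BlowUp.IsEffCartierIdeal I)
    (f : X' ⟶ X) : QuasiCompact (f ⁻¹ᵁ ModPair.interior I).ι := by
  let S := {U : X'.affineOpens // ∃ (V : X.affineOpens) (e : U.1 ≤ f ⁻¹ᵁ V.1) (b : Γ(X, V.1)),
    I.ideal V = Ideal.span {b}}
  have hcov : ⨆ i : S, (i.1 : X'.Opens) = ⊤ := by
    rw [eq_top_iff]
    intro x _
    obtain ⟨V, hxV, b, hb, hV⟩ := hI (f x)
    obtain ⟨U, hU, hxU, hUV⟩ := TopologicalSpace.Opens.isBasis_iff_nbhd.mp X'.isBasis_affineOpens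
      (show x ∈ f ⁻¹ᵁ V.1 from hxV)
    exact TopologicalSpace.Opens.mem_iSup.mpr ⟨⟨⟨U, hU⟩, V, hUV, b, hV⟩, hxU⟩
  rw [HasAffineProperty.iff_of_iSup_eq_top (P := @QuasiCompact) (fun i : S => i.1) hcov]
  rintro ⟨U, V, e, b, hV⟩
  change CompactSpace ↥((f ⁻¹ᵁ ModPair.interior I).ι ⁻¹ᵁ U.1)
  apply isCompact_iff_compactSpace.mp
  have h1 : IsCompact ((X'.basicOpen ((f.appLE V.1 U.1 e).hom b)) : Set X') :=
    (U.2.basicOpen _).isCompact
  rw [← preimage_interior_inf_eq_basicOpen I f V b hV U.1 e] at h1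
  have h2 := (f ⁻¹ᵁ ModPair.interior I).ι.isOpenEmbedding.isInducing.isCompact_preimage' h1 (by
    rw [Scheme.Opens.range_ι]
    exact Set.inter_subset_left)
  convert h2 using 1
  ext y
  constructor
  · intro hy
    exact ⟨y.2, hy⟩
  · intro hy
    exact hy.2

/-- A section whose basic open is everything is a unit. -/
theorem isUnit_of_basicOpen_eq {Y : Scheme.{u}} {W : Y.Opens} (g : Γ(Y, W))
    (h : Y.basicOpen g = W) : IsUnit g := by
  apply Y.toRingedSpace.isUnit_of_isUnit_germ
  intro x hx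
  have hx' : x ∈ Y.basicOpen g := by rw [h]; exact hx
  exact (Y.mem_basicOpen g x hx).mp hx'

/-- If the preimage of the interior is scheme-theoretically dense, pulled back local generators
are nonzerodivisors. -/
theorem appLE_generator_mem_nonZeroDivisors (I : X.IdealSheafData)
    (hI : BlowUp.IsEffCartierIdeal I) (f : X' ⟶ X)
    [IsSchemeTheoreticallyDominant (f ⁻¹ᵁ ModPair.interior I).ι]
    (V : X.affineOpens) (b : Γ(X, V.1)) (hV : I.ideal V = Ideal.span {b})
    (U : X'.Opens) (e : U ≤ f ⁻¹ᵁ V.1) :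
    (f.appLE V.1 U e).hom b ∈ nonZeroDivisors Γ(X', U) := by
  have hqc : QuasiCompact (f ⁻¹ᵁ ModPair.interior I).ι := quasiCompact_ι_preimage_interior I hI f
  set U₀ : X'.Opens := f ⁻¹ᵁ ModPair.interior I with hU₀
  set b' := (f.appLE V.1 U e).hom b with hb'
  have hinj := Scheme.Hom.app_injective U₀.ι U
  have hunit : IsUnit ((U₀.ι.app U).hom b') := by
    apply isUnit_of_basicOpen_eq
    rw [← Scheme.preimage_basicOpen, ← preimage_interior_inf_eq_basicOpen I f V b hV U e,
      ← hU₀]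
    ext y
    constructor
    · intro hy
      exact hy.2
    · intro hy
      exact ⟨y.2, hy⟩
  rw [mem_nonZeroDivisors_iff_right]
  intro c hc
  apply hinj
  rw [map_zero]
  have h3 : (U₀.ι.app U).hom c * (U₀.ι.app U).hom b' = 0 := by
    rw [← map_mul, hc, map_zero]
  exact (hunit.mul_left_eq_zero).mp h3

/-- The interior of an effective Cartier ideal is quasi-compact over the ambient scheme. -/
theorem quasiCompact_ι_interior (I : X.IdealSheafData) (hI : BlowUp.IsEffCartierIdeal I) :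
    QuasiCompact (ModPair.interior I).ι :=
  quasiCompact_ι_preimage_interior I hI (𝟙 X)

/-- The interior of an effective Cartier ideal is scheme-theoretically dense. -/
theorem isSchemeTheoreticallyDominant_ι_interior (I : X.IdealSheafData)
    (hI : BlowUp.IsEffCartierIdeal I) :
    IsSchemeTheoreticallyDominant (ModPair.interior I).ι := by
  have hqc : QuasiCompact (ModPair.interior I).ι := quasiCompact_ι_interior I hI
  rw [isSchemeTheoreticallyDominant_iff]
  let S := {U : X.affineOpens // ∃ b : Γ(X, U.1), b ∈ nonZeroDivisors Γ(X, U.1) ∧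
    I.ideal U = Ideal.span {b}}
  have hcov : ⨆ i : S, (i.1 : X.Opens) = ⊤ := by
    rw [eq_top_iff]
    intro x _
    obtain ⟨V, hxV, b, hb, hV⟩ := hI x
    exact TopologicalSpace.Opens.mem_iSup.mpr ⟨⟨V, b, hb, hV⟩, hxV⟩
  refine Scheme.IdealSheafData.ext_of_iSup_eq_top (fun i : S => i.1) hcov ?_
  rintro ⟨U, b, hb, hU⟩
  rw [Scheme.Hom.ker_apply, Scheme.IdealSheafData.ideal_bot, Pi.bot_apply, eq_bot_iff]
  intro s hs
  rw [RingHom.mem_ker, Scheme.Opens.ι_app] at hs
  rw [Submodule.mem_bot]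
  have hle : X.basicOpen b ≤
      (ModPair.interior I).ι ''ᵁ ((ModPair.interior I).ι ⁻¹ᵁ U.1) := by
    intro y hy
    have hyU : y ∈ U.1 := X.basicOpen_le b hy
    have hy0 : y ∈ ModPair.interior I := notMem_support_of_mem_basicOpen I U b hU y hy
    exact ⟨⟨y, hy0⟩, hyU, rfl⟩
  have hres : (X.presheaf.map (homOfLE (X.basicOpen_le b)).op).hom s = 0 := by
    have h1 : X.presheaf.map (homOfLE (X.basicOpen_le b)).op =
        X.presheaf.map (homOfLE (x := (ModPair.interior I).ι ''ᵁ ((ModPair.interior I).ι ⁻¹ᵁ U.1))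
          (Set.image_preimage_subset _ _)).op ≫ X.presheaf.map (homOfLE hle).op := by
      rw [← Functor.map_comp]
      rfl
    rw [h1, CommRingCat.comp_apply]
    erw [hs]
    exact map_zero _
  obtain ⟨n, hn⟩ := exists_pow_mul_eq_zero_of_res_basicOpen_eq_zero_of_isAffineOpen X U.2 s b hres
  have : b ^ n ∈ nonZeroDivisors Γ(X, U.1) := pow_mem hb n
  exact (mem_nonZeroDivisors_iff.mp this).1 s hn

/-- The inclusion of the preimage of the interior of an effective Cartier ideal is an affine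
morphism. -/
theorem isAffineHom_ι_preimage_interior (I : X.IdealSheafData) (hI : BlowUp.IsEffCartierIdeal I)
    (f : X' ⟶ X) : IsAffineHom (f ⁻¹ᵁ ModPair.interior I).ι := by
  let S := {U : X'.affineOpens // ∃ (V : X.affineOpens) (e : U.1 ≤ f ⁻¹ᵁ V.1) (b : Γ(X, V.1)),
    I.ideal V = Ideal.span {b}}
  have hcov : ⨆ i : S, (i.1 : X'.Opens) = ⊤ := by
    rw [eq_top_iff]
    intro x _
    obtain ⟨V, hxV, b, hb, hV⟩ := hI (f x)
    obtain ⟨U, hU, hxU, hUV⟩ := TopologicalSpace.Opens.isBasis_iff_nbhd.mp X'.isBasis_affineOpens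
      (show x ∈ f ⁻¹ᵁ V.1 from hxV)
    exact TopologicalSpace.Opens.mem_iSup.mpr ⟨⟨⟨U, hU⟩, V, hUV, b, hV⟩, hxU⟩
  rw [HasAffineProperty.iff_of_iSup_eq_top (P := @IsAffineHom) (fun i : S => i.1) hcov]
  rintro ⟨U, V, e, b, hV⟩
  change IsAffineOpen ((f ⁻¹ᵁ ModPair.interior I).ι ⁻¹ᵁ U.1)
  rw [← (f ⁻¹ᵁ ModPair.interior I).ι.isAffineOpen_iff_of_isOpenImmersion]
  have h1 : IsAffineOpen (X'.basicOpen ((f.appLE V.1 U.1 e).hom b)) := U.2.basicOpen _
  rw [← preimage_interior_inf_eq_basicOpen I f V b hV U.1 e] at h1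
  convert h1 using 1
  ext y
  constructor
  · rintro ⟨z, hz, rfl⟩
    exact ⟨z.2, hz⟩
  · rintro ⟨hy1, hy2⟩
    exact ⟨⟨y, hy1⟩, hy2, rfl⟩

theorem isAffineHom_ι_interior (I : X.IdealSheafData) (hI : BlowUp.IsEffCartierIdeal I) :
    IsAffineHom (ModPair.interior I).ι :=
  isAffineHom_ι_preimage_interior I hI (𝟙 X)

end Groth.Agent.Lib.Helper93.ModPairInterior
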