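import Mathlib.LinearAlgebra.DFinsupp
import Groth.Prelude.Def_W4c6modpairsegaMP
import Groth.Agent.Lib.Helper93.FiniteTypeExtend2
import Groth.Agent.Lib.Helper93.IdealPowerLe
import Groth.Agent.Lib.Helper93.BlowUpSeparate
import Groth.Agent.Lib.Helper93.BlowUpExists
import Groth.Agent.Lib.Helper93.ModPairInterior
import Groth.Agent.H8.EffCartier

/-!
# Extending a Zariski covering of the interior after an admissible blow-up (helper93)
-/

set_option autoImplicit false
universe u

open CategoryTheory CategoryTheory.Limits AlgebraicGeometry TopologicalSpace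

namespace Groth.Agent.Lib.Helper93.AdmBlowupCover

open Groth.Agent.Lib.Helper93.IdealPowerLe Groth.Agent.Lib.Helper18

variable {X : Scheme.{u}}

theorem ideal_finset_sup {ι : Type*} (s : Finset ι) (𝓐 : ι → X.IdealSheafData)
    (W : X.affineOpens) : (s.sup 𝓐).ideal W = s.sup (fun i => (𝓐 i).ideal W) := by
  classical
  induction s using Finset.induction_on with
  | empty => rfl
  | insert a s _ ih =>
    rw [Finset.sup_insert, Finset.sup_insert, Scheme.IdealSheafData.ideal_sup, Pi.sup_apply, ih]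

theorem exists_mem_basicOpen_of_sum {ι : Type*} (s : Finset ι) {U : X.Opens} (a : ι → Γ(X, U))
    (x : X) (hx : x ∈ X.basicOpen (∑ i ∈ s, a i)) : ∃ i ∈ s, x ∈ X.basicOpen (a i) := by
  classical
  induction s using Finset.induction_on with
  | empty =>
    rw [Finset.sum_empty, Scheme.basicOpen_zero] at hx
    exact hx.elim
  | insert j s hj ih =>
    rw [Finset.sum_insert hj] at hx
    rcases X.basicOpen_add_le _ _ hx with h | h
    · exact ⟨j, Finset.mem_insert_self _ _, h⟩
    · obtain ⟨i, hi, hxi⟩ := ih h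
      exact ⟨i, Finset.mem_insert_of_mem hi, hxi⟩

/-- If a finite sum of ideal sheaves is effective Cartier, then locally one of the summands equals
the sum. -/
theorem exists_ideal_eq_finset_sup {ι : Type*} (s : Finset ι) (𝓐 : ι → X.IdealSheafData)
    (h : BlowUp.IsEffCartierIdeal (s.sup 𝓐)) (x : X) :
    ∃ W : X.affineOpens, x ∈ W.1 ∧ ∃ i ∈ s, (𝓐 i).ideal W = (s.sup 𝓐).ideal W := by
  classical
  obtain ⟨W, hxW, t, ht, hW⟩ := h x
  have htmem : t ∈ ⨆ i ∈ s, (𝓐 i).ideal W := by
    rw [← Finset.sup_eq_iSup, ← ideal_finset_sup, hW]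
    exact Ideal.mem_span_singleton_self t
  obtain ⟨μ, hμ⟩ := (Submodule.mem_iSup_finset_iff_exists_sum _ _).mp htmem
  have hle : ∀ i ∈ s, (𝓐 i).ideal W ≤ Ideal.span {t} := fun i hi =>
    hW ▸ (Finset.le_sup (f := 𝓐) hi : 𝓐 i ≤ s.sup 𝓐) W
  have hex : ∀ i, ∃ a' : Γ(X, W.1), i ∈ s → a' * t = (μ i : Γ(X, W.1)) := by
    intro i
    by_cases hi : i ∈ s
    · obtain ⟨a', ha'⟩ := Ideal.mem_span_singleton'.mp (hle i hi (μ i).2)
      exact ⟨a', fun _ => ha'⟩
    · exact ⟨0, fun h => (hi h).elim⟩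
  choose a' ha' using hex
  have hsum : ∑ i ∈ s, a' i = 1 := by
    have h1 : (∑ i ∈ s, a' i) * t = 1 * t := by
      rw [Finset.sum_mul, one_mul, Finset.sum_congr rfl fun i hi => ha' i hi]
      exact hμ
    exact mul_cancel_right_mem_nonZeroDivisors ht |>.mp h1
  have hx1 : x ∈ X.basicOpen (∑ i ∈ s, a' i) := by
    rw [hsum, Scheme.basicOpen_one]
    exact hxW
  obtain ⟨i, hi, hxi⟩ := exists_mem_basicOpen_of_sum s a' x hx1
  exact ⟨X.affineBasicOpen (a' i), hxi, i, hi,
    ideal_basicOpen_eq_of_mul_eq (𝓐 i) (s.sup 𝓐) (Finset.le_sup (f := 𝓐) hi) W t hW (μ i) (a' i)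
      (μ i).2 (ha' i hi)⟩

/-- If `V(I) ⊆ V(F)` with `I` effective Cartier, `F` of finite type and `F.comap b` effective
Cartier, then `I.comap b` is effective Cartier. -/
theorem isEffCartierIdeal_comap_of_support_le {Y : Scheme.{u}} (b : Y ⟶ X) (I F : X.IdealSheafData)
    (hI : BlowUp.IsEffCartierIdeal I) (hF : BlowUp.IsFiniteTypeIdeal F)
    (hsupp : (I.support : Set X) ⊆ F.support) (hb : BlowUp.IsEffCartierIdeal (F.comap b)) :
    BlowUp.IsEffCartierIdeal (I.comap b) := by
  intro y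
  obtain ⟨A, hxA, f, hf, hA⟩ := hI (b y)
  obtain ⟨N, hN⟩ := Ideal.exists_pow_le_of_le_radical_of_fg
    (ideal_le_radical_of_support_subset I F A (fun x hx => hsupp hx.1)) (hF A)
  obtain ⟨B, hyB, hBA, t, ht, hB⟩ := Groth.Agent.H8.EffCartier.exists_generator_le (F.comap b) hb y
    (b ⁻¹ᵁ A.1) hxA
  set φ := (b.appLE A.1 B.1 hBA).hom with hφ
  have h1 : (I.comap b).ideal B = Ideal.span {φ f} := by
    rw [ideal_comap_of_le b I B A hBA, hA, Ideal.map_span, Set.image_singleton]
  have h2 : (F.ideal A).map φ = Ideal.span {t} := by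
    rw [← ideal_comap_of_le b F B A hBA, hB]
  have h3 : t ^ N ∈ Ideal.span {φ f} := by
    have : Ideal.span {t} ^ N ≤ Ideal.span {φ f} := by
      rw [← h2, ← Ideal.map_pow, ← h1, ideal_comap_of_le b I B A hBA]
      exact Ideal.map_mono hN
    exact this (Ideal.pow_mem_pow (Ideal.mem_span_singleton_self t) N)
  obtain ⟨g, hg⟩ := Ideal.mem_span_singleton'.mp h3
  refine ⟨B, hyB, φ f, ?_, h1⟩
  rw [mem_nonZeroDivisors_iff_right]
  intro a ha
  have htN : t ^ N ∈ nonZeroDivisors Γ(Y, B.1) := pow_mem ht N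
  apply (mem_nonZeroDivisors_iff_right.mp htN) a
  rw [← hg, mul_comm g, ← mul_assoc, ha, zero_mul]

theorem comap_finset_sup {Y : Scheme.{u}} (b : Y ⟶ X) {ι : Type*} (s : Finset ι)
    (𝓐 : ι → X.IdealSheafData) : (s.sup 𝓐).comap b = s.sup (fun i => (𝓐 i).comap b) := by
  classical
  induction s using Finset.induction_on with
  | empty => exact Scheme.IdealSheafData.comap_bot b
  | insert a s _ ih =>
    rw [Finset.sup_insert, Finset.sup_insert, Scheme.IdealSheafData.comap_sup, ih]

theorem mem_support_finset_sup {ι : Type*} (s : Finset ι) (𝓐 : ι → X.IdealSheafData) (x : X) :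
    x ∈ (s.sup 𝓐).support ↔ ∀ i ∈ s, x ∈ (𝓐 i).support := by
  classical
  induction s using Finset.induction_on with
  | empty =>
    rw [Finset.sup_empty, Scheme.IdealSheafData.support_bot]
    simp only [Finset.notMem_empty, false_imp_iff, implies_true, iff_true]
    trivial
  | insert a s _ ih =>
    rw [Finset.sup_insert, Scheme.IdealSheafData.support_sup, Finset.forall_mem_insert, ← ih]
    rfl

/-- A Zariski covering of the interior of a modulus pair extends to the total space after an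
admissible blow-up (S19336). -/
theorem exists_admissibleBlowUp_cover {S : Scheme.{u}} [CompactSpace S] [QuasiSeparatedSpace S]
    (I : S.IdealSheafData) (hI : BlowUp.IsEffCartierIdeal I) {ι : Type u} (V : ι → S.Opens)
    (hVU : ∀ i, V i ≤ ModPair.interior I) (hVqc : ∀ i, IsCompact (V i : Set S))
    (hcov : ModPair.interior I ≤ ⨆ i, V i) :
    ∃ (F : S.IdealSheafData) (Y : Scheme.{u}) (b : Y ⟶ S) (κ : Type u) (W : κ → Y.Opens),
      BlowUp.IsAdmissibleFor (ModPair.interior I) F ∧ BlowUp.IsBlowUp b F ∧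
        BlowUp.IsEffCartierIdeal (I.comap b) ∧ (∀ k, IsCompact (W k : Set Y)) ∧
        (⨆ k, W k) = ⊤ ∧ ∀ k, ∃ i, W k ⊓ b ⁻¹ᵁ ModPair.interior I ≤ b ⁻¹ᵁ V i := by
  classical
  have hqc : QuasiCompact (ModPair.interior I).ι :=
    Groth.Agent.Lib.Helper93.ModPairInterior.quasiCompact_ι_interior I hI
  have hUc : IsCompact ((ModPair.interior I : S.Opens) : Set S) := by
    rw [isCompact_iff_compactSpace]
    exact QuasiCompact.compactSpace_of_compactSpace (ModPair.interior I).ι
  obtain ⟨t, ht⟩ := hUc.elim_finite_subcover (fun i => (V i : Set S)) (fun i => (V i).2) (by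
    intro x hx
    have := hcov hx
    simpa using this)
  have hJ : ∀ i, ∃ 𝓙 : S.IdealSheafData, BlowUp.IsFiniteTypeIdeal 𝓙 ∧
      (𝓙.support : Set S) = (V i : Set S)ᶜ := fun i =>
    FiniteTypeExtend.exists_isFiniteTypeIdeal_support_eq _ (V i).2.isClosed_compl
      (by rw [compl_compl]; exact hVqc i)
  choose 𝓙 hJft hJs using hJ
  set F := t.sup 𝓙 with hF
  have hFft : BlowUp.IsFiniteTypeIdeal F := by
    intro W
    rw [hF, ideal_finset_sup]
    exact Finset.sup_induction (p := Submodule.FG) Submodule.fg_bot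
      (fun _ h1 _ h2 => Submodule.FG.sup h1 h2) (fun i _ => hJft i W)
  have hFmem : ∀ x : S, x ∈ F.support ↔ ∀ i ∈ t, x ∉ V i := by
    intro x
    rw [hF, mem_support_finset_sup]
    refine forall₂_congr fun i _ => ?_
    have : x ∈ ((𝓙 i).support : Set S) ↔ x ∈ (V i : Set S)ᶜ := by rw [hJs i]
    exact this
  have hFdisj : Disjoint (F.support : Set S) (ModPair.interior I : Set S) := by
    rw [Set.disjoint_left]
    intro x hx hxU
    obtain ⟨i, hi, hxi⟩ := Set.mem_iUnion₂.mp (ht hxU)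
    exact (hFmem x).mp hx i hi hxi
  have hIF : (I.support : Set S) ⊆ F.support := by
    intro x hx
    refine (hFmem x).mpr fun i _ hxi => ?_
    exact hVU i hxi hx
  obtain ⟨Y, b, hb⟩ := BlowUpExists.exists_isBlowUp F
  have hEff : BlowUp.IsEffCartierIdeal (t.sup fun i => (𝓙 i).comap b) := by
    rw [← comap_finset_sup]
    exact hb.1
  have hloc := exists_ideal_eq_finset_sup t (fun i => (𝓙 i).comap b) hEff
  choose W hyW i hi hWeq using hloc
  refine ⟨F, Y, b, Y, fun y => (W y).1, ⟨hFft, hFdisj⟩, hb,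
    isEffCartierIdeal_comap_of_support_le b I F hI hFft hIF hb.1, fun y => (W y).2.isCompact, ?_,
    fun y => ⟨i y, ?_⟩⟩
  · rw [eq_top_iff]
    intro y _
    exact Opens.mem_iSup.mpr ⟨y, hyW y⟩
  · rintro y' ⟨hy'W, hy'U⟩
    by_contra hy'V
    have h1 : y' ∈ (((𝓙 (i y)).comap b).support : Set Y) ∩ (W y).1 := by
      refine ⟨?_, hy'W⟩
      rw [Scheme.IdealSheafData.support_comap]
      change b y' ∈ ((𝓙 (i y)).support : Set S)
      rw [hJs]
      exact hy'V
    rw [BlowUpSeparate.support_inter_eq_of_ideal_eq _ _ (W y) (hWeq y), ← comap_finset_sup,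
      Scheme.IdealSheafData.support_comap] at h1
    exact Set.disjoint_left.mp hFdisj h1.1 hy'U

end Groth.Agent.Lib.Helper93.AdmBlowupCover
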