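import Groth.Agent.Lib.Helper93.ModPairProd
import Groth.Agent.H8.EffCartier3

/-!
# Ambient products of modulus pairs (helper93)
-/

set_option autoImplicit false
universe u

open CategoryTheory CategoryTheory.Limits AlgebraicGeometry TopologicalSpace

namespace Groth.Agent.Lib.Helper93.ModPairAmbProd

open Groth.Agent.Lib.Helper93.ModPairInterior Groth.Agent.Lib.Helper93.ModPairProd

section Opens

variable {Y : Scheme.{u}}

/-- An open containing a scheme-theoretically dense open is scheme-theoretically dense. -/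
theorem isSchemeTheoreticallyDominant_ι_of_le {V V' : Y.Opens} (h : V ≤ V')
    [IsSchemeTheoreticallyDominant V.ι] : IsSchemeTheoreticallyDominant V'.ι := by
  rw [isSchemeTheoreticallyDominant_iff, eq_bot_iff]
  calc V'.ι.ker ≤ (Y.homOfLE h ≫ V'.ι).ker := Scheme.Hom.le_ker_comp _ _
    _ = ⊥ := by rw [Scheme.homOfLE_ι]; exact IsSchemeTheoreticallyDominant.ker_eq_bot V.ι

/-- The intersection of two opens with quasi-compact inclusions has quasi-compact inclusion. -/
theorem quasiCompact_ι_inf (U₁ U₂ : Y.Opens) [QuasiCompact U₁.ι] [QuasiCompact U₂.ι] :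
    QuasiCompact (U₁ ⊓ U₂).ι := by
  have h1 : QuasiCompact (Y.homOfLE (inf_le_right : U₁ ⊓ U₂ ≤ U₂)) :=
    MorphismProperty.of_isPullback (isPullback_opens_inf U₁ U₂) (inferInstance : QuasiCompact U₁.ι)
  rw [← Scheme.homOfLE_ι Y (inf_le_right : U₁ ⊓ U₂ ≤ U₂)]
  infer_instance

/-- Cancelling an effective Cartier ideal. -/
theorem le_of_mul_le_mul_of_isEffCartierIdeal (E : Y.IdealSheafData)
    (hE : BlowUp.IsEffCartierIdeal E) (K A : Y.IdealSheafData) (h : K * E ≤ A * E) : K ≤ A := by
  let S := {U : Y.affineOpens // ∃ e : Γ(Y, U.1), e ∈ nonZeroDivisors Γ(Y, U.1) ∧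
    E.ideal U = Ideal.span {e}}
  have hcov : ⨆ i : S, (i.1 : Y.Opens) = ⊤ := by
    rw [eq_top_iff]
    intro x _
    obtain ⟨V, hxV, b, hb, hV⟩ := hE x
    exact TopologicalSpace.Opens.mem_iSup.mpr ⟨⟨V, b, hb, hV⟩, hxV⟩
  refine Scheme.IdealSheafData.le_of_iSup_eq_top (fun i : S => i.1) hcov ?_
  rintro ⟨U, e, he, hU⟩
  change K.ideal U ≤ A.ideal U
  intro k hk
  have h1 : k * e ∈ (K * E).ideal U := by
    rw [Scheme.IdealSheafData.ideal_mul, Pi.mul_apply, hU]
    exact Ideal.mul_mem_mul hk (Ideal.mem_span_singleton_self e)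
  have h2 := h U h1
  rw [Scheme.IdealSheafData.ideal_mul, Pi.mul_apply, hU, Ideal.mem_mul_span_singleton] at h2
  obtain ⟨a, ha, hae⟩ := h2
  have : a = k := by
    have h3 : (a - k) * e = 0 := by rw [sub_mul, hae, sub_self]
    exact sub_eq_zero.mp ((mul_right_mem_nonZeroDivisors_eq_zero_iff he).mp h3)
  rw [← this]
  exact ha

end Opens

section Prod

variable {S T X : Scheme.{u}}

theorem quasiCompact_ι_prodInterior (I : X.IdealSheafData) (J : T.IdealSheafData)
    (hX : BlowUp.IsEffCartierIdeal I) (hT : BlowUp.IsEffCartierIdeal J) (f : X ⟶ S) (g : T ⟶ S) :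
    QuasiCompact (ModPair.prodInterior f g I J).ι := by
  have h1 := quasiCompact_ι_preimage_interior I hX (pullback.fst f g)
  have h2 := quasiCompact_ι_preimage_interior J hT (pullback.snd f g)
  exact quasiCompact_ι_inf _ _

/-- The pulled back moduli on the scheme-theoretic image of the product interior are effective
Cartier. -/
theorem isEffCartierIdeal_comap_mprodι_fst (I : X.IdealSheafData) (J : T.IdealSheafData)
    (hX : BlowUp.IsEffCartierIdeal I) (hT : BlowUp.IsEffCartierIdeal J) (f : X ⟶ S) (g : T ⟶ S) :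
    BlowUp.IsEffCartierIdeal (I.comap (ModPair.mprodι f g I J ≫ pullback.fst f g)) := by
  have hqc := quasiCompact_ι_prodInterior I J hX hT f g
  have h := isSchemeTheoreticallyDominant_ι_preimage_imageι (ModPair.prodInterior f g I J)
  have hle : (ModPair.prodInterior f g I J).ι.imageι ⁻¹ᵁ ModPair.prodInterior f g I J ≤
      (ModPair.mprodι f g I J ≫ pullback.fst f g) ⁻¹ᵁ ModPair.interior I := by
    intro z hz
    exact hz.1
  have := isSchemeTheoreticallyDominant_ι_of_le hle
  exact isEffCartierIdeal_comap_of_dominant I hX _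

theorem isEffCartierIdeal_comap_mprodι_snd (I : X.IdealSheafData) (J : T.IdealSheafData)
    (hX : BlowUp.IsEffCartierIdeal I) (hT : BlowUp.IsEffCartierIdeal J) (f : X ⟶ S) (g : T ⟶ S) :
    BlowUp.IsEffCartierIdeal (J.comap (ModPair.mprodι f g I J ≫ pullback.snd f g)) := by
  have hqc := quasiCompact_ι_prodInterior I J hX hT f g
  have h := isSchemeTheoreticallyDominant_ι_preimage_imageι (ModPair.prodInterior f g I J)
  have hle : (ModPair.prodInterior f g I J).ι.imageι ⁻¹ᵁ ModPair.prodInterior f g I J ≤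
      (ModPair.mprodι f g I J ≫ pullback.snd f g) ⁻¹ᵁ ModPair.interior J := by
    intro z hz
    exact hz.2
  have := isSchemeTheoreticallyDominant_ι_of_le hle
  exact isEffCartierIdeal_comap_of_dominant J hT _

end Prod

section Lift

variable {P W : Scheme.{u}}

/-- A morphism mapping a scheme-theoretically dense open into `U` factors through the
scheme-theoretic image of `U`: kernel form. -/
theorem ker_imageι_le_of_dominant (U : P.Opens) (θ : W ⟶ P) (V : W.Opens)
    [IsSchemeTheoreticallyDominant V.ι] (h : V ≤ θ ⁻¹ᵁ U) : U.ι.imageι.ker ≤ θ.ker := by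
  have hrange : Set.range (V.ι ≫ θ) ⊆ Set.range U.ι := by
    rintro _ ⟨w, rfl⟩
    rw [Scheme.Opens.range_ι, Scheme.Hom.comp_apply]
    exact h w.2
  let j := IsOpenImmersion.lift U.ι (V.ι ≫ θ) hrange
  have hj : j ≫ U.ι = V.ι ≫ θ := IsOpenImmersion.lift_fac _ _ _
  rw [Scheme.IdealSheafData.ker_subschemeι]
  calc U.ι.ker ≤ (j ≫ U.ι).ker := Scheme.Hom.le_ker_comp _ _
    _ = θ.ker := by
      rw [hj, Scheme.Hom.ker_comp, IsSchemeTheoreticallyDominant.ker_eq_bot V.ι,
        Scheme.IdealSheafData.map_bot]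

end Lift

section InfDense

variable {Y : Scheme.{u}}

/-- The intersection of two scheme-theoretically dense opens with quasi-compact inclusions is
scheme-theoretically dense. -/
theorem isSchemeTheoreticallyDominant_ι_inf (U₁ U₂ : Y.Opens) [QuasiCompact U₁.ι]
    [IsSchemeTheoreticallyDominant U₁.ι] [IsSchemeTheoreticallyDominant U₂.ι] :
    IsSchemeTheoreticallyDominant (U₁ ⊓ U₂).ι := by
  have h1 : IsSchemeTheoreticallyDominant (Y.homOfLE (inf_le_right : U₁ ⊓ U₂ ≤ U₂)) :=
    IsSchemeTheoreticallyDominant.of_isPullback (isPullback_opens_inf U₁ U₂)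
  rw [← Scheme.homOfLE_ι Y (inf_le_right : U₁ ⊓ U₂ ≤ U₂)]
  infer_instance

/-- The interior of a pulled back ideal is the preimage of the interior. -/
theorem interior_comap {X : Scheme.{u}} (I : Y.IdealSheafData) (f : X ⟶ Y) :
    ModPair.interior (I.comap f) = f ⁻¹ᵁ ModPair.interior I :=
  interior_eq_preimage_of_isMinimal (I.comap f) I f rfl

end InfDense

end Groth.Agent.Lib.Helper93.ModPairAmbProd
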