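import Groth.Agent.Lib.Helper93.ModPairInterior
import Groth.Agent.Lib.Helper93.ModPairAmbProd

/-!
# Morphisms between abstract admissible blow-ups are scheme-theoretically dominant (helper93)
-/

set_option autoImplicit false
universe u

open CategoryTheory CategoryTheory.Limits AlgebraicGeometry

namespace Groth.Agent.Lib.Helper93.AdmBlowupDominant

open Groth.Agent.Lib.Helper93.ModPairInterior Groth.Agent.Lib.Helper93.ModPairAmbProd

/-- If `A ⟶ Y` and `B ⟶ Y` are isomorphisms over the interior of `(Y, IY)` and the pull-back of `IY`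
to `B` is effective Cartier, every `Y`-morphism `A ⟶ B` is scheme-theoretically dominant. -/
theorem isSchemeTheoreticallyDominant_of_isIso_restrict {A B Y : Scheme.{u}} (q : A ⟶ B)
    (pA : A ⟶ Y) (pB : B ⟶ Y) (hq : q ≫ pB = pA) (IY : Y.IdealSheafData)
    (hB : BlowUp.IsEffCartierIdeal (IY.comap pB))
    (hAiso : IsIso (pA ∣_ ModPair.interior IY)) (hBiso : IsIso (pB ∣_ ModPair.interior IY)) :
    IsSchemeTheoreticallyDominant q := by
  subst hq
  have h1 : IsSchemeTheoreticallyDominant (pB ⁻¹ᵁ ModPair.interior IY).ι := by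
    have := isSchemeTheoreticallyDominant_ι_interior (IY.comap pB) hB
    rwa [interior_comap] at this
  have h2 : (q ≫ pB) ∣_ ModPair.interior IY =
      q ∣_ (pB ⁻¹ᵁ ModPair.interior IY) ≫ pB ∣_ ModPair.interior IY :=
    morphismRestrict_comp q pB _
  have h3 : IsIso (q ∣_ (pB ⁻¹ᵁ ModPair.interior IY)) := by
    have : IsIso (q ∣_ (pB ⁻¹ᵁ ModPair.interior IY) ≫ pB ∣_ ModPair.interior IY) := by
      rw [← h2]; exact hAiso
    exact IsIso.of_isIso_comp_right _ (pB ∣_ ModPair.interior IY)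
  have h4 : q ∣_ (pB ⁻¹ᵁ ModPair.interior IY) ≫ (pB ⁻¹ᵁ ModPair.interior IY).ι =
      (q ⁻¹ᵁ (pB ⁻¹ᵁ ModPair.interior IY)).ι ≫ q := morphismRestrict_ι _ _
  have h5 : IsSchemeTheoreticallyDominant ((q ⁻¹ᵁ (pB ⁻¹ᵁ ModPair.interior IY)).ι ≫ q) := by
    rw [← h4]; infer_instance
  rw [isSchemeTheoreticallyDominant_iff, eq_bot_iff]
  calc q.ker ≤ ((q ⁻¹ᵁ (pB ⁻¹ᵁ ModPair.interior IY)).ι ≫ q).ker := Scheme.Hom.le_ker_comp _ _
    _ = ⊥ := h5.ker_eq_bot

end Groth.Agent.Lib.Helper93.AdmBlowupDominant
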