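import Mathlib.AlgebraicGeometry.AlgClosed.Basic

/-!
# Rational points over algebraically closed fields (helper93; after helper66's
`QuotStFibreSec.exists_section_of_lft`, restated here with Mathlib-only imports)
-/

set_option autoImplicit false
universe u
open CategoryTheory AlgebraicGeometry

namespace Groth.Agent.Lib.Helper93.AlgClosedPoint

/-- A nonempty scheme locally of finite type over an algebraically closed field has a rational
point. -/
theorem exists_section_of_lft {k : Type u} [Field k] [IsAlgClosed k] {W : Scheme.{u}}
    (h : W ⟶ Spec (CommRingCat.of k)) [LocallyOfFiniteType h] (hW : Nonempty W) :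
    ∃ σ : Spec (CommRingCat.of k) ⟶ W, σ ≫ h = 𝟙 _ := by
  have hJ : JacobsonSpace W := LocallyOfFiniteType.jacobsonSpace h
  have hne : (closedPoints W).Nonempty := by
    by_contra hcon
    rw [Set.not_nonempty_iff_eq_empty] at hcon
    have h1 := closure_closedPoints (X := W)
    rw [hcon, closure_empty] at h1
    obtain ⟨w⟩ := hW
    exact (h1 ▸ Set.mem_univ w : w ∈ (∅ : Set W))
  obtain ⟨x, hx⟩ := hne
  exact ⟨pointOfClosedPoint h x hx, pointOfClosedPoint_comp h x hx⟩

end Groth.Agent.Lib.Helper93.AlgClosedPoint
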