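import Groth.Prelude.Def_W4c6modpairsegaMP
import Groth.Agent.Lib.Helper93.ModPairAmbProd
import Groth.Agent.Lib.Helper93.BlowUpExists
import Groth.Agent.Lib.Helper93.BlowUpProper
import Groth.Agent.H8.EffCartier3
import Groth.Agent.H8.BlowUpOffCenter
import Groth.Agent.S18749

/-!
# The ambient product is a fibre product up to admissible blow-ups (helper93)

The two ingredients (joint monicity and lifting up to an admissible blow-up) making the ambient
product square a pullback square in the localization of modulus pairs.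
-/

set_option autoImplicit false
universe u
open CategoryTheory CategoryTheory.Limits AlgebraicGeometry TopologicalSpace
open ModPair

namespace Groth.Agent.Lib.Helper93.AmbProdPullback

open Groth.Agent.Lib.Helper93.ModPairInterior Groth.Agent.Lib.Helper93.ModPairProd
  Groth.Agent.Lib.Helper93.ModPairAmbProd

/-- Being an isomorphism over an open passes to smaller opens. -/
theorem isIso_morphismRestrict_of_le {X Y : Scheme.{u}} (f : X ⟶ Y) {U V : Y.Opens} (h : V ≤ U)
    [hU : IsIso (f ∣_ U)] : IsIso (f ∣_ V) := by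
  have hle : f ⁻¹ᵁ V ≤ f ⁻¹ᵁ U := fun x hx => h hx
  have h1 : IsPullback (f ∣_ V) (X.homOfLE hle) (Y.homOfLE h) (f ∣_ U) := by
    refine IsPullback.of_bot ?_ ?_ (isPullback_morphismRestrict f U)
    · rw [Scheme.homOfLE_ι, Scheme.homOfLE_ι]; exact isPullback_morphismRestrict f V
    · rw [← cancel_mono U.ι]
      simp only [Category.assoc, morphismRestrict_ι, Scheme.homOfLE_ι, Scheme.homOfLE_ι_assoc]
  exact h1.isIso_fst_of_isIso

section

variable {S T X Y Z : Scheme.{u}} (IS : S.IdealSheafData) (J : T.IdealSheafData)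
  (I : X.IdealSheafData) (hS : BlowUp.IsEffCartierIdeal IS) (hT : BlowUp.IsEffCartierIdeal J)
  (hX : BlowUp.IsEffCartierIdeal I) (f : X ⟶ S) (hf : ModPair.IsAmbient I IS f) (g : T ⟶ S)
  (hg : ModPair.IsAmbient J IS g) (π : Y ⟶ ModPair.mprod f g I J) (K : Y.IdealSheafData)
  (hY : ModPair.IsAmbProd f g I J π K)

include hS hT hX hf hg hY in
/-- The interior of the ambient product lies in the complement of the exceptional divisor. -/
theorem interior_le_interior_exceptional :
    ModPair.interior K ≤ ModPair.interior ((ModPair.prodCentre f g I J).comap π) := by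
  obtain ⟨-, -, -, hint⟩ := Groth.Agent.S18749.result IS J I hS hT hX f hf g hg π K hY
  rw [hint, interior_comap]
  intro y hy
  change π y ∈ ModPair.interior (ModPair.prodCentre f g I J)
  have h1 : (ModPair.prodCentre f g I J).support ≤
      (I.comap (ModPair.mprodι f g I J ≫ pullback.fst f g)).support :=
    Scheme.IdealSheafData.support_antitone le_sup_left
  intro hy2
  have hy3 := h1 hy2
  have hy4 : π y ∈ ModPair.interior (I.comap (ModPair.mprodι f g I J ≫ pullback.fst f g)) := by
    rw [interior_comap]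
    change (ModPair.mprodι f g I J ≫ pullback.fst f g) (π y) ∈ ModPair.interior I
    rw [Scheme.Hom.comp_apply]
    exact hy.1
  exact hy4 hy3

include hS hT hX hf hg hY in
/-- Joint monicity of the two projections of the ambient product on ambient morphisms. -/
theorem hom_ext_ambProd (M : Z.IdealSheafData) (hM : BlowUp.IsEffCartierIdeal M)
    (c c' : Z ⟶ Y) (hc : ModPair.IsAmbient M K c)
    (h1 : c ≫ π ≫ ModPair.mprodι f g I J ≫ pullback.fst f g =
      c' ≫ π ≫ ModPair.mprodι f g I J ≫ pullback.fst f g)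
    (h2 : c ≫ π ≫ ModPair.mprodι f g I J ≫ pullback.snd f g =
      c' ≫ π ≫ ModPair.mprodι f g I J ≫ pullback.snd f g) : c = c' := by
  have h3 : c ≫ π = c' ≫ π := by
    rw [← cancel_mono (ModPair.mprodι f g I J)]
    apply pullback.hom_ext
    · simpa only [Category.assoc] using h1
    · simpa only [Category.assoc] using h2
  have hdom : IsSchemeTheoreticallyDominant (ModPair.interior M).ι :=
    isSchemeTheoreticallyDominant_ι_interior M hM
  have hle : ModPair.interior M ≤
      c ⁻¹ᵁ ModPair.interior ((ModPair.prodCentre f g I J).comap π) := by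
    refine le_trans (interior_le_preimage_of_isAmbient M K c hc) ?_
    intro z hz
    exact interior_le_interior_exceptional IS J I hS hT hX f hf g hg π K hY hz
  have hdom2 : IsSchemeTheoreticallyDominant
      (c ⁻¹ᵁ ModPair.interior ((ModPair.prodCentre f g I J).comap π)).ι :=
    isSchemeTheoreticallyDominant_ι_of_le hle
  have heff : BlowUp.IsEffCartierIdeal ((ModPair.prodCentre f g I J).comap (c ≫ π)) := by
    rw [Scheme.IdealSheafData.comap_comp]
    exact isEffCartierIdeal_comap_of_dominant _ hY.1.1 c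
  obtain ⟨h, -, huniq⟩ := hY.1.2 Z (c ≫ π) heff
  rw [huniq c rfl, huniq c' h3.symm]

include hS hT hX hf hg hY in
/-- Lifting to the ambient product, after an admissible blow-up of the source. -/
theorem exists_lift_ambProd (M : Z.IdealSheafData) (hM : BlowUp.IsEffCartierIdeal M)
    (a : Z ⟶ T) (ha : ModPair.IsAmbient M J a) (b : Z ⟶ X) (hb : ModPair.IsAmbient M I b)
    (hab : a ≫ g = b ≫ f) :
    ∃ (Z₂ : Scheme.{u}) (r : Z₂ ⟶ Z) (c : Z₂ ⟶ Y), BlowUp.IsEffCartierIdeal (M.comap r) ∧
      ModPair.IsAdmBlowup (M.comap r) M r ∧ ModPair.IsAmbient (M.comap r) K c ∧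
      c ≫ π ≫ ModPair.mprodι f g I J ≫ pullback.snd f g = r ≫ a ∧
      c ≫ π ≫ ModPair.mprodι f g I J ≫ pullback.fst f g = r ≫ b := by
  set ι := ModPair.mprodι f g I J with hι
  let l : Z ⟶ pullback f g := pullback.lift b a hab.symm
  have hl1 : l ≫ pullback.fst f g = b := pullback.lift_fst _ _ _
  have hl2 : l ≫ pullback.snd f g = a := pullback.lift_snd _ _ _
  have hdom : IsSchemeTheoreticallyDominant (ModPair.interior M).ι :=
    isSchemeTheoreticallyDominant_ι_interior M hM
  have hle : ModPair.interior M ≤ l ⁻¹ᵁ ModPair.prodInterior f g I J := by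
    intro z hz
    refine ⟨?_, ?_⟩
    · change pullback.fst f g (l z) ∈ ModPair.interior I
      rw [← Scheme.Hom.comp_apply, hl1]
      exact interior_le_preimage_of_isAmbient M I b hb hz
    · change pullback.snd f g (l z) ∈ ModPair.interior J
      rw [← Scheme.Hom.comp_apply, hl2]
      exact interior_le_preimage_of_isAmbient M J a ha hz
  have hker : ι.ker ≤ l.ker := ker_imageι_le_of_dominant _ l _ hle
  let m : Z ⟶ ModPair.mprod f g I J := IsClosedImmersion.lift ι l hker
  have hm : m ≫ ι = l := IsClosedImmersion.lift_fac _ _ _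
  have hm1 : m ≫ ι ≫ pullback.fst f g = b := by rw [← Category.assoc, hm, hl1]
  have hm2 : m ≫ ι ≫ pullback.snd f g = a := by rw [← Category.assoc, hm, hl2]
  -- the centre on `Z`
  set E₁ : Z.IdealSheafData := (ModPair.prodCentre f g I J).comap m with hE₁
  have hE₁' : E₁ = I.comap b ⊔ J.comap a := by
    rw [hE₁]
    change (_ ⊔ _ : Scheme.IdealSheafData _).comap m = _
    rw [Scheme.IdealSheafData.comap_sup, ← Scheme.IdealSheafData.comap_comp,
      ← Scheme.IdealSheafData.comap_comp, hm1, hm2]
  obtain ⟨Z₂, r, hr⟩ := Groth.Agent.Lib.Helper93.BlowUpExists.exists_isBlowUp E₁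
  have hM₂ : BlowUp.IsEffCartierIdeal (M.comap r) :=
    Groth.Agent.H8.EffCartier.isEffCartierIdeal_comap_of_isBlowUp E₁ M r hr hM
  -- `r` is an admissible blow-up
  have hproper : IsProper r := by
    refine Groth.Agent.Lib.Helper93.BlowUpProper.isProper_of_isBlowUp_of_locally_fg E₁
      (fun y => ?_) r hr
    rw [hE₁']
    exact Groth.Agent.Lib.Helper93.BlowUpProper.exists_fg_comap_sup_comap I J hX hT b a y
  have hiso : IsIso (r ∣_ ModPair.interior M) := by
    have h0 : IsIso (r ∣_ E₁.support.compl) := Groth.Agent.H8.blowUp_isIso_off_center E₁ r hr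
    have hME : M ≤ E₁ := by
      rw [hE₁']
      exact le_trans hb le_sup_left
    have hsupp : ModPair.interior M ≤ E₁.support.compl := by
      intro z hz hz2
      exact hz (Scheme.IdealSheafData.support_antitone hME hz2)
    exact isIso_morphismRestrict_of_le r hsupp
  have hadm : ModPair.IsAdmBlowup (M.comap r) M r := ⟨rfl, hproper, hiso⟩
  -- the lift to `Y`
  have heff : BlowUp.IsEffCartierIdeal ((ModPair.prodCentre f g I J).comap (r ≫ m)) := by
    rw [Scheme.IdealSheafData.comap_comp]
    exact hr.1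
  obtain ⟨c, hc, -⟩ := hY.1.2 Z₂ (r ≫ m) heff
  have hc1 : c ≫ π ≫ ι ≫ pullback.fst f g = r ≫ b := by
    rw [← Category.assoc, hc, Category.assoc, hm1]
  have hc2 : c ≫ π ≫ ι ≫ pullback.snd f g = r ≫ a := by
    rw [← Category.assoc, hc, Category.assoc, hm2]
  refine ⟨Z₂, r, c, hM₂, hadm, ?_, hc2, hc1⟩
  -- the modulus condition
  have hE₂ : ((ModPair.prodCentre f g I J).comap π).comap c = E₁.comap r := by
    rw [← Scheme.IdealSheafData.comap_comp, hc, Scheme.IdealSheafData.comap_comp]
  have hI₂ : ((I.comap (ι ≫ pullback.fst f g)).comap π).comap c = I.comap (r ≫ b) := by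
    rw [← Scheme.IdealSheafData.comap_comp, ← Scheme.IdealSheafData.comap_comp, Category.assoc,
      hc1]
  have hJ₂ : ((J.comap (ι ≫ pullback.snd f g)).comap π).comap c = J.comap (r ≫ a) := by
    rw [← Scheme.IdealSheafData.comap_comp, ← Scheme.IdealSheafData.comap_comp, Category.assoc,
      hc2]
  have h2 := congrArg (fun L => Scheme.IdealSheafData.comap L c) hY.2
  beta_reduce at h2
  rw [Groth.Agent.Lib.Helper18.comap_mul, Groth.Agent.Lib.Helper18.comap_mul, hE₂, hI₂, hJ₂]
    at h2
  have hE₂' : E₁.comap r = I.comap (r ≫ b) ⊔ J.comap (r ≫ a) := by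
    rw [hE₁', Scheme.IdealSheafData.comap_sup, ← Scheme.IdealSheafData.comap_comp,
      ← Scheme.IdealSheafData.comap_comp]
  have hMI : M.comap r ≤ I.comap (r ≫ b) := by
    rw [Scheme.IdealSheafData.comap_comp]
    exact Scheme.IdealSheafData.comap_mono r hb
  have hMJ : M.comap r ≤ J.comap (r ≫ a) := by
    rw [Scheme.IdealSheafData.comap_comp]
    exact Scheme.IdealSheafData.comap_mono r ha
  change M.comap r ≤ K.comap c
  refine le_of_mul_le_mul_of_isEffCartierIdeal (E₁.comap r) hr.1 _ _ ?_
  rw [h2, hE₂']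
  rw [Scheme.IdealSheafData.le_def]
  intro U
  change (M.comap r).ideal U * ((I.comap (r ≫ b)).ideal U ⊔ (J.comap (r ≫ a)).ideal U) ≤
    (I.comap (r ≫ b)).ideal U * (J.comap (r ≫ a)).ideal U
  rw [Ideal.mul_sup]
  refine sup_le ?_ ?_
  · rw [mul_comm]
    exact Ideal.mul_mono_right (Scheme.IdealSheafData.le_def.mp hMJ U)
  · exact Ideal.mul_mono_left (Scheme.IdealSheafData.le_def.mp hMI U)

end

end Groth.Agent.Lib.Helper93.AmbProdPullback

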