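import Groth.Agent.Lib.Helper93.BlowUpProj

/-!
# An affine criterion for blow-ups, and a ring-level universal property (helper93)

* `isBlowUp_of_affine`: `b : X' ⟶ X` is a blow-up of `𝓘` as soon as the inverse image of `𝓘` is
  effective Cartier and the universal property holds for affine test schemes on which the inverse
  image ideal is generated by one global nonzerodivisor.
* `existsUnique_ringHom_of_map_eq_span`: the ring-level universal property of `A → B` when
  `I B = (f) ⊆ image of I`.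
-/

set_option autoImplicit false
universe u
open CategoryTheory CategoryTheory.Limits AlgebraicGeometry TopologicalSpace

namespace Groth.Agent.Lib.Helper93.BlowUpAffineCrit

open Groth.Agent.Lib.Helper93.BlowUpProj

/-- Affine criterion for a morphism to be a blow-up. -/
theorem isBlowUp_of_affine {X X' : Scheme.{u}} (b : X' ⟶ X) (𝓘 : X.IdealSheafData)
    (h1 : BlowUp.IsEffCartierIdeal (𝓘.comap b))
    (h2 : ∀ (V : Scheme.{u}) [IsAffine V] (g : V ⟶ X) (t : Γ(V, ⊤)),
      t ∈ nonZeroDivisors Γ(V, ⊤) →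
      (𝓘.comap g).ideal ⟨⊤, isAffineOpen_top V⟩ = Ideal.span {t} → ∃! k : V ⟶ X', k ≫ b = g) :
    BlowUp.IsBlowUp b 𝓘 := by
  have hext : ∀ (Y : Scheme.{u}) (g : Y ⟶ X), BlowUp.IsEffCartierIdeal (𝓘.comap g) →
      ∀ h₁ h₂ : Y ⟶ X', h₁ ≫ b = g → h₂ ≫ b = g → h₁ = h₂ := by
    intro Y g hg h₁ h₂ e₁ e₂
    have key : ∀ y : Y, ∃ U : Y.Opens, y ∈ U ∧ U.ι ≫ h₁ = U.ι ≫ h₂ := by
      intro y
      obtain ⟨U, hyU, f, hf, hU⟩ := hg y
      have : IsAffine (U.1 : Scheme.{u}) := U.2
      obtain ⟨t, ht, hid⟩ := exists_top_generator _ U f hf hU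
      rw [← Scheme.IdealSheafData.comap_comp] at hid
      refine ⟨U.1, hyU, ?_⟩
      exact (h2 U.1 (U.1.ι ≫ g) t ht hid).unique (by rw [Category.assoc, e₁])
        (by rw [Category.assoc, e₂])
    choose U hyU hU using key
    exact (Y.openCoverOfIsOpenCover U
      (eq_top_iff.mpr fun y _ => Opens.mem_iSup.mpr ⟨y, hyU y⟩)).hom_ext _ _ fun y => hU y
  refine ⟨h1, fun Y g hg => ?_⟩
  have key : ∀ y : Y, ∃ (U : Y.Opens) (_ : y ∈ U) (k : (U : Scheme.{u}) ⟶ X'),
      k ≫ b = U.ι ≫ g := by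
    intro y
    obtain ⟨U, hyU, f, hf, hU⟩ := hg y
    have : IsAffine (U.1 : Scheme.{u}) := U.2
    obtain ⟨t, ht, hid⟩ := exists_top_generator _ U f hf hU
    rw [← Scheme.IdealSheafData.comap_comp] at hid
    obtain ⟨k, hk, -⟩ := h2 U.1 (U.1.ι ≫ g) t ht hid
    exact ⟨U.1, hyU, k, hk⟩
  choose U hyU k hk using key
  let 𝒰 := Y.openCoverOfIsOpenCover U
    (eq_top_iff.mpr fun y _ => Opens.mem_iSup.mpr ⟨y, hyU y⟩)
  let k' : ∀ y : 𝒰.I₀, 𝒰.X y ⟶ X' := k
  have hk' : ∀ y : 𝒰.I₀, k' y ≫ b = 𝒰.f y ≫ g := hk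
  have compat : ∀ x y : 𝒰.I₀, pullback.fst (𝒰.f x) (𝒰.f y) ≫ k' x =
      pullback.snd (𝒰.f x) (𝒰.f y) ≫ k' y := by
    intro x y
    refine hext _ (pullback.fst (𝒰.f x) (𝒰.f y) ≫ 𝒰.f x ≫ g) ?_ _ _ ?_ ?_
    · rw [← Category.assoc, Scheme.IdealSheafData.comap_comp]
      exact Groth.Agent.H8.EffCartier.isEffCartierIdeal_comap_of_flat _ _ hg
    · rw [Category.assoc, hk']
    · rw [Category.assoc, hk']
      exact (pullback.condition_assoc (f := 𝒰.f x) (g := 𝒰.f y) g).symm
  have hglue : 𝒰.glueMorphisms k' compat ≫ b = g := by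
    refine 𝒰.hom_ext _ _ fun y => ?_
    rw [Scheme.Cover.ι_glueMorphisms_assoc]
    exact hk' y
  exact ⟨𝒰.glueMorphisms k' compat, hglue, fun h' hh' => hext Y g hg h' _ hh' hglue⟩

section Ring

variable {A B C : Type*} [CommRing A] [CommRing B] [CommRing C]

/-- Ring-level universal property: if `φ : A → B` is injective, `I B = (f)` with `f` a
nonzerodivisor, and `I B` is contained in the image of `I`, then every `ψ : A → C` making `I C`
principal generated by a nonzerodivisor factors uniquely through `φ`. -/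
theorem existsUnique_ringHom_of_map_eq_span (φ : A →+* B) (hinj : Function.Injective φ)
    (I : Ideal A) (hIB : (Ideal.map φ I : Set B) ⊆ φ '' (I : Set A))
    (f : B) (hf : f ∈ nonZeroDivisors B) (hgen : Ideal.map φ I = Ideal.span {f})
    (ψ : A →+* C) (t : C) (ht : t ∈ nonZeroDivisors C) (hψ : Ideal.map ψ I = Ideal.span {t}) :
    ∃! χ : B →+* C, χ.comp φ = ψ := by
  -- the element `a_f`
  have hfmem : f ∈ Ideal.map φ I := hgen ▸ Ideal.mem_span_singleton_self f
  obtain ⟨af, haf, hφaf⟩ := hIB hfmem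
  -- the division map `α`
  have hα : ∀ b : B, ∃ a : A, a ∈ I ∧ φ a = b * f := by
    intro b
    have : b * f ∈ Ideal.map φ I := Ideal.mul_mem_left _ b hfmem
    obtain ⟨a, ha, hφa⟩ := hIB this
    exact ⟨a, ha, hφa⟩
  choose α hαI hαφ using hα
  -- `I * I ⊆ a_f I`
  have hII : ∀ a ∈ I, ∀ a' ∈ I, ∃ a'' ∈ I, a * a' = a'' * af := by
    intro a ha a' ha'
    have h1 : φ a ∈ Ideal.span {f} := hgen ▸ Ideal.mem_map_of_mem φ ha
    obtain ⟨c, hc⟩ := Ideal.mem_span_singleton'.mp h1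
    have h2 : c * φ a' ∈ Ideal.map φ I := Ideal.mul_mem_left _ c (Ideal.mem_map_of_mem φ ha')
    obtain ⟨a'', ha'', hφa''⟩ := hIB h2
    refine ⟨a'', ha'', hinj ?_⟩
    rw [map_mul, map_mul, hφa'', hφaf, ← hc]
    ring
  -- `ψ a_f` generates `I C`
  set s : C := ψ af with hs
  have hsmem : s ∈ Ideal.span {t} := hψ ▸ Ideal.mem_map_of_mem ψ haf
  obtain ⟨u, hu⟩ := Ideal.mem_span_singleton'.mp hsmem
  have htt : t * t ∈ Ideal.span {s * t} := by
    have h1 : t * t ∈ Ideal.map ψ I * Ideal.map ψ I :=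
      Ideal.mul_mem_mul (hψ ▸ Ideal.mem_span_singleton_self t)
        (hψ ▸ Ideal.mem_span_singleton_self t)
    have h2 : Ideal.map ψ I * Ideal.map ψ I ≤ Ideal.span {s * t} := by
      rw [← Ideal.map_mul, Ideal.map_le_iff_le_comap, Ideal.mul_le]
      intro a ha a' ha'
      obtain ⟨a'', ha'', e⟩ := hII a ha a' ha'
      rw [Ideal.mem_comap, e, map_mul]
      have h3 : ψ a'' ∈ Ideal.span {t} := hψ ▸ Ideal.mem_map_of_mem ψ ha''
      obtain ⟨v, hv⟩ := Ideal.mem_span_singleton'.mp h3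
      rw [← hv, Ideal.mem_span_singleton']
      exact ⟨v, by ring⟩
    exact h2 h1
  obtain ⟨w, hw⟩ := Ideal.mem_span_singleton'.mp htt
  have hwt : w * s = t := by
    have h1 : (w * s) * t = t * t := by rw [← hw]; ring
    exact (mul_cancel_right_mem_nonZeroDivisors ht).mp h1
  have hsnzd : s ∈ nonZeroDivisors C := by
    rw [← hwt] at ht
    exact (mul_mem_nonZeroDivisors.mp ht).2
  have hspan : Ideal.map ψ I = Ideal.span {s} := by
    rw [hψ]
    apply le_antisymm
    · rw [Ideal.span_singleton_le_iff_mem, Ideal.mem_span_singleton']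
      exact ⟨w, hwt⟩
    · rw [Ideal.span_singleton_le_iff_mem]
      exact hsmem
  -- the quotient map `q`
  have hq : ∀ b : B, ∃ c : C, c * s = ψ (α b) := by
    intro b
    have : ψ (α b) ∈ Ideal.span {s} := hspan ▸ Ideal.mem_map_of_mem ψ (hαI b)
    exact Ideal.mem_span_singleton'.mp this
  choose q hq using hq
  have cancel : ∀ x y : C, x * s = y * s → x = y := fun x y h =>
    (mul_cancel_right_mem_nonZeroDivisors hsnzd).mp h
  have hα1 : α 1 = af := hinj (by rw [hαφ, hφaf, one_mul])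
  have hαadd : ∀ b b' : B, α (b + b') = α b + α b' := fun b b' =>
    hinj (by rw [map_add, hαφ, hαφ, hαφ, add_mul])
  have hαmul : ∀ b b' : B, α (b * b') * af = α b * α b' := fun b b' =>
    hinj (by rw [map_mul, map_mul, hαφ, hαφ, hαφ, hφaf]; ring)
  have hα0 : α 0 = 0 := hinj (by rw [hαφ, map_zero, zero_mul])
  have hαφ' : ∀ a : A, α (φ a) = a * af := fun a =>
    hinj (by rw [hαφ, map_mul, hφaf])
  let χ : B →+* C :=
    { toFun := q
      map_one' := cancel _ _ (by rw [hq, hα1, one_mul])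
      map_mul' := fun b b' => cancel _ _ (cancel _ _ (by
        have h1 : q (b * b') * s * s = ψ (α (b * b') * af) := by rw [map_mul, ← hq]
        rw [h1, hαmul, map_mul, ← hq, ← hq]
        ring))
      map_zero' := cancel _ _ (by rw [hq, hα0, map_zero, zero_mul])
      map_add' := fun b b' => cancel _ _ (by rw [hq, hαadd, map_add, add_mul, hq, hq]) }
  refine ⟨χ, ?_, ?_⟩
  · ext a
    change q (φ a) = ψ a
    exact cancel _ _ (by rw [hq, hαφ', map_mul])
  · intro χ' hχ'
    ext b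
    change χ' b = q b
    apply cancel
    have h1 : χ' (φ af) = s := by rw [← RingHom.comp_apply, hχ']
    rw [hq, ← h1, hφaf, ← map_mul, ← hαφ, ← RingHom.comp_apply, hχ']

end Ring

end Groth.Agent.Lib.Helper93.BlowUpAffineCrit
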