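import Groth.Prelude.Def_BlowUp2
import Groth.Agent.H8.EffCartier
import Groth.Agent.Lib.Helper18.IdealComap
import Mathlib.AlgebraicGeometry.IdealSheaf.Functorial

/-!
# Separating closures after making an ideal invertible (helper93)

If `𝔞` contains the vanishing ideal of `F`, becomes effective Cartier on `X'`, and on `Z` lies in
`I_F 𝒪_Z + I_G`, then over the locus where `𝔞` is trivial, the closures of the preimages of `F` (in
`X'`) and of `G` (in `Z'`, any scheme over both `Z` and `X'`) do not meet in `Z'`.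
-/

set_option autoImplicit false
universe u

open CategoryTheory CategoryTheory.Limits AlgebraicGeometry TopologicalSpace

namespace Groth.Agent.Lib.Helper93.BlowUpClosure

open Groth.Agent.Lib.Helper18 Groth.Agent.H8.EffCartier

/-- The sections over `W` that vanish at the point `z` (are nonunits in the stalk). -/
noncomputable def vanishAt {Y : Scheme.{u}} (W : Y.Opens) (z : Y) (hz : z ∈ W) : Ideal Γ(Y, W) :=
  Ideal.comap (Y.presheaf.germ W z hz).hom (IsLocalRing.maximalIdeal (Y.presheaf.stalk z))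

theorem mem_vanishAt_iff {Y : Scheme.{u}} (W : Y.Opens) (z : Y) (hz : z ∈ W) (s : Γ(Y, W)) :
    s ∈ vanishAt W z hz ↔ z ∉ Y.basicOpen s := by
  rw [vanishAt, Ideal.mem_comap, IsLocalRing.mem_maximalIdeal, mem_nonunits_iff,
    Y.mem_basicOpen s z hz]

theorem one_sub_mem_basicOpen {Y : Scheme.{u}} (W : Y.Opens) (z : Y) (hz : z ∈ W) (j : Γ(Y, W))
    (hj : j ∈ vanishAt W z hz) : z ∈ Y.basicOpen (1 - j) := by
  by_contra h
  rw [← mem_vanishAt_iff W z hz] at h
  have h1 : (1 : Γ(Y, W)) ∈ vanishAt W z hz := by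
    have := (vanishAt W z hz).add_mem h hj
    simpa using this
  rw [mem_vanishAt_iff] at h1
  apply h1
  rw [Y.mem_basicOpen _ z hz, map_one]
  exact isUnit_one

/-- Membership in the support, read on a generator. -/
theorem mem_basicOpen_of_notMem_support {Y : Scheme.{u}} (𝓔 : Y.IdealSheafData)
    (U : Y.affineOpens) (t : Γ(Y, U.1)) (hU : 𝓔.ideal U = Ideal.span {t}) (y : Y) (hyU : y ∈ U.1)
    (hy : y ∉ 𝓔.support) : y ∈ Y.basicOpen t := by
  rw [Scheme.IdealSheafData.mem_support_iff_of_mem hyU, hU, Scheme.zeroLocus_span,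
    Scheme.zeroLocus_singleton] at hy
  by_contra h
  exact hy h

/-- Sections of the ideal vanish on the support. -/
theorem notMem_basicOpen_of_mem_support {Y : Scheme.{u}} (𝓔 : Y.IdealSheafData)
    (U : Y.affineOpens) (a : Γ(Y, U.1)) (ha : a ∈ 𝓔.ideal U) (y : Y) (hyU : y ∈ U.1)
    (hy : y ∈ 𝓔.support) : y ∉ Y.basicOpen a := by
  rw [Scheme.IdealSheafData.mem_support_iff_of_mem hyU, Scheme.mem_zeroLocus_iff] at hy
  exact hy a ha

theorem preimage_closure_inter_closure_eq_empty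
    {X Z X' Z' : Scheme.{u}} (p : Z ⟶ X) (π : X' ⟶ X) (π' : Z' ⟶ Z) (p' : Z' ⟶ X')
    (hcomm : π' ≫ p = p' ≫ π)
    (X₀ : X.Opens) (F : Closeds X) (G : Closeds Z)
    (𝔞 : X.IdealSheafData) (h₁ : Disjoint (𝔞.support : Set X) (X₀ : Set X))
    (h₂ : Scheme.IdealSheafData.vanishingIdeal F ≤ 𝔞)
    (h₃ : 𝔞.comap p ≤ (Scheme.IdealSheafData.vanishingIdeal F).comap p ⊔
      Scheme.IdealSheafData.vanishingIdeal G)
    (hE : BlowUp.IsEffCartierIdeal (𝔞.comap π)) :
    p'.base ⁻¹' closure (π.base ⁻¹' ((F : Set X) ∩ (X₀ : Set X))) ∩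
      closure (π'.base ⁻¹' ((G : Set Z) ∩ (p ⁻¹ᵁ X₀ : Set Z))) = ∅ := by
  rw [Set.eq_empty_iff_forall_notMem]
  rintro z' ⟨hz1, hz2⟩
  have hz1' : p' z' ∈ closure (π.base ⁻¹' ((F : Set X) ∩ (X₀ : Set X))) := hz1
  have hpt : ∀ y : Z', p (π' y) = π (p' y) := by
    intro y
    rw [← Scheme.Hom.comp_apply, ← Scheme.Hom.comp_apply, hcomm]
  -- choose the affine opens
  obtain ⟨V, hV, hxV, -⟩ := Opens.isBasis_iff_nbhd.mp X.isBasis_affineOpens
    (show π (p' z') ∈ (⊤ : X.Opens) from trivial)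
  obtain ⟨W, hxW, hWV, t, ht, hW⟩ := exists_generator_le (𝔞.comap π) hE (p' z') (π ⁻¹ᵁ V) hxV
  have hzV : π' z' ∈ p ⁻¹ᵁ V := by
    change p (π' z') ∈ V
    rw [hpt]; exact hxV
  obtain ⟨VZ, hVZ, hzVZ, hVZle⟩ := Opens.isBasis_iff_nbhd.mp Z.isBasis_affineOpens hzV
  obtain ⟨W', hW', hzW', hW'le⟩ := Opens.isBasis_iff_nbhd.mp Z'.isBasis_affineOpens
    (show z' ∈ p' ⁻¹ᵁ W.1 ⊓ π' ⁻¹ᵁ VZ from ⟨hxW, hzVZ⟩)
  have e1 : W' ≤ p' ⁻¹ᵁ W.1 := hW'le.trans inf_le_left
  have e2 : W' ≤ π' ⁻¹ᵁ VZ := hW'le.trans inf_le_right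
  set IF := Scheme.IdealSheafData.vanishingIdeal F with hIF
  set IG := Scheme.IdealSheafData.vanishingIdeal G with hIG
  set φ := (p'.appLE W.1 W' e1).hom with hφ
  -- ideal computations
  have hI : (IF.comap π).ideal W ≤ Ideal.span {t} := by
    rw [← hW]; exact Scheme.IdealSheafData.comap_mono π h₂ W
  have hE' : ((𝔞.comap π).comap p').ideal ⟨W', hW'⟩ = Ideal.span {φ t} := by
    rw [ideal_comap_of_le p' _ ⟨W', hW'⟩ W e1, hW, Ideal.map_span, Set.image_singleton]
  have hIc : ((IF.comap π).comap p').ideal ⟨W', hW'⟩ = ((IF.comap π).ideal W).map φ :=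
    ideal_comap_of_le p' _ ⟨W', hW'⟩ W e1
  have hle : (𝔞.comap π).comap p' ≤ (IF.comap π).comap p' ⊔ IG.comap π' := by
    rw [← Scheme.IdealSheafData.comap_comp, ← Scheme.IdealSheafData.comap_comp, ← hcomm,
      Scheme.IdealSheafData.comap_comp, Scheme.IdealSheafData.comap_comp,
      ← Scheme.IdealSheafData.comap_sup]
    exact Scheme.IdealSheafData.comap_mono π' h₃
  have hmem : φ t ∈ ((IF.comap π).ideal W).map φ ⊔ (IG.comap π').ideal ⟨W', hW'⟩ := by
    have := hle ⟨W', hW'⟩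
    rw [Scheme.IdealSheafData.ideal_sup, Pi.sup_apply, hE', hIc] at this
    exact this (Ideal.mem_span_singleton_self _)
  -- supports
  have hsuppE : ∀ y : X', π y ∈ X₀ → y ∉ (𝔞.comap π).support := by
    intro y hy h
    rw [Scheme.IdealSheafData.support_comap] at h
    exact Set.disjoint_left.mp h₁ h hy
  -- Claim A
  have hA : ∀ a ∈ (IF.comap π).ideal W, ∃ c ∈ vanishAt W.1 (p' z') hxW, c * t = a := by
    intro a ha
    obtain ⟨c, hc⟩ := Ideal.mem_span_singleton'.mp (hI ha)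
    refine ⟨c, ?_, hc⟩
    rw [mem_vanishAt_iff]
    intro hxc
    obtain ⟨y, hyc, hyS⟩ := mem_closure_iff.mp hz1' _ (X'.basicOpen c).2 hxc
    have hyW : y ∈ W.1 := X'.basicOpen_le c hyc
    have hyt : y ∈ X'.basicOpen t :=
      mem_basicOpen_of_notMem_support _ W t hW y hyW (hsuppE y hyS.2)
    have hya : y ∉ X'.basicOpen a := by
      apply notMem_basicOpen_of_mem_support (IF.comap π) W a ha y hyW
      rw [Scheme.IdealSheafData.support_comap]
      change π y ∈ ((Scheme.IdealSheafData.vanishingIdeal F).support : Set X)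
      rw [Scheme.IdealSheafData.coe_support_vanishingIdeal]
      exact hyS.1
    apply hya
    rw [← hc, Scheme.basicOpen_mul]
    exact ⟨hyc, hyt⟩
  -- φ maps vanishAt to vanishAt
  have hφv : ∀ c ∈ vanishAt W.1 (p' z') hxW, φ c ∈ vanishAt W' z' hzW' := by
    intro c hc
    rw [mem_vanishAt_iff] at hc ⊢
    rw [hφ, Scheme.basicOpen_appLE]
    rintro ⟨-, h⟩
    exact hc h
  have hmap : ((IF.comap π).ideal W).map φ ≤ Ideal.span {φ t} * vanishAt W' z' hzW' := by
    rw [Ideal.map_le_iff_le_comap]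
    intro a ha
    obtain ⟨c, hc, hca⟩ := hA a ha
    rw [Ideal.mem_comap, ← hca, map_mul, mul_comm (φ c)]
    exact Ideal.mul_mem_mul (Ideal.mem_span_singleton_self _) (hφv c hc)
  obtain ⟨u, hu, g, hg, hug⟩ := Submodule.mem_sup.mp hmem
  obtain ⟨j, hj, hju⟩ := Ideal.mem_span_singleton_mul.mp (hmap hu)
  have hgeq : g = φ t * (1 - j) := by
    rw [mul_sub, mul_one, hju, ← hug]; ring
  have hz'j : z' ∈ Z'.basicOpen (1 - j) := one_sub_mem_basicOpen W' z' hzW' j hj
  obtain ⟨y, hyj, hyT⟩ := mem_closure_iff.mp hz2 _ (Z'.basicOpen (1 - j)).2 hz'j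
  have hyW' : y ∈ W' := Z'.basicOpen_le _ hyj
  have hyg : y ∉ Z'.basicOpen g := by
    apply notMem_basicOpen_of_mem_support (IG.comap π') ⟨W', hW'⟩ g hg y hyW'
    rw [Scheme.IdealSheafData.support_comap]
    change π' y ∈ ((Scheme.IdealSheafData.vanishingIdeal G).support : Set Z)
    rw [Scheme.IdealSheafData.coe_support_vanishingIdeal]
    exact hyT.1
  have hyt : y ∈ Z'.basicOpen (φ t) := by
    apply mem_basicOpen_of_notMem_support _ ⟨W', hW'⟩ (φ t) hE' y hyW'
    intro h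
    rw [Scheme.IdealSheafData.support_comap] at h
    refine hsuppE (p' y) ?_ h
    rw [← hpt]
    exact hyT.2
  apply hyg
  rw [hgeq, Scheme.basicOpen_mul]
  exact ⟨hyt, hyj⟩

end Groth.Agent.Lib.Helper93.BlowUpClosure
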