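import Groth.Agent.Lib.Helper93.BlowUpClosure

/-!
# Separating closures after blowing up a sum of two ideals (helper93)
-/

set_option autoImplicit false
universe u

open CategoryTheory CategoryTheory.Limits AlgebraicGeometry TopologicalSpace

namespace Groth.Agent.Lib.Helper93.BlowUpClosure

open Groth.Agent.Lib.Helper18 Groth.Agent.H8.EffCartier

theorem disjoint_closure_preimage_closure
    {X Z X' Z' : Scheme.{u}} (p : Z ⟶ X) (q : X' ⟶ X) (p₁ : Z' ⟶ Z) (p₂ : Z' ⟶ X')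
    (hcomm : p₁ ≫ p = p₂ ≫ q) (U V : X.Opens) (T : Set Z) (K : Z.IdealSheafData)
    (hT : T ⊆ (K.support : Set Z)) (hTU : ∀ z ∈ T, p z ∈ U)
    (𝓘₁ 𝓘₂ : X.IdealSheafData)
    (h₁ : (V : Set X) \ (U : Set X) ⊆ (𝓘₁.support : Set X))
    (h₁' : Disjoint (𝓘₁.support : Set X) (U : Set X))
    (h₂ : (𝓘₂.support : Set X) ⊆ (𝓘₁.support : Set X) \ (V : Set X))
    (hincl : 𝓘₂.comap p ≤ 𝓘₁.comap p ⊔ K)
    (hE : BlowUp.IsEffCartierIdeal ((𝓘₁ ⊔ 𝓘₂).comap q)) :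
    Disjoint (closure ((fun z => p₁ z) ⁻¹' T))
      ((fun z => p₂ z) ⁻¹' closure ((fun x' => q x') ⁻¹' ((V : Set X) \ (U : Set X)))) := by
  rw [Set.disjoint_left]
  intro z' hz2 hz1
  have hz1' : p₂ z' ∈ closure ((fun x' => q x') ⁻¹' ((V : Set X) \ (U : Set X))) := hz1
  have hpt : ∀ y : Z', p (p₁ y) = q (p₂ y) := by
    intro y
    rw [← Scheme.Hom.comp_apply, ← Scheme.Hom.comp_apply, hcomm]
  -- choose the affine opens
  obtain ⟨V₀, hV₀, hxV, -⟩ := Opens.isBasis_iff_nbhd.mp X.isBasis_affineOpens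
    (show q (p₂ z') ∈ (⊤ : X.Opens) from trivial)
  obtain ⟨W, hxW, hWV, t, ht, hW⟩ :=
    exists_generator_le ((𝓘₁ ⊔ 𝓘₂).comap q) hE (p₂ z') (q ⁻¹ᵁ V₀) hxV
  have hzV : p₁ z' ∈ p ⁻¹ᵁ V₀ := by
    change p (p₁ z') ∈ V₀
    rw [hpt]; exact hxV
  obtain ⟨VZ, hVZ, hzVZ, hVZle⟩ := Opens.isBasis_iff_nbhd.mp Z.isBasis_affineOpens hzV
  obtain ⟨W', hW', hzW', hW'le⟩ := Opens.isBasis_iff_nbhd.mp Z'.isBasis_affineOpens
    (show z' ∈ p₂ ⁻¹ᵁ W.1 ⊓ p₁ ⁻¹ᵁ VZ from ⟨hxW, hzVZ⟩)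
  have e1 : W' ≤ p₂ ⁻¹ᵁ W.1 := hW'le.trans inf_le_left
  have e2 : W' ≤ p₁ ⁻¹ᵁ VZ := hW'le.trans inf_le_right
  set φ := (p₂.appLE W.1 W' e1).hom with hφ
  set E := (𝓘₁ ⊔ 𝓘₂).comap q with hEdef
  -- ideal computations
  have hsup : (𝓘₁.comap q).ideal W ⊔ (𝓘₂.comap q).ideal W = Ideal.span {t} := by
    rw [← hW, hEdef, Scheme.IdealSheafData.comap_sup, Scheme.IdealSheafData.ideal_sup, Pi.sup_apply]
  have hI₁ : (𝓘₁.comap q).ideal W ≤ Ideal.span {t} := hsup ▸ le_sup_left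
  have hI₂ : (𝓘₂.comap q).ideal W ≤ Ideal.span {t} := hsup ▸ le_sup_right
  have hE' : (E.comap p₂).ideal ⟨W', hW'⟩ = Ideal.span {φ t} := by
    rw [ideal_comap_of_le p₂ _ ⟨W', hW'⟩ W e1, hW, Ideal.map_span, Set.image_singleton]
  have hIc₁ : ((𝓘₁.comap q).comap p₂).ideal ⟨W', hW'⟩ = ((𝓘₁.comap q).ideal W).map φ :=
    ideal_comap_of_le p₂ _ ⟨W', hW'⟩ W e1
  have hIc₂ : ((𝓘₂.comap q).comap p₂).ideal ⟨W', hW'⟩ = ((𝓘₂.comap q).ideal W).map φ :=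
    ideal_comap_of_le p₂ _ ⟨W', hW'⟩ W e1
  have hle : (𝓘₂.comap q).comap p₂ ≤ (𝓘₁.comap q).comap p₂ ⊔ K.comap p₁ := by
    rw [← Scheme.IdealSheafData.comap_comp, ← Scheme.IdealSheafData.comap_comp, ← hcomm,
      Scheme.IdealSheafData.comap_comp, Scheme.IdealSheafData.comap_comp,
      ← Scheme.IdealSheafData.comap_sup]
    exact Scheme.IdealSheafData.comap_mono p₁ hincl
  have hle' : ((𝓘₂.comap q).ideal W).map φ ≤
      ((𝓘₁.comap q).ideal W).map φ ⊔ (K.comap p₁).ideal ⟨W', hW'⟩ := by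
    have := hle ⟨W', hW'⟩
    rwa [Scheme.IdealSheafData.ideal_sup, Pi.sup_apply, hIc₁, hIc₂] at this
  -- supports
  have hsuppE : ∀ y : X', q y ∈ V → y ∉ E.support := by
    intro y hy h
    rw [hEdef, Scheme.IdealSheafData.support_comap, Scheme.IdealSheafData.support_sup] at h
    exact (h₂ h.2).2 hy
  have hsuppE' : ∀ y : X', q y ∈ U → y ∉ E.support := by
    intro y hy h
    rw [hEdef, Scheme.IdealSheafData.support_comap, Scheme.IdealSheafData.support_sup] at h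
    exact Set.disjoint_left.mp h₁' h.1 hy
  -- Claim A
  have hA : ∀ a ∈ (𝓘₁.comap q).ideal W, ∃ c ∈ vanishAt W.1 (p₂ z') hxW, c * t = a := by
    intro a ha
    obtain ⟨c, hc⟩ := Ideal.mem_span_singleton'.mp (hI₁ ha)
    refine ⟨c, ?_, hc⟩
    rw [mem_vanishAt_iff]
    intro hxc
    obtain ⟨y, hyc, hyS⟩ := mem_closure_iff.mp hz1' _ (X'.basicOpen c).2 hxc
    have hyW : y ∈ W.1 := X'.basicOpen_le c hyc
    have hyt : y ∈ X'.basicOpen t :=
      mem_basicOpen_of_notMem_support _ W t hW y hyW (hsuppE y hyS.1)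
    have hya : y ∉ X'.basicOpen a := by
      apply notMem_basicOpen_of_mem_support (𝓘₁.comap q) W a ha y hyW
      rw [Scheme.IdealSheafData.support_comap]
      exact h₁ hyS
    apply hya
    rw [← hc, Scheme.basicOpen_mul]
    exact ⟨hyc, hyt⟩
  -- Claim B
  obtain ⟨a₂, ha₂, u, hu, hua⟩ : ∃ a₂ ∈ (𝓘₂.comap q).ideal W, ∃ u : Γ(X', W.1),
      p₂ z' ∈ X'.basicOpen u ∧ u * t = a₂ := by
    have ht' : t ∈ (𝓘₁.comap q).ideal W ⊔ (𝓘₂.comap q).ideal W := by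
      rw [hsup]; exact Ideal.mem_span_singleton_self _
    obtain ⟨a₁, ha₁, a₂, ha₂, h12⟩ := Submodule.mem_sup.mp ht'
    obtain ⟨c, hc, hca⟩ := hA a₁ ha₁
    obtain ⟨u, hu⟩ := Ideal.mem_span_singleton'.mp (hI₂ ha₂)
    refine ⟨a₂, ha₂, u, ?_, hu⟩
    have h1 : (c + u) * t = 1 * t := by rw [add_mul, hca, hu, one_mul, h12]
    have h2 : c + u = 1 := by
      have := mul_right_mem_nonZeroDivisors_eq_zero_iff ht |>.mp
        (show (c + u - 1) * t = 0 by rw [sub_mul, h1]; ring)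
      exact sub_eq_zero.mp this
    have : u = 1 - c := by rw [← h2]; ring
    rw [this]
    exact one_sub_mem_basicOpen W.1 (p₂ z') hxW c hc
  -- φ maps vanishAt to vanishAt
  have hφv : ∀ c ∈ vanishAt W.1 (p₂ z') hxW, φ c ∈ vanishAt W' z' hzW' := by
    intro c hc
    rw [mem_vanishAt_iff] at hc ⊢
    rw [hφ, Scheme.basicOpen_appLE]
    rintro ⟨-, h⟩
    exact hc h
  have hmap : ((𝓘₁.comap q).ideal W).map φ ≤ Ideal.span {φ t} * vanishAt W' z' hzW' := by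
    rw [Ideal.map_le_iff_le_comap]
    intro a ha
    obtain ⟨c, hc, hca⟩ := hA a ha
    rw [Ideal.mem_comap, ← hca, map_mul, mul_comm (φ c)]
    exact Ideal.mul_mem_mul (Ideal.mem_span_singleton_self _) (hφv c hc)
  have hmem : φ a₂ ∈ ((𝓘₁.comap q).ideal W).map φ ⊔ (K.comap p₁).ideal ⟨W', hW'⟩ :=
    hle' (Ideal.mem_map_of_mem _ ha₂)
  obtain ⟨v, hv, g, hg, hvg⟩ := Submodule.mem_sup.mp hmem
  obtain ⟨j, hj, hjv⟩ := Ideal.mem_span_singleton_mul.mp (hmap hv)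
  have hgeq : g = φ t * (φ u - j) := by
    rw [mul_sub, hjv, ← map_mul, mul_comm t u, hua, ← hvg]; ring
  have hz'u : z' ∈ Z'.basicOpen (φ u - j) := by
    by_contra h
    rw [← mem_vanishAt_iff W' z' hzW'] at h
    have h3 : φ u ∈ vanishAt W' z' hzW' := by
      have := (vanishAt W' z' hzW').add_mem h hj
      simpa using this
    rw [mem_vanishAt_iff, hφ, Scheme.basicOpen_appLE] at h3
    exact h3 ⟨hzW', hu⟩
  obtain ⟨y, hyj, hyT⟩ := mem_closure_iff.mp hz2 _ (Z'.basicOpen (φ u - j)).2 hz'u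
  have hyW' : y ∈ W' := Z'.basicOpen_le _ hyj
  have hyg : y ∉ Z'.basicOpen g := by
    apply notMem_basicOpen_of_mem_support (K.comap p₁) ⟨W', hW'⟩ g hg y hyW'
    rw [Scheme.IdealSheafData.support_comap]
    exact hT hyT
  have hyt : y ∈ Z'.basicOpen (φ t) := by
    apply mem_basicOpen_of_notMem_support _ ⟨W', hW'⟩ (φ t) hE' y hyW'
    intro h
    rw [Scheme.IdealSheafData.support_comap] at h
    refine hsuppE' (p₂ y) ?_ h
    rw [← hpt]
    exact hTU _ hyT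
  apply hyg
  rw [hgeq, Scheme.basicOpen_mul]
  exact ⟨hyt, hyj⟩

end Groth.Agent.Lib.Helper93.BlowUpClosure
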