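import Groth.Agent.Lib.Helper93.BlowUpSeparate
import Groth.Agent.Lib.Helper93.IdealPowerLe

/-!
# Closures after blowing up `𝓘₁ ⊔ 𝓚` and base change (helper93)

The local computation behind the "closure of the preimage" lemma for quasi-dominations.
-/

set_option autoImplicit false
universe u

open CategoryTheory CategoryTheory.Limits AlgebraicGeometry TopologicalSpace

namespace Groth.Agent.Lib.Helper93.BlowUpClosureSep

open Groth.Agent.Lib.Helper93.BlowUpSeparate Groth.Agent.Lib.Helper93.IdealPowerLe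
  Groth.Agent.Lib.Helper18

theorem false_of_mem_closure {X₁ X₂ X₁' P : Scheme.{u}} (q : X₂ ⟶ X₁) (c : X₁' ⟶ X₁)
    (c₂ : P ⟶ X₂) (q' : P ⟶ X₁') (w : c₂ ≫ q = q' ≫ c) (𝓘₁ 𝓚 : X₁.IdealSheafData)
    (hE : BlowUp.IsEffCartierIdeal ((𝓘₁ ⊔ 𝓚).comap c)) (T : Set X₁) (hT : T ⊆ 𝓘₁.support)
    (hT' : Disjoint T ((𝓘₁ ⊔ 𝓚).support : Set X₁)) (z : P) (hz1 : q' z ∈ closure (c ⁻¹' T))
    (A : X₂.affineOpens) (hzA : c₂ z ∈ A.1)
    (hA : (𝓚.comap q).ideal A ≤ (𝓘₁.comap q).ideal A)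
    (O : Set P) (hzO : z ∈ closure O)
    (hO : ∀ y ∈ O, c (q' y) ∉ ((𝓘₁ ⊔ 𝓚).support : Set X₁)) : False := by
  set 𝓐 := 𝓘₁.comap c with h𝓐
  set 𝓑 := 𝓚.comap c with h𝓑
  have hsup : (𝓘₁ ⊔ 𝓚).comap c = 𝓐 ⊔ 𝓑 := Scheme.IdealSheafData.comap_sup _ _ _
  have hsupp : ∀ 𝓙 : X₁.IdealSheafData,
      ((𝓙.comap c).support : Set X₁') = c ⁻¹' (𝓙.support : Set X₁) := by
    intro 𝓙
    rw [Scheme.IdealSheafData.support_comap]
    rfl
  obtain ⟨N', hxN', t, ht, hN'⟩ := hE (q' z)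
  rw [hsup] at hN'
  have h𝓐le : 𝓐.ideal N' ≤ Ideal.span {t} := hN' ▸ (le_sup_left : 𝓐 ≤ 𝓐 ⊔ 𝓑) N'
  -- sub-claim A
  have hA' : ∀ a a' : Γ(X₁', N'.1), a ∈ 𝓐.ideal N' → a' * t = a →
      q' z ∉ X₁'.basicOpen a' := by
    intro a a' ha haa' hmem
    have heq := ideal_basicOpen_eq_of_mul_eq 𝓐 (𝓐 ⊔ 𝓑) le_sup_left N' t hN' a a' ha haa'
    refine notMem_closure_of_ideal_eq 𝓐 (𝓐 ⊔ 𝓑) (X₁'.affineBasicOpen a') heq (c ⁻¹' T) ?_ ?_
      (q' z) hmem hz1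
    · rw [h𝓐, hsupp]
      exact Set.preimage_mono hT
    · rw [← hsup, hsupp]
      exact hT'.preimage _
  -- a small affine neighbourhood of `z`
  obtain ⟨_, ⟨M, hM, rfl⟩, hzM, hMle⟩ := P.isBasis_affineOpens.exists_subset_of_mem_open
    (show z ∈ ((q' ⁻¹ᵁ N'.1 ⊓ c₂ ⁻¹ᵁ A.1 : P.Opens) : Set P) from ⟨hxN', hzA⟩)
    (q' ⁻¹ᵁ N'.1 ⊓ c₂ ⁻¹ᵁ A.1).2
  have e₁ : M ≤ q' ⁻¹ᵁ N'.1 := fun y hy => (hMle hy).1
  have e₂ : M ≤ c₂ ⁻¹ᵁ A.1 := fun y hy => (hMle hy).2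
  set φ := (q'.appLE N'.1 M e₁).hom with hφ
  set ψ := (c₂.appLE A.1 M e₂).hom with hψ
  have h𝓐M : (𝓐.comap q').ideal ⟨M, hM⟩ = (𝓐.ideal N').map φ :=
    ideal_comap_of_le q' 𝓐 ⟨M, hM⟩ N' e₁
  have h𝓔M : ((𝓐 ⊔ 𝓑).comap q').ideal ⟨M, hM⟩ = Ideal.span {φ t} := by
    rw [ideal_comap_of_le q' (𝓐 ⊔ 𝓑) ⟨M, hM⟩ N' e₁, hN', Ideal.map_span, Set.image_singleton]
  have h𝓑le : (𝓑.comap q').ideal ⟨M, hM⟩ ≤ (𝓐.comap q').ideal ⟨M, hM⟩ := by
    have h1 : 𝓑.comap q' = (𝓚.comap q).comap c₂ := by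
      rw [h𝓑, ← Scheme.IdealSheafData.comap_comp, ← Scheme.IdealSheafData.comap_comp, w]
    have h2 : 𝓐.comap q' = (𝓘₁.comap q).comap c₂ := by
      rw [h𝓐, ← Scheme.IdealSheafData.comap_comp, ← Scheme.IdealSheafData.comap_comp, w]
    rw [h1, h2, ideal_comap_of_le c₂ _ ⟨M, hM⟩ A e₂, ideal_comap_of_le c₂ _ ⟨M, hM⟩ A e₂]
    exact Ideal.map_mono hA
  have hmem : φ t ∈ (𝓐.ideal N').map φ := by
    rw [← h𝓐M]
    have h3 : ((𝓐 ⊔ 𝓑).comap q').ideal ⟨M, hM⟩ = (𝓐.comap q').ideal ⟨M, hM⟩ := by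
      rw [Scheme.IdealSheafData.comap_sup, Scheme.IdealSheafData.ideal_sup, Pi.sup_apply,
        sup_eq_left.mpr h𝓑le]
    rw [← h3, h𝓔M]
    exact Ideal.mem_span_singleton_self _
  -- every element of the extended ideal is a multiple of `φ t` with cofactor vanishing at `z`
  have hQ : ∀ m ∈ (𝓐.ideal N').map φ, ∃ u : Γ(P, M), m = u * φ t ∧ z ∉ P.basicOpen u := by
    intro m hm
    rw [Ideal.map] at hm
    induction hm using Submodule.span_induction with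
    | mem m hm =>
      obtain ⟨a, ha, rfl⟩ := hm
      obtain ⟨a', ha'⟩ := Ideal.mem_span_singleton'.mp (h𝓐le ha)
      refine ⟨φ a', by rw [← map_mul, ha'], fun hz => hA' a a' ha ha' ?_⟩
      have := Scheme.basicOpen_appLE q' M N'.1 e₁ a'
      rw [hφ] at hz
      have hz' : z ∈ M ⊓ q' ⁻¹ᵁ X₁'.basicOpen a' := this ▸ hz
      exact hz'.2
    | zero =>
      refine ⟨0, by rw [zero_mul], ?_⟩
      rw [Scheme.basicOpen_zero]
      exact fun h => h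
    | add m₁ m₂ _ _ h₁ h₂ =>
      obtain ⟨u₁, hu₁, hz₁⟩ := h₁
      obtain ⟨u₂, hu₂, hz₂⟩ := h₂
      refine ⟨u₁ + u₂, by rw [add_mul, hu₁, hu₂], fun hz => ?_⟩
      rcases P.basicOpen_add_le u₁ u₂ hz with h | h
      · exact hz₁ h
      · exact hz₂ h
    | smul r m _ h =>
      obtain ⟨u, hu, hz⟩ := h
      refine ⟨r * u, by rw [smul_eq_mul, hu, mul_assoc], fun hz' => hz ?_⟩
      rw [Scheme.basicOpen_mul] at hz'
      exact hz'.2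
  obtain ⟨u, hu, hzu⟩ := hQ (φ t) hmem
  have hz1u : z ∈ P.basicOpen (1 - u) := by
    have h1 : z ∈ P.basicOpen ((1 - u) + u) := by
      rw [sub_add_cancel, Scheme.basicOpen_one]
      exact hzM
    rcases P.basicOpen_add_le (1 - u) u h1 with h | h
    · exact h
    · exact (hzu h).elim
  have hzero : (1 - u) * φ t = 0 := by
    rw [sub_mul, one_mul, ← hu, sub_self]
  -- on `D(1 - u)` the pulled back ideal vanishes
  have h𝓔M' : ((𝓐 ⊔ 𝓑).comap q').ideal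
      (@Scheme.affineBasicOpen P ⟨M, hM⟩ (1 - u)) = ⊥ := by
    rw [← ((𝓐 ⊔ 𝓑).comap q').map_ideal_basicOpen ⟨M, hM⟩ (1 - u), h𝓔M, Ideal.map_span,
      Set.image_singleton]
    set ρ := (P.presheaf.map (homOfLE (P.basicOpen_le (1 - u))).op).hom with hρ
    have hunit : IsUnit (ρ (1 - u)) := RingedSpace.isUnit_res_basicOpen _ (1 - u)
    have h0 : ρ (1 - u) * ρ (φ t) = 0 := by rw [← map_mul, hzero, map_zero]
    rw [hunit.mul_right_eq_zero.mp h0]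
    exact Ideal.span_singleton_eq_bot.mpr rfl
  obtain ⟨y, hyM', hyO⟩ := mem_closure_iff.mp hzO (P.basicOpen (1 - u)) (P.basicOpen (1 - u)).2 hz1u
  apply hO y hyO
  have hy : y ∈ (((𝓐 ⊔ 𝓑).comap q').support : Set P) := by
    rw [SetLike.mem_coe, Scheme.IdealSheafData.mem_support_iff_of_mem
      (U := @Scheme.affineBasicOpen P ⟨M, hM⟩ (1 - u)) hyM', h𝓔M']
    rw [Scheme.mem_zeroLocus_iff]
    intro f hf
    rw [SetLike.mem_coe, Ideal.mem_bot] at hf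
    rw [hf, Scheme.basicOpen_zero]
    exact fun h => h
  rw [Scheme.IdealSheafData.support_comap, ← hsup, Scheme.IdealSheafData.support_comap] at hy
  exact hy

end Groth.Agent.Lib.Helper93.BlowUpClosureSep
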