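import Groth.Agent.Lib.Helper93.BlowUpRegChart
import Groth.Agent.Lib.Helper93.BlowUpLocal
import Groth.Agent.Lib.Helper93.BlowUpProper
import Mathlib.AlgebraicGeometry.Morphisms.Separated

/-!
# A blow-up of `Spec A` in an ideal with `n` generators is covered by `n` affine opens (helper93)
-/

set_option autoImplicit false
universe u

open CategoryTheory CategoryTheory.Limits AlgebraicGeometry TopologicalSpace
open Groth.Agent.Lib.Helper93.BlowUpProjAlg Groth.Agent.Lib.Helper93.BlowUpProj
open Groth.Agent.Lib.Helper93.BlowUpRegAlg Groth.Agent.Lib.Helper93.BlowUpRegChart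

namespace Groth.Agent.Lib.Helper93.BlowUpCover

variable {A : Type u} [CommRing A] {n : ℕ} (f : Fin n → A)

/-- A blow-up of `Spec A` in the ideal generated by `f 0, …, f (n-1)` is covered by `n` affine
opens. -/
theorem exists_affine_cover_of_isBlowUp {X' : Scheme.{u}} (b : X' ⟶ Spec (CommRingCat.of A))
    (hb : BlowUp.IsBlowUp b (idealSheaf (II f))) :
    ∃ U : Fin n → X'.Opens, (∀ k, IsAffineOpen (U k)) ∧ ⨆ k, U k = ⊤ := by
  obtain ⟨θ, -⟩ := Groth.Agent.Lib.Helper93.BlowUpLocal.exists_iso_of_isBlowUp _ b hb
    (p (II f)) isBlowUp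
  refine ⟨fun k => θ.hom ⁻¹ᵁ (chart (f k) (f_mem f k)).opensRange, fun k => ?_, ?_⟩
  · exact (isAffineOpen_opensRange (chart (f k) (f_mem f k))).preimage_of_isIso θ.hom
  · rw [← Scheme.Hom.preimage_iSup, iSup_opensRange_chart_gen]
    rfl

/-- A scheme proper (or just separated) over an affine scheme is separated. -/
theorem isSeparated_of_isSeparated_affine {X' S : Scheme.{u}} [IsAffine S] (b : X' ⟶ S)
    [IsSeparated b] : X'.IsSeparated :=
  ⟨by rw [← terminal.comp_from b]; infer_instance⟩

/-- A finitely generated ideal with `spanFinrank = n` is generated by `n` elements. -/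
theorem exists_fin_span_eq (I : Ideal A) (hI : I.FG) (m : ℕ) (hm : Submodule.spanFinrank I = m) :
    ∃ g : Fin m → A, Ideal.span (Set.range g) = I := by
  have hfin : (Submodule.generators I).Finite := Submodule.FG.finite_generators hI
  have hcard : (Submodule.generators I).ncard = m := by
    rw [Submodule.FG.generators_ncard hI, hm]
  have hcard' : hfin.toFinset.card = m := by
    rw [← hcard, Set.ncard_eq_toFinset_card _ hfin]
  let e := hfin.toFinset.equivFinOfCardEq hcard'
  refine ⟨fun k => (e.symm k : A), ?_⟩
  have : Set.range (fun k => (e.symm k : A)) = Submodule.generators I := by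
    ext x
    constructor
    · rintro ⟨k, rfl⟩
      exact hfin.mem_toFinset.mp (e.symm k).2
    · intro hx
      exact ⟨e ⟨x, hfin.mem_toFinset.mpr hx⟩, by simp⟩
  rw [this]
  exact Submodule.span_generators I

end Groth.Agent.Lib.Helper93.BlowUpCover
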