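import Groth.Agent.Lib.Helper93.BlowUpLocal
import Groth.Agent.Lib.Helper93.IdealClopenCover
import Groth.Agent.H8.EffCartier2
import Groth.Agent.H8.BlowUpOffCenter

/-!
# Blowing up in disjoint centres (helper93)

If `I₁ ⊔ I₂ = ⊤`, the fibre product of the blow-ups of `I₁` and `I₂` is a blow-up of `I₁ * I₂`
(`= I₁ ⊓ I₂`).
-/

set_option autoImplicit false
universe u
open CategoryTheory CategoryTheory.Limits AlgebraicGeometry TopologicalSpace

namespace Groth.Agent.Lib.Helper93.BlowUpDisjoint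

/-- In a pullback square, if `g` is an isomorphism over `U` then `fst` is an isomorphism over
`f ⁻¹ᵁ U`. -/
theorem isIso_fst_restrict {A B X P : Scheme.{u}} {f : A ⟶ X} {g : B ⟶ X} {fst : P ⟶ A}
    {snd : P ⟶ B} (h : IsPullback fst snd f g) (U : X.Opens) [IsIso (g ∣_ U)] :
    IsIso (fst ∣_ (f ⁻¹ᵁ U)) := by
  set W : A.Opens := f ⁻¹ᵁ U with hW
  have hA : IsPullback (fst ∣_ W) (fst ⁻¹ᵁ W).ι W.ι fst := isPullback_morphismRestrict fst W
  have hbig : IsPullback (fst ∣_ W) ((fst ⁻¹ᵁ W).ι ≫ snd) (W.ι ≫ f) g := hA.paste_vert h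
  have hC : IsPullback (g ∣_ U) (g ⁻¹ᵁ U).ι U.ι g := isPullback_morphismRestrict g U
  have hWf : W.ι ≫ f = (f ∣_ U) ≫ U.ι := (morphismRestrict_ι f U).symm
  rw [hWf] at hbig
  let k' : (fst ⁻¹ᵁ W : P.Opens).toScheme ⟶ (g ⁻¹ᵁ U : B.Opens).toScheme :=
    hC.lift ((fst ∣_ W) ≫ (f ∣_ U)) ((fst ⁻¹ᵁ W).ι ≫ snd) (by
      rw [Category.assoc]; exact hbig.w)
  have hk'1 : k' ≫ (g ∣_ U) = (fst ∣_ W) ≫ (f ∣_ U) := hC.lift_fst _ _ _
  have hk'2 : k' ≫ (g ⁻¹ᵁ U).ι = (fst ⁻¹ᵁ W).ι ≫ snd := hC.lift_snd _ _ _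
  rw [← hk'2] at hbig
  have hsmall : IsPullback (fst ∣_ W) k' (f ∣_ U) (g ∣_ U) :=
    IsPullback.of_bot hbig hk'1.symm hC
  exact hsmall.isIso_fst_of_isIso

/-- In a pullback square in which `g` is an isomorphism over `U`, an effective Cartier ideal on `A`
with support over `U` pulls back to an effective Cartier ideal along `fst`. -/
theorem isEffCartierIdeal_comap_fst {A B X P : Scheme.{u}} {f : A ⟶ X} {g : B ⟶ X} {fst : P ⟶ A}
    {snd : P ⟶ B} (h : IsPullback fst snd f g) (U : X.Opens) [IsIso (g ∣_ U)]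
    (K : A.IdealSheafData) (hK : BlowUp.IsEffCartierIdeal K)
    (hsupp : ∀ a : A, a ∈ K.support → f a ∈ U) :
    BlowUp.IsEffCartierIdeal (K.comap fst) := by
  set W₁ : P.Opens := fst ⁻¹ᵁ (f ⁻¹ᵁ U) with hW₁
  set W₂ : P.Opens := fst ⁻¹ᵁ K.support.compl with hW₂
  let σ := {W : P.Opens // W = W₁ ∨ W = W₂}
  refine Groth.Agent.Lib.Helper93.IdealClopenCover.isEffCartierIdeal_of_comap
    (σ := σ) (X := fun W => (W.1 : Scheme.{u})) (fun W => W.1.ι) ?_ _ ?_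
  · rw [eq_top_iff]
    intro z _
    by_cases hz : fst z ∈ K.support
    · refine Opens.mem_iSup.mpr ⟨⟨W₁, Or.inl rfl⟩, ?_⟩
      rw [Scheme.Opens.opensRange_ι]
      exact hsupp _ hz
    · refine Opens.mem_iSup.mpr ⟨⟨W₂, Or.inr rfl⟩, ?_⟩
      rw [Scheme.Opens.opensRange_ι]
      exact hz
  · rintro ⟨W, hW | hW⟩
    · subst hW
      change BlowUp.IsEffCartierIdeal ((K.comap fst).comap W₁.ι)
      rw [← Scheme.IdealSheafData.comap_comp]
      have hiso : IsIso (fst ∣_ (f ⁻¹ᵁ U)) := isIso_fst_restrict h U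
      have e : W₁.ι ≫ fst = (fst ∣_ (f ⁻¹ᵁ U)) ≫ (f ⁻¹ᵁ U).ι := (morphismRestrict_ι fst _).symm
      rw [e]
      exact Groth.Agent.H8.EffCartier.isEffCartierIdeal_comap_of_flat _ K hK
    · subst hW
      change BlowUp.IsEffCartierIdeal ((K.comap fst).comap W₂.ι)
      rw [← Scheme.IdealSheafData.comap_comp, Groth.Agent.H8.comap_eq_top_of_range]
      · exact Groth.Agent.H8.isEffCartierIdeal_top _
      · intro y
        rw [Scheme.Hom.comp_apply]
        exact y.2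

/-- Comaximal ideal sheaves: the intersection is the product. -/
theorem inf_eq_mul_of_sup_eq_top {X : Scheme.{u}} (I₁ I₂ : X.IdealSheafData) (h : I₁ ⊔ I₂ = ⊤) :
    I₁ ⊓ I₂ = I₁ * I₂ := by
  apply Scheme.IdealSheafData.ext
  funext U
  change I₁.ideal U ⊓ I₂.ideal U = I₁.ideal U * I₂.ideal U
  symm
  apply Ideal.mul_eq_inf_of_isCoprime
  rw [Ideal.isCoprime_iff_sup_eq]
  have := congrArg (fun K : X.IdealSheafData => K.ideal U) h
  exact this

/-- The fibre product of the blow-ups in two disjoint centres is a blow-up of the product. -/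
theorem isBlowUp_pullback {X B₁ B₂ : Scheme.{u}} (I₁ I₂ : X.IdealSheafData) (hdisj : I₁ ⊔ I₂ = ⊤)
    (σ₁ : B₁ ⟶ X) (hσ₁ : BlowUp.IsBlowUp σ₁ I₁) (σ₂ : B₂ ⟶ X) (hσ₂ : BlowUp.IsBlowUp σ₂ I₂) :
    BlowUp.IsBlowUp (pullback.fst σ₁ σ₂ ≫ σ₁) (I₁ * I₂) := by
  have hsupp : ∀ x : X, x ∈ I₁.support → x ∈ I₂.support → False := by
    intro x h1 h2
    have h3 : x ∈ (I₁ ⊔ I₂).support := by
      rw [Scheme.IdealSheafData.support_sup]
      exact ⟨h1, h2⟩
    rw [hdisj, Scheme.IdealSheafData.support_top] at h3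
    exact h3
  have iso₁ : IsIso (σ₁ ∣_ I₁.support.compl) := Groth.Agent.H8.blowUp_isIso_off_center I₁ σ₁ hσ₁
  have iso₂ : IsIso (σ₂ ∣_ I₂.support.compl) := Groth.Agent.H8.blowUp_isIso_off_center I₂ σ₂ hσ₂
  have hpb : IsPullback (pullback.fst σ₁ σ₂) (pullback.snd σ₁ σ₂) σ₁ σ₂ :=
    IsPullback.of_hasPullback σ₁ σ₂
  have hmem : ∀ {B : Scheme.{u}} (I : X.IdealSheafData) (σ : B ⟶ X) (a : B),
      a ∈ (I.comap σ).support → σ a ∈ I.support := by
    intro B I σ a ha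
    rw [Scheme.IdealSheafData.support_comap] at ha
    exact ha
  constructor
  · rw [Groth.Agent.Lib.Helper18.comap_mul]
    refine Groth.Agent.H8.EffCartier.isEffCartierIdeal_mul _ _ ?_ ?_
    · rw [Scheme.IdealSheafData.comap_comp]
      refine isEffCartierIdeal_comap_fst hpb I₂.support.compl _ hσ₁.1 ?_
      intro a ha h2
      exact hsupp _ (hmem I₁ σ₁ a ha) h2
    · rw [pullback.condition, Scheme.IdealSheafData.comap_comp]
      refine isEffCartierIdeal_comap_fst hpb.flip I₁.support.compl _ hσ₂.1 ?_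
      intro a ha h1
      exact hsupp _ h1 (hmem I₂ σ₂ a ha)
  · intro Y g hg
    rw [Groth.Agent.Lib.Helper18.comap_mul] at hg
    obtain ⟨hg₁, hg₂⟩ := Groth.Agent.H8.EffCartier.isEffCartierIdeal_of_mul _ _ hg
    obtain ⟨h₁, hh₁, u₁⟩ := hσ₁.2 Y g hg₁
    obtain ⟨h₂, hh₂, u₂⟩ := hσ₂.2 Y g hg₂
    refine ⟨pullback.lift h₁ h₂ (hh₁.trans hh₂.symm), ?_, ?_⟩
    · change pullback.lift h₁ h₂ _ ≫ pullback.fst σ₁ σ₂ ≫ σ₁ = g
      rw [pullback.lift_fst_assoc, hh₁]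
    · intro h' hh'
      change h' ≫ pullback.fst σ₁ σ₂ ≫ σ₁ = g at hh'
      apply pullback.hom_ext
      · rw [pullback.lift_fst]
        exact u₁ _ (by
          change (h' ≫ pullback.fst σ₁ σ₂) ≫ σ₁ = g
          rw [Category.assoc]; exact hh')
      · rw [pullback.lift_snd]
        exact u₂ _ (by
          change (h' ≫ pullback.snd σ₁ σ₂) ≫ σ₂ = g
          rw [Category.assoc, ← pullback.condition]; exact hh')

end Groth.Agent.Lib.Helper93.BlowUpDisjoint
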