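import Groth.Agent.Lib.Helper93.BlowUpExists
import Groth.Agent.Lib.Helper93.BlowUpProper
import Groth.Agent.Lib.Helper93.BlowUpLocal
import Groth.Agent.H8.EffCartier2
import Groth.Agent.H8.EffCartier3

/-!
# Blowing up a product of ideals (helper93)

* `isBlowUp_comp_of_mul`: a blow-up of `𝓘` followed by a blow-up of the inverse image of `𝓚` is a
  blow-up of `𝓘 * 𝓚`.
* `exists_isBlowUp_factor`: a blow-up of `𝓘 * 𝓚` factors through any blow-up of `𝓘`, and the factor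
  is a blow-up of the inverse image of `𝓚`.
-/

set_option autoImplicit false
universe u
open CategoryTheory CategoryTheory.Limits AlgebraicGeometry TopologicalSpace

namespace Groth.Agent.Lib.Helper93.BlowUpProduct

theorem isBlowUp_comp_of_mul {X X₁ X₂ : Scheme.{u}} (𝓘 𝓚 : X.IdealSheafData) (b : X₁ ⟶ X)
    (hb : BlowUp.IsBlowUp b 𝓘) (b' : X₂ ⟶ X₁) (hb' : BlowUp.IsBlowUp b' (𝓚.comap b)) :
    BlowUp.IsBlowUp (b' ≫ b) (𝓘 * 𝓚) := by
  constructor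
  · rw [Groth.Agent.Lib.Helper18.comap_mul, Scheme.IdealSheafData.comap_comp,
      Scheme.IdealSheafData.comap_comp]
    exact Groth.Agent.H8.EffCartier.isEffCartierIdeal_mul _ _
      (Groth.Agent.H8.EffCartier.isEffCartierIdeal_comap_of_isBlowUp _ _ b' hb' hb.1) hb'.1
  · intro Y g hg
    rw [Groth.Agent.Lib.Helper18.comap_mul] at hg
    obtain ⟨hg₁, hg₂⟩ := Groth.Agent.H8.EffCartier.isEffCartierIdeal_of_mul _ _ hg
    obtain ⟨h₁, hh₁, u₁⟩ := hb.2 Y g hg₁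
    have hg₂' : BlowUp.IsEffCartierIdeal ((𝓚.comap b).comap h₁) := by
      rw [← Scheme.IdealSheafData.comap_comp, hh₁]
      exact hg₂
    obtain ⟨h₂, hh₂, u₂⟩ := hb'.2 Y h₁ hg₂'
    refine ⟨h₂, ?_, ?_⟩
    · change h₂ ≫ b' ≫ b = g
      rw [← Category.assoc, hh₂, hh₁]
    · intro h' hh'
      change h' ≫ b' ≫ b = g at hh'
      have e1 : h' ≫ b' = h₁ := u₁ _ (by
        change (h' ≫ b') ≫ b = g
        rw [Category.assoc]; exact hh')
      exact u₂ _ e1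

theorem exists_isBlowUp_factor {X X' X₁ : Scheme.{u}} (𝓘 𝓚 : X.IdealSheafData) (c : X' ⟶ X)
    (hc : BlowUp.IsBlowUp c (𝓘 * 𝓚)) (b : X₁ ⟶ X) (hb : BlowUp.IsBlowUp b 𝓘) :
    ∃ g : X' ⟶ X₁, g ≫ b = c ∧ BlowUp.IsBlowUp g (𝓚.comap b) := by
  obtain ⟨X₂, b', hb'⟩ := Groth.Agent.Lib.Helper93.BlowUpExists.exists_isBlowUp (𝓚.comap b)
  have h2 := isBlowUp_comp_of_mul 𝓘 𝓚 b hb b' hb'
  obtain ⟨θ, hθ⟩ := Groth.Agent.Lib.Helper93.BlowUpLocal.exists_iso_of_isBlowUp _ c hc (b' ≫ b) h2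
  refine ⟨θ.hom ≫ b', by rw [Category.assoc]; exact hθ, ?_⟩
  exact Groth.Agent.Lib.Helper93.BlowUpProper.isBlowUp_iso_comp _ θ b' hb'

end Groth.Agent.Lib.Helper93.BlowUpProduct
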