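import Groth.Agent.Lib.Helper93.BlowUpProjAlg
import Groth.Agent.Lib.Helper93.IdealClopenCover
import Groth.Agent.Lib.Helper18.IdealComap
import Groth.Agent.H8.EffCartier
import Groth.Prelude.Def_BlowUp2
import Mathlib.AlgebraicGeometry.ProjectiveSpectrum.Basic

/-!
# `Proj` of the Rees algebra is a blow-up of `Spec A` (helper93)
-/

set_option autoImplicit false
universe u

open CategoryTheory CategoryTheory.Limits AlgebraicGeometry TopologicalSpace
open Groth.Agent.Lib.Helper93.BlowUpProjAlg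

namespace Groth.Agent.Lib.Helper93.BlowUpProj

variable {A : Type u} [CommRing A]

/-! ### Morphisms to an affine scheme and their ring maps -/

/-- The ring map `A → Γ(V, ⊤)` of a morphism `V ⟶ Spec A`. -/
noncomputable def toΓ {V : Scheme.{u}} (g : V ⟶ Spec (CommRingCat.of A)) : A →+* Γ(V, ⊤) :=
  g.appTop.hom.comp (Scheme.ΓSpecIso (CommRingCat.of A)).inv.hom

lemma ofHom_toΓ {V : Scheme.{u}} (g : V ⟶ Spec (CommRingCat.of A)) :
    CommRingCat.ofHom (toΓ g) = (Scheme.ΓSpecIso (CommRingCat.of A)).inv ≫ g.appTop := rfl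

lemma toSpecΓ_SpecMap_toΓ {V : Scheme.{u}} (g : V ⟶ Spec (CommRingCat.of A)) :
    V.toSpecΓ ≫ Spec.map (CommRingCat.ofHom (toΓ g)) = g := by
  rw [ofHom_toΓ, Spec.map_comp, ← Scheme.toSpecΓ_naturality_assoc,
    toSpecΓ_SpecMap_ΓSpecIso_inv, Category.comp_id]

lemma hom_ext_toΓ {V : Scheme.{u}} (g₁ g₂ : V ⟶ Spec (CommRingCat.of A)) (h : toΓ g₁ = toΓ g₂) :
    g₁ = g₂ := by
  rw [← toSpecΓ_SpecMap_toΓ g₁, ← toSpecΓ_SpecMap_toΓ g₂, h]

lemma toΓ_comp_SpecMap {B : Type u} [CommRing B] {V : Scheme.{u}}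
    (k : V ⟶ Spec (CommRingCat.of B)) (ψ : A →+* B) :
    toΓ (k ≫ Spec.map (CommRingCat.ofHom ψ)) = (toΓ k).comp ψ := by
  have h : CommRingCat.ofHom (toΓ (k ≫ Spec.map (CommRingCat.ofHom ψ))) =
      CommRingCat.ofHom ((toΓ k).comp ψ) := by
    rw [ofHom_toΓ, CommRingCat.ofHom_comp, ofHom_toΓ, Scheme.Hom.comp_appTop,
      ← Category.assoc, ← Scheme.ΓSpecIso_inv_naturality, Category.assoc]
  exact congrArg CommRingCat.Hom.hom h

/-! ### The ideal sheaf of an ideal and its pullbacks -/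

/-- The ideal sheaf on `Spec A` of an ideal `I`. -/
noncomputable abbrev idealSheaf (I : Ideal A) : (Spec (CommRingCat.of A)).IdealSheafData :=
  Scheme.IdealSheafData.ofIdealTop (I.map (Scheme.ΓSpecIso (CommRingCat.of A)).inv.hom)

lemma ideal_comap_top (I : Ideal A) {V : Scheme.{u}} [IsAffine V]
    (g : V ⟶ Spec (CommRingCat.of A)) :
    ((idealSheaf I).comap g).ideal ⟨⊤, isAffineOpen_top V⟩ = I.map (toΓ g) := by
  rw [Groth.Agent.Lib.Helper18.ideal_comap_top_of_isAffine]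
  have h1 : (idealSheaf I).ideal ⟨⊤, isAffineOpen_top _⟩ =
      I.map (Scheme.ΓSpecIso (CommRingCat.of A)).inv.hom :=
    (Scheme.IdealSheafData.equivOfIsAffine (X := Spec (CommRingCat.of A))).apply_symm_apply _
  rw [h1, Ideal.map_map]
  rfl

lemma map_mem_nonZeroDivisors_of_iso {R S : CommRingCat.{u}} (e : R ≅ S) (x : R)
    (hx : x ∈ nonZeroDivisors R) : e.hom.hom x ∈ nonZeroDivisors S := by
  refine (mem_nonZeroDivisors_iff_right (M₀ := S)).mpr ?_
  intro z hz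
  have h1 : e.inv.hom z * x = 0 := by
    have := congrArg e.inv.hom hz
    rw [map_mul, map_zero] at this
    rw [← this]
    congr 1
    change x = (e.hom ≫ e.inv).hom x
    rw [Iso.hom_inv_id]; rfl
  have h2 := (mem_nonZeroDivisors_iff_right.mp hx) _ h1
  have := congrArg e.hom.hom h2
  rw [map_zero] at this
  rw [← this]
  change z = (e.inv ≫ e.hom).hom z
  rw [Iso.inv_hom_id]; rfl

/-- On an affine scheme, an ideal sheaf whose global ideal is generated by a nonzerodivisor is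
effective Cartier. -/
lemma isEffCartierIdeal_of_top {V : Scheme.{u}} [IsAffine V] (K : V.IdealSheafData)
    (t : Γ(V, ⊤)) (ht : t ∈ nonZeroDivisors Γ(V, ⊤))
    (h : K.ideal ⟨⊤, isAffineOpen_top V⟩ = Ideal.span {t}) : BlowUp.IsEffCartierIdeal K :=
  fun _ => ⟨⟨⊤, isAffineOpen_top V⟩, trivial, t, ht, h⟩

lemma isEffCartierIdeal_comap_SpecMap (I : Ideal A) {B : Type u} [CommRing B] (ψ : A →+* B)
    (b : B) (hb : b ∈ nonZeroDivisors B) (h : I.map ψ = Ideal.span {b}) :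
    BlowUp.IsEffCartierIdeal ((idealSheaf I).comap (Spec.map (CommRingCat.ofHom ψ))) := by
  refine isEffCartierIdeal_of_top _ ((Scheme.ΓSpecIso (CommRingCat.of B)).inv.hom b)
    (map_mem_nonZeroDivisors_of_iso (Scheme.ΓSpecIso (CommRingCat.of B)).symm b hb) ?_
  rw [ideal_comap_top]
  have h1 : toΓ (Spec.map (CommRingCat.ofHom ψ)) =
      ((Scheme.ΓSpecIso (CommRingCat.of B)).inv.hom).comp ψ := by
    have := toΓ_comp_SpecMap (𝟙 (Spec (CommRingCat.of B))) ψ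
    rw [Category.id_comp] at this
    rw [this]
    congr 1
  rw [h1, ← Ideal.map_map, h, Ideal.map_span, Set.image_singleton]

/-! ### `Proj` of the Rees algebra -/

variable (I : Ideal A)

/-- `Proj` of the Rees algebra. -/
noncomputable abbrev P : Scheme.{u} := Proj (Rees.deg (reesAlgebra I))

/-- The structure morphism `Proj R(I) ⟶ Spec A`. -/
noncomputable def p : P I ⟶ Spec (CommRingCat.of A) :=
  Proj.toSpecZero (Rees.deg (reesAlgebra I)) ≫
    Spec.map (CommRingCat.ofHom (algebraMap A (Rees.deg (reesAlgebra I) 0)))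

variable {I}

/-- The chart `Spec B_a ⟶ Proj R(I)`. -/
noncomputable abbrev chart (a : A) (ha : a ∈ I) : Spec (CommRingCat.of (B a ha)) ⟶ P I :=
  Proj.awayι (Rees.deg (reesAlgebra I)) (gen a ha) (gen_mem a ha) Nat.one_pos

lemma chart_p (a : A) (ha : a ∈ I) :
    chart a ha ≫ p I = Spec.map (CommRingCat.ofHom (ψ a ha)) := by
  rw [p, Proj.awayι_toSpecZero_assoc, ← Spec.map_comp]
  rfl

lemma opensRange_chart (a : A) (ha : a ∈ I) :
    (chart a ha).opensRange = Proj.basicOpen (Rees.deg (reesAlgebra I)) (gen a ha) :=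
  Proj.opensRange_awayι _ _ _ _

lemma mono_add (n : ℕ) (c d : A) (hc : c ∈ I ^ n) (hd : d ∈ I ^ n) :
    mono I n (c + d) (add_mem hc hd) = mono I n c hc + mono I n d hd := by
  apply Subtype.ext
  change Polynomial.monomial n (c + d) = Polynomial.monomial n c + Polynomial.monomial n d
  rw [map_add]

lemma mono_succ_mem_span (n : ℕ) (c : A) (hc : c ∈ I ^ (n + 1)) :
    mono I (n + 1) c hc ∈ Ideal.span (Set.range fun a : I => gen a.1 a.2) := by
  have hc' : c ∈ I ^ n * I := by rwa [← pow_succ]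
  have key : ∀ (c : A) (hc' : c ∈ I ^ n * I),
      mono I (n + 1) c (by rwa [pow_succ]) ∈
        Ideal.span (Set.range fun a : I => gen a.1 a.2) := by
    intro c hc'
    refine Submodule.mul_induction_on' (C := fun c hc' => mono I (n + 1) c (by rwa [pow_succ]) ∈
        Ideal.span (Set.range fun a : I => gen a.1 a.2)) ?_ ?_ hc'
    · intro d hd a ha
      have : mono I (n + 1) (d * a) (by rw [pow_succ]; exact Ideal.mul_mem_mul hd ha) =
          mono I n d hd * gen a ha := by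
        rw [gen, mono_mul_mono]
      rw [this]
      exact Ideal.mul_mem_left _ _ (Ideal.subset_span ⟨⟨a, ha⟩, rfl⟩)
    · intro x hx y hy hx' hy'
      have := mono_add (I := I) (n + 1) x y (by rwa [pow_succ]) (by rwa [pow_succ])
      rw [this]
      exact add_mem hx' hy'
  exact key c hc'

lemma irrelevant_le_span :
    (HomogeneousIdeal.irrelevant (Rees.deg (reesAlgebra I))).toIdeal ≤
      Ideal.span (Set.range fun a : I => gen a.1 a.2) := by
  classical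
  intro x hx
  rw [← DirectSum.sum_support_decompose (Rees.deg (reesAlgebra I)) x]
  refine Ideal.sum_mem _ fun n hn => ?_
  have hn0 : n ≠ 0 := by
    rintro rfl
    rw [DFinsupp.mem_support_iff] at hn
    apply hn
    have h0 : GradedRing.proj (Rees.deg (reesAlgebra I)) 0 x = 0 :=
      (HomogeneousIdeal.mem_irrelevant_iff _ x).mp hx
    rw [GradedRing.proj_apply] at h0
    exact Subtype.ext h0
  obtain ⟨m, rfl⟩ := Nat.exists_eq_succ_of_ne_zero hn0
  have hmem := (DirectSum.decompose (Rees.deg (reesAlgebra I)) x (m + 1)).2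
  rw [eq_mono_of_mem I hmem]
  exact mono_succ_mem_span m _ _

lemma iSup_opensRange_chart : ⨆ a : I, (chart a.1 a.2).opensRange = ⊤ := by
  simp_rw [opensRange_chart]
  exact Proj.iSup_basicOpen_eq_top _ _ irrelevant_le_span

/-- The inverse image of `I` on `Proj R(I)` is effective Cartier. -/
theorem isEffCartierIdeal_comap_p : BlowUp.IsEffCartierIdeal ((idealSheaf I).comap (p I)) := by
  refine Groth.Agent.Lib.Helper93.IdealClopenCover.isEffCartierIdeal_of_comap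
    (fun a : I => chart a.1 a.2) iSup_opensRange_chart _ fun a => ?_
  rw [← Scheme.IdealSheafData.comap_comp, chart_p]
  exact isEffCartierIdeal_comap_SpecMap I (ψ a.1 a.2) _ (ψ_mem_nonZeroDivisors a.1 a.2)
    (map_ψ_eq a.1 a.2)


/-! ### Local existence of lifts -/

/-- On an affine scheme over `Spec A` on which `I` becomes principal generated by a
nonzerodivisor, there is a lift to `Proj R(I)`. -/
theorem exists_lift_of_isAffine {V : Scheme.{u}} [IsAffine V] (g : V ⟶ Spec (CommRingCat.of A))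
    (t : Γ(V, ⊤)) (ht : t ∈ nonZeroDivisors Γ(V, ⊤))
    (h : ((idealSheaf I).comap g).ideal ⟨⊤, isAffineOpen_top V⟩ = Ideal.span {t}) :
    ∃ k : V ⟶ P I, k ≫ p I = g := by
  have hI' : I.map (toΓ g) = Ideal.span {t} := by rw [← ideal_comap_top, h]
  refine ⟨Proj.fromOfGlobalSections (Rees.deg (reesAlgebra I)) (rho I (toΓ g) t hI'.le ht)
    (map_irrelevant_rho (toΓ g) t ht hI'), ?_⟩
  rw [p, Proj.fromOfGlobalSections_toSpecZero_assoc, ← Spec.map_comp]
  conv_rhs => rw [← toSpecΓ_SpecMap_toΓ g]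
  congr 2
  ext c
  exact rho_algebraMap (toΓ g) t hI'.le ht c


/-! ### Uniqueness of lifts -/

lemma mem_nonZeroDivisors_of_span_eq {C : Type*} [CommRing C] (x t : C)
    (ht : t ∈ nonZeroDivisors C) (h : Ideal.span {x} = Ideal.span {t}) :
    x ∈ nonZeroDivisors C := by
  have h1 : t ∈ Ideal.span {x} := h ▸ Ideal.mem_span_singleton_self t
  obtain ⟨v, hv⟩ := Ideal.mem_span_singleton'.mp h1
  rw [← hv] at ht
  exact (mul_mem_nonZeroDivisors.mp ht).2

/-- Two lifts on an affine scheme, each landing in a chart, agree. -/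
theorem hom_ext_of_isAffine {V : Scheme.{u}} [IsAffine V] (g : V ⟶ Spec (CommRingCat.of A))
    (t : Γ(V, ⊤)) (ht : t ∈ nonZeroDivisors Γ(V, ⊤))
    (h : ((idealSheaf I).comap g).ideal ⟨⊤, isAffineOpen_top V⟩ = Ideal.span {t})
    (k₁ k₂ : V ⟶ P I) (e₁ : k₁ ≫ p I = g) (e₂ : k₂ ≫ p I = g)
    (a₁ : A) (ha₁ : a₁ ∈ I) (a₂ : A) (ha₂ : a₂ ∈ I)
    (r₁ : Set.range k₁.base ⊆ Set.range (chart a₁ ha₁).base)
    (r₂ : Set.range k₂.base ⊆ Set.range (chart a₂ ha₂).base) : k₁ = k₂ := by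
  have hI' : I.map (toΓ g) = Ideal.span {t} := by rw [← ideal_comap_top, h]
  -- the lifts to the charts
  set l₁ := IsOpenImmersion.lift (chart a₁ ha₁) k₁ r₁ with hl₁
  set l₂ := IsOpenImmersion.lift (chart a₂ ha₂) k₂ r₂ with hl₂
  have fac₁ : l₁ ≫ chart a₁ ha₁ = k₁ := IsOpenImmersion.lift_fac _ _ _
  have fac₂ : l₂ ≫ chart a₂ ha₂ = k₂ := IsOpenImmersion.lift_fac _ _ _
  have hφ₁ : toΓ g = (toΓ l₁).comp (ψ a₁ ha₁) := by
    rw [← toΓ_comp_SpecMap, ← chart_p, ← Category.assoc, fac₁, e₁]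
  have hφ₂ : toΓ g = (toΓ l₂).comp (ψ a₂ ha₂) := by
    rw [← toΓ_comp_SpecMap, ← chart_p, ← Category.assoc, fac₂, e₂]
  have hs₁ : Ideal.span {toΓ g a₁} = Ideal.span {t} := by
    rw [← hI', hφ₁, ← Ideal.map_map, map_ψ_eq, Ideal.map_span, Set.image_singleton]
    rfl
  have hs₂ : Ideal.span {toΓ g a₂} = Ideal.span {t} := by
    rw [← hI', hφ₂, ← Ideal.map_map, map_ψ_eq, Ideal.map_span, Set.image_singleton]
    rfl
  have hn₂ : toΓ g a₂ ∈ nonZeroDivisors Γ(V, ⊤) := mem_nonZeroDivisors_of_span_eq _ t ht hs₂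
  -- the unit argument
  set q := HomogeneousLocalization.Away.isLocalizationElem (gen_mem a₁ ha₁) (gen_mem a₂ ha₂)
    with hq
  have hq1 : toΓ l₁ q * toΓ g a₁ = toΓ g a₂ := by
    have := congrArg (toΓ l₁) (isLocalizationElem_mul a₁ ha₁ a₂ ha₂)
    rw [map_mul] at this
    rw [hφ₁]
    exact this
  have hunit : IsUnit (toΓ l₁ q) := by
    have h1 : toΓ g a₁ ∈ Ideal.span {toΓ g a₂} := by
      rw [hs₂, ← hs₁]; exact Ideal.mem_span_singleton_self _
    obtain ⟨w, hw⟩ := Ideal.mem_span_singleton'.mp h1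
    have h2 : (toΓ l₁ q * w - 1) * toΓ g a₂ = 0 := by
      rw [sub_mul, one_mul, mul_assoc, hw, hq1, sub_self]
    have h3 : toΓ l₁ q * w = 1 :=
      sub_eq_zero.mp ((mem_nonZeroDivisors_iff_right.mp hn₂) _ h2)
    exact IsUnit.of_mul_eq_one _ h3
  have r₁' : Set.range k₁.base ⊆ Set.range (chart a₂ ha₂).base := by
    have h0 : (chart a₁ ha₁) ⁻¹ᵁ Proj.basicOpen (Rees.deg (reesAlgebra I)) (gen a₂ ha₂) =
        (Spec (CommRingCat.of (B a₁ ha₁))).basicOpen
          ((Scheme.ΓSpecIso (CommRingCat.of (B a₁ ha₁))).inv.hom q) :=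
      (Proj.awayι_preimage_basicOpen (Rees.deg (reesAlgebra I)) (gen_mem a₁ ha₁) Nat.one_pos
          (gen_mem a₂ ha₂) Nat.one_pos).trans
        (basicOpen_eq_of_affine (R := CommRingCat.of (B a₁ ha₁)) q).symm
    have h1 : k₁ ⁻¹ᵁ (chart a₂ ha₂).opensRange = ⊤ := by
      rw [← fac₁, Scheme.Hom.comp_preimage, opensRange_chart, h0, Scheme.preimage_basicOpen]
      exact Scheme.basicOpen_of_isUnit _ hunit
    rintro _ ⟨v, rfl⟩
    have : v ∈ k₁ ⁻¹ᵁ (chart a₂ ha₂).opensRange := h1 ▸ trivial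
    exact this
  set l₁' := IsOpenImmersion.lift (chart a₂ ha₂) k₁ r₁' with hl₁'
  have fac₁' : l₁' ≫ chart a₂ ha₂ = k₁ := IsOpenImmersion.lift_fac _ _ _
  have hφ₁' : toΓ g = (toΓ l₁').comp (ψ a₂ ha₂) := by
    rw [← toΓ_comp_SpecMap, ← chart_p, ← Category.assoc, fac₁', e₁]
  have hκ : toΓ l₁' = toΓ l₂ := by
    refine BlowUpProjAlg.hom_ext a₂ ha₂ _ _ (hφ₁'.symm.trans hφ₂) ?_
    have : toΓ l₁' (ψ a₂ ha₂ a₂) = toΓ g a₂ := by rw [hφ₁']; rfl
    rw [this]
    exact hn₂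
  rw [← fac₁', ← fac₂, hom_ext_toΓ _ _ hκ]


/-- Transfer of a local generator on an affine open `U` to the global sections of the scheme `U`. -/
lemma exists_top_generator {Y : Scheme.{u}} (K : Y.IdealSheafData) (U : Y.affineOpens)
    (f : Γ(Y, U.1)) (hf : f ∈ nonZeroDivisors Γ(Y, U.1)) (hU : K.ideal U = Ideal.span {f}) :
    haveI : IsAffine (U.1 : Scheme.{u}) := U.2
    ∃ t : Γ((U.1 : Scheme.{u}), ⊤), t ∈ nonZeroDivisors Γ((U.1 : Scheme.{u}), ⊤) ∧
      (K.comap U.1.ι).ideal ⟨⊤, isAffineOpen_top (U.1 : Scheme.{u})⟩ = Ideal.span {t} := by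
  have : IsAffine (U.1 : Scheme.{u}) := U.2
  have e : (⊤ : (U.1 : Scheme.{u}).Opens) ≤ U.1.ι ⁻¹ᵁ U.1 := by
    rw [Scheme.Opens.ι_preimage_self]
  obtain ⟨hn, hid⟩ := Groth.Agent.H8.EffCartier.comap_generator_of_flat U.1.ι K U f hf hU
    ⟨⊤, isAffineOpen_top _⟩ e
  exact ⟨_, hn, hid⟩

/-- Uniqueness of lifts to `Proj R(I)`. -/
theorem hom_ext_of_isEffCartier {Y : Scheme.{u}} (g : Y ⟶ Spec (CommRingCat.of A))
    (hg : BlowUp.IsEffCartierIdeal ((idealSheaf I).comap g)) (h₁ h₂ : Y ⟶ P I)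
    (e₁ : h₁ ≫ p I = g) (e₂ : h₂ ≫ p I = g) : h₁ = h₂ := by
  have key : ∀ y : Y, ∃ U : Y.Opens, y ∈ U ∧ U.ι ≫ h₁ = U.ι ≫ h₂ := by
    intro y
    obtain ⟨a₁, hy₁⟩ : ∃ a : I, h₁ y ∈ (chart a.1 a.2).opensRange := by
      have : h₁ y ∈ (⊤ : (P I).Opens) := trivial
      rw [← iSup_opensRange_chart] at this
      exact Opens.mem_iSup.mp this
    obtain ⟨a₂, hy₂⟩ : ∃ a : I, h₂ y ∈ (chart a.1 a.2).opensRange := by
      have : h₂ y ∈ (⊤ : (P I).Opens) := trivial
      rw [← iSup_opensRange_chart] at this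
      exact Opens.mem_iSup.mp this
    obtain ⟨U, hyU, hUW, f, hf, hU⟩ := Groth.Agent.H8.EffCartier.exists_generator_le _ hg y
      (h₁ ⁻¹ᵁ (chart a₁.1 a₁.2).opensRange ⊓ h₂ ⁻¹ᵁ (chart a₂.1 a₂.2).opensRange) ⟨hy₁, hy₂⟩
    refine ⟨U.1, hyU, ?_⟩
    have : IsAffine (U.1 : Scheme.{u}) := U.2
    obtain ⟨t, ht, hid⟩ := exists_top_generator _ U f hf hU
    rw [← Scheme.IdealSheafData.comap_comp] at hid
    refine hom_ext_of_isAffine (U.1.ι ≫ g) t ht hid (U.1.ι ≫ h₁) (U.1.ι ≫ h₂)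
      (by rw [Category.assoc, e₁]) (by rw [Category.assoc, e₂]) a₁.1 a₁.2 a₂.1 a₂.2 ?_ ?_
    · rintro _ ⟨v, rfl⟩
      exact (hUW v.2).1
    · rintro _ ⟨v, rfl⟩
      exact (hUW v.2).2
  choose U hyU hU using key
  exact (Y.openCoverOfIsOpenCover U
    (eq_top_iff.mpr fun y _ => Opens.mem_iSup.mpr ⟨y, hyU y⟩)).hom_ext _ _ fun y => hU y

/-- Existence of lifts to `Proj R(I)`. -/
theorem exists_lift {Y : Scheme.{u}} (g : Y ⟶ Spec (CommRingCat.of A))
    (hg : BlowUp.IsEffCartierIdeal ((idealSheaf I).comap g)) : ∃ h : Y ⟶ P I, h ≫ p I = g := by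
  have key : ∀ y : Y, ∃ (U : Y.Opens) (_ : y ∈ U) (k : (U : Scheme.{u}) ⟶ P I),
      k ≫ p I = U.ι ≫ g := by
    intro y
    obtain ⟨U, hyU, f, hf, hU⟩ := hg y
    have : IsAffine (U.1 : Scheme.{u}) := U.2
    obtain ⟨t, ht, hid⟩ := exists_top_generator _ U f hf hU
    rw [← Scheme.IdealSheafData.comap_comp] at hid
    obtain ⟨k, hk⟩ := exists_lift_of_isAffine (U.1.ι ≫ g) t ht hid
    exact ⟨U.1, hyU, k, hk⟩
  choose U hyU k hk using key
  let 𝒰 := Y.openCoverOfIsOpenCover U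
    (eq_top_iff.mpr fun y _ => Opens.mem_iSup.mpr ⟨y, hyU y⟩)
  let k' : ∀ y : 𝒰.I₀, 𝒰.X y ⟶ P I := k
  have hk' : ∀ y : 𝒰.I₀, k' y ≫ p I = 𝒰.f y ≫ g := hk
  have compat : ∀ x y : 𝒰.I₀, pullback.fst (𝒰.f x) (𝒰.f y) ≫ k' x =
      pullback.snd (𝒰.f x) (𝒰.f y) ≫ k' y := by
    intro x y
    refine hom_ext_of_isEffCartier (pullback.fst (𝒰.f x) (𝒰.f y) ≫ 𝒰.f x ≫ g) ?_ _ _ ?_ ?_
    · rw [← Category.assoc, Scheme.IdealSheafData.comap_comp]
      exact Groth.Agent.H8.EffCartier.isEffCartierIdeal_comap_of_flat _ _ hg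
    · rw [Category.assoc, hk']
    · rw [Category.assoc, hk']
      exact (pullback.condition_assoc (f := 𝒰.f x) (g := 𝒰.f y) g).symm
  refine ⟨𝒰.glueMorphisms k' compat, ?_⟩
  refine 𝒰.hom_ext _ _ fun y => ?_
  rw [Scheme.Cover.ι_glueMorphisms_assoc]
  exact hk' y

/-- `Proj` of the Rees algebra of `I` is a blow-up of `Spec A` in `I`. -/
theorem isBlowUp : BlowUp.IsBlowUp (p I) (idealSheaf I) :=
  ⟨isEffCartierIdeal_comap_p, fun _ g hg => by
    obtain ⟨h, hh⟩ := exists_lift g hg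
    exact ⟨h, hh, fun h' hh' => hom_ext_of_isEffCartier g hg h' h hh' hh⟩⟩

end Groth.Agent.Lib.Helper93.BlowUpProj
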