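import Groth.Agent.S2894
import Groth.Agent.S4991
import Groth.Agent.Lib.Helper93.BlowUpRegular
import Groth.Agent.H8.RegImmStalk3

/-!
# The blow-up of a regular scheme along a regular closed subscheme is regular (helper93)
-/

set_option autoImplicit false
universe u

open CategoryTheory CategoryTheory.Limits AlgebraicGeometry TopologicalSpace

namespace Groth.Agent.Lib.Helper93.BlowUpRegReg

variable {X X' Y : Scheme.{u}}

/-- A closed immersion which is a regular closed immersion near every point is one. -/
theorem isRegularClosedImmersion_of_forall_restrict (i : Y ⟶ X) [IsClosedImmersion i]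
    (h : ∀ y : Y, ∃ V : X.Opens, i y ∈ V ∧ Mor2.IsRegularClosedImmersion (i ∣_ V)) :
    Mor2.IsRegularClosedImmersion i := by
  refine ⟨inferInstance, fun z => ?_⟩
  obtain ⟨V, hzV, h⟩ := h z
  obtain ⟨U', hU', hzU', rs, hrs, hrsI⟩ := h.2 ⟨z, hzV⟩
  let W : X.affineOpens := ⟨V.ι ''ᵁ U', hU'.image_of_isOpenImmersion _⟩
  have hzW : i z ∈ W.1 := by
    refine ⟨(i ∣_ V) ⟨z, hzV⟩, hzU', ?_⟩
    simp
  exact ⟨W.1, W.2, hzW, rs, hrs,
    (Scheme.ker_morphismRestrict_ideal i V ⟨U', hU'⟩).symm.trans hrsI⟩

/-- A closed immersion of regular locally Noetherian schemes is a regular closed immersion. -/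
theorem isRegularClosedImmersion_of_regular [IsLocallyNoetherian X] (i : Y ⟶ X)
    [IsClosedImmersion i] (hX : ∀ x : X, IsRegularLocalRing (X.presheaf.stalk x))
    (hY : ∀ y : Y, IsRegularLocalRing (Y.presheaf.stalk y)) :
    Mor2.IsRegularClosedImmersion i :=
  isRegularClosedImmersion_of_forall_restrict i fun y =>
    have := hY y
    (Groth.Agent.H8.RegImmStalk3.regular_near_iff_regular i y).mpr (hX _)

/-- The blow-up of a regular locally Noetherian scheme along a regular closed subscheme is
regular. -/
theorem isRegularLocalRing_stalk_of_isBlowUp [IsLocallyNoetherian X] (i : Y ⟶ X)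
    [IsClosedImmersion i] (hX : ∀ x : X, IsRegularLocalRing (X.presheaf.stalk x))
    (hY : ∀ y : Y, IsRegularLocalRing (Y.presheaf.stalk y))
    (b : X' ⟶ X) (hb : BlowUp.IsBlowUp b i.ker) (z : X') :
    IsRegularLocalRing (X'.presheaf.stalk z) := by
  have hi := isRegularClosedImmersion_of_regular i hX hY
  have hft : BlowUp.IsFiniteTypeIdeal i.ker := fun U => by
    have : IsNoetherianRing Γ(X, U.1) := IsLocallyNoetherian.component_noetherian U
    exact IsNoetherian.noetherian _
  have hproper : IsProper b :=
    Groth.Agent.Lib.Helper93.BlowUpProper.isProper_of_isBlowUp i.ker hft b hb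
  have : IsLocallyNoetherian X' := LocallyOfFiniteType.isLocallyNoetherian b
  have : IsLocallyNoetherian Y := LocallyOfFiniteType.isLocallyNoetherian i
  by_cases hz : b z ∈ i.ker.support
  · have hzE : z ∈ (BlowUp.exceptional b i.ker).support := by
      rw [Scheme.IdealSheafData.support_comap]
      exact hz
    obtain ⟨y'', rfl⟩ : ∃ y'' : (BlowUp.exceptional b i.ker).subscheme,
        (BlowUp.exceptional b i.ker).subschemeι y'' = z := by
      have : z ∈ Set.range (BlowUp.exceptional b i.ker).subschemeι := by
        rw [Scheme.IdealSheafData.range_subschemeι]; exact hzE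
      exact this
    let g : (BlowUp.exceptional b i.ker).subscheme ⟶ Y :=
      Scheme.IdealSheafData.subschemeMap _ _ b (i.ker.le_map_comap b) ≫ inv i.toImage
    have hg : g ≫ i = (BlowUp.exceptional b i.ker).subschemeι ≫ b := by
      have h1 : inv i.toImage ≫ i = i.ker.subschemeι := by
        rw [IsIso.inv_comp_eq]
        exact (Scheme.Hom.toImage_imageι i).symm
      rw [Category.assoc, h1, Scheme.IdealSheafData.subschemeMap_subschemeι]
    have hsm : Smooth g := Groth.Agent.S2894.result i hi b hb g hg
    have hreg : IsRegularLocalRing ((BlowUp.exceptional b i.ker).subscheme.presheaf.stalk y'') :=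
      (Groth.Agent.S4991.result g y'' ⟨⊤, trivial, inferInstance⟩).mpr (hY _)
    exact Groth.Agent.Lib.Helper93.BlowUpRegular.isRegularLocalRing_stalk_subschemeι
      (BlowUp.exceptional b i.ker) hb.1 y''
  · have hiso := Groth.Agent.Lib.Helper93.BlowUpRegular.isIso_stalkMap_of_notMem_support
      i.ker b hb z hz
    have := hX (b z)
    exact IsRegularLocalRing.of_ringEquiv (asIso (b.stalkMap z)).commRingCatIsoToRingEquiv

end Groth.Agent.Lib.Helper93.BlowUpRegReg
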