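import Groth.Agent.Lib.Helper1.Cech.Localizing
import Groth.Agent.Lib.Helper5.CechSES
import Mathlib.Algebra.Homology.Augment
import Mathlib.Algebra.Homology.HomologySequenceLemmas

/-!
# The augmented Čech complex of a presheaf of abelian groups (helper93)

For a family `U : ι → Opens X` and a presheaf `P` of abelian groups, the augmented Čech complex
`E U P` is `P(⊤) → Č⁰(U, P) → Č¹(U, P) → ⋯` (Mathlib's `CochainComplex.augment` applied to Mathlib's
Čech complex, with the augmentation given by restriction from the whole space).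
-/

set_option autoImplicit false
universe u
open CategoryTheory Limits Opposite TopologicalSpace
open Groth.Agent.Lib.Helper1.Cech

namespace Groth.Agent.Lib.Helper93.CechAug

variable {X : TopCat.{u}} {ι : Type u} (U : ι → Opens X) (P : (Opens X)ᵒᵖ ⥤ AddCommGrpCat.{u})

/-- The augmentation `P(⊤) ⟶ Č⁰`. -/
noncomputable def aug : P.obj (op ⊤) ⟶ (K U P).X 0 :=
  Pi.lift (fun x : Fin (0 + 1) → ι => P.map (homOfLE (le_top : inter U x ≤ ⊤)).op)

lemma comp_aug (x : Fin (0 + 1) → ι) (s : P.obj (op ⊤)) :
    comp U P 0 x (aug U P s) = P.map (homOfLE (le_top : inter U x ≤ ⊤)).op s := by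
  unfold comp aug
  erw [← AddCommGrpCat.comp_apply, Pi.lift_π]
  rfl

lemma map_map_apply {W' W V : Opens X} (a : W' ⟶ W) (b : W ⟶ V) (t : P.obj (op V)) :
    P.map a.op (P.map b.op t) = P.map (a ≫ b).op t := by
  rw [op_comp, P.map_comp]
  rfl

lemma d_aug_apply (s : P.obj (op ⊤)) : (K U P).d 0 (0 + 1) (aug U P s) = 0 := by
  refine ext (U := U) (P := P) (q := 0 + 1) (fun x => ?_)
  rw [comp_d, Fin.sum_univ_two, comp_aug, comp_aug, map_zero]
  have h : ∀ (k : Fin (0 + 1 + 1)), P.map (face U x k).op
      (P.map (homOfLE (le_top : inter U (x ∘ k.succAbove) ≤ ⊤)).op s) =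
      P.map (homOfLE (le_top : inter U x ≤ ⊤)).op s := fun k => map_map_apply P _ _ s
  rw [h 0, h 1]
  simp

lemma aug_d : aug U P ≫ (K U P).d 0 1 = 0 := by
  ext s
  exact d_aug_apply U P s

/-- The augmented Čech complex `P(⊤) → Č⁰ → Č¹ → ⋯`. -/
noncomputable def E : CochainComplex AddCommGrpCat.{u} ℕ :=
  (K U P).augment (aug U P) (aug_d U P)

lemma E_X_zero : (E U P).X 0 = P.obj (op ⊤) := rfl

lemma E_X_succ (n : ℕ) : (E U P).X (n + 1) = (K U P).X n := rfl

lemma E_d_zero : (E U P).d 0 1 = aug U P := rfl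

lemma E_d_succ (n m : ℕ) : (E U P).d (n + 1) (m + 1) = (K U P).d n m := rfl

variable {P}

lemma map_aug_apply {Q : (Opens X)ᵒᵖ ⥤ AddCommGrpCat.{u}} (φ : P ⟶ Q) (s : P.obj (op ⊤)) :
    ((cechComplexFunctor U).map φ).f 0 (aug U P s) = aug U Q (φ.app (op ⊤) s) := by
  refine ext (U := U) (P := Q) (q := 0) (fun x => ?_)
  rw [Groth.Agent.Lib.Helper1.Cech.comp_map, comp_aug, comp_aug]
  exact NatTrans.naturality_apply φ _ s

/-- functoriality of the augmented Čech complex. -/
noncomputable def mapE {Q : (Opens X)ᵒᵖ ⥤ AddCommGrpCat.{u}} (φ : P ⟶ Q) : E U P ⟶ E U Q where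
  f
    | 0 => φ.app (op ⊤)
    | n + 1 => ((cechComplexFunctor U).map φ).f n
  comm' i j hij := by
    change i + 1 = j at hij
    subst hij
    cases i with
    | zero =>
      ext s
      exact (map_aug_apply U φ s).symm
    | succ n => exact ((cechComplexFunctor U).map φ).comm n (n + 1)

lemma mapE_f_zero {Q : (Opens X)ᵒᵖ ⥤ AddCommGrpCat.{u}} (φ : P ⟶ Q) :
    (mapE U φ).f 0 = φ.app (op ⊤) := rfl

lemma mapE_f_succ {Q : (Opens X)ᵒᵖ ⥤ AddCommGrpCat.{u}} (φ : P ⟶ Q) (n : ℕ) :
    (mapE U φ).f (n + 1) = ((cechComplexFunctor U).map φ).f n := rfl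

/-- the augmented Čech complex as a functor. -/
noncomputable def Efunctor :
    ((Opens X)ᵒᵖ ⥤ AddCommGrpCat.{u}) ⥤ CochainComplex AddCommGrpCat.{u} ℕ where
  obj P := E U P
  map φ := mapE U φ
  map_id P := by
    ext n : 1
    cases n with
    | zero => rfl
    | succ n =>
      rw [mapE_f_succ, (cechComplexFunctor U).map_id]
      rfl
  map_comp φ ψ := by
    ext n : 1
    cases n with
    | zero => rfl
    | succ n =>
      rw [mapE_f_succ, (cechComplexFunctor U).map_comp]
      rfl

instance Efunctor_preservesZeroMorphisms : (Efunctor U).PreservesZeroMorphisms where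
  map_zero P Q := by
    ext n : 1
    cases n with
    | zero => rfl
    | succ n =>
      change ((cechComplexFunctor U).map (0 : P ⟶ Q)).f n = 0
      rw [Functor.map_zero]
      rfl

open Groth.Agent.Lib.Helper5 in
/-- A short complex of presheaves which is short exact on global sections and on all the finite
intersections of the `U i` induces a short exact sequence of augmented Čech complexes. -/
theorem E_shortExact (S : ShortComplex ((Opens X)ᵒᵖ ⥤ AddCommGrpCat.{u}))
    (h0 : (S.map ((evaluation (Opens X)ᵒᵖ AddCommGrpCat.{u}).obj (op ⊤))).ShortExact)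
    (h : ∀ (n : ℕ) (x : Fin (n + 1) → ι),
      (S.map ((evaluation (Opens X)ᵒᵖ AddCommGrpCat.{u}).obj (op (inter U x)))).ShortExact) :
    (S.map (Efunctor U)).ShortExact := by
  apply HomologicalComplex.shortExact_of_degreewise_shortExact
  intro n
  cases n with
  | zero => exact h0
  | succ n =>
    exact shortExact_piMap (fun x : Fin (n + 1) → ι => S.f.app (op (inter U x)))
      (fun x => S.g.app (op (inter U x)))
      (fun x => (S.map ((evaluation (Opens X)ᵒᵖ AddCommGrpCat.{u}).obj (op (inter U x)))).zero)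
      (fun x => h n x)

variable (P)

lemma E_exactAt_zero_iff :
    (E U P).ExactAt 0 ↔ ∀ s : P.obj (op ⊤), aug U P s = 0 → s = 0 := by
  rw [HomologicalComplex.exactAt_iff' (E U P) 0 0 1 (by simp) (by simp),
    ShortComplex.ab_exact_iff]
  constructor
  · intro h s hs
    obtain ⟨t, ht⟩ := h s hs
    rw [← ht]
    have : (E U P).d 0 0 = 0 := (E U P).shape _ _ (by simp)
    change (E U P).d 0 0 t = 0
    rw [this]
    rfl
  · intro h s hs
    exact ⟨0, by rw [map_zero]; exact (h s hs).symm⟩

lemma E_exactAt_one_iff :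
    (E U P).ExactAt 1 ↔
      ∀ c : (K U P).X 0, (K U P).d 0 1 c = 0 → ∃ s : P.obj (op ⊤), aug U P s = c := by
  rw [HomologicalComplex.exactAt_iff' (E U P) 0 1 2 (by simp) (by simp),
    ShortComplex.ab_exact_iff]
  rfl

lemma E_exactAt_succ_succ_iff (n : ℕ) :
    (E U P).ExactAt (n + 2) ↔ (K U P).ExactAt (n + 1) := by
  rw [HomologicalComplex.exactAt_iff' (E U P) (n + 1) (n + 2) (n + 3) (by simp) (by simp),
    HomologicalComplex.exactAt_iff' (K U P) n (n + 1) (n + 2) (by simp) (by simp)]
  rfl

/-- In degrees `≥ 2` the homology of the augmented complex is Čech cohomology. -/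
noncomputable def EhomologyIso (n : ℕ) :
    (E U P).homology (n + 2) ≅ (K U P).homology (n + 1) :=
  ((E U P).homologyIsoSc' (n + 1) (n + 2) (n + 3) (by simp) (by simp)) ≪≫
    ((K U P).homologyIsoSc' n (n + 1) (n + 2) (by simp) (by simp)).symm

/-- `H⁰` of the augmented complex is the kernel of the augmentation. -/
noncomputable def EhomologyZeroIso :
    (E U P).homology 0 ≅ AddCommGrpCat.of (aug U P).hom.ker :=
  ((E U P).isoHomologyπ 0 0 (by simp) ((E U P).shape _ _ (by simp))).symm ≪≫
    IsLimit.conePointUniqueUpToIso ((E U P).cyclesIsKernel 0 1 (by simp))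
      (kernelIsKernel ((E U P).d 0 1)) ≪≫
    AddCommGrpCat.kernelIsoKer (aug U P)

section Localizing

variable {P}
variable {A : Type*} [CommRing A] (α : Action A P)

omit U in
lemma act_pow_bijective (a : A) (W : (Opens X)ᵒᵖ) (ha : Function.Bijective ((α.act a).app W))
    (n : ℕ) : Function.Bijective ((α.act (a ^ n)).app W) := by
  induction n with
  | zero =>
    have : ⇑(ConcreteCategory.hom ((α.act (a ^ 0)).app W)) = id := by
      funext m
      rw [pow_zero]
      exact α.act_one _ m
    rw [this]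
    exact Function.bijective_id
  | succ n ih =>
    have : ⇑(ConcreteCategory.hom ((α.act (a ^ (n + 1))).app W)) =
        ⇑(ConcreteCategory.hom ((α.act (a ^ n)).app W)) ∘
          ⇑(ConcreteCategory.hom ((α.act a).app W)) := by
      funext m
      rw [pow_succ, α.act_mul]; rfl
    rw [this]
    exact ih.comp ha

/-- the cocycle condition in degree `0`, at `(j, x)`. -/
lemma res_eq_of_cocycle_zero (c : (K U P).X 0) (hc : (K U P).d 0 (0 + 1) c = 0) (j : ι)
    (x : Fin (0 + 1) → ι) :
    res U P (inter U (Fin.cons j x : Fin (0 + 2) → ι)) x (inter_cons_le U j x) c =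
      res U P (inter U (Fin.cons j x : Fin (0 + 2) → ι)) (fun _ => j)
        (le_of_le_of_eq (leOfHom (face U (Fin.cons j x : Fin (0 + 2) → ι) 1))
          (congrArg (inter U) (by funext a; fin_cases a; rfl))) c := by
  have h := comp_d c (Fin.cons j x : Fin (0 + 2) → ι)
  rw [hc, map_zero, Fin.sum_univ_two] at h
  have h0 : (P.map (face U (Fin.cons j x : Fin (0 + 2) → ι) 0).op)
      (comp U P 0 ((Fin.cons j x : Fin (0 + 2) → ι) ∘ (0 : Fin (0 + 2)).succAbove) c) =
      res U P (inter U (Fin.cons j x : Fin (0 + 2) → ι)) x (inter_cons_le U j x) c := by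
    rw [map_comp_eq_res]
    exact res_congr (cons_comp_succAbove_zero j x) _ _ c
  have h1 : (P.map (face U (Fin.cons j x : Fin (0 + 2) → ι) 1).op)
      (comp U P 0 ((Fin.cons j x : Fin (0 + 2) → ι) ∘ (1 : Fin (0 + 2)).succAbove) c) =
      res U P (inter U (Fin.cons j x : Fin (0 + 2) → ι)) (fun _ => j)
        (le_of_le_of_eq (leOfHom (face U (Fin.cons j x : Fin (0 + 2) → ι) 1))
          (congrArg (inter U) (by funext a; fin_cases a; rfl))) c := by
    rw [map_comp_eq_res]
    exact res_congr (by funext a; fin_cases a; rfl) _ _ c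
  rw [h0, h1] at h
  simp only [Fin.val_zero, pow_zero, one_smul, Fin.val_one, pow_one, neg_smul] at h
  exact (add_neg_eq_zero.mp h.symm)

variable (f : ι → A) (i₀ : ι)
  (hbT : Function.Bijective ((α.act (f i₀)).app (op ⊤)))
  (hb : ∀ (q : ℕ) (x : Fin (q + 1) → ι),
    Function.Bijective ((α.act (f i₀)).app (op (inter U x))))
  (hlocT : ∀ x : Fin (0 + 1) → ι, IsLocalizingAt α (f (x 0)) (le_top : inter U x ≤ ⊤))
  (hloc : ∀ (j : ι) (q : ℕ) (y : Fin (q + 1) → ι), IsLocalizingAt α (f j) (inter_cons_le U j y))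

include hbT hlocT in
theorem E_exactAt_zero_of_localizing : (E U P).ExactAt 0 := by
  rw [E_exactAt_zero_iff]
  intro s hs
  have h1 : P.map (homOfLE (le_top : inter U (fun _ : Fin (0 + 1) => i₀) ≤ ⊤)).op s = 0 := by
    rw [← comp_aug, hs, map_zero]
  obtain ⟨N, hN⟩ := (hlocT (fun _ => i₀)).inj s h1
  exact (act_pow_bijective α (f i₀) _ hbT N).1 (by rw [hN, map_zero])

include hbT hb hlocT hloc in
theorem E_exactAt_one_of_localizing : (E U P).ExactAt 1 := by
  rw [E_exactAt_one_iff]
  intro c hc
  obtain ⟨N, t, ht⟩ := (hlocT (fun _ => i₀)).surj (comp U P 0 (fun _ => i₀) c)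
  obtain ⟨s, hs⟩ := (act_pow_bijective α (f i₀) _ hbT N).2 t
  refine ⟨s, ext (U := U) (P := P) (q := 0) (fun x => ?_)⟩
  rw [comp_aug]
  -- the difference restricts to zero on `U_{(i₀, x)}`
  have key : P.map (homOfLE (inter_cons_le U i₀ x)).op
      (P.map (homOfLE (le_top : inter U x ≤ ⊤)).op s - comp U P 0 x c) = 0 := by
    apply (act_pow_bijective α (f i₀) _ (hb (0 + 1) (Fin.cons i₀ x)) N).1
    rw [map_zero, map_sub, map_sub, sub_eq_zero, map_map_apply, α.act_naturality, hs,
      map_comp_eq_res, res_eq_of_cocycle_zero U c hc i₀ x, act_res]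
    unfold res
    simp only [AddMonoidHom.comp_apply]
    rw [α.comp_onK, ← ht]
    erw [map_map_apply]
    rfl
  obtain ⟨N', hN'⟩ := (hloc i₀ 0 x).inj _ key
  have := (act_pow_bijective α (f i₀) _ (hb 0 x) N').1 (by rw [hN', map_zero] :
    (α.act (f i₀ ^ N')).app _ (P.map (homOfLE (le_top : inter U x ≤ ⊤)).op s - comp U P 0 x c) =
      (α.act (f i₀ ^ N')).app _ 0)
  exact sub_eq_zero.mp this

include hbT hb hlocT hloc in
/-- **Acyclicity of the augmented Čech complex** when some member `f i₀` of the family acts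
bijectively and restrictions are localizations. -/
theorem E_exactAt_of_localizing [Finite ι] (n : ℕ) : (E U P).ExactAt n := by
  match n with
  | 0 => exact E_exactAt_zero_of_localizing U α f i₀ hbT hlocT
  | 1 => exact E_exactAt_one_of_localizing U α f i₀ hbT hb hlocT hloc
  | n + 2 =>
    rw [E_exactAt_succ_succ_iff]
    exact exactAt_of_localizing α f (f i₀)
      (Ideal.le_radical (Ideal.subset_span ⟨i₀, rfl⟩)) hb hloc n

end Localizing

section Zero

variable {U P}

/-- if all sections of `P` over `⊤` and over the finite intersections vanish then so do all terms of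
the augmented Čech complex. -/
lemma isZero_E_X (h0 : IsZero (P.obj (op ⊤)))
    (h : ∀ (n : ℕ) (x : Fin (n + 1) → ι), IsZero (P.obj (op (inter U x)))) (n : ℕ) :
    IsZero ((E U P).X n) := by
  cases n with
  | zero => exact h0
  | succ n =>
    rw [E_X_succ]
    refine (AddCommGrpCat.isZero_iff_subsingleton (G := (K U P).X n)).mpr ⟨fun a b => ?_⟩ 
    refine ext (fun x => ?_)
    have := AddCommGrpCat.isZero_iff_subsingleton.mp (h n x)
    exact Subsingleton.elim _ _

/-- if the sections of `P` over the finite intersections vanish then the positive-degree terms of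
the augmented Čech complex vanish. -/
lemma isZero_E_X_succ
    (h : ∀ (n : ℕ) (x : Fin (n + 1) → ι), IsZero (P.obj (op (inter U x)))) (n : ℕ) :
    IsZero ((E U P).X (n + 1)) := by
  rw [E_X_succ]
  refine (AddCommGrpCat.isZero_iff_subsingleton (G := (K U P).X n)).mpr ⟨fun a b => ?_⟩ 
  refine ext (fun x => ?_)
  have := AddCommGrpCat.isZero_iff_subsingleton.mp (h n x)
  exact Subsingleton.elim _ _

end Zero

end Groth.Agent.Lib.Helper93.CechAug
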