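import Groth.Agent.Lib.Helper93.CechKoszul
import Groth.Agent.Lib.Helper5.CechZero
import Groth.Agent.S0455
import Groth.Prelude.Def_Coh

/-!
# `colim_n H^1(f^n; M)` and extension of sections of `M~` (helper93)
-/

set_option autoImplicit false
universe u
open CategoryTheory CategoryTheory.Limits Opposite TopologicalSpace AlgebraicGeometry CohIII
open Groth.Agent.Lib.Helper1.Cech Groth.Agent.Lib.Helper93.CechAug
open Groth.Agent.Lib.Helper93.CechAugSpec Groth.Agent.Lib.Helper93.CechKoszul
open Groth.Agent.Lib.Helper5 Groth.Agent.Lib.Lead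

namespace Groth.Agent.Lib.Helper93.CechKoszulFlasque

variable {R : CommRingCat.{u}} (fs : List R) (M : ModuleCat.{u} R)

/-- the underlying abelian sheaf of `M~`. -/
noncomputable abbrev G : CohTop.Ab (Spec R).toTopCat := Coh.toAb (tilde M)

lemma G_obj : (G M).obj = (tilde M).presheaf := rfl

lemma aug_eq_cechAug_res (t : (tilde M).presheaf.obj (op ⊤)) :
    aug (D fs) (tilde M).presheaf t =
      cechAug (D fs) (G M).obj ((G M).obj.map (homOfLE (le_top : iSup (D fs) ≤ ⊤)).op t) := by
  refine ext (U := D fs) (P := (tilde M).presheaf) (q := 0) (fun x => ?_)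
  rw [comp_aug]
  refine Eq.trans ?_ (cechAug_apply_π (D fs) (G M).obj _ x).symm
  exact (map_map_apply (tilde M).presheaf _ _ t).symm

/-- `colim_n H^1(f^n; M) = 0` iff every section of `M~` over `⋃ D(f_i)` extends to `Spec R`. -/
theorem subsingleton_koszulHLim_one_iff_surjective :
    Subsingleton (koszulHLim fs M 1) ↔
      Function.Surjective ((G M).obj.map (homOfLE (le_top : iSup (D fs) ≤ ⊤)).op) := by
  rw [subsingleton_koszulHLim_one_iff]
  constructor
  · intro h s
    obtain ⟨t, ht⟩ := h (cechAug (D fs) (G M).obj s) (by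
      have := ConcreteCategory.congr_hom (cechAug_d (D fs) (G M).obj) s
      exact this)
    refine ⟨t, cechAug_injective (D fs) (G M) ?_⟩
    rw [← aug_eq_cechAug_res]
    exact ht
  · intro h c hc
    obtain ⟨s, hs⟩ := cechAug_exact (D fs) (G M) c hc
    obtain ⟨t, rfl⟩ := h s
    exact ⟨t, (aug_eq_cechAug_res fs M t).trans hs⟩

/-- for a flasque `M~`, the higher `colim_n H^i(f^n; M)` vanish. -/
theorem subsingleton_koszulHLim_of_isFlasque [TopCat.Sheaf.IsFlasque (G M)] (n : ℕ) :
    Subsingleton (koszulHLim fs M (n + 2)) := by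
  obtain ⟨e⟩ := nonempty_cech_homology_addEquiv fs M n
  have h := Groth.Agent.S0455.result (G M) (D fs) n
  rw [AddCommGrpCat.isZero_iff_subsingleton] at h
  exact e.toEquiv.subsingleton_congr.mp h

lemma mem_iSup_D_iff (x : ↥(Spec R)) :
    x ∈ (iSup (D fs) : (Spec R).Opens) ↔
      ∃ a ∈ fs, a ∉ (show PrimeSpectrum R from x).asIdeal := by
  rw [Opens.mem_iSup]
  constructor
  · rintro ⟨i, hi⟩
    exact ⟨fam fs i, fam_mem fs i, hi⟩
  · rintro ⟨a, ha, hx⟩
    obtain ⟨i, rfl⟩ := List.get_of_mem ha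
    exact ⟨⟨i⟩, hx⟩

/-- on a Noetherian spectrum every open is a finite union of basic opens. -/
lemma exists_eq_iSup_D [NoetherianSpace (PrimeSpectrum R)] (V : (Spec R).Opens) :
    ∃ fs : List R, V = iSup (D fs) := by
  obtain ⟨t, ht⟩ := PrimeSpectrum.isCompact_isOpen_iff.mp
    ⟨NoetherianSpace.isCompact (show Set (PrimeSpectrum R) from V.1), V.isOpen⟩
  refine ⟨t.toList, ?_⟩
  ext x
  rw [SetLike.mem_coe, SetLike.mem_coe, mem_iSup_D_iff]
  have hx : x ∈ V ↔ (show PrimeSpectrum R from x) ∈ (PrimeSpectrum.zeroLocus (t : Set R))ᶜ := by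
    rw [ht]
    rfl
  rw [hx, Set.mem_compl_iff, PrimeSpectrum.mem_zeroLocus, Set.subset_def]
  constructor
  · intro h
    by_contra hcon
    refine h (fun a ha => ?_)
    by_contra hxa
    exact hcon ⟨a, by simpa using ha, hxa⟩
  · rintro ⟨a, ha, hxa⟩ h
    exact hxa (h a (by simpa using ha))

/-- if all sections over finite unions of basic opens extend, `M~` is flasque (Noetherian
spectrum). -/
theorem isFlasque_of_surjective [NoetherianSpace (PrimeSpectrum R)]
    (h : ∀ fs : List R,
      Function.Surjective ((G M).obj.map (homOfLE (le_top : iSup (D fs) ≤ ⊤)).op)) :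
    TopCat.Sheaf.IsFlasque (G M) := by
  constructor
  intro U V i
  induction V with
  | op V =>
    obtain ⟨fs, rfl⟩ := exists_eq_iSup_D V
    rw [AddCommGrpCat.epi_iff_surjective]
    intro s
    obtain ⟨t, rfl⟩ := h fs s
    refine ⟨(G M).obj.map (homOfLE (le_top : U.unop ≤ ⊤)).op t, ?_⟩
    rw [← ConcreteCategory.comp_apply, ← (G M).obj.map_comp]
    rfl

end Groth.Agent.Lib.Helper93.CechKoszulFlasque
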