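import Groth.Agent.Lib.Helper93.IdealClopenCover
import Mathlib.AlgebraicGeometry.Morphisms.Basic

/-!
# Morphisms compatible with two clopen covers (helper93)
-/

set_option autoImplicit false
universe u

open CategoryTheory CategoryTheory.Limits AlgebraicGeometry TopologicalSpace

namespace Groth.Agent.Lib.Helper93.IdealClopenCover

/-- A property local on the target holds as soon as it holds for the base changes to a jointly
surjective family of open immersions, presented by arbitrary pullback squares. -/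
theorem of_isPullback_cover {P : MorphismProperty Scheme.{u}} [IsZariskiLocalAtTarget P]
    {X Y : Scheme.{u}} (f : X ⟶ Y) {σ : Type*} {V W : σ → Scheme.{u}}
    (iY : ∀ j, W j ⟶ Y) [∀ j, IsOpenImmersion (iY j)] (hcov : ∀ y, ∃ j w, iY j w = y)
    (iX : ∀ j, V j ⟶ X) (f' : ∀ j, V j ⟶ W j)
    (h : ∀ j, IsPullback (iX j) (f' j) f (iY j)) (H : ∀ j, P (f' j)) : P f := by
  let 𝒰 : Y.OpenCover := Scheme.Cover.mkOfCovers σ W iY hcov
  refine IsZariskiLocalAtTarget.of_openCover 𝒰 fun j => ?_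
  change P (pullback.snd f (iY j))
  have h1 : (h j).isoPullback.hom ≫ pullback.snd f (iY j) = f' j := (h j).isoPullback_hom_snd
  rw [← P.cancel_left_of_respectsIso (h j).isoPullback.hom, h1]
  exact H j

variable {Y₁ Y₂ : Scheme.{u}} {σ : Type*} {X₁ X₂ : σ → Scheme.{u}}
  (ι₁ : ∀ i, X₁ i ⟶ Y₁) (ι₂ : ∀ i, X₂ i ⟶ Y₂)
  [∀ i, IsOpenImmersion (ι₁ i)] [∀ i, IsOpenImmersion (ι₂ i)]
  (hcov₁ : ⨆ i, (ι₁ i).opensRange = ⊤)
  (hdisj₂ : ∀ i j, i ≠ j → Disjoint ((ι₂ i).opensRange : Set Y₂) ((ι₂ j).opensRange : Set Y₂))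
  (f : ∀ i, X₁ i ⟶ X₂ i) (ψ : Y₁ ⟶ Y₂) (hψ : ∀ i, ι₁ i ≫ ψ = f i ≫ ι₂ i)

include hcov₁ hdisj₂ hψ in
theorem preimage_opensRange_eq (j : σ) : ψ ⁻¹ᵁ (ι₂ j).opensRange = (ι₁ j).opensRange := by
  apply le_antisymm
  · intro y hy
    have hy' : y ∈ ⨆ i, (ι₁ i).opensRange := hcov₁ ▸ trivial
    obtain ⟨k, x, rfl⟩ := Opens.mem_iSup.mp hy'
    by_cases hkj : k = j
    · subst hkj; exact ⟨x, rfl⟩
    · exfalso
      have h1 : ψ (ι₁ k x) ∈ (ι₂ k).opensRange := by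
        rw [← Scheme.Hom.comp_apply, hψ, Scheme.Hom.comp_apply]
        exact ⟨_, rfl⟩
      exact Set.disjoint_left.mp (hdisj₂ k j hkj) h1 hy
  · rintro _ ⟨x, rfl⟩
    change ψ (ι₁ j x) ∈ (ι₂ j).opensRange
    rw [← Scheme.Hom.comp_apply, hψ, Scheme.Hom.comp_apply]
    exact ⟨_, rfl⟩

include hcov₁ hdisj₂ hψ in
theorem isPullback (j : σ) : IsPullback (f j) (ι₁ j) (ι₂ j) ψ :=
  IsOpenImmersion.isPullback _ _ _ _ (hψ j) (preimage_opensRange_eq ι₁ ι₂ hcov₁ hdisj₂ f ψ hψ j)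

include hcov₁ hdisj₂ hψ in
/-- A property local on the target holds for `ψ` if it holds for all the `f i`. -/
theorem of_forall {P : MorphismProperty Scheme.{u}} [IsZariskiLocalAtTarget P]
    (hcov₂ : ⨆ i, (ι₂ i).opensRange = ⊤) (H : ∀ i, P (f i)) : P ψ := by
  refine of_isPullback_cover ψ ι₂ ?_ ι₁ f
    (fun j => (isPullback ι₁ ι₂ hcov₁ hdisj₂ f ψ hψ j).flip) H
  intro y
  have hy' : y ∈ ⨆ i, (ι₂ i).opensRange := hcov₂ ▸ trivial
  obtain ⟨k, x, rfl⟩ := Opens.mem_iSup.mp hy'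
  exact ⟨k, x, rfl⟩

end Groth.Agent.Lib.Helper93.IdealClopenCover
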