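import Groth.Prelude.Def_BlowUp2
import Groth.Agent.Lib.Helper93.FiniteTypeIdeal
import Groth.Agent.H8.EffCartier
import Mathlib.RingTheory.Ideal.Colon
import Mathlib.RingTheory.Localization.Ideal

/-!
# The colon ideal sheaf `(I : E)` for `E` of finite type (helper93)
-/

set_option autoImplicit false
universe u
open CategoryTheory CategoryTheory.Limits AlgebraicGeometry TopologicalSpace

namespace Groth.Agent.Lib.Helper93.ColonIdealSheaf

section Ring

variable {R S : Type*} [CommRing R] [CommRing S] [Algebra R S]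

lemma mem_colon_span_of_forall (I : Ideal R) (T : Set R) (r : R) (h : ∀ t ∈ T, r * t ∈ I) :
    r ∈ I.colon ((Ideal.span T : Ideal R) : Set R) := by
  rw [Submodule.mem_colon]
  intro p hp
  rw [smul_eq_mul]
  induction hp using Submodule.span_induction with
  | mem x hx => exact h x hx
  | zero => rw [mul_zero]; exact I.zero_mem
  | add x y _ _ hx hy => rw [mul_add]; exact I.add_mem hx hy
  | smul a x _ hx =>
    rw [smul_eq_mul, mul_left_comm]
    exact I.mul_mem_left a hx

/-- Colon ideals by a finitely generated ideal commute with localization away from an element. -/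
theorem map_colon_of_fg (f : R) [IsLocalization.Away f S] (I J : Ideal R) (hJ : J.FG) :
    (I.colon (J : Set R)).map (algebraMap R S) =
      (I.map (algebraMap R S)).colon ((J.map (algebraMap R S) : Ideal S) : Set S) := by
  apply le_antisymm
  · rw [Ideal.map_le_iff_le_comap]
    intro r hr
    rw [Ideal.mem_comap, Submodule.mem_colon]
    intro p hp
    have h : Ideal.span {r} * J ≤ I := by
      rw [Ideal.span_singleton_mul_le_iff]
      intro j hj
      have := (Submodule.mem_colon.mp hr) j hj
      rwa [smul_eq_mul] at this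
    have h2 := Ideal.map_mono (f := algebraMap R S) h
    rw [Ideal.map_mul, Ideal.map_span, Set.image_singleton] at h2
    rw [smul_eq_mul]
    exact h2 (Ideal.mul_mem_mul (Ideal.mem_span_singleton_self _) hp)
  · intro s hs
    obtain ⟨⟨r, g⟩, hrg⟩ := IsLocalization.surj (Submonoid.powers f) s
    dsimp at hrg
    -- for each `j ∈ J` some power of `f` times `r j` lies in `I`
    have key : ∀ j ∈ J, ∃ m ∈ Submonoid.powers f, m * r * j ∈ I := by
      intro j hj
      have h1 : s * algebraMap R S j ∈ I.map (algebraMap R S) := by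
        have := (Submodule.mem_colon.mp hs) (algebraMap R S j) (Ideal.mem_map_of_mem _ hj)
        rwa [smul_eq_mul] at this
      have h2 : algebraMap R S (r * j) ∈ I.map (algebraMap R S) := by
        rw [map_mul, ← hrg, mul_assoc, mul_comm (algebraMap R S g.1), ← mul_assoc]
        exact Ideal.mul_mem_right _ _ h1
      obtain ⟨⟨y, m⟩, hy⟩ :=
        (IsLocalization.mem_map_algebraMap_iff (Submonoid.powers f) S).mp h2
      dsimp at hy
      rw [← map_mul] at hy
      obtain ⟨c, hc⟩ := (IsLocalization.eq_iff_exists (Submonoid.powers f) S).mp hy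
      refine ⟨c.1 * m.1, Submonoid.mul_mem _ c.2 m.2, ?_⟩
      have : c.1 * m.1 * r * j = c.1 * (r * j * m.1) := by ring
      rw [this, hc]
      exact I.mul_mem_left _ y.2
    obtain ⟨T, rfl⟩ := hJ
    have key2 : ∀ T' : Finset R, (∀ t ∈ T', ∃ m ∈ Submonoid.powers f, m * r * t ∈ I) →
        ∃ M ∈ Submonoid.powers f, ∀ t ∈ T', M * r * t ∈ I := by
      classical
      intro T'
      induction T' using Finset.induction_on with
      | empty => exact fun _ => ⟨1, Submonoid.one_mem _, fun t ht => absurd ht (Finset.notMem_empty t)⟩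
      | insert a T' ha ih =>
        intro h
        obtain ⟨M, hM, hMT⟩ := ih fun t ht => h t (Finset.mem_insert_of_mem ht)
        obtain ⟨m, hm, hma⟩ := h a (Finset.mem_insert_self a T')
        refine ⟨M * m, Submonoid.mul_mem _ hM hm, fun t ht => ?_⟩
        rcases Finset.mem_insert.mp ht with rfl | ht
        · have : M * m * r * t = M * (m * r * t) := by ring
          rw [this]
          exact I.mul_mem_left _ hma
        · have : M * m * r * t = m * (M * r * t) := by ring
          rw [this]
          exact I.mul_mem_left _ (hMT t ht)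
    obtain ⟨M, hM, hMT⟩ := key2 T fun t ht => key t (Ideal.subset_span ht)
    have hMr : M * r ∈ I.colon ((Ideal.span (T : Set R) : Ideal R) : Set R) :=
      mem_colon_span_of_forall I _ _ fun t ht => hMT t ht
    have hu : IsUnit (algebraMap R S (M * g.1)) :=
      IsLocalization.map_units S (⟨M * g.1, Submonoid.mul_mem _ hM g.2⟩ : Submonoid.powers f)
    have hs2 : s * algebraMap R S (M * g.1) = algebraMap R S (M * r) := by
      rw [map_mul, map_mul, ← hrg]
      ring
    obtain ⟨v, hv⟩ := hu
    have hs3 : s = algebraMap R S (M * r) * ((v⁻¹ : Sˣ) : S) := by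
      rw [← hs2, ← hv, mul_assoc, Units.mul_inv, mul_one]
    rw [hs3]
    exact Ideal.mul_mem_right _ _ (Ideal.mem_map_of_mem _ hMr)

end Ring

variable {X : Scheme.{u}}

/-- Effective Cartier ideal sheaves are of finite type. -/
theorem isFiniteTypeIdeal_of_isEffCartierIdeal (E : X.IdealSheafData)
    (hE : BlowUp.IsEffCartierIdeal E) : BlowUp.IsFiniteTypeIdeal E := by
  intro W
  refine Groth.Agent.Lib.Helper93.FiniteTypeIdeal.fg_of_basicOpen_cover E W fun y hy => ?_
  obtain ⟨V, hyV, t, ht, hV⟩ := hE y
  obtain ⟨r, hr1, hr2⟩ := W.2.exists_basicOpen_le (V := V.1) ⟨y, hyV⟩ hy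
  refine ⟨r, hr2, ?_⟩
  rw [← E.map_ideal (U := X.affineBasicOpen r) (V := V) hr1, hV, Ideal.map_span,
    Set.image_singleton]
  exact Submodule.fg_span_singleton _

/-- The colon ideal sheaf `(I : E)`, for `E` of finite type. -/
noncomputable def colon (I E : X.IdealSheafData) (hE : BlowUp.IsFiniteTypeIdeal E) :
    X.IdealSheafData where
  ideal U := (I.ideal U).colon ((E.ideal U : Ideal Γ(X, U.1)) : Set Γ(X, U.1))
  map_ideal_basicOpen U f := by
    have := U.2.isLocalization_basicOpen f
    rw [← I.map_ideal_basicOpen U f, ← E.map_ideal_basicOpen U f]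
    exact map_colon_of_fg f (I.ideal U) (E.ideal U) (hE U)

@[simp] lemma colon_ideal (I E : X.IdealSheafData) (hE : BlowUp.IsFiniteTypeIdeal E)
    (U : X.affineOpens) :
    (colon I E hE).ideal U = (I.ideal U).colon ((E.ideal U : Ideal Γ(X, U.1)) : Set Γ(X, U.1)) :=
  rfl

lemma colon_mul_le (I E : X.IdealSheafData) (hE : BlowUp.IsFiniteTypeIdeal E) :
    colon I E hE * E ≤ I := by
  intro U
  change (I.ideal U).colon ((E.ideal U : Ideal Γ(X, U.1)) : Set Γ(X, U.1)) * E.ideal U ≤ I.ideal U
  rw [Ideal.mul_le]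
  intro r hr e he
  have := (Submodule.mem_colon.mp hr) e he
  rwa [smul_eq_mul] at this

/-- If `I ≤ E` with `E` effective Cartier then `(I : E) * E = I`. -/
theorem colon_mul_eq (I E : X.IdealSheafData) (hE : BlowUp.IsEffCartierIdeal E) (h : I ≤ E) :
    colon I E (isFiniteTypeIdeal_of_isEffCartierIdeal E hE) * E = I := by
  apply le_antisymm (colon_mul_le I E _)
  let S := {U : X.affineOpens // ∃ e : Γ(X, U.1), E.ideal U = Ideal.span {e}}
  have hcov : ⨆ i : S, (i.1 : X.Opens) = ⊤ := by
    rw [eq_top_iff]
    intro x _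
    obtain ⟨V, hxV, b, hb, hV⟩ := hE x
    exact Opens.mem_iSup.mpr ⟨⟨V, b, hV⟩, hxV⟩
  refine Scheme.IdealSheafData.le_of_iSup_eq_top (fun i : S => i.1) hcov ?_
  rintro ⟨U, e, he⟩
  change I.ideal U ≤
    (I.ideal U).colon ((E.ideal U : Ideal Γ(X, U.1)) : Set Γ(X, U.1)) * E.ideal U
  intro x hx
  have hx' : x ∈ Ideal.span {e} := he ▸ h U hx
  obtain ⟨y, rfl⟩ := Ideal.mem_span_singleton'.mp hx'
  refine Ideal.mul_mem_mul ?_ (he ▸ Ideal.mem_span_singleton_self e)
  rw [he]
  refine mem_colon_span_of_forall _ _ _ ?_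
  intro t ht
  rw [Set.mem_singleton_iff] at ht
  subst ht
  exact hx

end Groth.Agent.Lib.Helper93.ColonIdealSheaf
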