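import Groth.Agent.Lib.Helper93.Comod

/-! # Commuting coactions -/

universe u v v' w w'

open TensorProduct

namespace Groth.Agent.Lib.Helper93.Comod

section Commute

variable {k : Type u} [CommRing k]
variable {C : Type v} [AddCommGroup C] [Module k C]
variable {D : Type v'} [AddCommGroup D] [Module k D]
variable {V : Type w} [AddCommGroup V] [Module k V]

/-- Evaluate `φ ⊗ ψ` on the last two factors of `V ⊗ (C ⊗ D)`. -/
noncomputable def evalTwo (φ : C →ₗ[k] k) (ψ : D →ₗ[k] k) : V ⊗[k] (C ⊗[k] D) →ₗ[k] V :=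
  (TensorProduct.rid k V).toLinearMap ∘ₗ
    ((TensorProduct.lid k k).toLinearMap ∘ₗ TensorProduct.map φ ψ).lTensor V

@[simp] theorem evalTwo_tmul (φ : C →ₗ[k] k) (ψ : D →ₗ[k] k) (v : V) (c : C) (d : D) :
    evalTwo φ ψ (v ⊗ₜ[k] (c ⊗ₜ[k] d)) = (φ c * ψ d) • v := by
  simp [evalTwo]

theorem evalTwo_assoc_tmul (φ : C →ₗ[k] k) (ψ : D →ₗ[k] k) (y : V ⊗[k] C) (d : D) :
    evalTwo φ ψ ((TensorProduct.assoc k V C D) (y ⊗ₜ[k] d)) =
      ψ d • (TensorProduct.rid k V) (φ.lTensor V y) := by
  induction y using TensorProduct.induction_on with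
  | zero => simp
  | tmul v c =>
    simp only [TensorProduct.assoc_tmul, evalTwo_tmul, LinearMap.lTensor_tmul,
      TensorProduct.rid_tmul, smul_smul]
    rw [mul_comm]
  | add y z hy hz =>
    simp only [TensorProduct.add_tmul, map_add, hy, hz, smul_add]

theorem evalTwo_comm (φ : C →ₗ[k] k) (ψ : D →ₗ[k] k) (x : V ⊗[k] (D ⊗[k] C)) :
    evalTwo φ ψ ((TensorProduct.comm k D C).toLinearMap.lTensor V x) = evalTwo ψ φ x := by
  induction x using TensorProduct.induction_on with
  | zero => simp
  | tmul v y =>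
    induction y using TensorProduct.induction_on with
    | zero => simp
    | tmul d c =>
      simp only [LinearMap.lTensor_tmul, LinearEquiv.coe_coe, TensorProduct.comm_tmul, evalTwo_tmul]
      rw [mul_comm]
    | add y z hy hz =>
      simp only [TensorProduct.tmul_add, map_add, hy, hz]
  | add y z hy hz =>
    simp only [map_add, hy, hz]

variable [Coalgebra k C] [Coalgebra k D] [HopfRep.Comod k C V] [HopfRep.Comod k D V]

omit [Coalgebra k D] [HopfRep.Comod k D V] in
/-- The composite `dualAct φ ∘ (id ⊗ ψ)` in terms of the double coaction. -/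
theorem dualAct_rid_lTensor (φ : C →ₗ[k] k) (ψ : D →ₗ[k] k) (x : V ⊗[k] D) :
    dualAct C V φ ((TensorProduct.rid k V) (ψ.lTensor V x)) =
      evalTwo φ ψ ((TensorProduct.assoc k V C D)
        ((HopfRep.Comod.coact (k := k) (A := C) (V := V)).rTensor D x)) := by
  induction x using TensorProduct.induction_on with
  | zero => simp
  | tmul v d =>
    rw [LinearMap.rTensor_tmul, evalTwo_assoc_tmul]
    simp [dualAct_apply]
  | add y z hy hz =>
    simp only [map_add, hy, hz]

/-- If two coactions commute, the actions of linear forms commute. -/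
theorem dualAct_comm_of_commute
    (hcomm : (TensorProduct.assoc k V C D).toLinearMap ∘ₗ
        (HopfRep.Comod.coact (k := k) (A := C) (V := V)).rTensor D ∘ₗ HopfRep.Comod.coact (k := k) (A := D) =
      (TensorProduct.comm k D C).toLinearMap.lTensor V ∘ₗ (TensorProduct.assoc k V D C).toLinearMap ∘ₗ
        (HopfRep.Comod.coact (k := k) (A := D) (V := V)).rTensor C ∘ₗ HopfRep.Comod.coact (k := k) (A := C))
    (φ : C →ₗ[k] k) (ψ : D →ₗ[k] k) (v : V) :
    dualAct C V φ (dualAct D V ψ v) = dualAct D V ψ (dualAct C V φ v) := by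
  have h := LinearMap.congr_fun hcomm v
  simp only [LinearMap.coe_comp, Function.comp_apply, LinearEquiv.coe_coe] at h
  rw [dualAct_apply (A := D) ψ v, dualAct_rid_lTensor, h, evalTwo_comm,
    dualAct_apply (A := C) φ v, dualAct_rid_lTensor]

end Commute

end Groth.Agent.Lib.Helper93.Comod
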