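import Mathlib.Algebra.Homology.DerivedCategory.HomologySequence
import Mathlib.Algebra.Homology.HomotopyCategory.Pretriangulated
import Mathlib.Algebra.Category.ModuleCat.Abelian
import Mathlib.Algebra.Homology.ShortComplex.ModuleCat

/-!
# The long exact cohomology sequence of a mapping cone, elementwise (helper93)

For `φ : K ⟶ L` in `CochainComplex (ModuleCat R) ℤ` the sequence
`H^j(K) → H^j(L) → H^j(cone φ) → H^{j+1}(K) → H^{j+1}(L)` with the connecting map
`coneδ φ j j' h`, its exactness in elementwise form, and its naturality for `mappingCone.map`.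
-/

set_option autoImplicit false
universe u
open CategoryTheory CategoryTheory.Limits CochainComplex HomComplex Pretriangulated
open HomologicalComplex

namespace Groth.Agent.Lib.Helper93.ConeLES

attribute [local instance] HasDerivedCategory.standard

section general

variable {C : Type*} [Category C] [Abelian C]

/-- naturality of the connecting map of a triangle of complexes. -/
lemma homologyδOfTriangle_naturality {T T' : Triangle (CochainComplex C ℤ)} (ψ : T ⟶ T')
    (n₀ n₁ : ℤ) (h : n₀ + 1 = n₁) :
    homologyMap ψ.hom₃ n₀ ≫ homologyδOfTriangle T' n₀ n₁ h =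
      homologyδOfTriangle T n₀ n₁ h ≫ homologyMap ψ.hom₁ n₁ := by
  unfold homologyδOfTriangle
  have h1 : homologyMap ψ.hom₃ n₀ ≫ homologyMap T'.mor₃ n₀ =
      homologyMap T.mor₃ n₀ ≫ homologyMap (ψ.hom₁⟦(1 : ℤ)⟧') n₀ := by
    rw [← homologyMap_comp, ← homologyMap_comp, ψ.comm₃]
  rw [← Category.assoc, h1, Category.assoc, Category.assoc]
  exact congrArg (fun t => homologyMap T.mor₃ n₀ ≫ t)
    (((homologyFunctor C (.up ℤ) 0).shiftIso 1 n₀ n₁ (by lia)).hom.naturality ψ.hom₁)

end general

variable {R : Type u} [Ring R] {K L : CochainComplex (ModuleCat.{u} R) ℤ} (φ : K ⟶ L)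

/-- the connecting map `H^j(cone φ) → H^{j+1}(K)`. -/
noncomputable def coneδ (j j' : ℤ) (h : j + 1 = j') :
    (mappingCone φ).homology j →ₗ[R] K.homology j' :=
  (homologyδOfTriangle (mappingCone.triangle φ) j j' h).hom

lemma coneδ_inr (j j' : ℤ) (h : j + 1 = j') (y : L.homology j) :
    coneδ φ j j' h ((homologyMap (mappingCone.inr φ) j).hom y) = 0 := by
  have := homologyMap_homologyδOfTriangle (mappingCone.triangle φ)
    (DerivedCategory.mappingCone_triangle_distinguished φ) j j' h
  exact congrArg (fun ψ => ψ.hom y) this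

lemma exists_of_coneδ_eq_zero (j j' : ℤ) (h : j + 1 = j') (x : (mappingCone φ).homology j)
    (hx : coneδ φ j j' h x = 0) : ∃ y : L.homology j, (homologyMap (mappingCone.inr φ) j).hom y = x := by
  have := homologyMap_exact₃_of_distTriang (mappingCone.triangle φ)
    (DerivedCategory.mappingCone_triangle_distinguished φ) j j' h
  rw [ShortComplex.moduleCat_exact_iff] at this
  exact this x hx

lemma inr_map (j : ℤ) (z : K.homology j) :
    (homologyMap (mappingCone.inr φ) j).hom ((homologyMap φ j).hom z) = 0 := by
  have := homologyMap_comp_eq_zero_of_distTriang (mappingCone.triangle φ)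
    (DerivedCategory.mappingCone_triangle_distinguished φ) j
  exact congrArg (fun ψ => ψ.hom z) this

lemma exists_of_inr_eq_zero (j : ℤ) (y : L.homology j)
    (hy : (homologyMap (mappingCone.inr φ) j).hom y = 0) :
    ∃ z : K.homology j, (homologyMap φ j).hom z = y := by
  have := homologyMap_exact₂_of_distTriang (mappingCone.triangle φ)
    (DerivedCategory.mappingCone_triangle_distinguished φ) j
  rw [ShortComplex.moduleCat_exact_iff] at this
  exact this y hy

lemma map_coneδ (j j' : ℤ) (h : j + 1 = j') (x : (mappingCone φ).homology j) :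
    (homologyMap φ j').hom (coneδ φ j j' h x) = 0 := by
  have := homologyδOfTriangle_homologyMap (mappingCone.triangle φ)
    (DerivedCategory.mappingCone_triangle_distinguished φ) j j' h
  exact congrArg (fun ψ => ψ.hom x) this

lemma exists_of_map_eq_zero (j j' : ℤ) (h : j + 1 = j') (z : K.homology j')
    (hz : (homologyMap φ j').hom z = 0) : ∃ x : (mappingCone φ).homology j, coneδ φ j j' h x = z := by
  have := homologyMap_exact₁_of_distTriang (mappingCone.triangle φ)
    (DerivedCategory.mappingCone_triangle_distinguished φ) j j' h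
  rw [ShortComplex.moduleCat_exact_iff] at this
  exact this z hz

section naturality

variable {K₁ L₁ K₂ L₂ : CochainComplex (ModuleCat.{u} R) ℤ} (φ₁ : K₁ ⟶ L₁) (φ₂ : K₂ ⟶ L₂)
  (a : K₁ ⟶ K₂) (b : L₁ ⟶ L₂) (comm : φ₁ ≫ b = a ≫ φ₂)

lemma coneδ_map (j j' : ℤ) (h : j + 1 = j') (x : (mappingCone φ₁).homology j) :
    coneδ φ₂ j j' h ((homologyMap (mappingCone.map φ₁ φ₂ a b comm) j).hom x) =
      (homologyMap a j').hom (coneδ φ₁ j j' h x) := by
  have := homologyδOfTriangle_naturality (mappingCone.triangleMap φ₁ φ₂ a b comm) j j' h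
  exact congrArg (fun ψ => ψ.hom x) this

lemma map_inr (j : ℤ) (y : L₁.homology j) :
    (homologyMap (mappingCone.map φ₁ φ₂ a b comm) j).hom
        ((homologyMap (mappingCone.inr φ₁) j).hom y) =
      (homologyMap (mappingCone.inr φ₂) j).hom ((homologyMap b j).hom y) := by
  have h1 : homologyMap (mappingCone.inr φ₁) j ≫
      homologyMap (mappingCone.map φ₁ φ₂ a b comm) j =
      homologyMap b j ≫ homologyMap (mappingCone.inr φ₂) j := by
    rw [← homologyMap_comp, ← homologyMap_comp]
    congr 1
    exact (mappingCone.triangleMap φ₁ φ₂ a b comm).comm₂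
  exact congrArg (fun ψ => ψ.hom y) h1

end naturality

end Groth.Agent.Lib.Helper93.ConeLES
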