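import Mathlib.AlgebraicGeometry.Morphisms.QuasiSeparated
import Mathlib.RingTheory.Spectrum.Prime.ConstructibleSet
import Mathlib.Topology.Constructible

/-!
# Constructible subsets of quasi-compact quasi-separated schemes are quasi-compact (helper93)
-/

set_option autoImplicit false
universe u

open CategoryTheory AlgebraicGeometry TopologicalSpace Topology

namespace Groth.Agent.Lib.Helper93.ConstructibleCompact

/-- A constructible subset of a prime spectrum is quasi-compact. -/
theorem isCompact_of_isConstructible_primeSpectrum {R : Type u} [CommRing R]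
    {s : Set (PrimeSpectrum R)} (hs : IsConstructible s) : IsCompact s := by
  obtain ⟨S, _, f, rfl⟩ := PrimeSpectrum.exists_range_eq_of_isConstructible hs
  exact isCompact_range (PrimeSpectrum.continuous_comap f)

/-- A constructible subset of a quasi-compact quasi-separated scheme is quasi-compact. -/
theorem isCompact_of_isConstructible {Y : Scheme.{u}} [CompactSpace Y] [QuasiSeparatedSpace Y]
    {s : Set Y} (hs : IsConstructible s) : IsCompact s := by
  obtain ⟨t, ht, htop⟩ := (isCompact_iff_finite_and_eq_biUnion_affineOpens (U := (⊤ : Y.Opens))).mp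
    isCompact_univ
  have hs' : s = ⋃ i ∈ t, (s ∩ (i.1 : Set Y)) := by
    rw [← Set.inter_iUnion₂]
    have : (⋃ i ∈ t, (i.1 : Set Y)) = Set.univ := by
      have := congr_arg (fun U : Y.Opens => (U : Set Y)) htop
      simpa using this.symm
    rw [this, Set.inter_univ]
  rw [hs']
  refine ht.isCompact_biUnion fun i _ => ?_
  have h1 : IsConstructible (i.2.fromSpec ⁻¹' s) :=
    hs.preimage_of_isOpenEmbedding i.2.fromSpec.isOpenEmbedding
  have h2 : IsCompact (i.2.fromSpec ⁻¹' s) := isCompact_of_isConstructible_primeSpectrum h1
  have h3 := h2.image i.2.fromSpec.continuous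
  rwa [Set.image_preimage_eq_inter_range, i.2.range_fromSpec] at h3

end Groth.Agent.Lib.Helper93.ConstructibleCompact
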