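import Groth.Agent.Lib.Helper67.CurveInv2
import Groth.Agent.Lib.Helper45.RefHullStalk
import Groth.Agent.Lib.Helper17.HZero
import Groth.Agent.Lib.Lead.CechH1
import Groth.Prelude.Def_Canon

/-!
# `H⁰` on proper curves: left exactness and basic inequalities (helper93)
-/

set_option autoImplicit false
universe u
open AlgebraicGeometry CategoryTheory Limits Opposite TopologicalSpace

namespace Groth.Agent.Lib.Helper93.CurveH0

open Groth.Agent.Lib.Helper17.HZero

variable {X : Scheme.{u}}

/-- `H⁰` of a monomorphism is injective. -/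
theorem hh_zero_injective_of_mono {F E : X.Modules} (i : F ⟶ E) [hi : Mono i] :
    Function.Injective
      (Sheaf.H.map ((SheafOfModules.toSheaf X.ringCatSheaf).map i) 0 :
        Coh.HH X F 0 → Coh.HH X E 0) := by
  intro x y hxy
  have h0 : PreservesFiniteLimits (SheafOfModules.toSheaf.{u} X.ringCatSheaf) := inferInstance
  have h0' : (SheafOfModules.toSheaf.{u} X.ringCatSheaf).PreservesMonomorphisms := inferInstance
  have hmono : Mono ((SheafOfModules.toSheaf X.ringCatSheaf).map i) :=
    @Functor.map_mono _ _ _ _ (SheafOfModules.toSheaf.{u} X.ringCatSheaf) h0' _ _ i hi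
  have hnat := fun z => CategoryTheory.Sheaf.H.equiv₀_naturality
    (CategoryTheory.Limits.isTerminalTop (α := TopologicalSpace.Opens X))
    ((SheafOfModules.toSheaf X.ringCatSheaf).map i) z
  have h1 := hnat x
  have h2 := hnat y
  rw [hxy] at h1
  have h3 := h1.trans h2.symm
  have h4 := Groth.Agent.Lib.Lead.sheaf_sections_injective_of_mono
    ((SheafOfModules.toSheaf X.ringCatSheaf).map i) ⊤ h3
  exact (CategoryTheory.Sheaf.H.equiv₀ (Coh.toAb F)
    (CategoryTheory.Limits.isTerminalTop (α := TopologicalSpace.Opens X))).injective h4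

variable (k : Type u) [Field k] [X.Over (Spec (CommRingCat.of k))]

theorem hhlin_zero_injective_of_mono {F E : X.Modules} (i : F ⟶ E) [Mono i] :
    Function.Injective (Canon.HHlin k i 0) :=
  hh_zero_injective_of_mono i

theorem finrank_HH_zero_le_of_mono {F E : X.Modules} (i : F ⟶ E) [Mono i]
    [Module.Finite k (Coh.HH X E 0)] :
    Module.finrank k (Coh.HH X F 0) ≤ Module.finrank k (Coh.HH X E 0) :=
  LinearMap.finrank_le_finrank_of_injective (hhlin_zero_injective_of_mono k i)

omit [X.Over (Spec (CommRingCat.of k))] in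
theorem nontrivial_HH_zero_structureModule [Nonempty X] :
    Nontrivial (Coh.HH X (Coh.structureModule X) 0) := by
  have : Nontrivial Γ(Coh.structureModule X, ⊤) := by
    change Nontrivial Γ(X, ⊤)
    obtain ⟨x⟩ := ‹Nonempty X›
    by_contra hnt
    rw [not_nontrivial_iff_subsingleton] at hnt
    have : Nontrivial (X.presheaf.stalk x) := inferInstance
    have h01 : (0 : Γ(X, ⊤)) = 1 := Subsingleton.elim _ _
    have := congrArg (X.presheaf.germ ⊤ x trivial).hom h01
    rw [map_zero, map_one] at this
    exact zero_ne_one this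
  exact (hh0Equiv (Coh.structureModule X)).toEquiv.nontrivial

end Groth.Agent.Lib.Helper93.CurveH0
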