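import Groth.Agent.Lib.Helper93.CurveSpecial
import Groth.Agent.Lib.Helper93.CurveTwist3
import Groth.Agent.Lib.Helper1.IdealMod
import Groth.Agent.Lib.Helper49.CohNoeth
import Groth.Agent.Lib.Helper49.StalkNbhd

/-!
# Zero-dimensional subschemes impose independent conditions on line bundles of large degree
(helper93)

`finrank_HH_zero_tensor_idealMod`: on an integral proper curve with `h⁰(O) = 1`, for `L` invertible
of degree `≥ 2g - 1 + d` and an ideal `I` with `h⁰(O/I) = d ≠ 1`:
`h⁰(I ⊗ L) + d = h⁰(L)`.
-/

set_option autoImplicit false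
set_option linter.style.haveILetI false
universe u
open AlgebraicGeometry CategoryTheory Limits Opposite TopologicalSpace Abelian

namespace Groth.Agent.Lib.Helper93.CurveIdeal

open Groth.Agent.Lib.Helper67.EulerLES Groth.Agent.Lib.Helper67.CurveCoh
open Groth.Agent.Lib.Helper67.CurveDeg Groth.Agent.Lib.Helper67.CurveTors
open Groth.Agent.Lib.Helper67.TensRank Groth.Agent.Lib.Helper67.CurveInv
open Groth.Agent.Lib.Helper67.TensZero Groth.Agent.Lib.Helper67.TensExact
open Groth.Agent.Lib.Helper67.ZeroDim
open Groth.Agent.Lib.Helper49 Groth.Agent.Lib.Helper11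
open Groth.Agent.Lib.Helper11.FinFreeAdj Groth.Agent.Lib.Helper11.FinFreeBasis
open Groth.Agent.Lib.Helper11.GenLocus Groth.Agent.Lib.Helper11.TensorMap
open Groth.Agent.Lib.Helper1 Groth.Agent.Lib.Helper93.CurveSpecial
open Groth.Agent.Lib.Helper93.CurveTwist

variable (k : Type u) [Field k] (X : Scheme.{u}) [X.Over (Spec (CommRingCat.of k))]
  [IsIntegral X] [IsProper (X ↘ Spec (CommRingCat.of k))] (hdim : topologicalKrullDim X ≤ 1)

omit [IsProper (X ↘ Spec (CommRingCat.of k))] in
/-- an ideal whose quotient does not have `h⁰ = h⁰(O)` has torsion quotient. -/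
theorem subsingleton_stalk_quotMod (I : X.IdealSheafData)
    (hne : Module.finrank k (Coh.HH X (ClSub.quotMod I) 0) ≠
      Module.finrank k (Coh.HH X (Coh.structureModule X) 0)) :
    Subsingleton ((ClSub.quotMod I).presheaf.stalk (genericPoint X)) := by
  by_contra hns
  apply hne
  have hO1 := rank_one_of_isInvertible (isInvertible_structureModule X)
  have hOfl := isFinLocFree_of_rank hO1
  obtain ⟨f1, g1, r1⟩ := stalk_of_rank hO1 (genericPoint X)
  letI : Field (X.presheaf.stalk (genericPoint X)) :=
    inferInstanceAs (Field X.functionField)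
  have hS := idealModComplex_shortExact I
  haveI := hS.mono_f
  haveI := hS.epi_g
  -- the generic stalk of `π` is injective
  have hsurj : Function.Surjective (stalkMapLinear (ClSub.toSubscheme I) (genericPoint X)) :=
    stalkMap_surjective_of_epi (ClSub.toSubscheme I) (genericPoint X)
  have hinj : Function.Injective (stalkMapLinear (ClSub.toSubscheme I) (genericPoint X)) := by
    obtain ⟨v, hv0, hv⟩ := finrank_eq_one_iff'.mp r1
    have hv' : stalkMapLinear (ClSub.toSubscheme I) (genericPoint X) v ≠ 0 := by
      intro h0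
      apply hns
      refine ⟨fun a b => ?_⟩
      obtain ⟨a', rfl⟩ := hsurj a
      obtain ⟨b', rfl⟩ := hsurj b
      obtain ⟨ca, rfl⟩ := hv a'
      obtain ⟨cb, rfl⟩ := hv b'
      rw [map_smul, map_smul, h0, smul_zero, smul_zero]
    rw [injective_iff_map_eq_zero]
    intro w hw
    obtain ⟨c, rfl⟩ := hv w
    rw [map_smul, smul_eq_zero] at hw
    rcases hw with hc | h0
    · rw [hc, zero_smul]
    · exact absurd h0 hv'
  -- so the ideal vanishes
  have hι0 : ClSub.idealModι I = 0 := by
    apply eq_zero_of_stalkMap_generic_eq_zero hOfl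
    intro a
    apply hinj
    have := stalkMap_eq_zero_of_comp_eq_zero (ClSub.idealModι I) (ClSub.toSubscheme I)
      (kernel.condition _) (genericPoint X) a
    rw [map_zero]
    exact this
  have hz : IsZero (ClSub.idealMod I) := IsZero.of_mono_eq_zero (ClSub.idealModι I) hι0
  haveI : Mono (ClSub.toSubscheme I) := by
    rw [Preadditive.mono_iff_cancel_zero]
    intro P g hg
    have h1 := kernel.lift_ι (ClSub.toSubscheme I) g hg
    have hz' : IsZero (kernel (ClSub.toSubscheme I)) := hz
    rw [← h1, hz'.eq_of_tgt (kernel.lift (ClSub.toSubscheme I) g hg) 0]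
    exact zero_comp
  haveI : IsIso (ClSub.toSubscheme I) := isIso_of_mono_of_epi _
  exact (finrank_HH_eq_of_iso k (asIso (ClSub.toSubscheme I)) 0).symm

include hdim in
/-- **independent conditions**: `h⁰(I ⊗ L) + d = h⁰(L)` for `deg L ≥ 2g - 1 + d`, `d = h⁰(O/I)`
different from `h⁰(O)`. -/
theorem finrank_HH_zero_tensor_idealMod {L : X.Modules} (hL : PicF.IsInvertible L)
    (I : X.IdealSheafData)
    (hne : Module.finrank k (Coh.HH X (ClSub.quotMod I) 0) ≠
      Module.finrank k (Coh.HH X (Coh.structureModule X) 0))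
    (hdeg : 2 * (Curv2.genus k X : ℤ) - 1 +
      (Module.finrank k (Coh.HH X (ClSub.quotMod I) 0) : ℤ) ≤ Curv2.deg k X L 1) :
    Module.finrank k (Coh.HH X (CohB1.tensorMod (ClSub.idealMod I) L) 0) +
        Module.finrank k (Coh.HH X (ClSub.quotMod I) 0) =
      Module.finrank k (Coh.HH X L 0) := by
  haveI : IsNoetherian X :=
    Groth.Agent.Lib.Helper67.CurveP1.isNoetherian_of_proper k (X ↘ Spec (CommRingCat.of k))
  have hO1 := rank_one_of_isInvertible (isInvertible_structureModule X)
  have hL1 := rank_one_of_isInvertible hL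
  have hOcoh := isCoh_of_rank hO1
  have hLcoh := isCoh_of_rank hL1
  have hLfl := isFinLocFree_of_rank hL1
  have hOfl := isFinLocFree_of_rank hO1
  have hS := idealModComplex_shortExact I
  haveI := hS.mono_f
  haveI := hS.epi_g
  have hCcoh : Coh.IsCoh (ClSub.quotMod I) :=
    ⟨isQuasicoherent_quotMod I, isFiniteType_of_epi (ClSub.toSubscheme I) hOcoh.2⟩
  have hAcoh : Coh.IsCoh (ClSub.idealMod I) := by
    haveI := isQuasicoherent_idealMod I
    haveI := hOcoh.1
    exact ⟨inferInstance, isFiniteType_of_mono (ClSub.idealModι I) hOcoh.2⟩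
  have hCξ := subsingleton_stalk_quotMod k X I hne
  have hCsupp : ClosedSupp (ClSub.quotMod I) := closedSupp_of_stalk_generic hdim _ hCξ
  -- tensor with `L`
  haveI := preservesZeroMorphisms_tensR hLfl
  have hST := shortExact_tensR hLfl hS
  have cN : Coh.IsCoh (CohB1.tensorMod (ClSub.idealMod I) L) := isCoh_tensorMod hAcoh hLcoh
  have cOL : Coh.IsCoh (CohB1.tensorMod (Coh.structureModule X) L) := isCoh_tensorMod hOcoh hLcoh
  have cCL : Coh.IsCoh (CohB1.tensorMod (ClSub.quotMod I) L) := isCoh_tensorMod hCcoh hLcoh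
  have hadd := euler_additive_of_coh k X hdim hST cN cOL cCL
  change Curv2.euler k X (CohB1.tensorMod (Coh.structureModule X) L) =
    Curv2.euler k X (CohB1.tensorMod (ClSub.idealMod I) L) +
      Curv2.euler k X (CohB1.tensorMod (ClSub.quotMod I) L) at hadd
  have eOL : Curv2.euler k X (CohB1.tensorMod (Coh.structureModule X) L) = Curv2.euler k X L :=
    euler_eq_of_iso k (unitTensorIso L)
  have eCL : Curv2.euler k X (CohB1.tensorMod (ClSub.quotMod I) L) =
      (Module.finrank k (Coh.HH X (ClSub.quotMod I) 0) : ℤ) := by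
    have g1 := isGood0_of_closedSupp k X _ hCcoh hCsupp
    rw [euler_tensor_of_closedSupp k X L hL1 _ hCcoh hCsupp, euler_eq_of_isGood0 k g1]
    push_cast
    ring
  set d := Module.finrank k (Coh.HH X (ClSub.quotMod I) 0) with hd
  set N := CohB1.tensorMod (ClSub.idealMod I) L with hNdef
  have eN := euler_eq_of_coh k X hdim N cN
  have eL := euler_eq_of_coh k X hdim L hLcoh
  have eO := euler_eq_of_coh k X hdim _ hOcoh
  -- `H¹(L) = 0`
  have hH1L : Subsingleton (Coh.HH X L 1) := by
    apply subsingleton_HH_one_of_deg k X hdim hL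
    have : (0 : ℤ) ≤ (d : ℤ) := Int.natCast_nonneg _
    linarith
  have h1L : Module.finrank k (Coh.HH X L 1) = 0 := Module.finrank_zero_of_subsingleton
  -- `H¹(N) = 0`
  haveI := Groth.Agent.Lib.Helper93.CurveH0.nontrivial_HH_zero_structureModule (X := X)
  haveI fO := finite_HH_of_coh k X hdim _ hOcoh 0
  have hOpos : 0 < Module.finrank k (Coh.HH X (Coh.structureModule X) 0) := Module.finrank_pos
  have hH1N : Subsingleton (Coh.HH X N 1) := by
    by_contra hns
    rw [not_subsingleton_iff_nontrivial] at hns
    haveI fU := finite_HH_of_coh k X hdim N cN 1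
    have hpos : 0 < Module.finrank k (Coh.HH X N 1) := Module.finrank_pos
    have h0 : Module.finrank k (Coh.HH X N 0) ≤ Curv2.genus k X := by
      refine finrank_HH_zero_le_genus k X hdim cN (fun s hs => ?_) hns
      -- `j : N ⟶ O ⊗ L` is a monomorphism
      let j : N ⟶ CohB1.tensorMod (Coh.structureModule X) L :=
        (tensR L).map (ClSub.idealModι I)
      haveI hjm : Mono j := hST.mono_f
      have hsj : s ≫ j ≠ 0 := by
        intro h0
        apply hs
        rw [← cancel_mono j, h0, zero_comp]
      have hOL1 : FlatMod.IsFinLocFreeOfRank 1 (CohB1.tensorMod (Coh.structureModule X) L) :=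
        rank_one_of_isInvertible
          (isInvertible_tensorMod (isInvertible_structureModule X) hL)
      have hbij := stalkMap_generic_bijective_of_ne_zero hO1 hOL1 (s ≫ j) hsj
      have hjinj := stalkMap_injective_of_mono j (genericPoint X)
      have hsinj : Function.Injective (stalkMap s (genericPoint X)).hom := by
        intro a b hab
        apply hbij.1
        rw [stalkMap_comp_apply', stalkMap_comp_apply', hab]
      have hssurj : Function.Surjective (stalkMap s (genericPoint X)).hom := by
        intro n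
        obtain ⟨a, ha⟩ := hbij.2 ((stalkMap j (genericPoint X)).hom n)
        refine ⟨a, hjinj ?_⟩
        rw [← stalkMap_comp_apply', ha]
      exact ⟨mono_of_stalkMap_generic_injective hOfl s hsinj,
        (subsingleton_stalk_cokernel_iff s (genericPoint X)).mpr hssurj⟩
    unfold Curv2.deg at hdeg
    unfold Curv2.genus at hdeg h0
    rw [eL, eO] at hdeg
    rw [eOL, eCL, eN, eL] at hadd
    push_cast at hdeg
    have a1 : (Module.finrank k (Coh.HH X N 0) : ℤ) ≤
        Module.finrank k (Coh.HH X (Coh.structureModule X) 1) := by exact_mod_cast h0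
    have a2 : (1 : ℤ) ≤ Module.finrank k (Coh.HH X N 1) := by exact_mod_cast hpos
    have a3 : (1 : ℤ) ≤ Module.finrank k (Coh.HH X (Coh.structureModule X) 0) := by
      exact_mod_cast hOpos
    have a4 : (Module.finrank k (Coh.HH X L 1) : ℤ) = 0 := by exact_mod_cast h1L
    linarith
  have h1N : Module.finrank k (Coh.HH X N 1) = 0 := Module.finrank_zero_of_subsingleton
  rw [eOL, eCL, eN, eL, h1N, h1L] at hadd
  push_cast at hadd
  have : (Module.finrank k (Coh.HH X N 0) : ℤ) + (d : ℤ) = Module.finrank k (Coh.HH X L 0) := by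
    linarith
  exact_mod_cast this

end Groth.Agent.Lib.Helper93.CurveIdeal
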