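import Groth.Agent.Lib.Helper93.CurveTwist

/-!
# `H⁰` of semistable bundles on integral proper curves: twisting by an ideal (helper93)

* `subsingleton_HH_zero_twist`: `H⁰(N ⊗ G) = 0` if `N` is invertible with inverse `M`,
  `deg M · r > deg G` and all invertible submodules of `G` have slope at most that of `G`.
* `finrank_HH_zero_le_step`: `h⁰(Q^m ⊗ G) ≤ h⁰(Q^{m+1} ⊗ G) + r · h⁰(O / Q)` for an invertible
  ideal `Q ⊆ O`.
* `finrank_HH_zero_le_of_semistable`: `h⁰(G) ≤ n · r · d`.
-/

set_option autoImplicit false
set_option linter.style.haveILetI false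
universe u
open AlgebraicGeometry CategoryTheory Limits Opposite TopologicalSpace Abelian

namespace Groth.Agent.Lib.Helper93.CurveTwist

open Groth.Agent.Lib.Helper67.EulerLES Groth.Agent.Lib.Helper67.CurveCoh
open Groth.Agent.Lib.Helper67.CurveDeg Groth.Agent.Lib.Helper67.CurveTors
open Groth.Agent.Lib.Helper67.TensRank Groth.Agent.Lib.Helper67.CurveInv
open Groth.Agent.Lib.Helper67.TensZero Groth.Agent.Lib.Helper67.TensExact
open Groth.Agent.Lib.Helper67.ZeroDim
open Groth.Agent.Lib.Helper49 Groth.Agent.Lib.Helper11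
open Groth.Agent.Lib.Helper11.FinFreeAdj Groth.Agent.Lib.Helper11.FinFreeBasis
open Groth.Agent.Lib.Helper11.GenLocus Groth.Agent.Lib.Helper11.TensorMap
open Groth.Agent.Lib.Helper11.NegPowers

variable (k : Type u) [Field k] (X : Scheme.{u}) [X.Over (Spec (CommRingCat.of k))]
  [IsIntegral X] [IsProper (X ↘ Spec (CommRingCat.of k))] (hdim : topologicalKrullDim X ≤ 1)

omit [IsProper (X ↘ Spec (CommRingCat.of k))] in
/-- **vanishing of `H⁰` of a negative twist of a semistable bundle**. -/
theorem subsingleton_HH_zero_twist {G : X.Modules} {r : ℕ}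
    (hG : FlatMod.IsFinLocFreeOfRank r G)
    (hss : ∀ (H : X.Modules) (i : H ⟶ G), Mono i → FlatMod.IsFinLocFreeOfRank 1 H →
      Curv2.deg k X H 1 * (r : ℤ) ≤ Curv2.deg k X G r)
    {N M : X.Modules} (hN : PicF.IsInvertible N) (hM : PicF.IsInvertible M)
    (ε : CohB1.tensorMod N M ≅ Coh.structureModule X)
    (hdeg : Curv2.deg k X G r < Curv2.deg k X M 1 * (r : ℤ)) :
    Subsingleton (Coh.HH X (CohB1.tensorMod N G) 0) := by
  by_contra hns
  rw [not_subsingleton_iff_nontrivial] at hns
  obtain ⟨s, hs⟩ := exists_hom_ne_zero_of_nontrivial (CohB1.tensorMod N G) hns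
  set s' : Coh.structureModule X ⟶ CohB1.tensorMod G N := s ≫ (tensorModBraid N G).hom with hs'
  have hs'ne : s' ≠ 0 := by
    intro h0
    apply hs
    have : s = s' ≫ (tensorModBraid N G).inv := by
      rw [hs', Category.assoc, Iso.hom_inv_id, Category.comp_id]
    rw [this, h0, zero_comp]
  have hO1 := rank_one_of_isInvertible (isInvertible_structureModule X)
  have hGN : FlatMod.IsFinLocFree (CohB1.tensorMod G N) :=
    isFinLocFree_tensorMod (isFinLocFree_of_rank hG)
      (isFinLocFree_of_rank (rank_one_of_isInvertible hN))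
  haveI hmono : Mono s' := mono_of_ne_zero_of_rank_one hO1 hGN s' hs'ne
  haveI : Mono (tensorModMap s' (𝟙 M)) := mono_tensorModMap s' hM
  let t : M ⟶ G := (unitTensorIso M).inv ≫ tensorModMap s' (𝟙 M) ≫ (psiIso G ε).hom
  haveI : Mono t := by
    haveI : Mono (tensorModMap s' (𝟙 M) ≫ (psiIso G ε).hom) := mono_comp _ _
    exact mono_comp _ _
  have h := hss M t inferInstance (rank_one_of_isInvertible hM)
  exact absurd hdeg (not_lt.mpr h)

/-- middle term of an exact sequence of finite-dimensional spaces -/
theorem finrank_le_of_range_eq_ker {A B C : Type u} [AddCommGroup A] [AddCommGroup B]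
    [AddCommGroup C] [Module k A] [Module k B] [Module k C] [Module.Finite k A]
    [Module.Finite k B] [Module.Finite k C] (f : A →ₗ[k] B) (g : B →ₗ[k] C)
    (h : LinearMap.range f = LinearMap.ker g) :
    Module.finrank k B ≤ Module.finrank k A + Module.finrank k C := by
  have h1 := LinearMap.finrank_range_add_finrank_ker g
  have h2 : Module.finrank k (LinearMap.ker g) ≤ Module.finrank k A := by
    rw [← h]
    exact LinearMap.finrank_range_le f
  have h3 : Module.finrank k (LinearMap.range g) ≤ Module.finrank k C :=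
    Submodule.finrank_le _
  omega

omit [IsProper (X ↘ Spec (CommRingCat.of k))] in
/-- a monomorphism from an invertible module to `O` on an integral scheme is nonzero and
generically surjective. -/
theorem subsingleton_stalk_cokernel_of_mono {Q : X.Modules} (hQ : PicF.IsInvertible Q)
    (j : Q ⟶ Coh.structureModule X) [Mono j] :
    Subsingleton ((cokernel j).presheaf.stalk (genericPoint X)) := by
  have hQ1 := rank_one_of_isInvertible hQ
  have hO1 := rank_one_of_isInvertible (isInvertible_structureModule X)
  have hj : j ≠ 0 := by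
    intro h0
    have hz : IsZero Q := IsZero.of_mono_eq_zero j h0
    obtain ⟨f1, g1, r1⟩ := stalk_of_rank hQ1 (genericPoint X)
    have hsub : Subsingleton (Q.presheaf.stalk (genericPoint X)) := by
      refine ⟨fun a b => ?_⟩
      obtain ⟨U, hxU, sa, rfl⟩ := TopCat.Presheaf.exists_germ_eq Q.presheaf a
      obtain ⟨V, hxV, sb, rfl⟩ := TopCat.Presheaf.exists_germ_eq Q.presheaf b
      have e1 : sa = 0 := by
        have := (hz.eq_of_src (𝟙 Q) 0)
        have h2 := congrArg (fun φ => φ.app U sa) this
        exact h2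
      have e2 : sb = 0 := by
        have := (hz.eq_of_src (𝟙 Q) 0)
        have h2 := congrArg (fun φ => φ.app V sb) this
        exact h2
      rw [e1, e2, map_zero, map_zero]
    rw [Module.finrank_zero_of_subsingleton] at r1
    exact absurd r1 (by norm_num)
  exact (subsingleton_stalk_cokernel_iff j (genericPoint X)).mpr
    (stalkMap_generic_bijective_of_ne_zero hQ1 hO1 j hj).2

end Groth.Agent.Lib.Helper93.CurveTwist
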