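import Groth.Agent.Lib.Helper93.FibreGeneric
import Groth.Prelude.Def_Cyc
import Mathlib.AlgebraicGeometry.AffineTransitionLimit

/-!
# Injectivity of the colimit of cycle groups along a limit of schemes (helper93)
-/

set_option autoImplicit false
universe u

open CategoryTheory CategoryTheory.Limits AlgebraicGeometry IsLocalRing

namespace Groth.Agent.Lib.Helper93.CycLimitInj

open Groth.Agent.Lib.Helper93.FibreLength Groth.Agent.Lib.Helper93.FibreGeneric

/-- If the flat pullback (shift `0`) of coefficients `α` along `f` vanishes, with source locally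
Noetherian and the dimension functions compatible at generic points of fibres, then the fibres
over the support of `α` are empty. -/
lemma fibre_empty_of_pullFun_eq_zero {X Y : Scheme.{u}} (f : X ⟶ Y) [IsLocallyNoetherian X]
    (δX : X → ℤ) (δY : Y → ℤ)
    (hshift : ∀ x : X, (∀ x', f x' = f x → x' ⤳ x → x' = x) → δX x = δY (f x))
    (α : Y → ℤ) (h0 : Cyc.pullFun f δX δY 0 α = 0) (y : Y) (hy : α y ≠ 0) (x₀ : X) :
    f x₀ ≠ y := by
  rintro rfl
  obtain ⟨x, hx, hgen⟩ := exists_generic_in_fibre f x₀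
  have h1 := congr_fun h0 x
  have h2 : δX x = δY (f x) + 0 := by rw [add_zero]; exact hshift x hgen
  simp only [Cyc.pullFun, if_pos h2, Pi.zero_apply] at h1
  have h3 := length_toNat_pos f x hgen
  rcases mul_eq_zero.mp h1 with h | h
  · exact hy (hx ▸ h)
  · exact (Nat.pos_iff_ne_zero.mp h3) (by exact_mod_cast h)

theorem pullFun_eq_zero_of_isLimit {J : Type u} [SmallCategory J] [IsCofiltered J]
    (D : J ⥤ Scheme.{u}) (c : Cone D) (hc : IsLimit c)
    [∀ {i j : J} (f : i ⟶ j), IsAffineHom (D.map f)] [∀ i, CompactSpace ↥(D.obj i)]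
    (δ : (i : J) → ↥(D.obj i) → ℤ) (δ' : ↥c.pt → ℤ) [IsLocallyNoetherian c.pt]
    (hshift' : ∀ (i : J) (x : ↥c.pt),
      (∀ y, c.π.app i y = c.π.app i x → y ⤳ x → y = x) → δ' x = δ i (c.π.app i x))
    (i : J) (α : AlgebraicCycle (D.obj i) ℤ)
    (h0 : Cyc.pullFun (c.π.app i) δ' (δ i) 0 ⇑α = 0) :
    ∃ (j : J) (f : j ⟶ i), Cyc.pullFun (D.map f) (δ j) (δ i) 0 ⇑α = 0 := by
  classical
  have hfin : (Function.support ⇑α).Finite := by
    have hl : LocallyFiniteSupport ⇑α := fun z => α.supportLocallyFiniteWithinDomain z trivial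
    have := hl.finite_inter_support_of_isCompact (isCompact_univ (X := D.obj i))
    rwa [Set.univ_inter] at this
  have hstage : ∀ y ∈ hfin.toFinset, ∃ k : Over i, ∀ x : D.obj k.left, D.map k.hom x ≠ y := by
    intro y hy
    have hy' : α y ≠ 0 := hfin.mem_toFinset.mp hy
    exact exists_fibre_empty D c hc i y
      (fibre_empty_of_pullFun_eq_zero (X := c.pt) (c.π.app i) δ' (δ i) (hshift' i) ⇑α h0 y hy')
  have : Nonempty (Over i) := ⟨Over.mk (𝟙 i)⟩
  choose! k hk using hstage
  obtain ⟨k₀, hk₀⟩ := IsCofiltered.inf_objs_exists (hfin.toFinset.image k)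
  refine ⟨k₀.left, k₀.hom, ?_⟩
  funext x
  simp only [Cyc.pullFun, Pi.zero_apply]
  split_ifs with hδ
  · have hα : α (D.map k₀.hom x) = 0 := by
      by_contra hne
      have hmem : D.map k₀.hom x ∈ hfin.toFinset := hfin.mem_toFinset.mpr hne
      obtain ⟨t⟩ := hk₀ (Finset.mem_image_of_mem k hmem)
      refine hk _ hmem (D.map t.left x) ?_
      rw [← Scheme.Hom.comp_apply, ← D.map_comp, Over.w t]
    rw [hα, zero_mul]
  · rfl

end Groth.Agent.Lib.Helper93.CycLimitInj
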