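import Groth.Agent.Lib.Helper93.FibreIdealLimit
import Groth.Prelude.Def_Cyc
import Mathlib.RingTheory.SimpleModule.Basic

/-!
# Surjectivity of the colimit of cycle groups along a limit of schemes (helper93)
-/

set_option autoImplicit false
universe u

open CategoryTheory CategoryTheory.Limits AlgebraicGeometry IsLocalRing

namespace Groth.Agent.Lib.Helper93.CycLimitSurj

open Groth.Agent.Lib.Helper93.FibreLength Groth.Agent.Lib.Helper93.FibreGeneric
  Groth.Agent.Lib.Helper93.FibreIdealLimit Groth.Agent.Lib.Helper93.LimitIdealFG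

lemma length_quot_maximalIdeal_toNat (R : Type*) [CommRing R] [IsLocalRing R] :
    (Module.length R (R ⧸ maximalIdeal R)).toNat = 1 := by
  have : IsSimpleModule R (R ⧸ maximalIdeal R) :=
    isSimpleModule_iff_isCoatom.mpr (Ideal.isMaximal_def.mp (maximalIdeal.isMaximal R))
  rw [Module.length_eq_one]
  rfl

/-- A cycle whose support points are the unique generic points of their fibres, with reduced
fibres there, is the pullback of a cycle. -/
theorem exists_cycle_pullFun_eq {X Y : Scheme.{u}} (f : X ⟶ Y) (δX : X → ℤ) (δY : Y → ℤ)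
    (hdim : Cyc.IsDimFun X δX) (k : ℤ) (α' : AlgebraicCycle X ℤ) (hα' : α' ∈ Cyc.Zk X δX k)
    (T : Finset X) (hmemT : ∀ x, x ∈ T ↔ α' x ≠ 0)
    (hU : ∀ x ∈ T, ∀ x' : X, f x' = f x → x ⤳ x')
    (hL : ∀ x ∈ T, fibreIdeal f x = maximalIdeal (X.presheaf.stalk x))
    (hshift : ∀ x : X, (∀ y, f y = f x → y ⤳ x → y = x) → δX x = δY (f x)) :
    ∃ α : AlgebraicCycle Y ℤ, α ∈ Cyc.Zk Y δY k ∧ Cyc.pullFun f δX δY 0 ⇑α = ⇑α' := by
  classical
  have hgen : ∀ x ∈ T, ∀ x' : X, f x' = f x → x' ⤳ x → x' = x :=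
    fun x hx x' hx' hsp => (hsp.antisymm (hU x hx x' hx')).eq
  have hδ : ∀ x ∈ T, δX x = δY (f x) := fun x hx => hshift x (hgen x hx)
  have hk : ∀ x ∈ T, δX x = k := fun x hx => by
    by_contra hne
    exact (hmemT x).mp hx (hα' x hne)
  have hdist : ∀ x₁ ∈ T, ∀ x₂ ∈ T, f x₁ = f x₂ → x₁ = x₂ :=
    fun x₁ h₁ x₂ h₂ h => ((hU x₁ h₁ x₂ h.symm).antisymm (hU x₂ h₂ x₁ h)).eq
  let a : Y → ℤ := fun y => ∑ x ∈ T, if f x = y then α' x else 0
  have hasupp : Function.support a ⊆ (T.image f : Finset Y) := by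
    intro y hy
    by_contra hcon
    apply hy
    apply Finset.sum_eq_zero
    intro x hx
    rw [if_neg]
    rintro rfl
    exact hcon (Finset.mem_coe.mpr (Finset.mem_image_of_mem _ hx))
  let α : AlgebraicCycle Y ℤ :=
    { toFun := a
      supportWithinDomain' := Set.subset_univ _
      supportLocallyFiniteWithinDomain' := fun z _ =>
        ⟨Set.univ, Filter.univ_mem, ((Finset.finite_toSet _).subset hasupp).subset
          Set.inter_subset_right⟩ }
  have hαa : ∀ y, α y = a y := fun _ => rfl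
  refine ⟨α, ?_, ?_⟩
  · intro y hy
    rw [hαa]
    apply Finset.sum_eq_zero
    intro x hx
    rw [if_neg]
    rintro rfl
    exact hy ((hδ x hx).symm.trans (hk x hx))
  · funext x₁
    by_cases hx₁ : x₁ ∈ T
    · have h1 : δX x₁ = δY (f x₁) + 0 := by rw [add_zero]; exact hδ x₁ hx₁
      have h2 : a (f x₁) = α' x₁ := by
        change (∑ x ∈ T, if f x = f x₁ then α' x else 0) = α' x₁
        rw [Finset.sum_eq_single x₁]
        · rw [if_pos rfl]
        · intro x hx hne
          rw [if_neg]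
          exact fun h => hne (hdist x hx x₁ hx₁ h)
        · exact fun h => (h hx₁).elim
      have h3 : (Module.length (X.presheaf.stalk x₁) (X.presheaf.stalk x₁ ⧸
          fibreIdeal f x₁)).toNat = 1 := by
        rw [hL x₁ hx₁]
        exact length_quot_maximalIdeal_toNat _
      simp only [Cyc.pullFun, if_pos h1, hαa, h2]
      change α' x₁ * ((Module.length (X.presheaf.stalk x₁) (X.presheaf.stalk x₁ ⧸
          fibreIdeal f x₁)).toNat : ℤ) = α' x₁
      rw [h3]
      simp
    · have h0 : α' x₁ = 0 := by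
        by_contra hne
        exact hx₁ ((hmemT x₁).mpr hne)
      rw [h0]
      simp only [Cyc.pullFun]
      split_ifs with hcond
      · have h2 : a (f x₁) = 0 := by
          apply Finset.sum_eq_zero
          intro x hx
          rw [if_neg]
          intro hxx₁
          have hsp : x ⤳ x₁ := hU x hx x₁ hxx₁.symm
          have hne : x ≠ x₁ := fun h => hx₁ (h ▸ hx)
          have hlt := (hdim x x₁ hsp hne).1
          rw [add_zero] at hcond
          rw [hcond, ← hxx₁, ← hδ x hx] at hlt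
          exact lt_irrefl _ hlt
        rw [hαa, h2, zero_mul]
      · rfl

theorem exists_pullFun_eq_of_isLimit {J : Type u} [SmallCategory J] [IsCofiltered J]
    (D : J ⥤ Scheme.{u}) (c : Cone D) (hc : IsLimit c)
    [∀ {i j : J} (f : i ⟶ j), IsAffineHom (D.map f)] [∀ i, CompactSpace ↥(D.obj i)]
    (δ : (i : J) → ↥(D.obj i) → ℤ) (δ' : ↥c.pt → ℤ) [IsLocallyNoetherian c.pt]
    (hdim' : Cyc.IsDimFun c.pt δ')
    (hshift' : ∀ (i : J) (x : ↥c.pt),
      (∀ y, c.π.app i y = c.π.app i x → y ⤳ x → y = x) → δ' x = δ i (c.π.app i x))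
    (k : ℤ) (α' : AlgebraicCycle c.pt ℤ) (hα' : α' ∈ Cyc.Zk c.pt δ' k) :
    ∃ (i : J) (α : AlgebraicCycle (D.obj i) ℤ), α ∈ Cyc.Zk (D.obj i) (δ i) k ∧
      Cyc.pullFun (c.π.app i) δ' (δ i) 0 ⇑α = ⇑α' := by
  classical
  have hcpt : CompactSpace c.pt := Scheme.compactSpace_of_isLimit D c hc
  have hfin : (Function.support ⇑α').Finite := by
    have hl : LocallyFiniteSupport ⇑α' := fun z => α'.supportLocallyFiniteWithinDomain z trivial
    have := hl.finite_inter_support_of_isCompact (isCompact_univ (X := c.pt))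
    rwa [Set.univ_inter] at this
  have hmemT : ∀ x, x ∈ hfin.toFinset ↔ α' x ≠ 0 := fun x => hfin.mem_toFinset
  obtain ⟨i, hi⟩ := exists_common hfin.toFinset
    (fun x i => (∀ x' : c.pt, c.π.app i x' = c.π.app i x → x ⤳ x') ∧
      fibreIdeal (X := c.pt) (c.π.app i) x = maximalIdeal (c.pt.presheaf.stalk x))
    (fun x i j t h => ⟨fun x' hx' => h.1 x' (by
        have h1 := congr_arg (D.map t) hx'
        rwa [← Scheme.Hom.comp_apply, ← Scheme.Hom.comp_apply, c.w t] at h1),
      le_antisymm (fibreIdeal_le_maximalIdeal _ x) (h.2 ▸ fibreIdeal_mono D c t x)⟩)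
    (fun x _ => by
      obtain ⟨i₁, h₁⟩ := exists_fibre_subset_closure D c hc x
      obtain ⟨i₂, h₂⟩ := exists_fibreIdeal_eq_maximalIdeal D c hc x
      refine ⟨IsCofiltered.min i₁ i₂, fun x' hx' => h₁ x' ?_,
        le_antisymm (fibreIdeal_le_maximalIdeal _ x)
          (h₂ ▸ fibreIdeal_mono D c (IsCofiltered.minToRight i₁ i₂) x)⟩
      have h1 := congr_arg (D.map (IsCofiltered.minToLeft i₁ i₂)) hx'
      rwa [← Scheme.Hom.comp_apply, ← Scheme.Hom.comp_apply, c.w] at h1)
  obtain ⟨α, h1, h2⟩ := exists_cycle_pullFun_eq (X := c.pt) (c.π.app i) δ' (δ i) hdim' k α' hα'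
    hfin.toFinset hmemT (fun x hx => (hi x hx).1) (fun x hx => (hi x hx).2) (hshift' i)
  exact ⟨i, α, h1, h2⟩

end Groth.Agent.Lib.Helper93.CycLimitSurj
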