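import Groth.Agent.Lib.Helper21.ProdDivAlg
import Mathlib.RingTheory.Filtration
import Mathlib.RingTheory.KrullDimension.Zero
import Mathlib.RingTheory.Ideal.KrullsHeightTheorem

/-!
# Algebra for sums of prime divisors inside a closed subscheme (helper93)
-/

set_option autoImplicit false
universe u v

open IsLocalRing

namespace Groth.Agent.Lib.Helper93.DivSumAlg

open Groth.Agent.Lib.Helper21.ProdDiv

/-- An ideal contained in the powers `(π i)^(b i)` of pairwise non-associated principal primes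
generated by nonzerodivisors is contained in their product. -/
theorem le_prod_pow_of_le {R : Type u} [CommRing R] {ι : Type v}
    [DecidableEq ι] (s : Finset ι) (π : ι → R) (J : Ideal R)
    (hπ : ∀ i ∈ s, π i ∈ nonZeroDivisors R)
    (hprime : ∀ i ∈ s, IsUnit (π i) ∨ (Ideal.span {π i}).IsPrime)
    (hdist : ∀ i ∈ s, ∀ j ∈ s, i ≠ j → ¬ IsUnit (π i) → Ideal.span {π i} ≠ Ideal.span {π j})
    (b : ι → ℕ) (hb : ∀ i ∈ s, ¬ IsUnit (π i) → J ≤ Ideal.span {π i} ^ b i) :
    J ≤ ∏ i ∈ s, Ideal.span {π i} ^ b i := by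
  classical
  intro f hf
  have hnotunit : ∀ i ∈ s, (Ideal.span {π i}).IsPrime → ¬ IsUnit (π i) := by
    intro i _ hp hu
    exact hp.ne_top (Ideal.span_singleton_eq_top.2 hu)
  have hbf : ∀ i ∈ s, ¬ IsUnit (π i) → π i ^ b i ∣ f := by
    intro i hi hnu
    have := hb i hi hnu hf
    rwa [Ideal.span_singleton_pow, Ideal.mem_span_singleton] at this
  have step1 : ∀ t : Finset ι, t ⊆ s → (∏ i ∈ t, π i ^ b i) ∣ f := by
    intro t
    induction t using Finset.induction_on with
    | empty => intro _; simp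
    | insert j t hjt ih =>
      intro hsub
      have hjs : j ∈ s := hsub (Finset.mem_insert_self j t)
      have hts : t ⊆ s := fun i hi => hsub (Finset.mem_insert_of_mem hi)
      obtain ⟨h, hh⟩ := ih hts
      rw [Finset.prod_insert hjt]
      rcases hprime j hjs with hu | hp
      · rw [(hu.pow (b j)).mul_left_dvd]
        exact ih hts
      · have hnu := hnotunit j hjs hp
        have hgt : (∏ i ∈ t, π i ^ b i) ∉ Ideal.span {π j} := by
          intro hmem
          obtain ⟨i, hit, hi⟩ := (hp.prod_mem_iff).1 hmem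
          have hi' : π i ∈ Ideal.span {π j} := hp.mem_of_pow_mem _ hi
          have hij : i ≠ j := fun e => hjt (e ▸ hit)
          have his : i ∈ s := hts hit
          rcases hprime i his with hui | hpi
          · exact hp.ne_top (Ideal.eq_top_of_isUnit_mem _ hi' hui)
          · have h1 := span_singleton_le_of_mem (π j) (π i) (hπ i his) hp hpi hi'
            apply hdist i his j hjs hij (hnotunit i his hpi)
            apply le_antisymm
            · rw [Ideal.span_singleton_le_iff_mem]; exact hi'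
            · rw [Ideal.span_singleton_le_iff_mem]; exact h1
        have hdvd : π j ^ b j ∣ (∏ i ∈ t, π i ^ b i) * h := by
          rw [← hh]; exact hbf j hjs hnu
        obtain ⟨h', rfl⟩ := pow_dvd_of_pow_dvd_mul (π j) (hπ j hjs) hp _ hgt (b j) h hdvd
        exact ⟨h', by rw [hh]; ring⟩
  have h1 := step1 s le_rfl
  simp_rw [Ideal.span_singleton_pow]
  rw [Ideal.prod_span_singleton, Ideal.mem_span_singleton]
  exact h1

/-- In a local ring with principal maximal ideal, an ideal inside `m ^ a` but not inside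
`m ^ (a + 1)` equals `m ^ a`. -/
theorem eq_pow_of_le_of_not_le {R : Type u} [CommRing R] [IsLocalRing R] (π : R)
    (hm : maximalIdeal R = Ideal.span {π}) (J : Ideal R) (a : ℕ)
    (h1 : J ≤ maximalIdeal R ^ a) (h2 : ¬ J ≤ maximalIdeal R ^ (a + 1)) :
    J = maximalIdeal R ^ a := by
  refine le_antisymm h1 ?_
  obtain ⟨g, hgJ, hg⟩ := Set.not_subset.mp h2
  have hga := h1 hgJ
  rw [hm, Ideal.span_singleton_pow, Ideal.mem_span_singleton] at hga
  obtain ⟨h, rfl⟩ := hga
  have hh : IsUnit h := by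
    by_contra hnu
    have hhm : h ∈ maximalIdeal R := (mem_maximalIdeal h).mpr hnu
    rw [hm, Ideal.mem_span_singleton] at hhm
    obtain ⟨c, rfl⟩ := hhm
    apply hg
    rw [SetLike.mem_coe, hm, Ideal.span_singleton_pow, Ideal.mem_span_singleton]
    exact ⟨c, by ring⟩
  rw [hm, Ideal.span_singleton_pow, Ideal.span_singleton_le_iff_mem]
  obtain ⟨u, rfl⟩ := hh
  have : π ^ a = (π ^ a * ↑u) * ↑u⁻¹ := by rw [mul_assoc, Units.mul_inv, mul_one]
  rw [this]
  exact J.mul_mem_right _ hgJ

/-- For a nonzero ideal of a Noetherian local ring the set of `n` with `J ≤ m ^ n` has a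
maximum. -/
theorem sSup_pow_spec' {R : Type u} [CommRing R] [IsNoetherianRing R] [IsLocalRing R]
    (J : Ideal R) (hJ : J ≠ ⊥) :
    J ≤ maximalIdeal R ^ sSup {n | J ≤ maximalIdeal R ^ n} ∧
      ¬ J ≤ maximalIdeal R ^ (sSup {n | J ≤ maximalIdeal R ^ n} + 1) := by
  set N : Set ℕ := {n | J ≤ maximalIdeal R ^ n} with hN
  have h0 : 0 ∈ N := by
    show J ≤ maximalIdeal R ^ 0
    rw [pow_zero, Ideal.one_eq_top]; exact le_top
  have hdown : ∀ n m, n ≤ m → m ∈ N → n ∈ N := fun n m hnm hm =>
    le_trans hm (Ideal.pow_le_pow_right hnm)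
  have hex : ∃ n₀, n₀ ∉ N := by
    by_contra hall
    push Not at hall
    apply hJ
    rw [eq_bot_iff, ← Ideal.iInf_pow_eq_bot_of_isLocalRing (maximalIdeal R)
      Ideal.IsPrime.ne_top']
    exact le_iInf fun n => hall n
  obtain ⟨n₀, hn₀⟩ := hex
  have hbdd : BddAbove N := ⟨n₀, fun n hn => by
    by_contra hlt
    push Not at hlt
    exact hn₀ (hdown n₀ n hlt.le hn)⟩
  have hmem : sSup N ∈ N := Nat.sSup_mem ⟨0, h0⟩ hbdd
  refine ⟨hmem, fun hcon => ?_⟩
  have : sSup N + 1 ≤ sSup N := le_csSup hbdd hcon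
  omega

/-- In a zero-dimensional local ring every nonzerodivisor is a unit. -/
theorem isUnit_of_mem_nonZeroDivisors {B : Type u} [CommRing B] [IsLocalRing B]
    [Ring.KrullDimLE 0 B] (t : B) (ht : t ∈ nonZeroDivisors B) : IsUnit t := by
  by_contra hnu
  have hm : t ∈ maximalIdeal B := (mem_maximalIdeal t).mpr hnu
  obtain ⟨k, hk⟩ := (Ring.KrullDimLE.isNilpotent_iff_mem_maximalIdeal).mpr hm
  have h1 : t ^ k ∈ nonZeroDivisors B := pow_mem ht k
  have h2 : (1 : B) = 0 := by
    have := (mem_nonZeroDivisors_iff_right.mp h1) 1 (by rw [one_mul, hk])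
    exact this
  exact one_ne_zero h2

/-- A finitely generated ideal `D` that agrees with `I ≤ D` after localizing at `p` is carried
into `I` by a single element outside `p`. -/
theorem exists_notMem_mul_le {A : Type u} [CommRing A] (p : Ideal A) [p.IsPrime]
    (I D : Ideal A) (hD : D.FG) (h : ∀ d ∈ D, ∃ u ∉ p, u * d ∈ I) :
    ∃ r ∉ p, ∀ d ∈ D, r * d ∈ I := by
  classical
  obtain ⟨G, rfl⟩ := hD
  have h' : ∀ g : A, ∃ u ∉ p, g ∈ G → u * g ∈ I := by
    intro g
    by_cases hg : g ∈ G
    · obtain ⟨u, hu, hug⟩ := h g (Ideal.subset_span hg)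
      exact ⟨u, hu, fun _ => hug⟩
    · exact ⟨1, fun h1 => Ideal.IsPrime.ne_top' ((Ideal.eq_top_iff_one p).mpr h1),
        fun h => absurd h hg⟩
  choose u hu hug using h'
  refine ⟨∏ g ∈ G, u g, ?_, ?_⟩
  · intro hmem
    obtain ⟨g, -, hg⟩ := (Ideal.IsPrime.prod_mem_iff).mp hmem
    exact hu g hg
  · intro d hd
    refine Submodule.span_induction (p := fun d _ => (∏ g ∈ G, u g) * d ∈ I) ?_ ?_ ?_ ?_ hd
    · intro g hg
      rw [← Finset.mul_prod_erase G u hg, mul_assoc, mul_comm _ g, ← mul_assoc]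
      exact I.mul_mem_right _ (hug g hg)
    · simp
    · intro x y _ _ hx hy
      rw [mul_add]; exact I.add_mem hx hy
    · intro c x _ hx
      rw [smul_eq_mul, mul_left_comm]; exact I.mul_mem_left _ hx

end Groth.Agent.Lib.Helper93.DivSumAlg
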