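import Groth.Agent.Lib.Helper93.DivSumMain

/-!
# Sums of prime divisors inside a closed subscheme: the theorem (helper93)
-/

set_option autoImplicit false
universe u
open CategoryTheory CategoryTheory.Limits AlgebraicGeometry TopologicalSpace

namespace Groth.Agent.Lib.Helper93.DivSumFinal

open Groth.Agent.Lib.Helper21.ProdDiv Groth.Agent.Lib.Helper21.Chart
  Groth.Agent.Lib.Helper21.ExtendCartier Groth.Agent.Lib.Helper21.LocFactorial
  Groth.Agent.Lib.Helper21.EffCartierUFD Groth.Agent.Lib.Helper93.DivSumAlg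
  Groth.Agent.Lib.Helper93.DivSumGeom Groth.Agent.Lib.Helper93.DivSumMain
  Groth.Agent.Lib.Helper21.CartierDesc

variable {X : Scheme.{u}}

section

variable (𝓩 : X.IdealSheafData) {I : Type u} (𝓓 : I → X.IdealSheafData)
  (hD : ∀ i, BlowUp.IsEffCartierIdeal (𝓓 i)) [hDint : ∀ i, IsIntegral (𝓓 i).subscheme]

include hD in
theorem le_prod (S : Finset I) (b : I → ℕ)
    (hinj : ∀ j ∈ S, ∀ j' ∈ S, gen (𝓓 j) = gen (𝓓 j') → j = j')
    (hle : ∀ j ∈ S, stalkIdeal 𝓩 (gen (𝓓 j)) ≤ stalkIdeal (𝓓 j) (gen (𝓓 j)) ^ b j) :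
    𝓩 ≤ ∏ j ∈ S, 𝓓 j ^ b j := by
  classical
  apply le_of_stalkIdeal_le
  intro x
  rw [stalkIdeal_prod]
  simp_rw [stalkIdeal_pow]
  obtain ⟨W, hxW⟩ := exists_affine_mem x
  have hex : ∀ j : I, ∃ t : X.presheaf.stalk x, t ∈ nonZeroDivisors (X.presheaf.stalk x) ∧
      stalkIdeal (𝓓 j) x = Ideal.span {t} := fun j => exists_stalkIdeal_generator (𝓓 j) (hD j) x
  choose π hπ using hex
  have hunit_iff : ∀ j, (IsUnit (π j) ↔ x ∉ (𝓓 j).support) := by
    intro j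
    rw [← Ideal.span_singleton_eq_top, ← (hπ j).2]
    constructor
    · intro h hx; exact stalkIdeal_ne_top_of_mem hx h
    · intro h; exact stalkIdeal_eq_top_of_notMem h
  have key := le_prod_pow_of_le S π (stalkIdeal 𝓩 x) (fun j _ => (hπ j).1) ?_ ?_ b ?_
  · refine key.trans (le_of_eq ?_)
    exact Finset.prod_congr rfl (fun j _ => by rw [(hπ j).2])
  · intro j _
    by_cases hx : x ∈ (𝓓 j).support
    · right
      rw [← (hπ j).2]
      exact (stalkIdeal_isPrime_and_comap (𝓓 j) hx W hxW).1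
    · left; exact (hunit_iff j).2 hx
  · intro j hj j' hj' hne hnu heq
    have hx : x ∈ (𝓓 j).support := by by_contra h; exact hnu ((hunit_iff j).2 h)
    have hnu' : ¬ IsUnit (π j') := by
      rw [← Ideal.span_singleton_eq_top, ← heq, Ideal.span_singleton_eq_top]; exact hnu
    have hx' : x ∈ (𝓓 j').support := by by_contra h; exact hnu' ((hunit_iff j').2 h)
    apply hne
    apply hinj j hj j' hj'
    have hξW : gen (𝓓 j) ∈ W.1 := (gen_specializes (𝓓 j) hx).mem_open W.1.2 hxW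
    have hξW' : gen (𝓓 j') ∈ W.1 := (gen_specializes (𝓓 j') hx').mem_open W.1.2 hxW
    have h1 := (stalkIdeal_isPrime_and_comap (𝓓 j) hx W hxW).2
    have h2 := (stalkIdeal_isPrime_and_comap (𝓓 j') hx' W hxW).2
    rw [(hπ j).2, heq, ← (hπ j').2, h2] at h1
    rw [ideal_eq_pr (𝓓 j) W hξW, ideal_eq_pr (𝓓 j') W hξW'] at h1
    exact (eq_of_pr_eq W hξW' hξW h1).symm
  · intro j hj hnu
    have hx : x ∈ (𝓓 j).support := by by_contra h; exact hnu ((hunit_iff j).2 h)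
    rw [← (hπ j).2]
    exact (le_pow_iff_gen (𝓓 j) 𝓩 (hD j) hx (b j)).mpr (hle j hj)

end

/-- The locus where two nested ideal sheaves on a locally Noetherian scheme agree is open. -/
theorem isOpen_setOf_stalkIdeal_eq [IsLocallyNoetherian X] (I D : X.IdealSheafData) (h : I ≤ D) :
    IsOpen {x | stalkIdeal I x = stalkIdeal D x} := by
  rw [isOpen_iff_forall_mem_open]
  intro x hx
  obtain ⟨W, hxW⟩ := exists_affine_mem x
  have hN : IsNoetherianRing Γ(X, W.1) := IsLocallyNoetherian.component_noetherian W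
  have hfg : (D.ideal W).FG := IsNoetherian.noetherian _
  let _ : Algebra Γ(X, W.1) (X.presheaf.stalk x) :=
    TopCat.Presheaf.algebra_section_stalk X.presheaf ⟨x, hxW⟩
  have hloc : IsLocalization.AtPrime (X.presheaf.stalk x) (pr W.2 x hxW) :=
    W.2.isLocalization_stalk ⟨x, hxW⟩
  have h1 : (D.ideal W).map (algebraMap Γ(X, W.1) (X.presheaf.stalk x)) ≤
      (I.ideal W).map (algebraMap Γ(X, W.1) (X.presheaf.stalk x)) := by
    have := (show stalkIdeal I x = stalkIdeal D x from hx).ge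
    rwa [stalkIdeal_eq I W x hxW, stalkIdeal_eq D W x hxW] at this
  rw [map_le_map_pow_iff (pr W.2 x hxW)] at h1
  obtain ⟨r, hr, hrD⟩ := exists_notMem_mul_le (pr W.2 x hxW) (I.ideal W) (D.ideal W) hfg h1
  refine ⟨X.basicOpen r, ?_, (X.basicOpen r).2,
    (mem_basicOpen_iff_notMem_primeIdealOf W x hxW r).2 hr⟩
  intro y hy
  have hyW : y ∈ W.1 := X.basicOpen_le r hy
  have hry : r ∉ pr W.2 y hyW := (mem_basicOpen_iff_notMem_primeIdealOf W y hyW r).1 hy
  apply le_antisymm (stalkIdeal_mono h y)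
  rw [stalkIdeal_eq I W y hyW, stalkIdeal_eq D W y hyW]
  let _ : Algebra Γ(X, W.1) (X.presheaf.stalk y) :=
    TopCat.Presheaf.algebra_section_stalk X.presheaf ⟨y, hyW⟩
  have hlocy : IsLocalization.AtPrime (X.presheaf.stalk y) (pr W.2 y hyW) :=
    W.2.isLocalization_stalk ⟨y, hyW⟩
  show (D.ideal W).map (algebraMap Γ(X, W.1) (X.presheaf.stalk y)) ≤
    (I.ideal W).map (algebraMap Γ(X, W.1) (X.presheaf.stalk y))
  rw [map_le_map_pow_iff (pr W.2 y hyW)]
  exact fun d hd => ⟨r, hry, hrD d hd⟩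

/-- Points of a closed set all of whose maximal points have codimension `≥ 2` have
codimension `≥ 2`. -/
theorem two_le_dim_of_mem [IsLocallyNoetherian X] (Z' : Set X)
    (hcodim : ∀ z ∈ Z', (∀ y ∈ Z', y ⤳ z → y = z) →
      (2 : WithBot ℕ∞) ≤ ringKrullDim (X.presheaf.stalk z)) {z : X} (hz : z ∈ Z') :
    (2 : WithBot ℕ∞) ≤ ringKrullDim (X.presheaf.stalk z) := by
  obtain ⟨W, hzW⟩ := exists_affine_mem z
  have hN : IsNoetherianRing Γ(X, W.1) := IsLocallyNoetherian.component_noetherian W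
  let hts : Set ℕ∞ := {h | ∃ (y : X) (_ : y ∈ Z') (hyz : y ⤳ z),
    (pr W.2 y (hyz.mem_open W.1.2 hzW)).height = h}
  have hne : hts.Nonempty := ⟨_, z, hz, specializes_rfl, rfl⟩
  obtain ⟨y₀, hy₀Z, hy₀z, hy₀⟩ := wellFounded_lt.min_mem hts hne
  have hy₀W : y₀ ∈ W.1 := hy₀z.mem_open W.1.2 hzW
  have hmax : ∀ y ∈ Z', y ⤳ y₀ → y = y₀ := by
    intro y hyZ hy
    have hyz : y ⤳ z := hy.trans hy₀z
    have hyW : y ∈ W.1 := hyz.mem_open W.1.2 hzW
    have hle : pr W.2 y hyW ≤ pr W.2 y₀ hy₀W := pr_le_of_specializes W.2 hy₀W hy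
    have hht : (pr W.2 y₀ hy₀W).height ≤ (pr W.2 y hyW).height := by
      rw [hy₀]
      exact wellFounded_lt.min_le
        (show (pr W.2 y hyW).height ∈ hts from ⟨y, hyZ, hyz, rfl⟩)
    exact eq_of_pr_eq W hyW hy₀W (Ideal.eq_of_le_of_height_le (pr W.2 y hyW) hle hht)
  have h2 := hcodim y₀ hy₀Z hmax
  rw [ringKrullDim_stalk_eq_height W y₀ hy₀W] at h2
  rw [ringKrullDim_stalk_eq_height W z hzW]
  refine h2.trans ?_
  exact_mod_cast Ideal.height_mono (pr_le_of_specializes W.2 hzW hy₀z)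

/-- A non-generic point of a prime divisor has codimension `≥ 2`. -/
theorem two_le_dim_of_ne_gen [IsLocallyNoetherian X] (E : X.IdealSheafData)
    [IsIntegral E.subscheme] (hE : BlowUp.IsEffCartierIdeal E) {z : X} (hz : z ∈ E.support)
    (hne : z ≠ gen E) : (2 : WithBot ℕ∞) ≤ ringKrullDim (X.presheaf.stalk z) := by
  obtain ⟨t, ht, hEt⟩ := exists_stalkIdeal_generator E hE z
  obtain ⟨W, hzW⟩ := exists_affine_mem z
  have hprime : (stalkIdeal E z).IsPrime := (stalkIdeal_isPrime_and_comap E hz W hzW).1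
  have hnm : stalkIdeal E z ≠ IsLocalRing.maximalIdeal (X.presheaf.stalk z) :=
    fun h => hne (eq_gen_of_stalkIdeal_eq_maximalIdeal E hz h)
  have hlt : stalkIdeal E z < IsLocalRing.maximalIdeal (X.presheaf.stalk z) :=
    lt_of_le_of_ne (IsLocalRing.le_maximalIdeal hprime.ne_top) hnm
  have h1 : 1 ≤ (stalkIdeal E z).height := by
    rw [hEt]; exact Ideal.one_le_height_span_singleton_of_mem_nonZeroDivisors ht
  have h2 : (stalkIdeal E z).height <
      (IsLocalRing.maximalIdeal (X.presheaf.stalk z)).height :=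
    Ideal.height_strict_mono_of_isPrime hlt
  have h3 : (2 : ℕ∞) ≤ (IsLocalRing.maximalIdeal (X.presheaf.stalk z)).height := by
    have := Order.add_one_le_of_lt h2
    calc (2 : ℕ∞) = 1 + 1 := by norm_num
      _ ≤ (stalkIdeal E z).height + 1 := by gcongr
      _ ≤ _ := this
  rw [← IsLocalRing.maximalIdeal_height_eq_ringKrullDim]
  have h4 : ((2 : ℕ∞) : WithBot ℕ∞) ≤
      ((IsLocalRing.maximalIdeal (X.presheaf.stalk z)).height : WithBot ℕ∞) :=
    WithBot.coe_le_coe.mpr h3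
  exact h4

/-- **Main theorem**: a closed subscheme set-theoretically inside a union of prime divisors and a
closed set of codimension `≥ 2` contains a sum of the prime divisors, with equality outside
codimension `2`. -/
theorem main (X : Scheme.{u}) [IsNoetherian X] (𝓩 : X.IdealSheafData)
    {I : Type u} (𝓓 : I → X.IdealSheafData) (hD : ∀ i, BlowUp.IsEffCartierIdeal (𝓓 i))
    (hDint : ∀ i, IsIntegral (𝓓 i).subscheme)
    (Z' : Set ↥X)
    (hcodim : ∀ z ∈ Z', (∀ y ∈ Z', y ⤳ z → y = z) →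
      (2 : WithBot ℕ∞) ≤ ringKrullDim ↑(X.presheaf.stalk z))
    (hcover : (𝓩.support : Set ↥X) ⊆ Z' ∪ ⋃ i, ((𝓓 i).support : Set ↥X)) :
    ∃ a : I →₀ ℕ, 𝓩 ≤ a.prod (fun i n => 𝓓 i ^ n) ∧
      ∃ U : X.Opens, (a.prod (fun i n => 𝓓 i ^ n)).comap U.ι = 𝓩.comap U.ι ∧
        ∀ z ∈ (𝓩.support : Set ↥X) \ (U : Set ↥X),
          (∀ y ∈ (𝓩.support : Set ↥X) \ (U : Set ↥X), y ⤳ z → y = z) →
          (2 : WithBot ℕ∞) ≤ ringKrullDim ↑(X.presheaf.stalk z) := by
  classical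
  have := hDint
  have hne : ∀ x, stalkIdeal 𝓩 x ≠ ⊥ := stalkIdeal_ne_bot 𝓩 𝓓 hD Z' hcodim hcover
  have hpow : ∀ i, stalkIdeal 𝓩 (gen (𝓓 i)) =
      stalkIdeal (𝓓 i) (gen (𝓓 i)) ^ ordAt 𝓩 (𝓓 i) (gen (𝓓 i)) :=
    fun i => stalkIdeal_gen_eq_pow (𝓓 i) (hD i) 𝓩 (hne _)
  have hmax : ∀ i, ∀ y ∈ 𝓩.support, y ⤳ gen (𝓓 i) → y = gen (𝓓 i) :=
    fun i y hy h => eq_gen_of_specializes (𝓓 i) 𝓩 _ (hpow i) hy h
  have hTfin : {t | t ∈ (𝓩.support : Set X) ∧
      ∀ y ∈ (𝓩.support : Set X), y ⤳ t → y = t}.Finite :=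
    finite_maximal_points _ 𝓩.support.isClosed
  let T : Set X := {t | t ∈ (𝓩.support : Set X) ∧ ∃ i, gen (𝓓 i) = t}
  have hT : T.Finite := by
    refine hTfin.subset ?_
    rintro t ⟨htZ, i, rfl⟩
    exact ⟨htZ, fun y hy h => hmax i y hy h⟩
  have : Fintype T := hT.fintype
  have hsel : ∀ t : T, ∃ i : I, gen (𝓓 i) = t.1 := fun t => t.2.2
  choose sel hsel using hsel
  let S : Finset I := Finset.univ.image sel
  have hS_mem : ∀ j ∈ S, gen (𝓓 j) ∈ 𝓩.support := by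
    intro j hj
    obtain ⟨t, -, rfl⟩ := Finset.mem_image.mp hj
    rw [hsel t]
    exact t.2.1
  have hinj : ∀ j ∈ S, ∀ j' ∈ S, gen (𝓓 j) = gen (𝓓 j') → j = j' := by
    intro j hj j' hj' h
    obtain ⟨t, -, rfl⟩ := Finset.mem_image.mp hj
    obtain ⟨t', -, rfl⟩ := Finset.mem_image.mp hj'
    rw [hsel t, hsel t'] at h
    rw [Subtype.ext h]
  have hS_ex : ∀ i, gen (𝓓 i) ∈ 𝓩.support → ∃ j ∈ S, gen (𝓓 j) = gen (𝓓 i) := by
    intro i hi
    exact ⟨sel ⟨gen (𝓓 i), hi, i, rfl⟩, Finset.mem_image.mpr ⟨_, Finset.mem_univ _, rfl⟩,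
      hsel ⟨gen (𝓓 i), hi, i, rfl⟩⟩
  let b : I → ℕ := fun j => ordAt 𝓩 (𝓓 j) (gen (𝓓 j))
  let a : I →₀ ℕ := Finsupp.onFinset S (fun j => if j ∈ S then b j else 0)
    (fun j hj => by by_contra h; simp [h] at hj)
  have ha : a.prod (fun i n => 𝓓 i ^ n) = ∏ j ∈ S, 𝓓 j ^ b j := by
    rw [Finsupp.prod_of_support_subset a Finsupp.support_onFinset_subset _
      (fun i _ => pow_zero _)]
    refine Finset.prod_congr rfl fun j hj => ?_
    simp [a, Finsupp.onFinset_apply, hj]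
  have hle : 𝓩 ≤ ∏ j ∈ S, 𝓓 j ^ b j :=
    le_prod 𝓩 𝓓 hD S b hinj (fun j _ => (hpow j).le)
  refine ⟨a, ha ▸ hle, ?_⟩
  rw [ha]
  let U : X.Opens := ⟨{x | stalkIdeal 𝓩 x = stalkIdeal (∏ j ∈ S, 𝓓 j ^ b j) x},
    isOpen_setOf_stalkIdeal_eq 𝓩 _ hle⟩
  refine ⟨U, ?_, ?_⟩
  · apply ext_of_stalkIdeal_eq
    intro y
    rw [stalkIdeal_comap, stalkIdeal_comap]
    congr 1
    exact (y.2 : stalkIdeal 𝓩 y.1 = stalkIdeal (∏ j ∈ S, 𝓓 j ^ b j) y.1).symm
  · rintro z ⟨hzZ, hzU⟩ -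
    by_contra hdim
    rcases hcover hzZ with hz' | hzD
    · exact hdim (two_le_dim_of_mem Z' hcodim hz')
    · simp only [Set.mem_iUnion] at hzD
      obtain ⟨i, hi⟩ := hzD
      by_cases hzg : z = gen (𝓓 i)
      · apply hzU
        obtain ⟨j, hjS, hj⟩ := hS_ex i (hzg ▸ hzZ)
        have hzj : z = gen (𝓓 j) := hzg.trans hj.symm
        show stalkIdeal 𝓩 z = stalkIdeal (∏ j ∈ S, 𝓓 j ^ b j) z
        rw [stalkIdeal_prod, Finset.prod_eq_single j]
        · rw [stalkIdeal_pow, hzj]; exact hpow j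
        · intro j' hj'S hne'
          rw [stalkIdeal_pow]
          have hnot : z ∉ (𝓓 j').support := by
            intro hz'
            have h1 : gen (𝓓 j') ⤳ z := gen_specializes (𝓓 j') hz'
            have h2 : gen (𝓓 j') = gen (𝓓 j) := hmax j _ (hS_mem j' hj'S) (hzj ▸ h1)
            exact hne' (hinj j' hj'S j hjS h2)
          rw [stalkIdeal_eq_top_of_notMem hnot, ← Ideal.one_eq_top, one_pow]
        · intro h; exact absurd hjS h
      · exact hdim (two_le_dim_of_ne_gen (𝓓 i) (hD i) hi hzg)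

end Groth.Agent.Lib.Helper93.DivSumFinal
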