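import Groth.Agent.Lib.Helper93.DivSumAlg
import Groth.Agent.Lib.Helper21.CartierDesc

/-!
# Stalk ideals: order, specialization, generic points of prime divisors (helper93)
-/

set_option autoImplicit false
universe u
open CategoryTheory CategoryTheory.Limits AlgebraicGeometry TopologicalSpace

namespace Groth.Agent.Lib.Helper93.DivSumGeom

open Groth.Agent.Lib.Helper21.ProdDiv Groth.Agent.Lib.Helper21.Chart
  Groth.Agent.Lib.Helper21.ExtendCartier Groth.Agent.Lib.Helper21.LocFactorial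
  Groth.Agent.Lib.Helper21.EffCartierUFD Groth.Agent.Lib.Helper93.DivSumAlg

variable {X : Scheme.{u}}

lemma stalkIdeal_mono {I J : X.IdealSheafData} (h : I ≤ J) (x : X) :
    stalkIdeal I x ≤ stalkIdeal J x := by
  obtain ⟨W, hx⟩ := exists_affine_mem x
  rw [stalkIdeal_eq _ W x hx, stalkIdeal_eq _ W x hx]
  exact Ideal.map_mono (h W)

theorem le_of_stalkIdeal_le {I J : X.IdealSheafData}
    (h : ∀ x, stalkIdeal I x ≤ stalkIdeal J x) : I ≤ J := by
  intro W
  rw [W.2.ideal_le_iff]
  intro x hx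
  rw [← stalkIdeal_eq I W x hx, ← stalkIdeal_eq J W x hx]
  exact h x

/-- Stalk ideals are compatible with generization. -/
lemma stalkIdeal_specializes (I : X.IdealSheafData) {y x : X} (h : y ⤳ x) :
    stalkIdeal I y = (stalkIdeal I x).map (X.presheaf.stalkSpecializes h).hom := by
  obtain ⟨W, hx⟩ := exists_affine_mem x
  have hy : y ∈ W.1 := h.mem_open W.1.2 hx
  rw [stalkIdeal_eq _ W x hx, stalkIdeal_eq _ W y hy, Ideal.map_map, ← CommRingCat.hom_comp,
    TopCat.Presheaf.germ_stalkSpecializes]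

lemma mem_support_iff_stalkIdeal_ne_top {I : X.IdealSheafData} {x : X} :
    x ∈ I.support ↔ stalkIdeal I x ≠ ⊤ :=
  ⟨stalkIdeal_ne_top_of_mem, fun h => by
    by_contra hx; exact h (stalkIdeal_eq_top_of_notMem hx)⟩

/-- The Krull dimension of a stalk is the height of the corresponding prime in a chart. -/
lemma ringKrullDim_stalk_eq_height (W : X.affineOpens) (z : X) (hz : z ∈ W.1) :
    ringKrullDim (X.presheaf.stalk z) = (pr W.2 z hz).height := by
  let _ : Algebra Γ(X, W.1) (X.presheaf.stalk z) :=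
    TopCat.Presheaf.algebra_section_stalk X.presheaf ⟨z, hz⟩
  have : IsLocalization.AtPrime (X.presheaf.stalk z) (pr W.2 z hz) :=
    W.2.isLocalization_stalk ⟨z, hz⟩
  exact IsLocalization.AtPrime.ringKrullDim_eq_height (pr W.2 z hz) (X.presheaf.stalk z)

lemma eq_of_pr_eq (W : X.affineOpens) {y z : X} (hy : y ∈ W.1) (hz : z ∈ W.1)
    (h : pr W.2 y hy = pr W.2 z hz) : y = z := by
  have h3 : W.2.primeIdealOf ⟨y, hy⟩ = W.2.primeIdealOf ⟨z, hz⟩ := PrimeSpectrum.ext h
  have h4 := congrArg W.2.fromSpec h3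
  rwa [W.2.fromSpec_primeIdealOf, W.2.fromSpec_primeIdealOf] at h4

section Integral

variable (E : X.IdealSheafData) [IsIntegral E.subscheme]

/-- At its generic point, a prime divisor's stalk ideal is the maximal ideal. -/
lemma stalkIdeal_gen : stalkIdeal E (gen E) = IsLocalRing.maximalIdeal (X.presheaf.stalk (gen E)) := by
  obtain ⟨W, hW⟩ := exists_affine_mem (gen E)
  rw [stalkIdeal_eq E W _ hW, ideal_eq_pr E W hW]
  let _ : Algebra Γ(X, W.1) (X.presheaf.stalk (gen E)) :=
    TopCat.Presheaf.algebra_section_stalk X.presheaf ⟨gen E, hW⟩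
  have : IsLocalization.AtPrime (X.presheaf.stalk (gen E)) (pr W.2 (gen E) hW) :=
    W.2.isLocalization_stalk ⟨gen E, hW⟩
  exact IsLocalization.AtPrime.map_eq_maximalIdeal (pr W.2 (gen E) hW) (X.presheaf.stalk (gen E))

/-- If the stalk ideal of a prime divisor at a point of its support is the maximal ideal, the point
is the generic point. -/
lemma eq_gen_of_stalkIdeal_eq_maximalIdeal {z : X} (hz : z ∈ E.support)
    (h : stalkIdeal E z = IsLocalRing.maximalIdeal (X.presheaf.stalk z)) : z = gen E := by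
  obtain ⟨W, hzW⟩ := exists_affine_mem z
  have hξW : gen E ∈ W.1 := (gen_specializes E hz).mem_open W.1.2 hzW
  have h1 := (stalkIdeal_isPrime_and_comap E hz W hzW).2
  rw [h, ideal_eq_pr E W hξW] at h1
  let _ : Algebra Γ(X, W.1) (X.presheaf.stalk z) :=
    TopCat.Presheaf.algebra_section_stalk X.presheaf ⟨z, hzW⟩
  have : IsLocalization.AtPrime (X.presheaf.stalk z) (pr W.2 z hzW) :=
    W.2.isLocalization_stalk ⟨z, hzW⟩
  have h2 : (IsLocalRing.maximalIdeal (X.presheaf.stalk z)).comap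
      (algebraMap Γ(X, W.1) (X.presheaf.stalk z)) = pr W.2 z hzW :=
    IsLocalization.AtPrime.under_maximalIdeal (X.presheaf.stalk z) (pr W.2 z hzW)
  exact eq_of_pr_eq W hzW hξW (h2.symm.trans h1)

/-- Containment in a power of a prime divisor can be tested at its generic point. -/
theorem le_pow_iff_gen (D : X.IdealSheafData)
    (hE : BlowUp.IsEffCartierIdeal E) {x : X} (hx : x ∈ E.support) (n : ℕ) :
    stalkIdeal D x ≤ stalkIdeal E x ^ n ↔ stalkIdeal D (gen E) ≤ stalkIdeal E (gen E) ^ n := by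
  obtain ⟨W, hxW⟩ := exists_affine_mem x
  have hξW : gen E ∈ W.1 := (gen_specializes E hx).mem_open W.1.2 hxW
  rw [stalkIdeal_eq D W x hxW, stalkIdeal_eq E W x hxW, stalkIdeal_eq D W _ hξW,
    stalkIdeal_eq E W _ hξW]
  let _ : Algebra Γ(X, W.1) (X.presheaf.stalk x) :=
    TopCat.Presheaf.algebra_section_stalk X.presheaf ⟨x, hxW⟩
  have hloc : IsLocalization.AtPrime (X.presheaf.stalk x) (pr W.2 x hxW) :=
    W.2.isLocalization_stalk ⟨x, hxW⟩
  let _ : Algebra Γ(X, W.1) (X.presheaf.stalk (gen E)) :=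
    TopCat.Presheaf.algebra_section_stalk X.presheaf ⟨gen E, hξW⟩
  have hlocξ : IsLocalization.AtPrime (X.presheaf.stalk (gen E)) (pr W.2 (gen E) hξW) :=
    W.2.isLocalization_stalk ⟨gen E, hξW⟩
  have hI := ideal_eq_pr E W hξW
  obtain ⟨V, hxV, g, hg, hV⟩ := hE x
  obtain ⟨t, ht, hIt⟩ := exists_stalk_generator E V x hxV g hg hV W hxW
  have hle : pr W.2 (gen E) hξW ≤ pr W.2 x hxW :=
    pr_le_of_specializes W.2 hxW (gen_specializes E hx)
  rw [hI] at hIt ⊢
  exact map_le_map_pow_transfer (pr W.2 (gen E) hξW) (pr W.2 x hxW) hle (X.presheaf.stalk x)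
    (X.presheaf.stalk (gen E)) t ht hIt (D.ideal W) n

end Integral

end Groth.Agent.Lib.Helper93.DivSumGeom
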