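import Groth.Agent.Lib.Helper93.DivSumGeom
import Mathlib.Topology.NoetherianSpace
import Mathlib.Topology.Sober

/-!
# Sums of prime divisors inside a closed subscheme: main steps (helper93)
-/

set_option autoImplicit false
universe u
open CategoryTheory CategoryTheory.Limits AlgebraicGeometry TopologicalSpace

namespace Groth.Agent.Lib.Helper93.DivSumMain

open Groth.Agent.Lib.Helper21.ProdDiv Groth.Agent.Lib.Helper21.Chart
  Groth.Agent.Lib.Helper21.ExtendCartier Groth.Agent.Lib.Helper21.LocFactorial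
  Groth.Agent.Lib.Helper21.EffCartierUFD Groth.Agent.Lib.Helper93.DivSumAlg
  Groth.Agent.Lib.Helper93.DivSumGeom

variable {X : Scheme.{u}}

/-- If the support of `𝓩` is covered by effective Cartier divisors and a closed set of
codimension `≥ 2`, then no stalk of `𝓩` vanishes. -/
theorem stalkIdeal_ne_bot [IsLocallyNoetherian X] (𝓩 : X.IdealSheafData) {I : Type u}
    (𝓓 : I → X.IdealSheafData) (hD : ∀ i, BlowUp.IsEffCartierIdeal (𝓓 i)) (Z' : Set X)
    (hcodim : ∀ z ∈ Z', (∀ y ∈ Z', y ⤳ z → y = z) →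
      (2 : WithBot ℕ∞) ≤ ringKrullDim (X.presheaf.stalk z))
    (hcover : (𝓩.support : Set X) ⊆ Z' ∪ ⋃ i, ((𝓓 i).support : Set X)) (ξ : X) :
    stalkIdeal 𝓩 ξ ≠ ⊥ := by
  intro h0
  obtain ⟨W, hξW⟩ := exists_affine_mem ξ
  have hN : IsNoetherianRing Γ(X, W.1) := IsLocallyNoetherian.component_noetherian W
  obtain ⟨q, hq, hqp⟩ := Ideal.exists_minimalPrimes_le (I := ⊥) (J := pr W.2 ξ hξW) bot_le
  have hqprime : q.IsPrime := hq.1.1
  obtain ⟨P, hP⟩ : ∃ P : PrimeSpectrum Γ(X, W.1), P = ⟨q, hqprime⟩ := ⟨_, rfl⟩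
  obtain ⟨η, hη⟩ : ∃ η : X, η = W.2.fromSpec P := ⟨_, rfl⟩
  have hηW : η ∈ W.1 := hη ▸ fromSpec_mem W.2 P
  have hpr : pr W.2 η hηW = q := by
    subst hη
    rw [show pr W.2 (W.2.fromSpec P) hηW = P.asIdeal from
      congrArg PrimeSpectrum.asIdeal (primeIdealOf_fromSpec W.2 P), hP]
  have hspec : η ⤳ ξ := specializes_of_pr_le W.2 hηW hξW (hpr ▸ hqp)
  have hη0 : stalkIdeal 𝓩 η = ⊥ := by rw [stalkIdeal_specializes 𝓩 hspec, h0, Ideal.map_bot]
  have hηZ : η ∈ 𝓩.support :=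
    mem_support_iff_stalkIdeal_ne_top.mpr (by rw [hη0]; exact bot_ne_top)
  have hdim : ringKrullDim (X.presheaf.stalk η) = 0 := by
    rw [ringKrullDim_stalk_eq_height W η hηW, hpr]
    have : q.height = 0 := Ideal.height_eq_zero_iff.mpr hq
    rw [this]; rfl
  rcases hcover hηZ with hZ' | hDj
  · have hmax : ∀ y ∈ Z', y ⤳ η → y = η := by
      intro y _ hy
      have hyW : y ∈ W.1 := hy.mem_open W.1.2 hηW
      have hle : pr W.2 y hyW ≤ pr W.2 η hηW := pr_le_of_specializes W.2 hηW hy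
      have hge : pr W.2 η hηW ≤ pr W.2 y hyW := by
        rw [hpr]
        exact hq.2 ⟨inferInstance, bot_le⟩ (hpr ▸ hle)
      exact eq_of_pr_eq W hyW hηW (le_antisymm hle hge)
    have h2 := hcodim η hZ' hmax
    rw [hdim] at h2
    exact absurd h2 (by norm_num)
  · simp only [Set.mem_iUnion] at hDj
    obtain ⟨j, hj⟩ := hDj
    obtain ⟨t, ht, hEt⟩ := exists_stalkIdeal_generator (𝓓 j) (hD j) η
    have hK : Ring.KrullDimLE 0 (X.presheaf.stalk η) := by
      rw [Ring.krullDimLE_iff, hdim]; rfl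
    have hu := isUnit_of_mem_nonZeroDivisors t ht
    exact stalkIdeal_ne_top_of_mem hj (by rw [hEt, Ideal.span_singleton_eq_top]; exact hu)

section Integral

variable (E : X.IdealSheafData) [IsIntegral E.subscheme]

/-- At the generic point of a prime divisor, a nonzero ideal is a power of the divisor. -/
theorem stalkIdeal_gen_eq_pow [IsLocallyNoetherian X] (hE : BlowUp.IsEffCartierIdeal E)
    (𝓩 : X.IdealSheafData) (hne : stalkIdeal 𝓩 (gen E) ≠ ⊥) :
    stalkIdeal 𝓩 (gen E) = stalkIdeal E (gen E) ^ ordAt 𝓩 E (gen E) := by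
  obtain ⟨t, ht, hEt⟩ := exists_stalkIdeal_generator E hE (gen E)
  have hm : IsLocalRing.maximalIdeal (X.presheaf.stalk (gen E)) = Ideal.span {t} :=
    (stalkIdeal_gen E).symm.trans hEt
  have hspec := sSup_pow_spec' (stalkIdeal 𝓩 (gen E)) hne
  unfold ordAt
  rw [stalkIdeal_gen E]
  exact eq_pow_of_le_of_not_le t hm _ _ hspec.1 hspec.2

/-- The generic point of a prime divisor along which `𝓩` is a power of the divisor is a maximal
point of the support of `𝓩`. -/
theorem eq_gen_of_specializes (𝓩 : X.IdealSheafData) (a : ℕ)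
    (h : stalkIdeal 𝓩 (gen E) = stalkIdeal E (gen E) ^ a) {y : X} (hy : y ∈ 𝓩.support)
    (hyξ : y ⤳ gen E) : y = gen E := by
  by_cases hyE : y ∈ E.support
  · exact (hyξ.antisymm (gen_specializes E hyE)).eq
  · exfalso
    apply stalkIdeal_ne_top_of_mem hy
    rw [stalkIdeal_specializes 𝓩 hyξ, h, Ideal.map_pow, ← stalkIdeal_specializes E hyξ,
      stalkIdeal_eq_top_of_notMem hyE, ← Ideal.one_eq_top, one_pow]

end Integral

/-- In a Noetherian quasi-sober space a closed set has finitely many maximal points. -/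
theorem finite_maximal_points {α : Type*} [TopologicalSpace α] [NoetherianSpace α] [QuasiSober α]
    (Z : Set α) (hZ : IsClosed Z) : {t | t ∈ Z ∧ ∀ y ∈ Z, y ⤳ t → y = t}.Finite := by
  obtain ⟨S, hSfin, hSc, hSi, hSU⟩ := NoetherianSpace.exists_finite_set_isClosed_irreducible hZ
  have hsub : {t | t ∈ Z ∧ ∀ y ∈ Z, y ⤳ t → y = t} ⊆
      ⋃ C ∈ S, {t | t ∈ C ∧ ∀ y ∈ Z, y ⤳ t → y = t} := by
    rintro t ⟨htZ, ht⟩
    rw [hSU] at htZ
    obtain ⟨C, hCS, htC⟩ := htZ
    exact Set.mem_biUnion hCS ⟨htC, ht⟩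
  refine (hSfin.biUnion fun C hC => Set.Subsingleton.finite ?_).subset hsub
  obtain ⟨c, hc⟩ := QuasiSober.sober (hSi C hC) (hSc C hC)
  have hcZ : c ∈ Z := by
    rw [hSU]
    exact ⟨C, hC, hc.mem⟩
  have key : ∀ t, t ∈ C → (∀ y ∈ Z, y ⤳ t → y = t) → c = t := by
    intro t htC ht
    apply ht c hcZ
    rw [specializes_iff_mem_closure, hc.def]
    exact htC
  rintro t ⟨htC, ht⟩ t' ⟨ht'C, ht'⟩
  rw [← key t htC ht, ← key t' ht'C ht']

end Groth.Agent.Lib.Helper93.DivSumMain
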