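import Groth.Prelude.Def_Magnet
import Mathlib.CategoryTheory.Sites.Canonical
import Mathlib.CategoryTheory.Sites.Sheaf

/-!
# The functor of equivariant maps `T ↦ Hom_A(B ⊗ T, X)` is a sheaf for any subcanonical topology
(helper93)
-/

set_option autoImplicit false
universe v₁ u₁

open CategoryTheory CategoryTheory.Limits MonoidalCategory CartesianMonoidalCategory MonObj Opposite

namespace Groth.Agent.Lib.Helper93.EqvHomSheaf

variable {C : Type u₁} [Category.{v₁} C] [CartesianMonoidalCategory C]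
  (J : GrothendieckTopology C) [J.Subcanonical] {A B X : C} [MonObj A]

omit [MonObj A] in
/-- every `h : Y ⟶ B ⊗ T` factors as a graph followed by `B ◁ (h ≫ snd)` -/
theorem graph_whiskerLeft {Y T : C} (h : Y ⟶ B ⊗ T) :
    lift (h ≫ fst B T) (𝟙 Y) ≫ (B ◁ (h ≫ snd B T)) = h := by
  rw [lift_whiskerLeft, Category.id_comp]
  exact (lift_comp_fst_snd h)

theorem eqvHom_isSheaf (ρ : Magnet.MonAct A B) (a : Magnet.MonAct A X) :
    Presheaf.IsSheaf J (Magnet.MonAct.eqvHom ρ a) := by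
  rw [isSheaf_iff_isSheaf_of_type]
  have hY : Presieve.IsSheaf J (yoneda.obj X) :=
    GrothendieckTopology.Subcanonical.isSheaf_of_isRepresentable (yoneda.obj X)
  intro T S hS
  have hS' : S.pullback (snd B T) ∈ J (B ⊗ T) := J.pullback_stable (snd B T) hS
  rw [← Presieve.isSeparatedFor_and_exists_isAmalgamation_iff_isSheafFor]
  constructor
  · -- separated
    intro x t₁ t₂ h₁ h₂
    apply Subtype.ext
    refine (hY _ hS').isSeparatedFor.ext (t₁ := (t₁.1 : B ⊗ T ⟶ X)) (t₂ := (t₂.1 : B ⊗ T ⟶ X)) ?_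
    intro Y h hh
    have hh' : S.arrows (h ≫ snd B T) := hh
    have e₁ : (B ◁ (h ≫ snd B T)) ≫ t₁.1 = (x _ hh').1 := congrArg Subtype.val (h₁ _ hh')
    have e₂ : (B ◁ (h ≫ snd B T)) ≫ t₂.1 = (x _ hh').1 := congrArg Subtype.val (h₂ _ hh')
    change h ≫ t₁.1 = h ≫ t₂.1
    rw [← graph_whiskerLeft h, Category.assoc, Category.assoc, e₁, e₂]
  · intro x hx
    -- compatibility of `x`, in terms of underlying morphisms
    have hx' : ∀ {Y₁ Y₂ Z : C} (g₁ : Z ⟶ Y₁) (g₂ : Z ⟶ Y₂) {f₁ : Y₁ ⟶ T} {f₂ : Y₂ ⟶ T}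
        (h₁ : S.arrows f₁) (h₂ : S.arrows f₂), g₁ ≫ f₁ = g₂ ≫ f₂ →
        (B ◁ g₁) ≫ (x f₁ h₁).1 = (B ◁ g₂) ≫ (x f₂ h₂).1 := by
      intro Y₁ Y₂ Z g₁ g₂ f₁ f₂ h₁ h₂ comm
      exact congrArg Subtype.val (hx g₁ g₂ h₁ h₂ comm)
    let y : Presieve.FamilyOfElements (yoneda.obj X) (S.pullback (snd B T)).arrows :=
      fun Y h hh => lift (h ≫ fst B T) (𝟙 Y) ≫ (x (h ≫ snd B T) hh).1
    have hy : y.Compatible := by
      intro Y₁ Y₂ Z g₁ g₂ h₁ h₂ hh₁ hh₂ comm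
      change g₁ ≫ lift (h₁ ≫ fst B T) (𝟙 Y₁) ≫ (x (h₁ ≫ snd B T) hh₁).1 =
        g₂ ≫ lift (h₂ ≫ fst B T) (𝟙 Y₂) ≫ (x (h₂ ≫ snd B T) hh₂).1
      have e1 : g₁ ≫ lift (h₁ ≫ fst B T) (𝟙 Y₁) =
          lift (g₁ ≫ h₁ ≫ fst B T) (𝟙 Z) ≫ (B ◁ g₁) := by
        rw [comp_lift, lift_whiskerLeft, Category.comp_id, Category.id_comp]
      have e2 : g₂ ≫ lift (h₂ ≫ fst B T) (𝟙 Y₂) =
          lift (g₂ ≫ h₂ ≫ fst B T) (𝟙 Z) ≫ (B ◁ g₂) := by
        rw [comp_lift, lift_whiskerLeft, Category.comp_id, Category.id_comp]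
      rw [← Category.assoc, e1, ← Category.assoc g₂, e2, Category.assoc, Category.assoc,
        hx' g₁ g₂ hh₁ hh₂ (by rw [← Category.assoc, comm, Category.assoc]),
        ← Category.assoc g₁, comm, Category.assoc]
    obtain ⟨φ, hφ⟩ := (Presieve.isSeparatedFor_and_exists_isAmalgamation_iff_isSheafFor.mpr
      (hY _ hS')).2 y hy
    have hφ' : ∀ {Y : C} (h : Y ⟶ B ⊗ T) (hh : S.arrows (h ≫ snd B T)),
        h ≫ φ = lift (h ≫ fst B T) (𝟙 Y) ≫ (x (h ≫ snd B T) hh).1 := fun h hh => hφ h hh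
    -- `φ` restricts to the given family
    have hres : ∀ {Y : C} (f : Y ⟶ T) (hf : S.arrows f), (B ◁ f) ≫ φ = (x f hf).1 := by
      intro Y f hf
      have hmem : S.arrows ((B ◁ f) ≫ snd B T) := by
        rw [whiskerLeft_snd]
        exact S.downward_closed hf (snd B Y)
      rw [hφ' (B ◁ f) hmem]
      have := hx' (𝟙 (B ⊗ Y)) (snd B Y) hmem hf (by rw [Category.id_comp, whiskerLeft_snd])
      rw [MonoidalCategory.whiskerLeft_id, Category.id_comp] at this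
      rw [this, whiskerLeft_fst, ← Category.assoc, lift_whiskerLeft, Category.id_comp,
        lift_fst_snd, Category.id_comp]
    have heq : Magnet.MonAct.IsEquivariant (ρ.prod (Magnet.MonAct.trivial A T)) a φ := by
      rw [Magnet.MonAct.mem_eqvHom_iff]
      intro T' g b t
      refine (hY (S.pullback t) (J.pullback_stable t hS)).isSeparatedFor.ext
        (t₁ := (lift (lift g b ≫ ρ.act) t ≫ φ : T' ⟶ X))
        (t₂ := (lift g (lift b t ≫ φ) ≫ a.act : T' ⟶ X)) ?_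
      intro Y u hu
      have hu' : S.arrows (u ≫ t) := hu
      change u ≫ lift (lift g b ≫ ρ.act) t ≫ φ = u ≫ lift g (lift b t ≫ φ) ≫ a.act
      have hmem := (Magnet.MonAct.mem_eqvHom_iff (x (u ≫ t) hu').1).mp (x (u ≫ t) hu').2
        Y (u ≫ g) (u ≫ b) (𝟙 Y)
      have e1 : u ≫ lift (lift g b ≫ ρ.act) t =
          lift (lift (u ≫ g) (u ≫ b) ≫ ρ.act) (𝟙 Y) ≫ (B ◁ (u ≫ t)) := by
        rw [comp_lift, lift_whiskerLeft, Category.id_comp, ← Category.assoc, comp_lift]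
      have e2 : u ≫ lift b t = lift (u ≫ b) (𝟙 Y) ≫ (B ◁ (u ≫ t)) := by
        rw [comp_lift, lift_whiskerLeft, Category.id_comp]
      rw [← Category.assoc, e1, Category.assoc, hres (u ≫ t) hu', hmem, comp_lift_assoc,
        ← Category.assoc u, e2, Category.assoc, hres (u ≫ t) hu']
    refine ⟨⟨φ, heq⟩, ?_⟩
    intro Y f hf
    apply Subtype.ext
    exact hres f hf

end Groth.Agent.Lib.Helper93.EqvHomSheaf
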