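import Groth.Agent.Lib.Helper93.FibreLength
import Groth.Agent.Lib.Helper13.LimDescent
import Mathlib.AlgebraicGeometry.Fiber
import Mathlib.RingTheory.Ideal.MinimalPrime.Basic

/-!
# Generic points of fibres and descent of empty fibres along limits (helper93)
-/

set_option autoImplicit false
universe u

open CategoryTheory CategoryTheory.Limits AlgebraicGeometry IsLocalRing

namespace Groth.Agent.Lib.Helper93.FibreGeneric

open Groth.Agent.Lib.Helper93.FibreLength

section Generic

variable {X Y : Scheme.{u}} (f : X ⟶ Y)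

/-- Every point of a fibre has a generization in the same fibre which is a generic point of
the fibre. -/
lemma exists_generic_in_fibre (x₀ : X) :
    ∃ x : X, f x = f x₀ ∧ ∀ x', f x' = f x → x' ⤳ x → x' = x := by
  obtain ⟨p, hp, hpm⟩ := Ideal.exists_minimalPrimes_le (fibreIdeal_le_maximalIdeal f x₀)
  have hpp : p.IsPrime := hp.1.1
  refine ⟨X.fromSpecStalk x₀ ⟨p, hpp⟩, (map_fromSpecStalk_eq_iff f x₀ p).mpr hp.1.2, ?_⟩
  intro x' hx' hspec
  have hx'x₀ : x' ⤳ x₀ := by
    refine hspec.trans ?_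
    have : X.fromSpecStalk x₀ ⟨p, hpp⟩ ∈ Set.range (X.fromSpecStalk x₀) := ⟨_, rfl⟩
    rwa [Scheme.range_fromSpecStalk] at this
  obtain ⟨⟨p', hp'⟩, rfl⟩ : x' ∈ Set.range (X.fromSpecStalk x₀) := by
    rw [Scheme.range_fromSpecStalk]
    exact hx'x₀
  have h1 : fibreIdeal f x₀ ≤ p' := by
    rw [← map_fromSpecStalk_eq_iff f x₀ p', hx', (map_fromSpecStalk_eq_iff f x₀ p).mpr hp.1.2]
  have h2 : (⟨p', hp'⟩ : PrimeSpectrum (X.presheaf.stalk x₀)) ⤳ ⟨p, hpp⟩ :=
    (X.fromSpecStalk x₀).isEmbedding.isInducing.specializes_iff.mp hspec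
  have h3 : p' ≤ p := (PrimeSpectrum.le_iff_specializes ⟨p', hp'⟩ ⟨p, hpp⟩).mpr h2
  have h4 : p ≤ p' := hp.2 ⟨hp', h1⟩ h3
  have h5 : p' = p := le_antisymm h3 h4
  subst h5
  rfl

end Generic

section Limit

variable {J : Type u} [SmallCategory J] [IsCofiltered J] (D : J ⥤ Scheme.{u}) (c : Cone D)
  (hc : IsLimit c)

open Groth.Agent.Lib.Helper13.LimDescent in
include hc in
/-- If the fibre of the limit over a point of a stage is empty, so is the fibre of a later
stage. -/
lemma exists_fibre_empty [∀ {i j : J} (f : i ⟶ j), IsAffineHom (D.map f)] (i : J) (y : D.obj i)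
    (hempty : ∀ x : c.pt, c.π.app i x ≠ y) :
    ∃ k : Over i, ∀ x : D.obj k.left, D.map k.hom x ≠ y := by
  let h₀ : Spec ((D.obj i).residueField y) ⟶ D.obj i := (D.obj i).fromSpecResidueField y
  have hh₀ : ∀ pt, h₀ pt = y := fun pt => by
    have : h₀ pt ∈ Set.range h₀ := ⟨pt, rfl⟩
    rw [Scheme.range_fromSpecResidueField] at this
    exact this
  have hlim := isLimitSysCone D c i h₀ hc
  have hemp : IsEmpty (sysCone D c i h₀).pt := by
    constructor
    intro z
    change ↥(pullback (c.π.app i) h₀) at z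
    refine hempty (pullback.fst (c.π.app i) h₀ z) ?_
    rw [← Scheme.Hom.comp_apply, pullback.condition, Scheme.Hom.comp_apply, hh₀]
  by_contra hcon
  push Not at hcon
  have hne : ∀ k : Over i, Nonempty ((sys D i h₀).obj k) := by
    intro k
    obtain ⟨x, hx⟩ := hcon k
    obtain ⟨pt⟩ : Nonempty (Spec ((D.obj i).residueField y)) := inferInstance
    obtain ⟨z, -, -⟩ := Scheme.Pullback.exists_preimage_pullback (f := D.map k.hom) (g := h₀) x pt
      (hx.trans (hh₀ pt).symm)
    exact ⟨z⟩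
  have := Scheme.nonempty_of_isLimit (sys D i h₀) (sysCone D c i h₀) hlim
  exact hemp.false this.some

end Limit

end Groth.Agent.Lib.Helper93.FibreGeneric
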