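import Groth.Agent.Lib.Helper93.FiniteTypeSub
import Groth.Agent.Lib.Helper13.LimSections
import Groth.Agent.Lib.Helper18.IdealComap
import Mathlib.AlgebraicGeometry.AffineTransitionLimit

/-!
# Finite type ideal sheaves on a cofiltered limit descend to a stage (helper93)
-/

set_option autoImplicit false
universe u

open CategoryTheory CategoryTheory.Limits AlgebraicGeometry TopologicalSpace

namespace Groth.Agent.Lib.Helper93.LimitIdealFG

open Groth.Agent.Lib.Helper93.FiniteTypeSub Groth.Agent.Lib.Helper93.FiniteTypeExtend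
  Groth.Agent.Lib.Helper13.LimSections Groth.Agent.Lib.Helper18

section General

variable {X Y : Scheme.{u}}

/-- A section whose pullback lies in `J` lies in the pushforward ideal. -/
lemma mem_ideal_map_of_appLE_mem (f : X ⟶ Y) [IsAffineHom f] (J : X.IdealSheafData)
    (V : Y.affineOpens) (U : X.affineOpens) (e : U.1 ≤ f ⁻¹ᵁ V.1) (e' : f ⁻¹ᵁ V.1 ≤ U.1)
    (s : Γ(Y, V.1)) (hs : (f.appLE V.1 U.1 e).hom s ∈ J.ideal U) : s ∈ (J.map f).ideal V := by
  obtain rfl : U = ⟨f ⁻¹ᵁ V.1, V.2.preimage f⟩ := Subtype.ext (le_antisymm e e')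
  rw [Scheme.IdealSheafData.ideal_map_of_isAffineHom, Ideal.mem_comap]
  simpa [Scheme.Hom.appLE] using hs

end General

section Directed

variable {I : Type u} [SmallCategory I] [IsCofiltered I]

lemma exists_common {α : Type*} (t : Finset α) (P : α → I → Prop)
    (hmono : ∀ a (j j' : I) (_ : j' ⟶ j), P a j → P a j') (h : ∀ a ∈ t, ∃ j, P a j) :
    ∃ j, ∀ a ∈ t, P a j := by
  classical
  induction t using Finset.induction_on with
  | empty =>
    obtain ⟨j⟩ := IsCofiltered.nonempty (C := I)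
    exact ⟨j, fun a ha => (Finset.notMem_empty a ha).elim⟩
  | insert a t _ ih =>
    obtain ⟨j₁, h₁⟩ := ih (fun b hb => h b (Finset.mem_insert_of_mem hb))
    obtain ⟨j₂, h₂⟩ := h a (Finset.mem_insert_self a t)
    refine ⟨IsCofiltered.min j₁ j₂, fun b hb => ?_⟩
    rcases Finset.mem_insert.mp hb with rfl | hb
    · exact hmono _ _ _ (IsCofiltered.minToRight j₁ j₂) h₂
    · exact hmono _ _ _ (IsCofiltered.minToLeft j₁ j₂) (h₁ b hb)

end Directed

section Main

variable {I : Type u} [SmallCategory I] [IsCofiltered I] (D : I ⥤ Scheme.{u}) (c : Cone D)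
  (hc : IsLimit c) (J : c.pt.IdealSheafData)

/-- The part of `J` coming from stage `j`. -/
noncomputable def stagePart (j : I) : c.pt.IdealSheafData := (J.map (c.π.app j)).comap (c.π.app j)

lemma stagePart_le (j : I) : stagePart D c J j ≤ J :=
  Scheme.IdealSheafData.comap_map_le _ _

lemma stagePart_mono {j j' : I} (t : j' ⟶ j) : stagePart D c J j ≤ stagePart D c J j' := by
  have h1 : stagePart D c J j =
      ((J.map (c.π.app j)).comap (D.map t)).comap (c.π.app j') := by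
    rw [stagePart, ← Scheme.IdealSheafData.comap_comp, c.w]
  rw [h1]
  refine Scheme.IdealSheafData.comap_mono _ ?_
  rw [Scheme.IdealSheafData.le_map_iff_comap_le, ← h1]
  exact stagePart_le D c J j

include hc in
lemma exists_mem_stagePart [∀ {i j : I} (f : i ⟶ j), IsAffineHom (D.map f)]
    (i : I) (V : (D.obj i).affineOpens) (U : c.pt.affineOpens) (hU : U.1 = c.π.app i ⁻¹ᵁ V.1)
    (g : Γ(c.pt, U.1)) (hg : g ∈ J.ideal U) :
    ∃ j : I, g ∈ (stagePart D c J j).ideal U := by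
  obtain ⟨U, hUaff⟩ := U
  change U = _ at hU
  subst hU
  obtain ⟨j, s, hs⟩ := exists_appLE_eq D c hc i V.1 V.2 g
  have := isAffineHom_π_app D c hc
  refine ⟨j.left, ?_⟩
  have hle := (preimage_preimage_eq D c j V.1).ge
  have hmem : s ∈ (J.map (c.π.app j.left)).ideal ⟨D.map j.hom ⁻¹ᵁ V.1, V.2.preimage _⟩ :=
    mem_ideal_map_of_appLE_mem (c.π.app j.left) J ⟨D.map j.hom ⁻¹ᵁ V.1, V.2.preimage _⟩
      ⟨c.π.app i ⁻¹ᵁ V.1, hUaff⟩ hle (preimage_preimage_eq D c j V.1).le s (hs ▸ hg)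
  rw [stagePart, ideal_comap_of_le (c.π.app j.left) _ ⟨c.π.app i ⁻¹ᵁ V.1, hUaff⟩
    ⟨D.map j.hom ⁻¹ᵁ V.1, V.2.preimage _⟩ hle, hs]
  exact Ideal.mem_map_of_mem _ hmem

include hc in
/-- A finite type quasi-coherent ideal sheaf on a cofiltered limit of qcqs schemes with affine
transition maps is the pullback of a finite type ideal sheaf on some stage. -/
theorem exists_idealSheaf_fg_descend [∀ {i j : I} (f : i ⟶ j), IsAffineHom (D.map f)]
    [∀ i, CompactSpace (D.obj i)] [∀ i, QuasiSeparatedSpace (D.obj i)]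
    (hJ : ∀ U : c.pt.affineOpens, (J.ideal U).FG) :
    ∃ (i : I) (Ji : (D.obj i).IdealSheafData), (∀ U : (D.obj i).affineOpens, (Ji.ideal U).FG) ∧
      Ji.comap (c.π.app i) = J := by
  classical
  have haffπ := isAffineHom_π_app D c hc
  -- Step 1: a stage `j` with `stagePart j = J`.
  obtain ⟨i₀⟩ := IsCofiltered.nonempty (C := I)
  obtain ⟨S₀, hS₀fin, hS₀⟩ := isCompact_iff_finite_and_eq_biUnion_affineOpens.mp
    (show IsCompact ((⊤ : (D.obj i₀).Opens) : Set (D.obj i₀)) from isCompact_univ)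
  let Uof : (D.obj i₀).affineOpens → c.pt.affineOpens := fun V =>
    ⟨c.π.app i₀ ⁻¹ᵁ V.1, V.2.preimage (c.π.app i₀)⟩
  have hstep1 : ∀ V ∈ hS₀fin.toFinset, ∃ j : I, J.ideal (Uof V) ≤ (stagePart D c J j).ideal (Uof V) := by
    intro V _
    obtain ⟨G, hG⟩ := hJ (Uof V)
    obtain ⟨j, hj⟩ := exists_common G (fun g j => g ∈ (stagePart D c J j).ideal (Uof V))
      (fun g j j' t hgj => stagePart_mono D c J t (Uof V) hgj)
      (fun g hgG => exists_mem_stagePart D c hc J i₀ V (Uof V) rfl g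
        (hG ▸ Ideal.subset_span hgG))
    refine ⟨j, ?_⟩
    rw [← hG, Ideal.span_le]
    exact fun g hg => hj g hg
  obtain ⟨j, hj⟩ := exists_common hS₀fin.toFinset
    (fun V j => J.ideal (Uof V) ≤ (stagePart D c J j).ideal (Uof V))
    (fun V j j' t h => h.trans (stagePart_mono D c J t (Uof V))) hstep1
  have hcov₀ : ⨆ V : hS₀fin.toFinset, (Uof V.1).1 = ⊤ := by
    rw [eq_top_iff]
    intro z _
    have hz : c.π.app i₀ z ∈ (⊤ : (D.obj i₀).Opens) := trivial
    rw [hS₀] at hz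
    obtain ⟨V, hz⟩ := Opens.mem_iSup.mp hz
    obtain ⟨hV, hz⟩ := Opens.mem_iSup.mp hz
    exact Opens.mem_iSup.mpr ⟨⟨V, hS₀fin.mem_toFinset.mpr hV⟩, hz⟩
  have hstage : stagePart D c J j = J :=
    le_antisymm (stagePart_le D c J j)
      (Scheme.IdealSheafData.le_of_iSup_eq_top (fun V : hS₀fin.toFinset => Uof V.1) hcov₀
        (fun V => hj V.1 V.2))
  -- Step 2: a finite type sub-ideal of `J.map π_j` pulling back to `J`.
  obtain ⟨S, hSfin, hS⟩ := isCompact_iff_finite_and_eq_biUnion_affineOpens.mp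
    (show IsCompact ((⊤ : (D.obj j).Opens) : Set (D.obj j)) from isCompact_univ)
  let Uof' : (D.obj j).affineOpens → c.pt.affineOpens := fun W =>
    ⟨c.π.app j ⁻¹ᵁ W.1, W.2.preimage (c.π.app j)⟩
  have hUof' : ∀ W : (D.obj j).affineOpens, ∀ K : (D.obj j).IdealSheafData,
      (K.comap (c.π.app j)).ideal (Uof' W) =
        (K.ideal W).map ((c.π.app j).appLE W.1 (Uof' W).1 le_rfl).hom := fun W K =>
    ideal_comap_of_le (c.π.app j) K (Uof' W) W le_rfl
  have hfg : ∀ W : (D.obj j).affineOpens, ∃ N : Ideal Γ(D.obj j, W.1), N.FG ∧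
      N ≤ (J.map (c.π.app j)).ideal W ∧
      N.map ((c.π.app j).appLE W.1 (Uof' W).1 le_rfl).hom = J.ideal (Uof' W) := by
    intro W
    have h1 : (((J.map (c.π.app j)).ideal W).map
        ((c.π.app j).appLE W.1 (Uof' W).1 le_rfl).hom).FG := by
      rw [← hUof' W, show (J.map (c.π.app j)).comap (c.π.app j) = J from hstage]
      exact hJ _
    obtain ⟨N, hN1, hN2, hN3⟩ := exists_fg_le_map_eq _ _ h1
    refine ⟨N, hN1, hN2, ?_⟩
    rw [hN3, ← hUof' W, show (J.map (c.π.app j)).comap (c.π.app j) = J from hstage]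
  choose N hN1 hN2 hN3 using hfg
  obtain ⟨Jj, hJj1, hJj2, hJj3⟩ := exists_isFiniteTypeIdeal_le_of_fg_finset
    (J.map (c.π.app j)) hSfin.toFinset id N (fun W _ => hN1 W) (fun W _ => hN2 W)
  have hcov : ⨆ W : hSfin.toFinset, (Uof' W.1).1 = ⊤ := by
    rw [eq_top_iff]
    intro z _
    have hz : c.π.app j z ∈ (⊤ : (D.obj j).Opens) := trivial
    rw [hS] at hz
    obtain ⟨W, hz⟩ := Opens.mem_iSup.mp hz
    obtain ⟨hW, hz⟩ := Opens.mem_iSup.mp hz
    exact Opens.mem_iSup.mpr ⟨⟨W, hSfin.mem_toFinset.mpr hW⟩, hz⟩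
  refine ⟨j, Jj, hJj2, le_antisymm ?_ ?_⟩
  · calc Jj.comap (c.π.app j) ≤ (J.map (c.π.app j)).comap (c.π.app j) :=
          Scheme.IdealSheafData.comap_mono _ hJj1
      _ ≤ J := Scheme.IdealSheafData.comap_map_le _ _
  · refine Scheme.IdealSheafData.le_of_iSup_eq_top (fun W : hSfin.toFinset => Uof' W.1) hcov ?_
    intro W
    rw [hUof' W.1 Jj, ← hN3 W.1]
    exact Ideal.map_mono (hJj3 W.1 W.2)

end Main

end Groth.Agent.Lib.Helper93.LimitIdealFG
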