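import Groth.Agent.Lib.Helper93.FibreGeneric
import Groth.Agent.Lib.Helper93.LimitIdealFG
import Groth.Agent.Lib.Helper13.LimSections
import Mathlib.AlgebraicGeometry.AffineTransitionLimit

/-!
# In a limit of schemes, fibres through a point eventually become reduced and irreducible at
that point (helper93)
-/

set_option autoImplicit false
universe u

open CategoryTheory CategoryTheory.Limits AlgebraicGeometry IsLocalRing TopologicalSpace

namespace Groth.Agent.Lib.Helper93.FibreIdealLimit

open Groth.Agent.Lib.Helper93.FibreLength Groth.Agent.Lib.Helper93.FibreGeneric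
  Groth.Agent.Lib.Helper13.LimSections

section Comp

variable {X Y Z : Scheme.{u}}

/-- The fibre ideal of a composite is contained in the fibre ideal of the first map. -/
lemma fibreIdeal_comp_le (f : X ⟶ Y) (g : Y ⟶ Z) (x : X) :
    fibreIdeal (f ≫ g) x ≤ fibreIdeal f x := by
  unfold fibreIdeal
  rw [Ideal.map_le_iff_le_comap]
  intro z hz
  rw [Ideal.mem_comap]
  have h1 : ((f ≫ g).stalkMap x).hom z = (f.stalkMap x).hom ((g.stalkMap (f x)).hom z) :=
    congr($(Scheme.Hom.stalkMap_comp f g x) z)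
  rw [h1]
  refine Ideal.mem_map_of_mem _ ?_
  exact map_maximalIdeal_le (g.stalkMap (f x)).hom (Ideal.mem_map_of_mem _ hz)

end Comp

section Limit

variable {J : Type u} [SmallCategory J] [IsCofiltered J] (D : J ⥤ Scheme.{u}) (c : Cone D)
  (hc : IsLimit c)

lemma fibreIdeal_mono {i j : J} (t : j ⟶ i) (x : c.pt) :
    fibreIdeal (X := c.pt) (c.π.app i) x ≤ fibreIdeal (X := c.pt) (c.π.app j) x := by
  have h := fibreIdeal_comp_le (X := c.pt) (c.π.app j) (D.map t) x
  have hw : c.π.app j ≫ D.map t = c.π.app i := c.w t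
  rw [hw] at h
  exact h

open Groth.Agent.Lib.Helper93.LimitIdealFG in
include hc in
/-- For a point of a locally Noetherian limit, at a late enough stage the fibre through the
point is reduced at it: the maximal ideal of the local ring is generated by the maximal ideal of
the image point. -/
lemma exists_fibreIdeal_eq_maximalIdeal [∀ {i j : J} (f : i ⟶ j), IsAffineHom (D.map f)]
    [IsLocallyNoetherian c.pt] (x : c.pt) :
    ∃ i : J, fibreIdeal (X := c.pt) (c.π.app i) x = maximalIdeal (c.pt.presheaf.stalk x) := by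
  classical
  obtain ⟨i₀⟩ := IsCofiltered.nonempty (C := J)
  obtain ⟨V, hV, hxV⟩ : ∃ V : (D.obj i₀).Opens, IsAffineOpen V ∧ c.π.app i₀ x ∈ V := by
    obtain ⟨_, ⟨V, hV, rfl⟩, hxV, -⟩ := (D.obj i₀).isBasis_affineOpens.exists_subset_of_mem_open
      (Set.mem_univ (c.π.app i₀ x)) isOpen_univ
    exact ⟨V, hV, hxV⟩
  have haffπ := isAffineHom_π_app D c hc
  let U' : c.pt.Opens := c.π.app i₀ ⁻¹ᵁ V
  have hU' : IsAffineOpen U' := hV.preimage (c.π.app i₀)
  have hxU' : x ∈ U' := hxV
  have hnoeth : IsNoetherianRing Γ(c.pt, U') :=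
    IsLocallyNoetherian.component_noetherian ⟨U', hU'⟩
  let P' : Ideal Γ(c.pt, U') := (hU'.primeIdealOf ⟨x, hxU'⟩).asIdeal
  obtain ⟨G, hG⟩ : P'.FG := IsNoetherian.noetherian P'
  have hPmem : ∀ g ∈ P', c.pt.presheaf.germ U' x hxU' g ∈ maximalIdeal (c.pt.presheaf.stalk x) := by
    intro g hg
    change g ∈ (hU'.primeIdealOf ⟨x, hxU'⟩).asIdeal at hg
    rw [hU'.primeIdealOf_eq_map_closedPoint] at hg
    exact hg
  have key : ∀ g ∈ G, ∃ j : J, c.pt.presheaf.germ U' x hxU' g ∈
      fibreIdeal (X := c.pt) (c.π.app j) x := by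
    intro g hgG
    have hgP : g ∈ P' := hG ▸ Ideal.subset_span hgG
    obtain ⟨k, s, hs⟩ := exists_appLE_eq D c hc i₀ V hV g
    refine ⟨k.left, ?_⟩
    have hle := (preimage_preimage_eq D c k V).ge
    have hxVk : c.π.app k.left x ∈ D.map k.hom ⁻¹ᵁ V := hle hxU'
    have hgerm : c.pt.presheaf.germ U' x hxU' g =
        ((c.π.app k.left).stalkMap x).hom
          ((D.obj k.left).presheaf.germ (D.map k.hom ⁻¹ᵁ V) (c.π.app k.left x) hxVk s) := by
      rw [hs]
      have h1 := Scheme.Hom.germ_stalkMap_apply (c.π.app k.left) (D.map k.hom ⁻¹ᵁ V) x hxVk s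
      refine Eq.trans ?_ h1.symm
      rw [Scheme.Hom.appLE, CommRingCat.comp_apply]
      exact TopCat.Presheaf.germ_res_apply c.pt.presheaf (homOfLE hle) x hxU' _
    rw [hgerm]
    refine Ideal.mem_map_of_mem _ ?_
    rw [mem_maximalIdeal, mem_nonunits_iff]
    intro hu
    have h2 := hPmem g hgP
    rw [hgerm, mem_maximalIdeal, mem_nonunits_iff] at h2
    exact h2 (hu.map _)
  obtain ⟨j, hj⟩ := exists_common G
    (fun g j => c.pt.presheaf.germ U' x hxU' g ∈ fibreIdeal (X := c.pt) (c.π.app j) x)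
    (fun g j j' t h => fibreIdeal_mono D c t x h) key
  refine ⟨j, le_antisymm (fibreIdeal_le_maximalIdeal _ x) ?_⟩
  letI := c.pt.presheaf.algebra_section_stalk ⟨x, hxU'⟩
  have hloc := hU'.isLocalization_stalk ⟨x, hxU'⟩
  have hmax : Ideal.map (algebraMap Γ(c.pt, U') (c.pt.presheaf.stalk x)) P' =
      maximalIdeal (c.pt.presheaf.stalk x) :=
    IsLocalization.AtPrime.map_eq_maximalIdeal P' (c.pt.presheaf.stalk x)
  rw [← hmax, ← hG, Ideal.map_span, Ideal.span_le]
  rintro _ ⟨g, hg, rfl⟩
  exact hj g hg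

include hc in
/-- For a point of a Noetherian limit, at a late enough stage the fibre through the point is
contained in the closure of the point. -/
lemma exists_fibre_subset_closure [∀ {i j : J} (f : i ⟶ j), IsAffineHom (D.map f)]
    [∀ i, CompactSpace (D.obj i)] [IsLocallyNoetherian c.pt] (x : c.pt) :
    ∃ i : J, ∀ x' : c.pt, c.π.app i x' = c.π.app i x → x ⤳ x' := by
  have : CompactSpace c.pt := Scheme.compactSpace_of_isLimit D c hc
  have : IsNoetherian c.pt := {}
  let W' : c.pt.Opens := ⟨(closure {x})ᶜ, isClosed_closure.isOpen_compl⟩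
  have hW'c : IsCompact (W' : Set c.pt) := NoetherianSpace.isCompact _
  obtain ⟨i, V, -, hV⟩ := exists_preimage_eq D c hc W' hW'c
  refine ⟨i, fun x' hx' => ?_⟩
  rw [specializes_iff_mem_closure]
  by_contra hcon
  have h1 : x' ∈ W' := hcon
  rw [← hV] at h1
  have h2 : c.π.app i x ∈ V := hx' ▸ h1
  have h3 : x ∈ c.π.app i ⁻¹ᵁ V := h2
  rw [hV] at h3
  exact h3 (subset_closure rfl)

end Limit

end Groth.Agent.Lib.Helper93.FibreIdealLimit
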