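import Mathlib.AlgebraicGeometry.Stalk
import Mathlib.AlgebraicGeometry.Noetherian
import Mathlib.RingTheory.HopkinsLevitzki
import Mathlib.RingTheory.Length
import Mathlib.RingTheory.KrullDimension.Basic

/-!
# The local ring of a fibre at a generic point has positive finite length (helper93)
-/

set_option autoImplicit false
universe u

open CategoryTheory AlgebraicGeometry IsLocalRing

namespace Groth.Agent.Lib.Helper93.FibreLength

variable {X Y : Scheme.{u}} (f : X ⟶ Y) (x : X)

/-- The ideal of the fibre through `x` in the local ring at `x`. -/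
noncomputable abbrev fibreIdeal : Ideal (X.presheaf.stalk x) :=
  Ideal.map (f.stalkMap x).hom (maximalIdeal (Y.presheaf.stalk (f x)))

lemma fibreIdeal_le_maximalIdeal : fibreIdeal f x ≤ maximalIdeal (X.presheaf.stalk x) :=
  map_maximalIdeal_le (f.stalkMap x).hom

/-- Dictionary: a generization of `x` given by a prime `P` of the local ring lies in the fibre
through `x` iff `P` contains the fibre ideal. -/
lemma map_fromSpecStalk_eq_iff (P : Ideal (X.presheaf.stalk x)) [hP : P.IsPrime] :
    f (X.fromSpecStalk x ⟨P, hP⟩) = f x ↔ fibreIdeal f x ≤ P := by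
  let p : Spec (X.presheaf.stalk x) := ⟨P, hP⟩
  have h0 : Y.fromSpecStalk (f x) (Spec.map (f.stalkMap x) p) = f (X.fromSpecStalk x p) := by
    have := congr($(Scheme.SpecMap_stalkMap_fromSpecStalk f (x := x)) p)
    rwa [Scheme.Hom.comp_apply, Scheme.Hom.comp_apply] at this
  have h1 : (Spec.map (f.stalkMap x) p).asIdeal = Ideal.comap (f.stalkMap x).hom P := rfl
  rw [← h0, Ideal.map_le_iff_le_comap, ← h1]
  constructor
  · intro h
    have h2 : Spec.map (f.stalkMap x) p = closedPoint (Y.presheaf.stalk (f x)) :=
      (Y.fromSpecStalk (f x)).isEmbedding.injective (h.trans Scheme.fromSpecStalk_closedPoint.symm)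
    rw [h2]
    exact le_rfl
  · intro h
    have h2 : Spec.map (f.stalkMap x) p = closedPoint (Y.presheaf.stalk (f x)) := by
      apply PrimeSpectrum.ext
      exact ((maximalIdeal.isMaximal _).eq_of_le (Spec.map (f.stalkMap x) p).isPrime.ne_top h).symm
    rw [h2, Scheme.fromSpecStalk_closedPoint]

/-- If `x` is a generic point of its fibre, the only prime containing the fibre ideal is the
maximal ideal. -/
lemma eq_maximalIdeal_of_fibreIdeal_le (hgen : ∀ x', f x' = f x → x' ⤳ x → x' = x)
    (P : Ideal (X.presheaf.stalk x)) [hP : P.IsPrime] (hle : fibreIdeal f x ≤ P) :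
    P = maximalIdeal (X.presheaf.stalk x) := by
  let p : Spec (X.presheaf.stalk x) := ⟨P, hP⟩
  have h1 : X.fromSpecStalk x p ⤳ x := by
    have : X.fromSpecStalk x p ∈ Set.range (X.fromSpecStalk x) := ⟨p, rfl⟩
    rwa [Scheme.range_fromSpecStalk] at this
  have h2 : f (X.fromSpecStalk x p) = f x := (map_fromSpecStalk_eq_iff f x P).mpr hle
  have h3 := hgen _ h2 h1
  have h4 : p = closedPoint _ :=
    (X.fromSpecStalk x).isEmbedding.injective (h3.trans Scheme.fromSpecStalk_closedPoint.symm)
  exact congr_arg PrimeSpectrum.asIdeal h4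

/-- At a generic point of a fibre of a morphism from a locally Noetherian scheme, the local ring
of the fibre has positive finite length. -/
lemma length_toNat_pos [IsNoetherianRing (X.presheaf.stalk x)]
    (hgen : ∀ x', f x' = f x → x' ⤳ x → x' = x) :
    0 < (Module.length (X.presheaf.stalk x) (X.presheaf.stalk x ⧸ fibreIdeal f x)).toNat := by
  set R := X.presheaf.stalk x
  set I := fibreIdeal f x
  have hI : I ≠ ⊤ := fun h =>
    (maximalIdeal.isMaximal R).ne_top (top_le_iff.mp (h ▸ fibreIdeal_le_maximalIdeal f x))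
  have : Nontrivial (R ⧸ I) := Ideal.Quotient.nontrivial_iff.mpr hI
  have hdim : Ring.KrullDimLE 0 (R ⧸ I) := by
    rw [Ring.krullDimLE_zero_iff]
    intro Q hQ
    have hP : (Q.comap (Ideal.Quotient.mk I)).IsPrime := Ideal.comap_isPrime _ _
    have hle : I ≤ Q.comap (Ideal.Quotient.mk I) := by
      intro r hr
      rw [Ideal.mem_comap, Ideal.Quotient.eq_zero_iff_mem.mpr hr]
      exact Q.zero_mem
    have hmax := eq_maximalIdeal_of_fibreIdeal_le f x hgen _ hle
    have hQ' : Q = (maximalIdeal R).map (Ideal.Quotient.mk I) := by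
      rw [← hmax, Ideal.map_comap_of_surjective _ Ideal.Quotient.mk_surjective]
    rw [hQ']
    exact (Ideal.map_eq_top_or_isMaximal_of_surjective _ Ideal.Quotient.mk_surjective
      (maximalIdeal.isMaximal R)).resolve_left (hQ' ▸ hQ.ne_top)
  have : IsArtinianRing (R ⧸ I) := IsNoetherianRing.isArtinianRing_of_krullDimLE_zero
  have : IsArtinian R (R ⧸ I) :=
    isArtinian_of_surjective_algebraMap (R := R ⧸ I) (S := R) (M := R ⧸ I)
      Ideal.Quotient.mk_surjective
  have h1 : Module.length R (R ⧸ I) ≠ ⊤ := Module.length_ne_top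
  have h2 : Module.length R (R ⧸ I) ≠ 0 := by
    rw [Ne, Module.length_eq_zero_iff]
    exact not_subsingleton _
  exact Nat.pos_of_ne_zero (fun h => (ENat.toNat_eq_zero.mp h).elim h2 h1)

end Groth.Agent.Lib.Helper93.FibreLength
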