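import Mathlib.RingTheory.Artinian.Module
import Mathlib.RingTheory.HopkinsLevitzki
import Mathlib.RingTheory.Finiteness.Prod
import Mathlib.Algebra.Module.Prod

/-!
# Modules which are finite over some Artinian algebra (helper93)

`FinArt A M`: the `A`-module `M` carries a compatible structure of finite module over some Artinian
commutative `A`-algebra.  Closure under isomorphisms, binary products, and the zero module.
-/

set_option autoImplicit false
universe u

namespace Groth.Agent.Lib.Helper93.FinArtLib

variable (A : Type u) [CommRing A]

/-- `M` is a finite module over some Artinian `A`-algebra, compatibly with its `A`-structure. -/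
def FinArt (M : Type u) [AddCommGroup M] [Module A M] : Prop :=
  ∃ (B : Type u) (_ : CommRing B) (_ : Algebra A B) (_ : IsArtinianRing B)
    (_ : Module B M) (_ : IsScalarTower A B M), Module.Finite B M

variable {A}
variable {M N : Type u} [AddCommGroup M] [Module A M] [AddCommGroup N] [Module A N]

/-- transport of a module structure along an additive equivalence commuting with `A` -/
theorem FinArt.of_equiv (e : M ≃ₗ[A] N) (h : FinArt A M) : FinArt A N := by
  obtain ⟨B, _, _, _, _, _, hfin⟩ := h
  let inst : Module B N :=
    { smul := fun b y => e (b • e.symm y)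
      one_smul := fun y => by
        change e ((1 : B) • e.symm y) = y
        rw [one_smul, LinearEquiv.apply_symm_apply]
      mul_smul := fun b c y => by
        change e ((b * c) • e.symm y) = e (b • e.symm (e (c • e.symm y)))
        rw [LinearEquiv.symm_apply_apply, mul_smul]
      smul_zero := fun b => by
        change e (b • e.symm 0) = 0
        rw [map_zero, smul_zero, map_zero]
      smul_add := fun b y z => by
        change e (b • e.symm (y + z)) = e (b • e.symm y) + e (b • e.symm z)
        rw [map_add, smul_add, map_add]
      add_smul := fun b c y => by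
        change e ((b + c) • e.symm y) = e (b • e.symm y) + e (c • e.symm y)
        rw [add_smul, map_add]
      zero_smul := fun y => by
        change e ((0 : B) • e.symm y) = 0
        rw [zero_smul, map_zero] }
  have hsmul : ∀ (b : B) (y : N), b • y = e (b • e.symm y) := fun _ _ => rfl
  have tower : IsScalarTower A B N := ⟨fun a b y => by
    rw [hsmul, hsmul, smul_assoc, map_smul]⟩
  refine ⟨B, inferInstance, inferInstance, inferInstance, inst, tower, ?_⟩
  let eB : M ≃ₗ[B] N :=
    { e.toAddEquiv with
      map_smul' := fun b x => by
        change e (b • x) = e (b • e.symm (e x))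
        rw [LinearEquiv.symm_apply_apply] }
  exact Module.Finite.equiv eB

/-- a subsingleton module -/
theorem FinArt.of_subsingleton [Subsingleton M] : FinArt A M := by
  let _ : Algebra A PUnit.{u+1} := Algebra.ofModule (fun _ _ _ => rfl) (fun _ _ _ => rfl)
  let inst : Module PUnit.{u+1} M :=
    { smul := fun _ y => y
      one_smul := fun _ => rfl
      mul_smul := fun _ _ _ => rfl
      smul_zero := fun _ => rfl
      smul_add := fun _ _ _ => rfl
      add_smul := fun _ _ y => Subsingleton.elim _ _
      zero_smul := fun y => Subsingleton.elim _ _ }
  have tower : IsScalarTower A PUnit.{u+1} M := ⟨fun a b y => Subsingleton.elim _ _⟩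
  have : IsArtinianRing PUnit.{u+1} := inferInstance
  refine ⟨PUnit.{u+1}, inferInstance, inferInstance, inferInstance, inst, tower, ?_⟩
  exact Module.Finite.of_finite

/-- binary products -/
theorem FinArt.prod (hM : FinArt A M) (hN : FinArt A N) : FinArt A (M × N) := by
  obtain ⟨B, _, _, _, _, _, hfinM⟩ := hM
  obtain ⟨C, _, _, _, _, _, hfinN⟩ := hN
  let instM : Module (B × C) M := Module.compHom M (RingHom.fst B C)
  let instN : Module (B × C) N := Module.compHom N (RingHom.snd B C)
  have hsM : ∀ (z : B × C) (x : M), z • x = z.1 • x := fun _ _ => rfl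
  have hsN : ∀ (z : B × C) (y : N), z • y = z.2 • y := fun _ _ => rfl
  have towerM : IsScalarTower A (B × C) M := ⟨fun a z x => by
    rw [hsM, hsM, Prod.smul_fst, smul_assoc]⟩
  have towerN : IsScalarTower A (B × C) N := ⟨fun a z y => by
    rw [hsN, hsN, Prod.smul_snd, smul_assoc]⟩
  have finM : Module.Finite (B × C) M := by
    obtain ⟨s, hs⟩ := hfinM.fg_top
    refine ⟨⟨s, ?_⟩⟩
    rw [eq_top_iff]
    intro x _
    have hx : x ∈ Submodule.span B (s : Set M) := hs ▸ Submodule.mem_top
    refine Submodule.span_induction (p := fun x _ => x ∈ Submodule.span (B × C) (s : Set M))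
      (fun x hx => Submodule.subset_span hx) (Submodule.zero_mem _)
      (fun x y _ _ hx hy => Submodule.add_mem _ hx hy) (fun b x _ hx => ?_) hx
    have : b • x = ((b, 0) : B × C) • x := rfl
    rw [this]
    exact Submodule.smul_mem _ _ hx
  have finN : Module.Finite (B × C) N := by
    obtain ⟨s, hs⟩ := hfinN.fg_top
    refine ⟨⟨s, ?_⟩⟩
    rw [eq_top_iff]
    intro x _
    have hx : x ∈ Submodule.span C (s : Set N) := hs ▸ Submodule.mem_top
    refine Submodule.span_induction (p := fun x _ => x ∈ Submodule.span (B × C) (s : Set N))
      (fun x hx => Submodule.subset_span hx) (Submodule.zero_mem _)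
      (fun x y _ _ hx hy => Submodule.add_mem _ hx hy) (fun c x _ hx => ?_) hx
    have : c • x = ((0, c) : B × C) • x := rfl
    rw [this]
    exact Submodule.smul_mem _ _ hx
  exact ⟨B × C, inferInstance, inferInstance, inferInstance, inferInstance, inferInstance,
    inferInstance⟩

end Groth.Agent.Lib.Helper93.FinArtLib
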