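import Groth.Agent.Lib.Helper93.FinArt
import Groth.Agent.Lib.Helper2.InjHullLocalize
import Groth.Agent.Lib.Helper2.InjHullMaximal
import Mathlib.RingTheory.Ideal.KrullsHeightTheorem
import Mathlib.Algebra.Module.Torsion.Basic

/-!
# The `p^n`-torsion of `E(A/p)` is finite over the Artinian ring `A_p / p^n A_p` (helper93)
-/

set_option autoImplicit false
universe u

namespace Groth.Agent.Lib.Helper93.FinArtLib

open InjHull Groth.Agent.Lib.Helper2

variable {A : Type u} [CommRing A] [IsNoetherianRing A] (p : Ideal A) [hp : p.IsPrime]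
  {E : Type u} [AddCommGroup E] [Module A E] {f : (A ⧸ p) →ₗ[A] E}

/-- the `p^(n+1)`-torsion of the injective hull of `A/p` is finite over an Artinian `A`-algebra -/
theorem finArt_torsionBySet (hf : IsInjectiveHull f) (n : ℕ) :
    FinArt A (Submodule.torsionBySet A E ((p ^ (n + 1) : Ideal A) : Set A)) := by
  let S := p.primeCompl
  let Rp := Localization.AtPrime p
  let L := LocalizedModule S E
  have hdisj : Disjoint (p : Set A) S := by
    rw [Set.disjoint_left]
    intro x hx hxS
    exact hxS hx
  have hbij := mkLinearMap_bijective_of_disjoint S p hf hdisj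
  let e : E ≃ₗ[A] L := LinearEquiv.ofBijective _ hbij
  obtain ⟨g, hg⟩ := exists_isInjectiveHull_localizedModule S p hf hdisj
  have hmax : (p.map (algebraMap A Rp)).IsMaximal := by
    rw [Localization.AtPrime.map_eq_maximalIdeal]
    infer_instance
  have hart : IsArtinian Rp L := isArtinian_of_isInjectiveHull_quot_maximal _ hg
  let I' : Ideal Rp := (p.map (algebraMap A Rp)) ^ (n + 1)
  let Y : Submodule Rp L := Submodule.torsionBySet Rp L (I' : Set Rp)
  -- `B = Rp ⧸ I'` is Artinian
  have hBart : IsArtinianRing (Rp ⧸ I') := by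
    apply IsLocalRing.quotient_artinian_of_mem_minimalPrimes_of_isLocalRing
    rw [← Localization.AtPrime.map_eq_maximalIdeal]
    refine ⟨⟨hmax.isPrime, Ideal.pow_le_self (Nat.succ_ne_zero n)⟩, ?_⟩
    intro q ⟨hq, hle⟩ _
    exact hq.le_of_pow_le hle
  -- `Y` is finite over `B`
  have hYart : IsArtinian Rp Y := inferInstance
  have hYartB : IsArtinian (Rp ⧸ I') Y := isArtinian_of_tower Rp hYart
  have hYfin : Module.Finite (Rp ⧸ I') Y := IsSemiprimaryRing.finite_of_isArtinian (Rp ⧸ I') (Rp ⧸ I') Y
  have hY : FinArt A Y :=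
    ⟨Rp ⧸ I', inferInstance, inferInstance, hBart, inferInstance, inferInstance, hYfin⟩
  -- the `A`-linear equivalence between the torsion of `E` and `Y`
  have hmem : ∀ x : E, x ∈ Submodule.torsionBySet A E ((p ^ (n + 1) : Ideal A) : Set A) ↔
      e x ∈ Y := by
    intro x
    rw [Submodule.mem_torsionBySet_iff, Submodule.mem_torsionBySet_iff]
    constructor
    · intro h
      rintro ⟨r, hr⟩
      have hle : I' ≤ LinearMap.ker (LinearMap.toSpanSingleton Rp L (e x)) := by
        change (p.map (algebraMap A Rp)) ^ (n + 1) ≤ _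
        rw [← Ideal.map_pow, Ideal.map_le_iff_le_comap]
        intro a ha
        rw [Ideal.mem_comap, LinearMap.mem_ker, LinearMap.toSpanSingleton_apply,
          algebraMap_smul, ← map_smul, h ⟨a, ha⟩, map_zero]
      have := hle hr
      rwa [LinearMap.mem_ker, LinearMap.toSpanSingleton_apply] at this
    · intro h
      rintro ⟨a, ha⟩
      apply e.injective
      have h1 : algebraMap A Rp a ∈ I' := by
        change _ ∈ (p.map (algebraMap A Rp)) ^ (n + 1)
        rw [← Ideal.map_pow]
        exact Ideal.mem_map_of_mem _ ha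
      have h2 := h ⟨_, h1⟩
      rw [map_smul, map_zero, ← algebraMap_smul Rp a (e x)]
      exact h2
  let eXY : Submodule.torsionBySet A E ((p ^ (n + 1) : Ideal A) : Set A) ≃ₗ[A] Y :=
    { toFun := fun x => ⟨e x.1, (hmem x.1).mp x.2⟩
      invFun := fun y => ⟨e.symm y.1, (hmem _).mpr (by rw [LinearEquiv.apply_symm_apply]; exact y.2)⟩
      left_inv := fun x => Subtype.ext (e.symm_apply_apply x.1)
      right_inv := fun y => Subtype.ext (e.apply_symm_apply y.1)
      map_add' := fun x y => Subtype.ext (map_add e x.1 y.1)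
      map_smul' := fun a x => Subtype.ext (map_smul e a x.1) }
  exact hY.of_equiv eXY.symm

end Groth.Agent.Lib.Helper93.FinArtLib
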