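import Groth.Agent.Lib.Helper93.FinArtHull
import Groth.Agent.Lib.Helper2.MatlisDecomp
import Groth.Agent.Lib.Helper2.InjHullPrime
import Mathlib.Algebra.Category.ModuleCat.Limits
import Mathlib.CategoryTheory.Filtered.Basic

/-!
# An injective module over a Noetherian ring is a filtered colimit of modules finite over Artinian
algebras (helper93)
-/

set_option autoImplicit false
set_option linter.unusedSectionVars false
universe u

namespace Groth.Agent.Lib.Helper93.FinArtLib

open InjHull Groth.Agent.Lib.Helper2 CategoryTheory CategoryTheory.Limits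

section Sup
variable {A : Type u} [CommRing A] {J : Type u} [AddCommGroup J] [Module A J]

/-- the sum of two disjoint submodules is their product -/
noncomputable def supEquivProd (P Q : Submodule A J) (h : Disjoint P Q) :
    (P × Q) ≃ₗ[A] ↥(P ⊔ Q) :=
  LinearEquiv.ofBijective
    (LinearMap.coprod (Submodule.inclusion (le_sup_left : P ≤ P ⊔ Q))
      (Submodule.inclusion (le_sup_right : Q ≤ P ⊔ Q)))
    (by
      constructor
      · rw [← LinearMap.ker_eq_bot, LinearMap.ker_eq_bot']
        rintro ⟨x, y⟩ hxy
        have h1 : (x : J) + (y : J) = 0 := by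
          have := congrArg Subtype.val hxy
          simpa using this
        have hx : (x : J) ∈ P ⊓ Q := by
          refine ⟨x.2, ?_⟩
          rw [eq_neg_of_add_eq_zero_left h1]
          exact Q.neg_mem y.2
        rw [h.eq_bot, Submodule.mem_bot] at hx
        have hy : (y : J) = 0 := by rwa [hx, zero_add] at h1
        exact Prod.ext (Subtype.ext hx) (Subtype.ext hy)
      · rintro ⟨z, hz⟩
        obtain ⟨x, hx, y, hy, rfl⟩ := Submodule.mem_sup.mp hz
        exact ⟨(⟨x, hx⟩, ⟨y, hy⟩), Subtype.ext (by simp)⟩)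

theorem FinArt.sup {P Q : Submodule A J} (h : Disjoint P Q) (hP : FinArt A P) (hQ : FinArt A Q) :
    FinArt A ↥(P ⊔ Q) :=
  (hP.prod hQ).of_equiv (supEquivProd P Q h)

end Sup

section Main
variable {A : Type u} [CommRing A] [IsNoetherianRing A] {J : Type u} [AddCommGroup J] [Module A J]

/-- the `p^(n+1)`-torsion part of a submodule -/
def torsPart (E : Submodule A J) (p : Ideal A) (n : ℕ) : Submodule A J :=
  E ⊓ Submodule.torsionBySet A J ((p ^ (n + 1) : Ideal A) : Set A)

theorem torsPart_le (E : Submodule A J) (p : Ideal A) (n : ℕ) : torsPart E p n ≤ E := inf_le_left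

theorem torsPart_mono (E : Submodule A J) (p : Ideal A) {n m : ℕ} (h : n ≤ m) :
    torsPart E p n ≤ torsPart E p m := by
  refine inf_le_inf le_rfl (Submodule.torsionBySet_le_torsionBySet_of_subset ?_)
  exact Ideal.pow_le_pow_right (Nat.succ_le_succ h)

/-- the torsion part of an indecomposable injective summand is finite over an Artinian algebra -/
theorem finArt_torsPart (E : Submodule A J) (p : Ideal A) [p.IsPrime] (f : (A ⧸ p) →ₗ[A] E)
    (hf : IsInjectiveHull f) (n : ℕ) : FinArt A (torsPart E p n) := by
  have h := finArt_torsionBySet p hf n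
  let e : Submodule.torsionBySet A E ((p ^ (n + 1) : Ideal A) : Set A) ≃ₗ[A] torsPart E p n :=
    { toFun := fun x => ⟨x.1.1, x.1.2, by
        rw [SetLike.mem_coe, Submodule.mem_torsionBySet_iff]
        intro a
        have := (Submodule.mem_torsionBySet_iff _ _).mp x.2 a
        exact congrArg Subtype.val this⟩
      invFun := fun y => ⟨⟨y.1, y.2.1⟩, by
        rw [Submodule.mem_torsionBySet_iff]
        intro a
        apply Subtype.ext
        exact (Submodule.mem_torsionBySet_iff _ _).mp y.2.2 a⟩
      left_inv := fun x => rfl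
      right_inv := fun y => rfl
      map_add' := fun x y => rfl
      map_smul' := fun a x => rfl }
  exact h.of_equiv e

/-- data of a Matlis decomposition: an independent family of submodules, each the injective hull of
some `A ⧸ p` -/
structure Decomp (A : Type u) [CommRing A] (J : Type u) [AddCommGroup J] [Module A J] where
  S : Set (Submodule A J)
  hind : sSupIndep S
  hsup : sSup S = ⊤
  p : Submodule A J → Ideal A
  hp : ∀ E ∈ S, (p E).IsPrime
  f : ∀ E : Submodule A J, (A ⧸ p E) →ₗ[A] E
  hf : ∀ E ∈ S, IsInjectiveHull (f E)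

theorem nonempty_decomp (hJ : Module.Injective A J) : Nonempty (Decomp A J) := by
  obtain ⟨S, hind, hsup, hS⟩ := exists_sSupIndep_indecomposable hJ
  have hex : ∀ E : Submodule A J, E ∈ S → ∃ (p : Ideal A) (_ : p.IsPrime)
      (f : (A ⧸ p) →ₗ[A] E), IsInjectiveHull f := fun E hE =>
    exists_isInjectiveHull_quot_of_isIndecomposable (hS E hE).1 (hS E hE).2
  choose! p hp f hf using hex
  exact ⟨⟨S, hind, hsup, p, hp, f, hf⟩⟩

namespace Decomp
variable (d : Decomp A J)

/-- the directed family of submodules -/
noncomputable def N (i : Finset d.S × ℕ) : Submodule A J :=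
  ⨆ s ∈ i.1, torsPart s.1 (d.p s.1) i.2

theorem N_mono {i j : Finset d.S × ℕ} (hij : i ≤ j) : d.N i ≤ d.N j := by
  refine iSup₂_le fun s hs => ?_
  exact le_trans (torsPart_mono s.1 (d.p s.1) hij.2) (le_iSup₂_of_le s (hij.1 hs) le_rfl)

theorem N_empty (n : ℕ) : d.N (∅, n) = ⊥ := by
  simp [N]

theorem N_singleton (s : d.S) (n : ℕ) : d.N ({s}, n) = torsPart s.1 (d.p s.1) n := by
  simp [N]

open Classical in
theorem N_insert (s : d.S) (T : Finset d.S) (n : ℕ) :
    d.N (insert s T, n) = torsPart s.1 (d.p s.1) n ⊔ d.N (T, n) := by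
  simp only [N]
  rw [Finset.iSup_insert]

open Classical in
theorem finArt_N (i : Finset d.S × ℕ) : FinArt A (d.N i) := by
  obtain ⟨T, n⟩ := i
  induction T using Finset.induction_on with
  | empty =>
    rw [N_empty]
    exact FinArt.of_subsingleton
  | insert s T hsT ih =>
    rw [N_insert]
    refine FinArt.sup ?_ ?_ ih
    · have hle : d.N (T, n) ≤ sSup (d.S \ {s.1}) := by
        refine iSup₂_le fun s' hs' => ?_
        refine le_trans (torsPart_le _ _ _) (le_sSup ⟨s'.2, ?_⟩)
        intro h
        apply hsT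
        have : s' = s := Subtype.ext h
        rwa [← this]
      exact (d.hind s.2).mono (torsPart_le _ _ _) hle
    · have := d.hp s.1 s.2
      exact finArt_torsPart s.1 (d.p s.1) (d.f s.1) (d.hf s.1 s.2) n

open Classical in
theorem exists_mem_N (x : J) : ∃ i : Finset d.S × ℕ, x ∈ d.N i := by
  have hx : x ∈ ⨆ s : d.S, (s.1 : Submodule A J) := by
    rw [← sSup_eq_iSup', d.hsup]
    exact Submodule.mem_top
  refine Submodule.iSup_induction (fun s : d.S => (s.1 : Submodule A J))
    (motive := fun x => ∃ i : Finset d.S × ℕ, x ∈ d.N i) hx ?_ ?_ ?_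
  · intro s y hy
    have := d.hp s.1 s.2
    obtain ⟨n, hn⟩ := isPowerTorsion_of_isInjectiveHull_quot (d.p s.1) (d.hf s.1 s.2) ⟨y, hy⟩
    refine ⟨({s}, n), ?_⟩
    rw [N_singleton]
    refine ⟨hy, ?_⟩
    rw [SetLike.mem_coe, Submodule.mem_torsionBySet_iff]
    rintro ⟨a, ha⟩
    have := hn a (Ideal.pow_le_pow_right (Nat.le_succ n) ha)
    exact congrArg Subtype.val this
  · exact ⟨(∅, 0), Submodule.zero_mem _⟩
  · rintro y z ⟨i, hi⟩ ⟨j, hj⟩
    exact ⟨i ⊔ j, Submodule.add_mem _ (d.N_mono le_sup_left hi) (d.N_mono le_sup_right hj)⟩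

/-- the directed system -/
abbrev G (i : Finset d.S × ℕ) : Type u := ↥(d.N i)

/-- transition maps -/
noncomputable def φ (i j : Finset d.S × ℕ) (h : i ≤ j) : d.G i →ₗ[A] d.G j :=
  Submodule.inclusion (d.N_mono h)

theorem coe_φ (i j : Finset d.S × ℕ) (h : i ≤ j) (x : d.G i) : ((d.φ i j h x : d.G j) : J) = x :=
  Submodule.coe_inclusion _ _

instance : DirectedSystem d.G fun i j h => d.φ i j h where
  map_self := fun i x => by
    apply Subtype.ext
    rw [coe_φ]
  map_map := fun i j k hij hjk x => by
    apply Subtype.ext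
    rw [coe_φ, coe_φ, coe_φ]

open Classical in
/-- the comparison map from the direct limit -/
noncomputable def lift : Module.DirectLimit d.G d.φ →ₗ[A] J :=
  Module.DirectLimit.lift A (Finset d.S × ℕ) d.G d.φ (fun i => (d.N i).subtype)
    (fun i j h x => by
      rw [Submodule.subtype_apply, Submodule.subtype_apply, coe_φ])

open Classical in
theorem lift_bijective : Function.Bijective d.lift := by
  constructor
  · exact Module.DirectLimit.lift_injective _ _ (fun i => Subtype.val_injective)
  · intro x
    obtain ⟨i, hi⟩ := d.exists_mem_N x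
    refine ⟨Module.DirectLimit.of A (Finset d.S × ℕ) d.G d.φ i ⟨x, hi⟩, ?_⟩
    exact Module.DirectLimit.lift_of _ _ _

end Decomp

open Classical in
/-- **Main theorem**: an injective module over a Noetherian ring is a filtered colimit of modules
which are finite over Artinian algebras. -/
theorem exists_filtered_colimit (hJ : Module.Injective A J) :
    ∃ (ι : Type u) (_ : SmallCategory ι) (_ : IsFiltered ι) (D : ι ⥤ ModuleCat.{u} A)
      (c : Cocone D) (_ : IsColimit c), Nonempty (c.pt ≅ ModuleCat.of A J) ∧
      ∀ i : ι, FinArt A (D.obj i) := by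
  obtain ⟨d⟩ := nonempty_decomp hJ
  exact ⟨Finset d.S × ℕ, Preorder.smallCategory _, inferInstance,
    ModuleCat.directLimitDiagram d.G d.φ,
    ModuleCat.directLimitCocone d.G d.φ, ModuleCat.directLimitIsColimit d.G d.φ,
    ⟨(LinearEquiv.ofBijective d.lift d.lift_bijective).toModuleIso⟩, fun i => d.finArt_N i⟩

end Main

end Groth.Agent.Lib.Helper93.FinArtLib
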