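import Groth.Agent.Lib.Helper11.FinFreeDual
import Groth.Agent.Lib.Helper17.HHLinFunct
import Groth.Agent.Lib.Helper19.QCohExtend
import Groth.Agent.Lib.Helper45.SectionHom
import Groth.Prelude.Def_Wider
import Groth.Prelude.Def_FlatMod2
import Groth.Prelude.Def_Formal

/-!
# Factoring a power of `f` through a free module (helper93)

For a finite locally free module `F` on a qcqs scheme `X` which has a basis over `X_f`, some power
`f ^ N : F ⟶ F` factors as `F ⟶ O_X^n ⟶ F` (`exists_factor`).  Consequence on cohomology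
(`exists_pow_smul_eq_zero_of_isBasisFam`): whatever kills `H^p(X, O_X)` kills `f ^ N • H^p(X, F)`.
For an open subscheme `U` of `Spec A`: `basicOpen_toGlobal`, `exists_basicOpen_le`, and
`exists_pow_le_annihilator` (if `J ^ n` kills `H^p(U, O_U)`, `U = Spec A ∖ V(I)`, `J ≤ I` f.g., then
some `J ^ m` kills `H^p(U, F)` for `F` finite locally free).
-/

set_option autoImplicit false
open AlgebraicGeometry CategoryTheory CategoryTheory.Limits TopologicalSpace Opposite
open Groth.Agent.Lib.Helper45 Groth.Agent.Lib.Helper49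
  Groth.Agent.Lib.Helper11.FinFreeBasis Groth.Agent.Lib.Helper11.FinFreeDual
  Groth.Agent.Lib.Helper45.RefHullCoh Groth.Agent.Lib.Helper45.RefHullHom
  Groth.Agent.Lib.Helper45.HomExtend Groth.Agent.Helper19.QCohExt
  Groth.Agent.Lib.Helper45.SectionHom Groth.Agent.Lib.Helper45.RefHullStalk

namespace Groth.Agent.Lib.Helper93.FinLocFreeFactor
universe u
variable {X : Scheme.{u}}

/-- simultaneous extension of finitely many sections over `X_f`. -/
theorem exists_extension_fin (F : X.Modules) [F.IsQuasicoherent] [CompactSpace X]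
    [QuasiSeparatedSpace X] (f : Γ(X, ⊤)) {n : ℕ} (t : Fin n → Γ(F, X.basicOpen f)) :
    ∃ N : ℕ, ∃ s : Fin n → Γ(F, ⊤), ∀ i,
      res F (le_top : X.basicOpen f ≤ ⊤) (s i) =
        (rres (le_top : X.basicOpen f ≤ ⊤) f) ^ N • t i := by
  choose k _ s hs using fun i => exists_extension F f (t i)
  refine ⟨Finset.univ.sup k, fun i => f ^ (Finset.univ.sup k - k i) • s i, fun i => ?_⟩
  have hle : k i ≤ Finset.univ.sup k := Finset.le_sup (Finset.mem_univ i)
  rw [res_smul, hs i, map_pow, ← mul_smul, ← pow_add, Nat.sub_add_cancel hle]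

theorem sum_app_apply {M N : X.Modules} {ι : Type*} (s : Finset ι) (φ : ι → (M ⟶ N))
    (U : X.Opens) (m : Γ(M, U)) :
    (∑ i ∈ s, φ i).app U m = ∑ i ∈ s, (φ i).app U m := by
  classical
  induction s using Finset.induction_on with
  | empty => simp
  | insert a s ha ih =>
    rw [Finset.sum_insert ha, Finset.sum_insert ha, Scheme.Modules.Hom.add_app]
    change (φ a).app U m + (∑ i ∈ s, φ i).app U m = _
    rw [ih]

theorem smulModΓ_app (F : X.Modules) (r : Γ(X, ⊤)) (U : X.Opens) (m : Γ(F, U)) :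
    (Formal.smulModΓ F r).app U m = rres (le_top : U ≤ ⊤) r • m := rfl

theorem evalSec_ofHom {F G : X.Modules} (δ : F ⟶ G) (W : X.Opens) (m : Γ(F, W)) :
    evalSec (RefHull.ofHom δ W) m = δ.app W m :=
  evalSec_eq _ _ _ fun y hy => (RefHull.stalkMapₗ_germ δ y hy m).symm


theorem exists_factor (F : X.Modules) (hF : FlatMod.IsFinLocFree F) [CompactSpace X]
    [QuasiSeparatedSpace X] (f : Γ(X, ⊤)) {n : ℕ} (e : Fin n → Γ(F, X.basicOpen f))
    (he : IsBasisFam F (X.basicOpen f) e) :
    ∃ (N : ℕ) (ψ : Fin n → (F ⟶ Coh.structureModule X))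
      (s : Fin n → (Coh.structureModule X ⟶ F)),
      ∑ i, ψ i ≫ s i = Formal.smulModΓ F (f ^ N) := by
  classical
  have hFP : CohB1.IsFP F := isFinitePresentation_of_isFinLocFree F hF
  have : F.IsQuasicoherent := inferInstance
  have : (Coh.structureModule X).IsQuasicoherent := isQuasicoherent_structureModule X
  have : (RefHull.dual F).IsQuasicoherent := isQuasicoherent_homSh F _ hFP
  have : (RefHull.homSh F F).IsQuasicoherent := isQuasicoherent_homSh F F hFP
  have hbij := evalGens_bijective (Coh.structureModule X) he (le_refl (X.basicOpen f))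
  choose φ hφ using fun i => hbij.2 (Pi.single i (toMod (1 : Γ(X, X.basicOpen f))))
  obtain ⟨N1, et, het⟩ := exists_extension_fin F f e
  obtain ⟨N2, φt, hφt⟩ := exists_extension_fin (RefHull.dual F) f φ
  let s : Fin n → (Coh.structureModule X ⟶ F) := fun i => sectionHom F (et i)
  let ψ : Fin n → (F ⟶ Coh.structureModule X) := fun i => homOfSection (φt i)
  let δ : F ⟶ F := (∑ i, ψ i ≫ s i) - Formal.smulModΓ F (f ^ (N2 + N1))
  have hψ : ∀ i j, (ψ i).app (X.basicOpen f) (e j) =
      toMod (rres (le_top : X.basicOpen f ≤ ⊤) f ^ N2 * (if j = i then 1 else 0)) := by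
    intro i j
    change evalSec (resTop (φt i) (X.basicOpen f)) (e j) = _
    have h1 : resTop (φt i) (X.basicOpen f) =
        (rres (le_top : X.basicOpen f ≤ ⊤) f) ^ N2 • φ i := hφt i
    rw [h1, evalSec_smul_left]
    have h2 := congrFun (hφ i) j
    change evalSec (φ i) (F.presheaf.map (homOfLE (le_refl (X.basicOpen f))).op (e j)) = _ at h2
    have h3 : F.presheaf.map (homOfLE (le_refl (X.basicOpen f))).op (e j) = e j :=
      res_self (le_refl _) (e j)
    rw [h3] at h2
    rw [h2]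
    by_cases hji : j = i
    · subst hji
      rw [Pi.single_eq_same, if_pos rfl, toMod_smul]
    · rw [Pi.single_eq_of_ne hji, if_neg hji, mul_zero, smul_zero]
      rfl
  have hs : ∀ (i : Fin n) (a : Γ(X, X.basicOpen f)), (s i).app (X.basicOpen f) (toMod a) =
      (a * rres (le_top : X.basicOpen f ≤ ⊤) f ^ N1) • e i := by
    intro i a
    have h1 : (s i).app (X.basicOpen f) (toMod a) =
        a • F.presheaf.map (homOfLE le_top).op (et i) := sectionHom_app F (et i) _ a
    rw [h1]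
    have h2 : F.presheaf.map (homOfLE (le_top : X.basicOpen f ≤ ⊤)).op (et i) =
        rres (le_top : X.basicOpen f ≤ ⊤) f ^ N1 • e i := het i
    rw [h2, ← mul_smul]
  have hkey : ∀ j, δ.app (X.basicOpen f) (e j) = 0 := by
    intro j
    change ((∑ i, ψ i ≫ s i) - Formal.smulModΓ F (f ^ (N2 + N1))).app (X.basicOpen f) (e j) = 0
    rw [Scheme.Modules.Hom.sub_app]
    change (∑ i, ψ i ≫ s i).app (X.basicOpen f) (e j) -
      (Formal.smulModΓ F (f ^ (N2 + N1))).app (X.basicOpen f) (e j) = 0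
    rw [sum_app_apply, smulModΓ_app, Finset.sum_eq_single j]
    · change (s j).app (X.basicOpen f) ((ψ j).app (X.basicOpen f) (e j)) - _ = 0
      rw [hψ j j, hs, if_pos rfl, mul_one, map_pow, ← pow_add, sub_self]
    · intro i _ hij
      change (s i).app (X.basicOpen f) ((ψ i).app (X.basicOpen f) (e j)) = 0
      rw [hψ i j, hs, if_neg (Ne.symm hij), mul_zero, zero_mul, zero_smul]
    · intro h
      exact absurd (Finset.mem_univ j) h
  have h0 : RefHull.ofHom δ (X.basicOpen f) = 0 := by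
    apply evalGens_injective (G := F) (isLocalPres_of_isBasisFam he) (le_refl (X.basicOpen f))
    rw [map_zero]
    funext j
    change evalSec (RefHull.ofHom δ (X.basicOpen f))
      (F.presheaf.map (homOfLE (le_refl _)).op (e j)) = 0
    rw [show F.presheaf.map (homOfLE (le_refl (X.basicOpen f))).op (e j) = e j from
      res_self (le_refl _) (e j), evalSec_ofHom, hkey]
  have h1 : res (RefHull.homSh F F) (X.basicOpen_le f) (RefHull.ofHom δ ⊤) = 0 := h0
  obtain ⟨K, hK⟩ := exists_pow_smul_eq_zero (RefHull.homSh F F) ⊤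
    (by simpa using isCompact_univ) f (RefHull.ofHom δ ⊤) h1
  have h2 : δ ≫ Formal.smulModΓ F (f ^ K) = 0 := by
    apply Scheme.Modules.hom_ext
    intro U
    ext m
    change rres (le_top : U ≤ ⊤) (f ^ K) • δ.app U m = 0
    apply section_ext_germ F U
    intro y hy
    rw [map_zero, Mero.germ_smul, ← RefHull.stalkMapₗ_germ]
    have h3 := congrArg (fun σ => σ.1 ⟨y, trivial⟩ (F.presheaf.germ U y hy m)) hK
    have h4 : X.presheaf.germ U y hy (rres (le_top : U ≤ ⊤) (f ^ K)) =
        X.presheaf.germ ⊤ y trivial (f ^ K) :=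
      TopCat.Presheaf.germ_res_apply X.presheaf (homOfLE (le_top : U ≤ ⊤)) y hy (f ^ K)
    rw [h4]
    exact h3
  refine ⟨N2 + N1 + K, ψ, fun i => s i ≫ Formal.smulModΓ F (f ^ K), ?_⟩
  have h5 : (∑ i, ψ i ≫ s i) ≫ Formal.smulModΓ F (f ^ K) =
      Formal.smulModΓ F (f ^ (N2 + N1)) ≫ Formal.smulModΓ F (f ^ K) := by
    have h6 : (∑ i, ψ i ≫ s i) = δ + Formal.smulModΓ F (f ^ (N2 + N1)) :=
      (sub_add_cancel _ _).symm
    rw [h6, Preadditive.add_comp, h2, zero_add]
  rw [Preadditive.sum_comp] at h5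
  simp only [Category.assoc] at h5
  rw [h5]
  apply Scheme.Modules.hom_ext
  intro U
  ext m
  change rres (le_top : U ≤ ⊤) (f ^ K) • (rres (le_top : U ≤ ⊤) (f ^ (N2 + N1)) • m) =
    rres (le_top : U ≤ ⊤) (f ^ (N2 + N1 + K)) • m
  rw [← mul_smul, ← map_mul, ← pow_add, add_comm K]


open Groth.Agent.Lib.Helper17.HHLinLES in
theorem smul_eq_zero_of_factor (A : Type u) [CommRing A] {X : Scheme.{u}}
    [X.Over (Spec (CommRingCat.of A))] (F : X.Modules) {n : ℕ}
    (ψ : Fin n → (F ⟶ Coh.structureModule X)) (s : Fin n → (Coh.structureModule X ⟶ F))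
    (b : A) (h : ∑ i, ψ i ≫ s i = Formal.smulMod A F b) (p : ℕ) (a : A)
    (ha : ∀ x : Coh.HH X (Coh.structureModule X) p, a • x = 0) (x : Coh.HH X F p) :
    (a * b) • x = 0 := by
  have h1 : b • x = Canon.HHlin A (Formal.smulMod A F b) p x := rfl
  rw [mul_smul, h1, ← h, HHlin_sum, LinearMap.sum_apply, Finset.smul_sum]
  refine Finset.sum_eq_zero fun i _ => ?_
  rw [HHlin_comp, LinearMap.comp_apply, ← map_smul, ha, map_zero]

theorem exists_pow_smul_eq_zero_of_isBasisFam (A : Type u) [CommRing A] {X : Scheme.{u}}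
    [X.Over (Spec (CommRingCat.of A))] [CompactSpace X] [QuasiSeparatedSpace X]
    (F : X.Modules) (hF : FlatMod.IsFinLocFree F) (f : A) {n : ℕ}
    (e : Fin n → Γ(F, X.basicOpen (Coh.toGlobal (X ↘ Spec (CommRingCat.of A)) f)))
    (he : IsBasisFam F (X.basicOpen (Coh.toGlobal (X ↘ Spec (CommRingCat.of A)) f)) e) (p : ℕ) :
    ∃ N : ℕ, ∀ a : A, (∀ x : Coh.HH X (Coh.structureModule X) p, a • x = 0) →
      ∀ x : Coh.HH X F p, (a * f ^ N) • x = 0 := by
  obtain ⟨N, ψ, s, h⟩ := exists_factor F hF (Coh.toGlobal (X ↘ Spec (CommRingCat.of A)) f) e he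
  refine ⟨N, fun a ha x => smul_eq_zero_of_factor A F ψ s (f ^ N) ?_ p a ha x⟩
  rw [h]
  change _ = Formal.smulModΓ F (Coh.toGlobal (X ↘ Spec (CommRingCat.of A)) (f ^ N))
  rw [map_pow]
  rfl


section Opens

variable {A : Type u} [CommRing A] (U : (Spec (CommRingCat.of A)).Opens)

theorem basicOpen_toGlobal (f : A) :
    (↑U : Scheme.{u}).basicOpen (Coh.toGlobal ((↑U : Scheme.{u}) ↘ Spec (CommRingCat.of A)) f) =
      U.ι ⁻¹ᵁ (PrimeSpectrum.basicOpen f) := by
  have h1 := basicOpen_eq_of_affine (R := CommRingCat.of A) f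
  rw [← h1, Scheme.preimage_basicOpen]
  rfl

theorem exists_basicOpen_le (V : (↑U : Scheme.{u}).Opens) (x : (↑U : Scheme.{u})) (hx : x ∈ V) :
    ∃ f : A, f ∉ (U.ι x).asIdeal ∧
      (↑U : Scheme.{u}).basicOpen
        (Coh.toGlobal ((↑U : Scheme.{u}) ↘ Spec (CommRingCat.of A)) f) ≤ V := by
  have hx' : U.ι x ∈ U.ι ''ᵁ V := ⟨x, hx, rfl⟩
  obtain ⟨_, ⟨_, ⟨f, rfl⟩, rfl⟩, hxf, hfV⟩ :=
    PrimeSpectrum.isBasis_basic_opens.exists_subset_of_mem_open hx' (U.ι ''ᵁ V).2
  refine ⟨f, hxf, ?_⟩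
  rw [basicOpen_toGlobal]
  intro y hy
  obtain ⟨z, hz, hzy⟩ := hfV hy
  have : z = y := U.ι.isOpenEmbedding.injective hzy
  exact this ▸ hz

end Opens

end Groth.Agent.Lib.Helper93.FinLocFreeFactor
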