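import Groth.Agent.Lib.Helper93.FiniteTypeExtend

/-!
# Finite type sub-ideal sheaves containing prescribed local sections (helper93)

On a quasi-compact quasi-separated scheme every quasi-coherent ideal sheaf is the directed union
of its finite type sub-ideal sheaves: given finitely generated ideals `𝔞 k ≤ 𝓖(V k)` on finitely
many affine opens, there is a finite type `𝓖' ≤ 𝓖` with `𝔞 k ≤ 𝓖'(V k)`.
-/

set_option autoImplicit false
universe u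

open CategoryTheory CategoryTheory.Limits AlgebraicGeometry TopologicalSpace

namespace Groth.Agent.Lib.Helper93.FiniteTypeSub

open Groth.Agent.Lib.Helper93.FiniteTypeExtend

variable {X : Scheme.{u}}

theorem exists_isFiniteTypeIdeal_le_of_fg [CompactSpace X] [QuasiSeparatedSpace X]
    (𝓖 : X.IdealSheafData) (V : X.affineOpens) (𝔞 : Ideal Γ(X, V.1)) (h𝔞 : 𝔞.FG)
    (hle : 𝔞 ≤ 𝓖.ideal V) :
    ∃ 𝓖' : X.IdealSheafData, 𝓖' ≤ 𝓖 ∧ BlowUp.IsFiniteTypeIdeal 𝓖' ∧ 𝔞 ≤ 𝓖'.ideal V := by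
  let 𝓗 : X.IdealSheafData := 𝓖 ⊓ extIdeal V.2 𝔞
  have h𝓗V : 𝓗.ideal V = 𝔞 := by
    change 𝓖.ideal V ⊓ (extIdeal V.2 𝔞).ideal V = 𝔞
    rw [show (extIdeal V.2 𝔞).ideal V = 𝔞 from extIdeal_ideal_self V.2 𝔞]
    exact inf_eq_right.mpr hle
  have hfin : FiniteTypeOn V.1 𝓗 := by
    intro W hW
    rw [← 𝓗.map_ideal (U := W) (V := V) hW, h𝓗V]
    exact h𝔞.map _
  obtain ⟨𝓖', h1, h2, h3⟩ := exists_isFiniteTypeIdeal_le V.1 V.2.isCompact 𝓗 hfin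
  refine ⟨𝓖', h1.trans inf_le_left, h2, ?_⟩
  rw [h3 V le_rfl, h𝓗V]

theorem exists_isFiniteTypeIdeal_le_of_fg_finset [CompactSpace X] [QuasiSeparatedSpace X]
    (𝓖 : X.IdealSheafData) {κ : Type*} (t : Finset κ) (V : κ → X.affineOpens)
    (𝔞 : ∀ k, Ideal Γ(X, (V k).1)) (h𝔞 : ∀ k ∈ t, (𝔞 k).FG)
    (hle : ∀ k ∈ t, 𝔞 k ≤ 𝓖.ideal (V k)) :
    ∃ 𝓖' : X.IdealSheafData, 𝓖' ≤ 𝓖 ∧ BlowUp.IsFiniteTypeIdeal 𝓖' ∧
      ∀ k ∈ t, 𝔞 k ≤ 𝓖'.ideal (V k) := by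
  classical
  induction t using Finset.induction_on with
  | empty =>
    refine ⟨⊥, bot_le, ?_, fun k hk => (Finset.notMem_empty k hk).elim⟩
    intro U
    rw [Scheme.IdealSheafData.ideal_bot]
    exact Submodule.fg_bot
  | insert k t hk ih =>
    obtain ⟨𝓖₁, h1, h2, h3⟩ := ih (fun k' hk' => h𝔞 k' (Finset.mem_insert_of_mem hk'))
      (fun k' hk' => hle k' (Finset.mem_insert_of_mem hk'))
    obtain ⟨𝓖₂, g1, g2, g3⟩ := exists_isFiniteTypeIdeal_le_of_fg 𝓖 (V k) (𝔞 k)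
      (h𝔞 k (Finset.mem_insert_self k t)) (hle k (Finset.mem_insert_self k t))
    refine ⟨𝓖₁ ⊔ 𝓖₂, sup_le h1 g1, ?_, ?_⟩
    · intro U
      change (𝓖₁.ideal U ⊔ 𝓖₂.ideal U).FG
      exact Submodule.FG.sup (h2 U) (g2 U)
    · intro k' hk'
      change 𝔞 k' ≤ 𝓖₁.ideal (V k') ⊔ 𝓖₂.ideal (V k')
      rcases Finset.mem_insert.mp hk' with rfl | hk'
      · exact g3.trans le_sup_right
      · exact (h3 k' hk').trans le_sup_left

end Groth.Agent.Lib.Helper93.FiniteTypeSub
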