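import Groth.Prelude.Def_Magnet
import Mathlib.CategoryTheory.Sites.Canonical
import Mathlib.CategoryTheory.Sites.Sheaf

/-!
# The fixed-point subfunctor of an action is a sheaf for any subcanonical topology (helper93)
-/

set_option autoImplicit false
universe v₁ u₁

open CategoryTheory CategoryTheory.Limits MonoidalCategory CartesianMonoidalCategory MonObj Opposite

namespace Groth.Agent.Lib.Helper93.FixedPshSheaf

variable {C : Type u₁} [Category.{v₁} C] [CartesianMonoidalCategory C]
  (J : GrothendieckTopology C) [J.Subcanonical] {A X : C} [MonObj A]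

theorem fixedPsh_isSheaf (a : Magnet.MonAct A X) :
    Presheaf.IsSheaf J (Magnet.MonAct.fixedPsh a) := by
  rw [isSheaf_iff_isSheaf_of_type]
  have hY : Presieve.IsSheaf J (yoneda.obj X) :=
    GrothendieckTopology.Subcanonical.isSheaf_of_isRepresentable (yoneda.obj X)
  intro T S hS
  rw [← Presieve.isSeparatedFor_and_exists_isAmalgamation_iff_isSheafFor]
  constructor
  · -- separated
    intro x t₁ t₂ h₁ h₂
    apply Subtype.ext
    refine (hY S hS).isSeparatedFor.ext ?_
    intro Y f hf
    have e₁ := congrArg Subtype.val (h₁ f hf)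
    have e₂ := congrArg Subtype.val (h₂ f hf)
    exact e₁.trans e₂.symm
  · intro x hx
    -- the underlying family of morphisms
    let y : Presieve.FamilyOfElements (yoneda.obj X) S.arrows := fun Y f hf => (x f hf).1
    have hy : y.Compatible := by
      intro Y₁ Y₂ Z g₁ g₂ f₁ f₂ h₁ h₂ comm
      have := congrArg Subtype.val (hx g₁ g₂ h₁ h₂ comm)
      exact this
    obtain ⟨z, hz⟩ := (Presieve.isSeparatedFor_and_exists_isAmalgamation_iff_isSheafFor.mpr
      (hY S hS)).2 y hy
    have hz' : ∀ {Y : C} (f : Y ⟶ T) (hf : S.arrows f), f ≫ z = (x f hf).1 := fun f hf => hz f hf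
    have hfix : ∀ (T' : C) (t : T' ⟶ T) (g : T' ⟶ A), lift g (t ≫ z) ≫ a.act = t ≫ z := by
      intro T' t g
      refine (hY (S.pullback t) (J.pullback_stable t hS)).isSeparatedFor.ext
        (t₁ := (lift g (t ≫ z) ≫ a.act : T' ⟶ X)) (t₂ := (t ≫ z : T' ⟶ X)) ?_
      intro Y h hh
      have hh' : S.arrows (h ≫ t) := hh
      change h ≫ lift g (t ≫ z) ≫ a.act = h ≫ t ≫ z
      rw [comp_lift_assoc, ← Category.assoc h t z, hz' (h ≫ t) hh']
      have := (x (h ≫ t) hh').2 Y (𝟙 Y) (h ≫ g)
      rw [Category.id_comp] at this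
      exact this
    refine ⟨⟨z, hfix⟩, ?_⟩
    intro Y f hf
    apply Subtype.ext
    exact hz' f hf

end Groth.Agent.Lib.Helper93.FixedPshSheaf
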