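import Groth.Agent.Lib.Helper39.GrHomComp
import Groth.Agent.Lib.Helper39.GrSub
import Groth.Agent.Lib.Helper39.GrQuot
import Groth.Agent.Lib.Helper39.GrSummand
import Groth.Agent.Lib.Helper39.GrAss
import Mathlib.LinearAlgebra.LinearPMap

/-!
# The graded Baer extension property for arbitrary linear maps (helper93)

`exists_extension_of_isHomogeneous`: if `I` is *injective over a Noetherian graded ring, `F` is a
graded module and `K ≤ F` a homogeneous submodule, then EVERY `R`-linear map `K → I` (homogeneous or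
not) extends to `F`.
-/

set_option autoImplicit false
universe u

namespace Groth.Agent.Lib.Helper93.GrBaer

open DirectSum GrLC Groth.Agent.Lib.Helper39

section Basic
variable {ι : Type} [AddCommGroup ι] [DecidableEq ι] {R : Type u} [CommRing R]
  (𝒜 : ι → AddSubgroup R) [GradedRing 𝒜]
  {F : Type u} [AddCommGroup F] [Module R F] (ℱ : ι → AddSubgroup F) [DirectSum.Decomposition ℱ]
  [SetLike.GradedSMul 𝒜 ℱ]

omit [AddCommGroup ι] in
theorem isHomogeneous_sup {P Q : Submodule R F} (hP : P.IsHomogeneous ℱ) (hQ : Q.IsHomogeneous ℱ) :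
    (P ⊔ Q).IsHomogeneous ℱ := by
  intro i x hx
  obtain ⟨a, ha, b, hb, rfl⟩ := Submodule.mem_sup.mp hx
  rw [decompose_add, DirectSum.add_apply, AddSubgroup.coe_add]
  exact Submodule.add_mem _ (Submodule.mem_sup_left (hP i ha)) (Submodule.mem_sup_right (hQ i hb))

/-- the colon ideal of a homogeneous submodule by a homogeneous element is homogeneous -/
theorem colon_singleton_isHomogeneous (D : Submodule R F) (hD : D.IsHomogeneous ℱ) {d : ι} {y : F}
    (hy : y ∈ ℱ d) : (D.colon {y}).IsHomogeneous 𝒜 := by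
  let _ := quotDecomposition ℱ D hD
  have := quotGradedSMul 𝒜 ℱ D
  have h1 := annihilator_span_singleton_isHomogeneous 𝒜 (quotPieces ℱ D)
    (mk_mem_quotPieces ℱ D hy)
  have h2 : D.colon {y} = (Submodule.span R {D.mkQ y}).annihilator := by
    ext r
    rw [Submodule.mem_colon_singleton, Submodule.mem_annihilator_span_singleton, ← map_smul,
      Submodule.mkQ_apply, Submodule.Quotient.mk_eq_zero]
  rw [h2]
  exact h1

end Basic

section Baer
variable {ι : Type} [AddCommGroup ι] [DecidableEq ι] {R : Type u} [CommRing R] [IsNoetherianRing R]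
  (𝒜 : ι → AddSubgroup R) [GradedRing 𝒜]
  {F : Type u} [AddCommGroup F] [Module R F] (ℱ : ι → AddSubgroup F) [DirectSum.Decomposition ℱ]
  [SetLike.GradedSMul 𝒜 ℱ]
  {I : Type u} [AddCommGroup I] [Module R I] (ℐ : ι → AddSubgroup I) [DirectSum.Decomposition ℐ]
  [SetLike.GradedSMul 𝒜 ℐ]

/-- one-step extension: a partial map with homogeneous domain extends over a homogeneous element -/
theorem exists_extend_singleton (hI : IsStarInj 𝒜 ℐ) (p : F →ₗ.[R] I)
    (hp : p.domain.IsHomogeneous ℱ) {d : ι} {y : F} (hy : y ∈ ℱ d) :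
    ∃ p' : F →ₗ.[R] I, p ≤ p' ∧ p'.domain.IsHomogeneous ℱ ∧ y ∈ p'.domain := by
  set J : Ideal R := p.domain.colon {y} with hJ
  have hJh : J.IsHomogeneous 𝒜 := colon_singleton_isHomogeneous 𝒜 ℱ p.domain hp hy
  have hmemJ : ∀ r : R, r ∈ J ↔ r • y ∈ p.domain := fun r => Submodule.mem_colon_singleton
  let φ₀ : J →ₗ[R] p.domain :=
    LinearMap.codRestrict p.domain (LinearMap.toSpanSingleton R F y ∘ₗ J.subtype)
      (fun a => by
        have := (hmemJ a.1).mp a.2
        simpa using this)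
  let φ : J →ₗ[R] I := p.toFun ∘ₗ φ₀
  have hφ : ∀ (r : R) (hr : r ∈ J), φ ⟨r, hr⟩ = p ⟨r • y, (hmemJ r).mp hr⟩ := by
    intro r hr
    rfl
  let decJ := subDecomposition 𝒜 J hJh
  have smulJ := subGradedSMul 𝒜 𝒜 J
  obtain ⟨h, hh⟩ := exists_extension_of_finite 𝒜 (subPieces 𝒜 J) 𝒜 ℐ hI
    J.subtype (isGrHom_subtype 𝒜 J) Subtype.val_injective φ
  have hm₀ : ∀ (r : R) (hr : r ∈ J), r • h 1 = p ⟨r • y, (hmemJ r).mp hr⟩ := by
    intro r hr
    rw [← hφ r hr, ← map_smul, smul_eq_mul, mul_one]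
    exact LinearMap.congr_fun hh ⟨r, hr⟩
  have H : ∀ c : R, c • y = 0 → (RingHom.id R) c • h 1 = 0 := by
    intro c hc
    have hcJ : c ∈ J := by
      rw [hmemJ, hc]
      exact Submodule.zero_mem _
    rw [RingHom.id_apply, hm₀ c hcJ]
    have : (⟨c • y, (hmemJ c).mp hcJ⟩ : p.domain) = 0 := Subtype.ext hc
    rw [this, LinearPMap.map_zero]
  let q : F →ₗ.[R] I := LinearPMap.mkSpanSingleton' y (h 1) H
  have hagree : ∀ (x : p.domain) (z : q.domain), (x : F) = z → p x = q z := by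
    intro x z hxz
    obtain ⟨c, hc⟩ := Submodule.mem_span_singleton.mp z.2
    have hcJ : c ∈ J := by
      rw [hmemJ, hc, ← hxz]
      exact x.2
    have h1 : x = ⟨c • y, (hmemJ c).mp hcJ⟩ := Subtype.ext (by rw [hxz, ← hc])
    have h2 : z = ⟨c • y, Submodule.mem_span_singleton.mpr ⟨c, rfl⟩⟩ := Subtype.ext hc.symm
    rw [h1, h2, LinearPMap.mkSpanSingleton'_apply, RingHom.id_apply, hm₀ c hcJ]
  refine ⟨p.sup q hagree, LinearPMap.left_le_sup p q hagree, ?_, ?_⟩
  · rw [LinearPMap.domain_sup]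
    exact isHomogeneous_sup ℱ hp (span_singleton_isHomogeneous 𝒜 ℱ hy)
  · rw [LinearPMap.domain_sup]
    exact Submodule.mem_sup_right (Submodule.mem_span_singleton_self y)

/-- **Graded Baer extension property**: every linear map from a homogeneous submodule of a graded
module to a *injective module extends to the whole module. -/
theorem exists_extension_of_isHomogeneous (hI : IsStarInj 𝒜 ℐ) (K : Submodule R F)
    (hK : K.IsHomogeneous ℱ) (g : K →ₗ[R] I) : ∃ h : F →ₗ[R] I, h ∘ₗ K.subtype = g := by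
  classical
  let g₀ : F →ₗ.[R] I := ⟨K, g⟩
  obtain ⟨p, hgp, hpmax⟩ := zorn_le_nonempty₀
    {p : F →ₗ.[R] I | p.domain.IsHomogeneous ℱ ∧ g₀ ≤ p}
    (by
      intro c hc hchain y hy
      have hdir : DirectedOn (· ≤ ·) c := hchain.directedOn
      refine ⟨LinearPMap.sSup c hdir, ⟨?_, le_trans (hc hy).2 (LinearPMap.le_sSup hdir hy)⟩,
        fun z hz => LinearPMap.le_sSup hdir hz⟩
      rw [LinearPMap.domain_sSup]
      refine isHomogeneous_sSup_of_directed ℱ ⟨y.domain, y, hy, rfl⟩ ?_ ?_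
      · rintro _ ⟨a, ha, rfl⟩ _ ⟨b, hb, rfl⟩
        obtain ⟨z, hz, haz, hbz⟩ := hdir a ha b hb
        exact ⟨z.domain, ⟨z, hz, rfl⟩, haz.1, hbz.1⟩
      · rintro _ ⟨a, ha, rfl⟩
        exact (hc ha).1)
    g₀ ⟨hK, le_rfl⟩
  obtain ⟨⟨hph, hgp'⟩, hmax⟩ := hpmax
  have htop : p.domain = ⊤ := by
    by_contra hne
    obtain ⟨x, hx⟩ : ∃ x : F, x ∉ p.domain := by
      by_contra hcon
      push Not at hcon
      exact hne (eq_top_iff.mpr fun x _ => hcon x)
    obtain ⟨i, hi⟩ : ∃ i, (decompose ℱ x i : F) ∉ p.domain := by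
      by_contra hcon
      push Not at hcon
      apply hx
      rw [← DirectSum.sum_support_decompose ℱ x]
      exact Submodule.sum_mem _ fun i _ => hcon i
    obtain ⟨p', hpp', hp'h, hyp'⟩ := exists_extend_singleton 𝒜 ℱ ℐ hI p hph
      (SetLike.coe_mem (decompose ℱ x i))
    have hle : p' ≤ p := hmax ⟨hp'h, le_trans hgp' hpp'⟩ hpp'
    exact hi (hle.1 hyp')
  have hmem : ∀ x : F, x ∈ p.domain := fun x => htop ▸ Submodule.mem_top
  refine ⟨p.toFun ∘ₗ LinearMap.codRestrict p.domain LinearMap.id hmem, ?_⟩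
  ext k
  have := hgp'.2 (x := (⟨k.1, k.2⟩ : g₀.domain)) (y := ⟨k.1, hmem k.1⟩) rfl
  exact this.symm

end Baer

end Groth.Agent.Lib.Helper93.GrBaer
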