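import Groth.Agent.Lib.Helper39.GrCofree
import Mathlib.Algebra.Homology.ShortComplex.ModuleCat

/-!
# The shift sequence `0 → Cofree E → Cofree E → E → 0` over a ℤ-graded ring (helper93)

For any `R`-module `E` over a ℤ-graded ring, the cofree graded module `Cofree 𝒜 E = ⨁_{n ∈ ℤ} E`
carries the `R`-linear shift `t`; `1 - t` is injective with cokernel `E` (through the counit).
So every `R`-module is the cokernel of an injective endomorphism of (the module underlying) a graded
module.
-/

set_option autoImplicit false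
universe u

namespace Groth.Agent.Lib.Helper93.GrCofreeSeq

open DirectSum GrLC Groth.Agent.Lib.Helper39

set_option linter.unusedSectionVars false

noncomputable section
variable {R : Type u} [CommRing R] (𝒜 : ℤ → AddSubgroup R) [GradedRing 𝒜]
  (E : Type u) [AddCommGroup E] [Module R E]

/-- the shift, additively -/
def shiftAdd : Cofree 𝒜 E →+ Cofree 𝒜 E := Finsupp.mapDomain.addMonoidHom (· + (1 : ℤ))

theorem shiftAdd_single (g : ℤ) (e : E) :
    shiftAdd 𝒜 E (Cofree.single 𝒜 E g e) = Cofree.single 𝒜 E (g + 1) e := by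
  change Finsupp.mapDomain (· + (1 : ℤ)) (Finsupp.single g e) = Finsupp.single (g + 1) e
  rw [Finsupp.mapDomain_single]

theorem shiftAdd_apply (x : Cofree 𝒜 E) (g : ℤ) :
    Cofree.eval 𝒜 E (g + 1) (shiftAdd 𝒜 E x) = Cofree.eval 𝒜 E g x := by
  let x' : ℤ →₀ E := x
  change Finsupp.mapDomain (· + (1 : ℤ)) x' (g + 1) = x' g
  exact Finsupp.mapDomain_apply (add_left_injective (1 : ℤ)) x' g

/-- the support of an element of the cofree module -/
def supp (x : Cofree 𝒜 E) : Finset ℤ := Finsupp.support (show ℤ →₀ E from x)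

theorem mem_supp (x : Cofree 𝒜 E) (g : ℤ) : g ∈ supp 𝒜 E x ↔ Cofree.eval 𝒜 E g x ≠ 0 :=
  Finsupp.mem_support_iff

theorem supp_nonempty (x : Cofree 𝒜 E) (hx : x ≠ 0) : (supp 𝒜 E x).Nonempty :=
  Finsupp.support_nonempty_iff.mpr hx

/-- the shift is `R`-linear for the twisted action -/
def shift : Cofree 𝒜 E →ₗ[R] Cofree 𝒜 E where
  toFun := shiftAdd 𝒜 E
  map_add' := map_add _
  map_smul' := by
    intro r x
    simp only [RingHom.id_apply]
    induction r using DirectSum.Decomposition.inductionOn 𝒜 with
    | zero => rw [zero_smul, zero_smul, map_zero]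
    | @homogeneous h a =>
      induction x using Cofree.induction with
      | zero => rw [smul_zero, map_zero, smul_zero]
      | single g e =>
        rw [Cofree.smul_single_of_mem a.2, shiftAdd_single, shiftAdd_single,
          Cofree.smul_single_of_mem a.2, add_right_comm]
      | add x y hx hy => rw [smul_add, map_add, hx, hy, map_add, smul_add]
    | add r r' hr hr' => rw [add_smul, map_add, hr, hr', add_smul]

theorem shift_single (g : ℤ) (e : E) :
    shift 𝒜 E (Cofree.single 𝒜 E g e) = Cofree.single 𝒜 E (g + 1) e :=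
  shiftAdd_single 𝒜 E g e

/-- `1 - t` -/
def delta : Cofree 𝒜 E →ₗ[R] Cofree 𝒜 E := LinearMap.id - shift 𝒜 E

theorem delta_single (g : ℤ) (e : E) :
    delta 𝒜 E (Cofree.single 𝒜 E g e) = Cofree.single 𝒜 E g e - Cofree.single 𝒜 E (g + 1) e := by
  unfold delta
  rw [LinearMap.sub_apply, LinearMap.id_apply, shift_single]

theorem counit_comp_delta : (Cofree.counit 𝒜 E) ∘ₗ (delta 𝒜 E) = 0 := by
  apply LinearMap.ext
  intro x
  rw [LinearMap.comp_apply, LinearMap.zero_apply]
  induction x using Cofree.induction with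
  | zero => rw [map_zero, map_zero]
  | single g e =>
    rw [delta_single, map_sub, Cofree.counit_single, Cofree.counit_single, sub_self]
  | add x y hx hy => rw [map_add, map_add, hx, hy, add_zero]

theorem delta_injective : Function.Injective (delta 𝒜 E) := by
  classical
  rw [← LinearMap.ker_eq_bot, eq_bot_iff]
  intro x hx
  rw [LinearMap.mem_ker] at hx
  rw [Submodule.mem_bot]
  have h1 : shift 𝒜 E x = x := by
    unfold delta at hx
    rw [LinearMap.sub_apply, LinearMap.id_apply, sub_eq_zero] at hx
    exact hx.symm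
  have h2 : ∀ g : ℤ, Cofree.eval 𝒜 E (g + 1) x = Cofree.eval 𝒜 E g x := by
    intro g
    have := shiftAdd_apply 𝒜 E x g
    have h3 : shiftAdd 𝒜 E x = x := h1
    rw [h3] at this
    exact this
  by_contra hne
  have hsupp : (supp 𝒜 E x).Nonempty := supp_nonempty 𝒜 E x hne
  have hmax := Finset.max'_mem _ hsupp
  set a := (supp 𝒜 E x).max' hsupp with ha
  have h4 : a + 1 ∈ supp 𝒜 E x := by
    rw [mem_supp, h2 a, ← mem_supp]
    exact hmax
  have := Finset.le_max' _ _ h4
  omega

theorem single_sub_single_mem_range (e : E) (g : ℤ) :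
    Cofree.single 𝒜 E g e - Cofree.single 𝒜 E 0 e ∈ LinearMap.range (delta 𝒜 E) := by
  induction g using Int.induction_on with
  | zero =>
    rw [sub_self]
    exact Submodule.zero_mem _
  | succ n ih =>
    have h1 : Cofree.single 𝒜 E ((n : ℤ) + 1) e - Cofree.single 𝒜 E 0 e =
        (Cofree.single 𝒜 E (n : ℤ) e - Cofree.single 𝒜 E 0 e) -
          delta 𝒜 E (Cofree.single 𝒜 E (n : ℤ) e) := by
      rw [delta_single]
      abel
    rw [h1]
    exact Submodule.sub_mem _ ih ⟨_, rfl⟩
  | pred n ih =>
    have h1 : Cofree.single 𝒜 E (-(n : ℤ) - 1) e - Cofree.single 𝒜 E 0 e =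
        (Cofree.single 𝒜 E (-(n : ℤ)) e - Cofree.single 𝒜 E 0 e) +
          delta 𝒜 E (Cofree.single 𝒜 E (-(n : ℤ) - 1) e) := by
      rw [delta_single, sub_add_cancel]
      abel
    rw [h1]
    exact Submodule.add_mem _ ih ⟨_, rfl⟩

theorem sub_single_counit_mem_range (x : Cofree 𝒜 E) :
    x - Cofree.single 𝒜 E 0 (Cofree.counit 𝒜 E x) ∈ LinearMap.range (delta 𝒜 E) := by
  induction x using Cofree.induction with
  | zero =>
    rw [map_zero, map_zero, sub_self]
    exact Submodule.zero_mem _
  | single g e =>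
    rw [Cofree.counit_single]
    exact single_sub_single_mem_range 𝒜 E e g
  | add x y hx hy =>
    rw [map_add, map_add, add_sub_add_comm]
    exact Submodule.add_mem _ hx hy

theorem exact_delta_counit : Function.Exact (delta 𝒜 E) (Cofree.counit 𝒜 E) := by
  intro x
  constructor
  · intro hx
    have := sub_single_counit_mem_range 𝒜 E x
    rw [hx, map_zero, sub_zero] at this
    exact this
  · rintro ⟨y, rfl⟩
    exact LinearMap.congr_fun (counit_comp_delta 𝒜 E) y

theorem counit_surjective : Function.Surjective (Cofree.counit 𝒜 E) :=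
  fun e => ⟨Cofree.single 𝒜 E 0 e, Cofree.counit_single 𝒜 E 0 e⟩

open CategoryTheory in
/-- the short complex `0 → Cofree E → Cofree E → E → 0` -/
def shortComplex : ShortComplex (ModuleCat.{u} R) :=
  ShortComplex.moduleCatMk (delta 𝒜 E) (Cofree.counit 𝒜 E) (counit_comp_delta 𝒜 E)

open CategoryTheory in
theorem shortComplex_shortExact : (shortComplex 𝒜 E).ShortExact :=
  ModuleCat.shortComplex_shortExact (shortComplex 𝒜 E) (exact_delta_counit 𝒜 E)
    (delta_injective 𝒜 E) (counit_surjective 𝒜 E)

end

end Groth.Agent.Lib.Helper93.GrCofreeSeq
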