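import Mathlib.RingTheory.GradedAlgebra.Homogeneous.Ideal
import Mathlib.RingTheory.GradedAlgebra.Radical
import Mathlib.RingTheory.Ideal.Height
import Mathlib.RingTheory.Ideal.KrullsHeightTheorem

/-!
# Height of a prime versus the height of its homogeneous core in a `ℤ`-graded ring (helper93)

For a `ℤ`-graded commutative ring `R` and a prime `p` with homogeneous core `p*`:

* `eq_of_core_le` : there is no prime strictly between `p*` and `p`;
* `height_le_height_core_add_one` : (Noetherian) `ht p ≤ ht p* + 1`  (Bruns–Herzog 1.5.8).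

The proof is the elementary "Laurent polynomial" argument: modulo the homogeneous prime `P = p*`
elements have a lowest and a highest degree, these are additive under multiplication, and one can
do pseudo-division by an element of minimal width.
-/

set_option autoImplicit false

namespace Groth.Agent.Lib.Helper93.GrCoreHeight

open DirectSum

variable {R : Type*} [CommRing R] (𝒜 : ℤ → AddSubgroup R) [GradedRing 𝒜]

/-- multiplication by a homogeneous element shifts components. -/
theorem coe_decompose_homog_mul {a : R} {i : ℤ} (ha : a ∈ 𝒜 i) (g : R) (n : ℤ) :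
    (decompose 𝒜 (a * g) n : R) = a * (decompose 𝒜 g (n - i) : R) := by
  have h := coe_decompose_mul_add_of_left_mem 𝒜 (i := i) (j := n - i) (b := g) ha
  rwa [add_sub_cancel] at h

open Classical in
/-- the convolution formula. -/
theorem coe_decompose_mul (f g : R) (n : ℤ) :
    (decompose 𝒜 (f * g) n : R) =
      ∑ i ∈ (decompose 𝒜 f).support, (decompose 𝒜 f i : R) * (decompose 𝒜 g (n - i) : R) := by
  conv_lhs => rw [← sum_support_decompose 𝒜 f, Finset.sum_mul, decompose_sum]
  rw [DFinsupp.finsetSum_apply, AddSubgroup.val_finsetSum]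
  refine Finset.sum_congr rfl fun i _ => ?_
  exact coe_decompose_homog_mul 𝒜 (SetLike.coe_mem _) g n

variable (P : Ideal R)

/-- an element all of whose components lie in `P` lies in `P`. -/
theorem mem_of_forall_decompose_mem {f : R} (h : ∀ i, (decompose 𝒜 f i : R) ∈ P) : f ∈ P := by
  classical
  rw [← sum_support_decompose 𝒜 f]
  exact Ideal.sum_mem _ fun i _ => h i

/-- all components of `f` outside `[b, t]` lie in `P`. -/
def SuppIn (f : R) (b t : ℤ) : Prop :=
  ∀ i : ℤ, (i < b ∨ t < i) → (decompose 𝒜 f i : R) ∈ P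

/-- `b` and `t` are the lowest and highest degrees of `f` modulo `P`. -/
def Exact (f : R) (b t : ℤ) : Prop :=
  (decompose 𝒜 f b : R) ∉ P ∧ (decompose 𝒜 f t : R) ∉ P ∧ SuppIn 𝒜 P f b t

variable {𝒜 P}

theorem Exact.le {f : R} {b t : ℤ} (h : Exact 𝒜 P f b t) : b ≤ t := by
  by_contra hlt
  exact h.1 (h.2.2 b (Or.inr (not_le.1 hlt)))

theorem exists_exact {f : R} (hf : f ∉ P) : ∃ b t, Exact 𝒜 P f b t := by
  classical
  let S : Finset ℤ := (decompose 𝒜 f).support.filter (fun i => (decompose 𝒜 f i : R) ∉ P)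
  have hmemS : ∀ i, i ∈ S ↔ (decompose 𝒜 f i : R) ∉ P := by
    intro i
    refine ⟨fun h => (Finset.mem_filter.1 h).2, fun h => Finset.mem_filter.2 ⟨?_, h⟩⟩
    rw [DFinsupp.mem_support_iff]
    intro h0
    apply h
    rw [h0]
    exact P.zero_mem
  have hS : S.Nonempty := by
    by_contra h
    rw [Finset.not_nonempty_iff_eq_empty] at h
    apply hf
    apply mem_of_forall_decompose_mem 𝒜 P
    intro i
    by_contra hi
    have : i ∈ S := (hmemS i).2 hi
    rw [h] at this
    exact absurd this (Finset.notMem_empty i)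
  refine ⟨S.min' hS, S.max' hS, (hmemS _).1 (S.min'_mem hS), (hmemS _).1 (S.max'_mem hS), ?_⟩
  intro i hi
  by_contra hmem
  have hiS : i ∈ S := (hmemS i).2 hmem
  rcases hi with h | h
  · exact absurd (S.min'_le i hiS) (not_le.2 h)
  · exact absurd (S.le_max' i hiS) (not_le.2 h)

/-- key congruence for a component of a product. -/
theorem coe_decompose_mul_sub_mem {f g : R} {n a c : ℤ} (hac : a + c = n)
    (h : ∀ i, i ≠ a → (decompose 𝒜 f i : R) ∈ P ∨ (decompose 𝒜 g (n - i) : R) ∈ P) :
    (decompose 𝒜 (f * g) n : R) - (decompose 𝒜 f a : R) * (decompose 𝒜 g c : R) ∈ P := by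
  classical
  have hc : n - a = c := by omega
  rw [coe_decompose_mul]
  have hterm : ∀ i ∈ (decompose 𝒜 f).support, i ≠ a →
      (decompose 𝒜 f i : R) * (decompose 𝒜 g (n - i) : R) ∈ P := by
    intro i _ hia
    rcases h i hia with h1 | h1
    · exact P.mul_mem_right _ h1
    · exact P.mul_mem_left _ h1
  by_cases ha : a ∈ (decompose 𝒜 f).support
  · rw [← Finset.add_sum_erase _ _ ha, hc, add_sub_cancel_left]
    exact Ideal.sum_mem _ fun i hi => hterm i (Finset.mem_of_mem_erase hi) (Finset.ne_of_mem_erase hi)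
  · have h0 : (decompose 𝒜 f a : R) = 0 := by
      rw [DFinsupp.notMem_support_iff] at ha
      rw [ha]
      rfl
    rw [h0, zero_mul, sub_zero]
    exact Ideal.sum_mem _ fun i hi => hterm i hi (fun hia => ha (hia ▸ hi))

theorem coe_decompose_mul_mem {f g : R} {n : ℤ}
    (h : ∀ i, (decompose 𝒜 f i : R) ∈ P ∨ (decompose 𝒜 g (n - i) : R) ∈ P) :
    (decompose 𝒜 (f * g) n : R) ∈ P := by
  classical
  rw [coe_decompose_mul]
  refine Ideal.sum_mem _ fun i _ => ?_
  rcases h i with h1 | h1
  · exact P.mul_mem_right _ h1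
  · exact P.mul_mem_left _ h1

theorem SuppIn.mul {f g : R} {b t b' t' : ℤ} (hf : SuppIn 𝒜 P f b t) (hg : SuppIn 𝒜 P g b' t') :
    SuppIn 𝒜 P (f * g) (b + b') (t + t') := by
  intro n hn
  apply coe_decompose_mul_mem
  intro i
  rcases hn with hn | hn
  · by_cases hi : i < b
    · exact Or.inl (hf i (Or.inl hi))
    · exact Or.inr (hg _ (Or.inl (by omega)))
  · by_cases hi : t < i
    · exact Or.inl (hf i (Or.inr hi))
    · exact Or.inr (hg _ (Or.inr (by omega)))

theorem Exact.mul [P.IsPrime] {f g : R} {b t b' t' : ℤ} (hf : Exact 𝒜 P f b t)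
    (hg : Exact 𝒜 P g b' t') : Exact 𝒜 P (f * g) (b + b') (t + t') := by
  refine ⟨?_, ?_, hf.2.2.mul hg.2.2⟩
  · intro hmem
    have h1 : (decompose 𝒜 (f * g) (b + b') : R) - (decompose 𝒜 f b : R) * (decompose 𝒜 g b' : R) ∈ P := by
      apply coe_decompose_mul_sub_mem rfl
      intro i hi
      by_cases hib : i < b
      · exact Or.inl (hf.2.2 i (Or.inl hib))
      · exact Or.inr (hg.2.2 _ (Or.inl (by omega)))
    have h2 : (decompose 𝒜 f b : R) * (decompose 𝒜 g b' : R) ∈ P := by
      have := P.sub_mem hmem h1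
      rwa [sub_sub_cancel] at this
    rcases Ideal.IsPrime.mem_or_mem inferInstance h2 with h3 | h3
    · exact hf.1 h3
    · exact hg.1 h3
  · intro hmem
    have h1 : (decompose 𝒜 (f * g) (t + t') : R) - (decompose 𝒜 f t : R) * (decompose 𝒜 g t' : R) ∈ P := by
      apply coe_decompose_mul_sub_mem rfl
      intro i hi
      by_cases hib : t < i
      · exact Or.inl (hf.2.2 i (Or.inr hib))
      · exact Or.inr (hg.2.2 _ (Or.inr (by omega)))
    have h2 : (decompose 𝒜 f t : R) * (decompose 𝒜 g t' : R) ∈ P := by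
      have := P.sub_mem hmem h1
      rwa [sub_sub_cancel] at this
    rcases Ideal.IsPrime.mem_or_mem inferInstance h2 with h3 | h3
    · exact hf.2.1 h3
    · exact hg.2.1 h3

/-- exact bounds only depend on the class modulo the homogeneous ideal `P`. -/
theorem Exact.unique (hP : P.IsHomogeneous 𝒜) {f g : R} {b t b' t' : ℤ} (hf : Exact 𝒜 P f b t)
    (hg : Exact 𝒜 P g b' t') (hfg : f - g ∈ P) : b = b' ∧ t = t' := by
  have hcomp : ∀ i, (decompose 𝒜 f i : R) - (decompose 𝒜 g i : R) ∈ P := by
    intro i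
    have := hP i hfg
    rwa [decompose_sub, DirectSum.sub_apply, AddSubgroup.coe_sub] at this
  have hiff : ∀ i, (decompose 𝒜 f i : R) ∈ P ↔ (decompose 𝒜 g i : R) ∈ P := by
    intro i
    constructor
    · intro h
      have := P.sub_mem h (hcomp i)
      rwa [sub_sub_cancel] at this
    · intro h
      have := P.add_mem (hcomp i) h
      rwa [sub_add_cancel] at this
  constructor
  · apply le_antisymm
    · by_contra hlt
      exact hg.1 ((hiff b').1 (hf.2.2 b' (Or.inl (not_le.1 hlt))))
    · by_contra hlt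
      exact hf.1 ((hiff b).2 (hg.2.2 b (Or.inl (not_le.1 hlt))))
  · apply le_antisymm
    · by_contra hlt
      exact hf.2.1 ((hiff t).2 (hg.2.2 t (Or.inr (not_le.1 hlt))))
    · by_contra hlt
      exact hg.2.1 ((hiff t').1 (hf.2.2 t' (Or.inr (not_le.1 hlt))))

/-- a homogeneous element outside `P` has exact bounds `(d, d)`. -/
theorem exact_of_mem {s : R} {d : ℤ} (hs : s ∈ 𝒜 d) (hsP : s ∉ P) : Exact 𝒜 P s d d := by
  have h1 : (decompose 𝒜 s d : R) = s := decompose_of_mem_same 𝒜 hs
  refine ⟨by rwa [h1], by rwa [h1], ?_⟩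
  intro i hi
  have : (decompose 𝒜 s i : R) = 0 := decompose_of_mem_ne 𝒜 hs (by omega)
  rw [this]
  exact P.zero_mem

/-- pseudo-division by an element with exact bounds. -/
theorem pseudo_div [P.IsPrime] {f : R} {b t : ℤ} (hf : Exact 𝒜 P f b t) :
    ∀ (k : ℕ) (g : R) (c : ℤ), SuppIn 𝒜 P g c (c + (t - b) + k - 1) →
      ∃ (s h r : R) (d c' : ℤ), s ∈ 𝒜 d ∧ s ∉ P ∧ s * g = h * f + r ∧
        SuppIn 𝒜 P r c' (c' + (t - b) - 1) := by
  intro k
  induction k with
  | zero =>
    intro g c hg
    refine ⟨1, 0, g, 0, c, SetLike.GradedOne.one_mem, ?_, by ring, ?_⟩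
    · exact (Ideal.ne_top_iff_one P).1 (Ideal.IsPrime.ne_top inferInstance)
    · simpa using hg
  | succ k ih =>
    intro g c hg
    set T : ℤ := c + (t - b) + k with hT
    set ft : R := (decompose 𝒜 f t : R) with hft
    set gT : R := (decompose 𝒜 g T : R) with hgT
    have hftm : ft ∈ 𝒜 t := SetLike.coe_mem _
    have hgTm : gT ∈ 𝒜 T := SetLike.coe_mem _
    have hcomp : ∀ n, (decompose 𝒜 (ft * g - gT * f) n : R) =
        ft * (decompose 𝒜 g (n - t) : R) - gT * (decompose 𝒜 f (n - T) : R) := by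
      intro n
      rw [decompose_sub, DirectSum.sub_apply, AddSubgroup.coe_sub,
        coe_decompose_homog_mul 𝒜 hftm, coe_decompose_homog_mul 𝒜 hgTm]
    have hg' : SuppIn 𝒜 P (ft * g - gT * f) (c + t) (c + t + (t - b) + k - 1) := by
      intro n hn
      rw [hcomp]
      rcases hn with hn | hn
      · refine P.sub_mem (P.mul_mem_left _ (hg _ (Or.inl (by omega))))
          (P.mul_mem_left _ (hf.2.2 _ (Or.inl (by omega))))
      · by_cases hnT : n = T + t
        · have e1 : n - t = T := by omega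
          have e2 : n - T = t := by omega
          rw [e1, e2, ← hft, ← hgT, mul_comm, sub_self]
          exact P.zero_mem
        · refine P.sub_mem (P.mul_mem_left _ (hg _ (Or.inr ?_)))
            (P.mul_mem_left _ (hf.2.2 _ (Or.inr ?_)))
          · push_cast
            omega
          · omega
    obtain ⟨s', h', r', d', c', hs'm, hs'P, heq, hr'⟩ := ih (ft * g - gT * f) (c + t) hg'
    refine ⟨s' * ft, h' + s' * gT, r', d' + t, c', SetLike.GradedMul.mul_mem hs'm hftm, ?_, ?_, hr'⟩
    · intro hmem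
      rcases Ideal.IsPrime.mem_or_mem inferInstance hmem with h1 | h1
      · exact hs'P h1
      · exact hf.2.1 h1
    · have : s' * (ft * g) = s' * (ft * g - gT * f) + s' * gT * f := by ring
      rw [mul_assoc, this, heq]
      ring

/-- **No prime strictly between the homogeneous core and the prime.** -/
theorem eq_of_core_le {P q p : Ideal R} (hPh : P.IsHomogeneous 𝒜) [P.IsPrime] [q.IsPrime]
    [p.IsPrime] (hPq : P ≤ q) (hqp : q ≤ p)
    (hcore : ∀ x : R, SetLike.IsHomogeneousElem 𝒜 x → x ∈ p → x ∈ P) (hne : q ≠ P) : q = p := by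
  classical
  have hPp : P ≤ p := hPq.trans hqp
  -- an element of `q` outside `P`
  obtain ⟨g₀, hg₀q, hg₀P⟩ : ∃ g, g ∈ q ∧ g ∉ P := by
    by_contra h
    push Not at h
    exact hne (le_antisymm h hPq)
  -- minimal widths
  let Wp : ℕ → Prop := fun w => ∃ f b t, f ∈ p ∧ Exact 𝒜 P f b t ∧ t - b = (w : ℤ)
  let Wq : ℕ → Prop := fun w => ∃ f b t, f ∈ q ∧ Exact 𝒜 P f b t ∧ t - b = (w : ℤ)
  have hWq : ∃ w, Wq w := by
    obtain ⟨b, t, h⟩ := exists_exact (𝒜 := 𝒜) hg₀P
    exact ⟨(t - b).toNat, g₀, b, t, hg₀q, h, (Int.toNat_of_nonneg (by have := h.le; omega)).symm⟩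
  have hWp : ∃ w, Wp w := by
    obtain ⟨w, f, b, t, hf, h, e⟩ := hWq
    exact ⟨w, f, b, t, hqp hf, h, e⟩
  obtain ⟨f, b, t, hfp, hf, hfw⟩ := Nat.find_spec hWp
  obtain ⟨g₁, b₁, t₁, hg₁q, hg₁, hg₁w⟩ := Nat.find_spec hWq
  set w := Nat.find hWp with hw
  set w₁ := Nat.find hWq with hw₁
  -- division of any element of `p` by `f`
  have hdiv : ∀ g ∈ p, ∃ (s h : R) (d : ℤ), s ∈ 𝒜 d ∧ s ∉ P ∧ s * g - h * f ∈ P := by
    intro g hg
    obtain ⟨c, hc⟩ := ((decompose 𝒜 g).support : Set ℤ).toFinite.bddBelow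
    obtain ⟨T, hT⟩ := ((decompose 𝒜 g).support : Set ℤ).toFinite.bddAbove
    have hsupp : SuppIn 𝒜 P g c (c + (t - b) + ((T - c + 1).toNat : ℕ) - 1) := by
      intro i hi
      have : (decompose 𝒜 g i) = 0 := by
        rw [← DFinsupp.notMem_support_iff]
        intro hmem
        have h1 := hc hmem
        have h2 := hT hmem
        have h3 := hf.le
        rcases hi with hi | hi
        · omega
        · have := Int.self_le_toNat (T - c + 1)
          omega
      rw [this]
      exact P.zero_mem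
    obtain ⟨s, h, r, d, c', hsm, hsP, heq, hr⟩ := pseudo_div hf _ g c hsupp
    refine ⟨s, h, d, hsm, hsP, ?_⟩
    have hr_eq : s * g - h * f = r := by rw [heq]; ring
    rw [hr_eq]
    by_contra hrP
    obtain ⟨br, tr, hrex⟩ := exists_exact (𝒜 := 𝒜) hrP
    have h1 : c' ≤ br := by
      by_contra hlt
      exact hrex.1 (hr br (Or.inl (not_le.1 hlt)))
    have h2 : tr ≤ c' + (t - b) - 1 := by
      by_contra hlt
      exact hrex.2.1 (hr tr (Or.inr (not_le.1 hlt)))
    have h3 := hrex.le
    have hrp : r ∈ p := by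
      rw [← hr_eq]
      exact p.sub_mem (p.mul_mem_left _ hg) (p.mul_mem_left _ hfp)
    have hmin : w ≤ (tr - br).toNat :=
      Nat.find_min' hWp ⟨r, br, tr, hrp, hrex, (Int.toNat_of_nonneg (by omega)).symm⟩
    have : ((tr - br).toNat : ℤ) = tr - br := Int.toNat_of_nonneg (by omega)
    omega
  -- homogeneous elements outside `P` are outside `p`
  have hsp : ∀ (s : R) (d : ℤ), s ∈ 𝒜 d → s ∉ P → s ∉ p := fun s d hs hsP hsp =>
    hsP (hcore s ⟨d, hs⟩ hsp)
  obtain ⟨s, h, d, hsm, hsP, hsub⟩ := hdiv g₁ (hqp hg₁q)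
  have hhf : h * f ∈ q := by
    have := q.sub_mem (q.mul_mem_left s hg₁q) (hPq hsub)
    rwa [sub_sub_cancel] at this
  rcases Ideal.IsPrime.mem_or_mem inferInstance hhf with hh | hfq
  · -- impossible case
    exfalso
    have hhP : h ∉ P := by
      intro hhP
      have h1 : s * g₁ ∈ P := by
        have := P.add_mem hsub (P.mul_mem_right f hhP)
        rwa [sub_add_cancel] at this
      rcases Ideal.IsPrime.mem_or_mem inferInstance h1 with h2 | h2
      · exact hsP h2
      · exact hg₁.1 (hPh b₁ h2)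
    obtain ⟨bh, th, hhex⟩ := exists_exact (𝒜 := 𝒜) hhP
    have hmin : w₁ ≤ (th - bh).toNat :=
      Nat.find_min' hWq ⟨h, bh, th, hh, hhex, (Int.toNat_of_nonneg (by have := hhex.le; omega)).symm⟩
    have hth : ((th - bh).toNat : ℤ) = th - bh := Int.toNat_of_nonneg (by have := hhex.le; omega)
    have e1 := (exact_of_mem (P := P) hsm hsP).mul hg₁
    have e2 := hhex.mul hf
    obtain ⟨u1, u2⟩ := e1.unique hPh e2 hsub
    have hw0 : t = b := by omega
    -- `f` is congruent to its component of degree `t`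
    have hfcong : f - (decompose 𝒜 f t : R) ∈ P := by
      apply mem_of_forall_decompose_mem 𝒜 P
      intro i
      rw [decompose_sub, DirectSum.sub_apply, AddSubgroup.coe_sub, decompose_coe]
      by_cases hit : i = t
      · subst hit
        rw [DirectSum.of_eq_same, sub_self]
        exact P.zero_mem
      · rw [DirectSum.of_eq_of_ne _ _ _ hit, ZeroMemClass.coe_zero, sub_zero]
        apply hf.2.2
        omega
    have hft : (decompose 𝒜 f t : R) ∈ p := by
      have := p.sub_mem hfp (hPp hfcong)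
      rwa [sub_sub_cancel] at this
    exact hsp _ t (SetLike.coe_mem _) hf.2.1 hft
  · -- `f ∈ q`: everything in `p` lies in `q`
    apply le_antisymm hqp
    intro g hg
    obtain ⟨s', h', d', hs'm, hs'P, hsub'⟩ := hdiv g hg
    have h1 : s' * g ∈ q := by
      have := q.add_mem (hPq hsub') (q.mul_mem_left h' hfq)
      rwa [sub_add_cancel] at this
    rcases Ideal.IsPrime.mem_or_mem inferInstance h1 with h2 | h2
    · exact absurd (hqp h2) (hsp s' d' hs'm hs'P)
    · exact h2

variable (𝒜)

/-- **Bruns–Herzog 1.5.8**: in a Noetherian `ℤ`-graded ring, `ht p ≤ ht p* + 1`. -/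
theorem height_le_height_core_add_one [IsNoetherianRing R] (p : Ideal R) [hp : p.IsPrime] :
    p.height ≤ (p.homogeneousCore 𝒜).toIdeal.height + 1 := by
  suffices H : ∀ (N : ℕ) (p : Ideal R), p.IsPrime →
      (p.homogeneousCore 𝒜).toIdeal.height ≤ N → p.height ≤ ((N + 1 : ℕ) : ℕ∞) by
    by_cases htop : (p.homogeneousCore 𝒜).toIdeal.height = ⊤
    · rw [htop]
      simp
    · obtain ⟨N, hN⟩ := ENat.ne_top_iff_exists.mp htop
      have := H N p hp (by rw [← hN])
      rw [← hN]
      exact_mod_cast this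
  intro N
  induction N using Nat.strong_induction_on with
  | _ N ih =>
    intro p hp hc
    rw [Ideal.height_le_iff]
    intro Q hQ hQp
    have := hQ
    have hcQ : ((Q.homogeneousCore 𝒜).toIdeal).IsPrime := Ideal.IsPrime.homogeneousCore hQ
    have hcp : ((p.homogeneousCore 𝒜).toIdeal).IsPrime := Ideal.IsPrime.homogeneousCore hp
    have hle : (Q.homogeneousCore 𝒜).toIdeal ≤ (p.homogeneousCore 𝒜).toIdeal :=
      Ideal.homogeneousCore_mono 𝒜 hQp.le
    suffices hQN : Q.height ≤ (N : ℕ∞) from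
      lt_of_le_of_lt hQN (by exact_mod_cast Nat.lt_succ_self N)
    by_cases heq : (Q.homogeneousCore 𝒜).toIdeal = (p.homogeneousCore 𝒜).toIdeal
    · by_cases hQc : Q = (p.homogeneousCore 𝒜).toIdeal
      · rw [hQc]
        exact hc
      · exfalso
        have := eq_of_core_le (𝒜 := 𝒜) (P := (p.homogeneousCore 𝒜).toIdeal) (q := Q) (p := p)
          (p.homogeneousCore 𝒜).isHomogeneous
          (heq ▸ Ideal.toIdeal_homogeneousCore_le 𝒜 Q) hQp.le
          (fun x hx hxp => Ideal.mem_homogeneousCore_of_homogeneous_of_mem hx hxp) hQc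
        exact hQp.ne this
    · have hlt : (Q.homogeneousCore 𝒜).toIdeal < (p.homogeneousCore 𝒜).toIdeal :=
        lt_of_le_of_ne hle heq
      have h1 := Ideal.height_add_one_le_of_lt_of_isPrime hlt
      have h2 : (Q.homogeneousCore 𝒜).toIdeal.height + 1 ≤ (N : ℕ∞) := h1.trans hc
      cases N with
      | zero =>
        exfalso
        simp at h2
      | succ M =>
        have h3 : (Q.homogeneousCore 𝒜).toIdeal.height ≤ (M : ℕ∞) := by
          have h4 : (Q.homogeneousCore 𝒜).toIdeal.height + 1 ≤ (M : ℕ∞) + 1 := by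
            exact_mod_cast h2
          exact (ENat.add_le_add_iff_right (by simp)).1 h4
        exact ih M (Nat.lt_succ_self M) Q hQ h3

end Groth.Agent.Lib.Helper93.GrCoreHeight
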