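import Groth.Agent.Lib.Helper39.GrMod
import Groth.Agent.Lib.Helper39.GrSummand
import Mathlib.Algebra.DirectSum.Decomposition
import Mathlib.LinearAlgebra.Finsupp.LinearCombination

/-!
# Graded free modules of arbitrary rank, and graded free covers (helper93)

* `freePieces 𝒜 e j = {v : B →₀ R | ∀ b, v b ∈ 𝒜 (j - e b)}` with `freeDecomposition`,
  `freeGradedSMul`: the graded free module `⊕_b R(-e_b)` on an arbitrary index type `B`.
* `cover ℳ`: the canonical homogeneous surjection from the graded free module on the homogeneous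
  elements of a graded module `M`; `cover_isGrHom`, `cover_surjective`, `ker_cover_isHomogeneous`.
-/

set_option autoImplicit false
universe u

namespace Groth.Agent.Lib.Helper93.GrFreeInf

open DirectSum GrLC Groth.Agent.Lib.Helper39

section Basic
variable {ι : Type} [AddCommGroup ι] [DecidableEq ι] {R : Type u} [CommRing R]
  (𝒜 : ι → AddSubgroup R) [GradedRing 𝒜] {B : Type u} (e : B → ι)

/-- the pieces of the graded free module `⊕_b R(-e_b)` -/
def freePieces : ι → AddSubgroup (B →₀ R) := fun j =>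
  { carrier := {v | ∀ b, v b ∈ 𝒜 (j - e b)}
    zero_mem' := fun _ => zero_mem _
    add_mem' := fun hv hw b => add_mem (hv b) (hw b)
    neg_mem' := fun hv b => neg_mem (hv b) }

omit [DecidableEq ι] [GradedRing 𝒜] in
theorem mem_freePieces {j : ι} {v : B →₀ R} :
    v ∈ freePieces 𝒜 e j ↔ ∀ b, v b ∈ 𝒜 (j - e b) := Iff.rfl

omit [DecidableEq ι] [GradedRing 𝒜] in
theorem single_mem_freePieces (b : B) {i j : ι} (hij : i + e b = j) {x : R} (hx : x ∈ 𝒜 i) :
    Finsupp.single b x ∈ freePieces 𝒜 e j := by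
  classical
  intro c
  rw [Finsupp.single_apply]
  by_cases h : b = c
  · subst h
    rw [if_pos rfl, ← hij, add_sub_cancel_right]
    exact hx
  · rw [if_neg h]
    exact zero_mem _

/-- single-coordinate embedding of a piece -/
noncomputable def singleHom (b : B) (i : ι) : 𝒜 i →+ freePieces 𝒜 e (i + e b) where
  toFun x := ⟨Finsupp.single b (x : R), single_mem_freePieces 𝒜 e b rfl x.2⟩
  map_zero' := Subtype.ext (Finsupp.single_zero b)
  map_add' x y := by
    apply Subtype.ext
    show (Finsupp.single b ((x : R) + (y : R)) : B →₀ R) =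
      (Finsupp.single b (x : R) : B →₀ R) + (Finsupp.single b (y : R) : B →₀ R)
    exact Finsupp.single_add b _ _

/-- the decomposition of one coordinate -/
noncomputable def coordHom (b : B) : R →+ ⨁ j, freePieces 𝒜 e j :=
  (DirectSum.toAddMonoid (fun i =>
      (DirectSum.of (fun j => freePieces 𝒜 e j) (i + e b)).comp (singleHom 𝒜 e b i))).comp
    (DirectSum.decomposeAddEquiv 𝒜).toAddMonoidHom

omit [GradedRing 𝒜] in
theorem of_congr {i j : ι} (hij : i = j) (v : B →₀ R) (hi : v ∈ freePieces 𝒜 e i)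
    (hj : v ∈ freePieces 𝒜 e j) :
    DirectSum.of (fun j => freePieces 𝒜 e j) i ⟨v, hi⟩ =
      DirectSum.of (fun j => freePieces 𝒜 e j) j ⟨v, hj⟩ := by
  subst hij
  rfl

theorem coordHom_of_mem (b : B) {i j : ι} (hij : i + e b = j) {x : R} (hx : x ∈ 𝒜 i) :
    coordHom 𝒜 e b x = DirectSum.of (fun j => freePieces 𝒜 e j) j
      ⟨Finsupp.single b x, single_mem_freePieces 𝒜 e b hij hx⟩ := by
  unfold coordHom
  have h1 : (DirectSum.decomposeAddEquiv 𝒜).toAddMonoidHom x =
      DirectSum.of (fun i => 𝒜 i) i ⟨x, hx⟩ := decompose_of_mem 𝒜 hx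
  rw [AddMonoidHom.comp_apply, h1, DirectSum.toAddMonoid_of, AddMonoidHom.comp_apply]
  exact of_congr 𝒜 e hij (Finsupp.single b x) (single_mem_freePieces 𝒜 e b rfl hx) _

theorem coe_coordHom (b : B) (x : R) :
    DirectSum.coeAddMonoidHom (freePieces 𝒜 e) (coordHom 𝒜 e b x) = Finsupp.single b x := by
  have key : ∀ y : ⨁ i, 𝒜 i, DirectSum.coeAddMonoidHom (freePieces 𝒜 e)
      (DirectSum.toAddMonoid (fun i =>
        (DirectSum.of (fun j => freePieces 𝒜 e j) (i + e b)).comp (singleHom 𝒜 e b i)) y) =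
      Finsupp.single b (DirectSum.coeAddMonoidHom 𝒜 y) := by
    intro y
    induction y using DirectSum.induction_on with
    | zero => simp
    | of i x =>
      rw [DirectSum.toAddMonoid_of, AddMonoidHom.comp_apply, DirectSum.coeAddMonoidHom_of,
        DirectSum.coeAddMonoidHom_of]
      rfl
    | add x y hx hy => rw [map_add, map_add, hx, hy, map_add, Finsupp.single_add]
  unfold coordHom
  rw [AddMonoidHom.comp_apply, key]
  congr 1
  exact (decompose 𝒜).left_inv x

/-- the decomposition map of the graded free module -/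
noncomputable def freeDecompose : (B →₀ R) →+ ⨁ j, freePieces 𝒜 e j :=
  Finsupp.liftAddHom (fun b => coordHom 𝒜 e b)

theorem freeDecompose_single (b : B) (x : R) :
    freeDecompose 𝒜 e (Finsupp.single b x) = coordHom 𝒜 e b x := by
  unfold freeDecompose
  rw [Finsupp.liftAddHom_apply_single]

theorem freeDecompose_of_mem {j : ι} {v : B →₀ R} (hv : v ∈ freePieces 𝒜 e j) :
    freeDecompose 𝒜 e v = DirectSum.of (fun j => freePieces 𝒜 e j) j ⟨v, hv⟩ := by
  classical
  have h1 : ∀ b : B, coordHom 𝒜 e b (v b) = DirectSum.of (fun j => freePieces 𝒜 e j) j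
      ⟨Finsupp.single b (v b), single_mem_freePieces 𝒜 e b (sub_add_cancel j (e b)) (hv b)⟩ :=
    fun b => coordHom_of_mem 𝒜 e b (sub_add_cancel j (e b)) (hv b)
  unfold freeDecompose
  rw [Finsupp.liftAddHom_apply, Finsupp.sum]
  simp only [h1]
  rw [← map_sum]
  congr 1
  apply Subtype.ext
  rw [AddSubgroup.val_finsetSum]
  exact Finsupp.sum_single v

/-- the graded free module is graded -/
@[instance_reducible]
noncomputable def freeDecomposition : DirectSum.Decomposition (freePieces 𝒜 e) :=
  Decomposition.ofAddHom (freePieces 𝒜 e) (freeDecompose 𝒜 e)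
    (by
      apply Finsupp.addHom_ext
      intro b x
      rw [AddMonoidHom.comp_apply, AddMonoidHom.id_apply, freeDecompose_single, coe_coordHom])
    (by
      apply DirectSum.addHom_ext
      rintro j ⟨v, hv⟩
      simp only [AddMonoidHom.coe_comp, Function.comp_apply, AddMonoidHom.id_apply]
      rw [DirectSum.coeAddMonoidHom_of]
      exact freeDecompose_of_mem 𝒜 e hv)

theorem freeGradedSMul : SetLike.GradedSMul 𝒜 (freePieces 𝒜 e) where
  smul_mem := by
    intro i j r v hr hv b
    rw [vadd_eq_add, Finsupp.smul_apply, smul_eq_mul, add_sub_assoc]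
    exact SetLike.GradedMul.mul_mem hr (hv b)

end Basic

section Cover
variable {ι : Type} [AddCommGroup ι] [DecidableEq ι] {R : Type u} [CommRing R]
  (𝒜 : ι → AddSubgroup R) [GradedRing 𝒜]
  {M : Type u} [AddCommGroup M] [Module R M] (ℳ : ι → AddSubgroup M)
  [DirectSum.Decomposition ℳ] [SetLike.GradedSMul 𝒜 ℳ]

/-- the index type of the canonical cover: the homogeneous elements of `M` -/
abbrev CoverIdx : Type u := Σ d : ι, ℳ d

/-- the canonical graded free cover of a graded module -/
noncomputable def cover : (CoverIdx ℳ →₀ R) →ₗ[R] M :=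
  Finsupp.linearCombination R (fun b : CoverIdx ℳ => ((b.2 : ℳ b.1) : M))

omit [DecidableEq ι] [GradedRing 𝒜] [DirectSum.Decomposition ℳ] in
theorem cover_isGrHom :
    IsGrHom (freePieces 𝒜 (fun b : CoverIdx ℳ => b.1)) ℳ (cover ℳ) := by
  intro j v hv
  unfold cover
  rw [Finsupp.linearCombination_apply, Finsupp.sum]
  refine sum_mem fun b _ => ?_
  have := SetLike.GradedSMul.smul_mem (A := 𝒜) (B := ℳ) (hv b) (b.2.2)
  rw [vadd_eq_add, sub_add_cancel] at this
  exact this

omit [AddCommGroup ι] [SetLike.GradedSMul 𝒜 ℳ] in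
theorem cover_surjective : Function.Surjective (cover (R := R) ℳ) := by
  classical
  intro x
  rw [← LinearMap.mem_range, ← DirectSum.sum_support_decompose ℳ x]
  refine Submodule.sum_mem _ fun i _ => ?_
  refine ⟨Finsupp.single ⟨i, decompose ℳ x i⟩ 1, ?_⟩
  unfold cover
  rw [Finsupp.linearCombination_single, one_smul]

theorem ker_cover_isHomogeneous :
    letI := freeDecomposition 𝒜 (fun b : CoverIdx ℳ => b.1)
    (LinearMap.ker (cover (R := R) ℳ)).IsHomogeneous (freePieces 𝒜 (fun b : CoverIdx ℳ => b.1)) := by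
  let _ := freeDecomposition 𝒜 (fun b : CoverIdx ℳ => b.1)
  have h := IsGrHom.comap_isHomogeneous (freePieces 𝒜 (fun b : CoverIdx ℳ => b.1)) ℳ
    (cover_isGrHom 𝒜 ℳ) (isHomogeneous_bot ℳ)
  exact h

end Cover

end Groth.Agent.Lib.Helper93.GrFreeInf
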