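import Groth.Agent.Lib.Helper93.GrBaer
import Groth.Agent.Lib.Helper93.GrFreeInf
import Groth.Agent.Lib.Helper39.GrExtVanish

/-!
# `Ext^i_R(N, I) = 0` for `I` *injective and `N` ANY graded module, `i ≥ 1` (helper93)
-/

set_option autoImplicit false
universe u

namespace Groth.Agent.Lib.Helper93.GrExtAll

open CategoryTheory Abelian DirectSum GrLC Groth.Agent.Lib.Helper39
  Groth.Agent.Lib.Helper93.GrBaer Groth.Agent.Lib.Helper93.GrFreeInf

variable {ι : Type} [AddCommGroup ι] [DecidableEq ι] {R : Type u} [CommRing R] [IsNoetherianRing R]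
  (𝒜 : ι → AddSubgroup R) [GradedRing 𝒜]
  {I : Type u} [AddCommGroup I] [Module R I] (ℐ : ι → AddSubgroup I) [DirectSum.Decomposition ℐ]
  [SetLike.GradedSMul 𝒜 ℐ]

include ℐ in
/-- **Ext vanishing**: `Ext^{n+1}_R(N, I) = 0` for `I` *injective and `N` any graded module (not
necessarily finitely generated). -/
theorem ext_subsingleton (hI : IsStarInj 𝒜 ℐ) (n : ℕ) :
    ∀ (N : Type u) [AddCommGroup N] [Module R N] (𝒩 : ι → AddSubgroup N)
      [DirectSum.Decomposition 𝒩] [SetLike.GradedSMul 𝒜 𝒩],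
      Subsingleton (Ext.{u} (ModuleCat.of R N) (ModuleCat.of R I) (n + 1)) := by
  induction n with
  | zero =>
    intro N _ _ 𝒩 _ _
    let decF := freeDecomposition 𝒜 (fun b : CoverIdx 𝒩 => b.1)
    have smulF := freeGradedSMul 𝒜 (fun b : CoverIdx 𝒩 => b.1)
    have hS := LinearMap.shortExact_shortComplexKer (cover_surjective (R := R) 𝒩)
    have : Projective ((cover (R := R) 𝒩).shortComplexKer).X₂ :=
      (inferInstance : Projective (ModuleCat.of R (CoverIdx 𝒩 →₀ R)))
    refine ext_subsingleton_succ_of_shortExact hS (ModuleCat.of R I) 0 ?_ ?_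
    · intro h
      omega
    · intro _ g
      obtain ⟨h, hh⟩ := exists_extension_of_isHomogeneous 𝒜
        (freePieces 𝒜 (fun b : CoverIdx 𝒩 => b.1)) ℐ hI (LinearMap.ker (cover (R := R) 𝒩))
        (ker_cover_isHomogeneous 𝒜 𝒩) g.hom
      refine ⟨ModuleCat.ofHom h, ?_⟩
      ext x
      exact LinearMap.congr_fun hh x
  | succ n ih =>
    intro N _ _ 𝒩 _ _
    let decF := freeDecomposition 𝒜 (fun b : CoverIdx 𝒩 => b.1)
    have smulF := freeGradedSMul 𝒜 (fun b : CoverIdx 𝒩 => b.1)
    have hS := LinearMap.shortExact_shortComplexKer (cover_surjective (R := R) 𝒩)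
    have : Projective ((cover (R := R) 𝒩).shortComplexKer).X₂ :=
      (inferInstance : Projective (ModuleCat.of R (CoverIdx 𝒩 →₀ R)))
    refine ext_subsingleton_succ_of_shortExact hS (ModuleCat.of R I) (n + 1) ?_ ?_
    · intro _
      let decK := subDecomposition (freePieces 𝒜 (fun b : CoverIdx 𝒩 => b.1))
        (LinearMap.ker (cover (R := R) 𝒩)) (ker_cover_isHomogeneous 𝒜 𝒩)
      have smulK := subGradedSMul 𝒜 (freePieces 𝒜 (fun b : CoverIdx 𝒩 => b.1))
        (LinearMap.ker (cover (R := R) 𝒩))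
      exact ih ↥(LinearMap.ker (cover (R := R) 𝒩))
        (subPieces (freePieces 𝒜 (fun b : CoverIdx 𝒩 => b.1)) (LinearMap.ker (cover (R := R) 𝒩)))
    · intro h
      omega

end Groth.Agent.Lib.Helper93.GrExtAll
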