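import Groth.Agent.Lib.Helper93.GrHullMax
import Groth.Agent.Lib.Helper39.GrAss
import Mathlib.RingTheory.GradedAlgebra.Radical
import Mathlib.RingTheory.Ideal.AssociatedPrime.Basic

/-!
# When is a *injective module injective? (helper93)

Over a Noetherian ℤ-graded ring, a *injective graded module `M` fails to be injective iff there is a
non-graded prime `p` whose graded core `p*` is an associated prime of `M`.
-/

set_option autoImplicit false
set_option linter.unusedSectionVars false
universe u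

namespace Groth.Agent.Lib.Helper93.GrInjCrit

open DirectSum GrLC Groth.Agent.Lib.Helper39 Groth.Agent.Lib.Helper2

section Tor
variable {ι : Type} [AddCommGroup ι] [DecidableEq ι] {R : Type u} [CommRing R]
  (𝒜 : ι → AddSubgroup R) [GradedRing 𝒜] (q : Ideal R) [hq : q.IsPrime]
  {M : Type u} [AddCommGroup M] [Module R M] (ℳ : ι → AddSubgroup M) [DirectSum.Decomposition ℳ]
  [SetLike.GradedSMul 𝒜 ℳ]

/-- the elements killed by a homogeneous element outside the prime `q` -/
def tor (M : Type u) [AddCommGroup M] [Module R M] : Submodule R M where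
  carrier := {z | ∃ s, SetLike.IsHomogeneousElem 𝒜 s ∧ s ∉ q ∧ s • z = 0}
  zero_mem' := ⟨1, SetLike.isHomogeneousElem_one 𝒜, (q.ne_top_iff_one).mp hq.ne_top, smul_zero _⟩
  add_mem' := by
    rintro a b ⟨s, hs, hsq, hsa⟩ ⟨t, ht, htq, htb⟩
    refine ⟨s * t, hs.mul ht, fun h => (hq.mem_or_mem h).elim hsq htq, ?_⟩
    have h1 : (s * t) • a = 0 := by rw [mul_comm, mul_smul, hsa, smul_zero]
    have h2 : (s * t) • b = 0 := by rw [mul_smul, htb, smul_zero]
    rw [smul_add, h1, h2, add_zero]
  smul_mem' := by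
    rintro c z ⟨s, hs, hsq, hsz⟩
    exact ⟨s, hs, hsq, by rw [smul_comm, hsz, smul_zero]⟩

theorem mem_tor {z : M} : z ∈ tor 𝒜 q M ↔ ∃ s, SetLike.IsHomogeneousElem 𝒜 s ∧ s ∉ q ∧ s • z = 0 :=
  Iff.rfl

/-- if a homogeneous element outside `q` times `z` is torsion, so is `z` -/
theorem mem_tor_of_smul_mem {s : R} (hs : SetLike.IsHomogeneousElem 𝒜 s) (hsq : s ∉ q) {z : M}
    (h : s • z ∈ tor 𝒜 q M) : z ∈ tor 𝒜 q M := by
  obtain ⟨t, ht, htq, htz⟩ := h
  exact ⟨t * s, ht.mul hs, fun h => (hq.mem_or_mem h).elim htq hsq, by rw [mul_smul, htz]⟩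

/-- the components of an element killed by a homogeneous ideal are killed by it -/
theorem smul_decompose_eq_zero (hqh : q.IsHomogeneous 𝒜) (y : M) (hy : ∀ r ∈ q, r • y = 0) (n : ι)
    (r : R) (hr : r ∈ q) : r • (decompose ℳ y n : M) = 0 := by
  classical
  rw [← DirectSum.sum_support_decompose 𝒜 r, Finset.sum_smul]
  refine Finset.sum_eq_zero fun k _ => ?_
  rw [← decompose_smul_of_mem 𝒜 ℳ (SetLike.coe_mem (decompose 𝒜 r k)) y n, hy _ (hqh k hr),
    decompose_zero]
  rfl

/-- the components of a product -/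
theorem decompose_smul_eq_sum [∀ (i : ι) (x : 𝒜 i), Decidable (x ≠ 0)] (a : R) (y : M) (m : ι) :
    (decompose ℳ (a • y) m : M) =
      ∑ k ∈ (decompose 𝒜 a).support, (decompose 𝒜 a k : R) • (decompose ℳ y (m - k) : M) := by
  have h1 : a • y = ∑ k ∈ (decompose 𝒜 a).support, (decompose 𝒜 a k : R) • y := by
    conv_lhs => rw [← DirectSum.sum_support_decompose 𝒜 a]
    rw [Finset.sum_smul]
  rw [h1, decompose_sum, DFinsupp.finsetSum_apply, AddSubgroup.val_finsetSum]
  refine Finset.sum_congr rfl fun k _ => ?_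
  have := decompose_smul_of_mem 𝒜 ℳ (SetLike.coe_mem (decompose 𝒜 a k)) y (m - k)
  rw [add_sub_cancel] at this
  exact this

/-- **Leading term lemma**: if `(k₀, n₀)` is the only pair of a component of `a` outside `q` and a
non-torsion component of `y` in total degree `k₀ + n₀`, then the component of `a • y` in that degree
is nonzero. -/
theorem decompose_smul_ne_zero (hqh : q.IsHomogeneous 𝒜) (a : R) (y : M)
    (hy : ∀ r ∈ q, r • y = 0) (k₀ n₀ : ι) (hk₀ : (decompose 𝒜 a k₀ : R) ∉ q)
    (hn₀ : (decompose ℳ y n₀ : M) ∉ tor 𝒜 q M)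
    (huniq : ∀ k n, (decompose 𝒜 a k : R) ∉ q → (decompose ℳ y n : M) ∉ tor 𝒜 q M →
      k + n = k₀ + n₀ → k = k₀) :
    (decompose ℳ (a • y) (k₀ + n₀) : M) ≠ 0 := by
  classical
  intro h0
  rw [decompose_smul_eq_sum 𝒜 ℳ] at h0
  have hk₀s : k₀ ∈ (decompose 𝒜 a).support := by
    rw [DFinsupp.mem_support_iff]
    intro h
    apply hk₀
    rw [h]
    exact q.zero_mem
  rw [← Finset.add_sum_erase _ _ hk₀s, add_sub_cancel_left] at h0
  have hrest : ∑ k ∈ (decompose 𝒜 a).support.erase k₀,
      (decompose 𝒜 a k : R) • (decompose ℳ y (k₀ + n₀ - k) : M) ∈ tor 𝒜 q M := by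
    refine Submodule.sum_mem _ fun k hk => ?_
    by_cases hkq : (decompose 𝒜 a k : R) ∈ q
    · rw [smul_decompose_eq_zero 𝒜 q ℳ hqh y hy _ _ hkq]
      exact Submodule.zero_mem _
    · by_cases hn : (decompose ℳ y (k₀ + n₀ - k) : M) ∈ tor 𝒜 q M
      · exact Submodule.smul_mem _ _ hn
      · exact absurd (huniq k _ hkq hn (by abel)) (Finset.ne_of_mem_erase hk)
  have h1 : (decompose 𝒜 a k₀ : R) • (decompose ℳ y n₀ : M) ∈ tor 𝒜 q M := by
    rw [eq_neg_of_add_eq_zero_left h0]
    exact Submodule.neg_mem _ hrest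
  exact hn₀ (mem_tor_of_smul_mem 𝒜 q ⟨k₀, SetLike.coe_mem _⟩ hk₀ h1)

end Tor

section Core
variable {R : Type u} [CommRing R] (𝒜 : ℤ → AddSubgroup R) [GradedRing 𝒜]
  (p : Ideal R) [hp : p.IsPrime]
  {M : Type u} [AddCommGroup M] [Module R M] (ℳ : ℤ → AddSubgroup M) [DirectSum.Decomposition ℳ]
  [SetLike.GradedSMul 𝒜 ℳ]

/-- If `v` is killed by the core `p*` and its annihilator lies in `p`, then some homogeneous
component of `v` has annihilator exactly `p*`. -/
theorem exists_component_annihilator (v : M)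
    (hq : ∀ r ∈ (p.homogeneousCore 𝒜).toIdeal, r • v = 0) (hv : ∀ r : R, r • v = 0 → r ∈ p) :
    ∃ n : ℤ, ∀ r : R, r • (decompose ℳ v n : M) = 0 ↔ r ∈ (p.homogeneousCore 𝒜).toIdeal := by
  classical
  have hqprime : (p.homogeneousCore 𝒜).toIdeal.IsPrime := hp.homogeneousCore
  have hqh : (p.homogeneousCore 𝒜).toIdeal.IsHomogeneous 𝒜 := (p.homogeneousCore 𝒜).isHomogeneous
  by_contra hcon
  have h1 : ∀ n : ℤ, ∃ s : R, SetLike.IsHomogeneousElem 𝒜 s ∧
      s ∉ (p.homogeneousCore 𝒜).toIdeal ∧ s • (decompose ℳ v n : M) = 0 := by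
    intro n
    have h2 : ∃ r : R, r • (decompose ℳ v n : M) = 0 ∧ r ∉ (p.homogeneousCore 𝒜).toIdeal := by
      by_contra h3
      push Not at h3
      exact hcon ⟨n, fun r => ⟨h3 r, smul_decompose_eq_zero 𝒜 _ ℳ hqh v hq n r⟩⟩
    obtain ⟨r, hr0, hrq⟩ := h2
    have hann := annihilator_span_singleton_isHomogeneous 𝒜 ℳ (SetLike.coe_mem (decompose ℳ v n))
    have hr : r ∈ (Submodule.span R {(decompose ℳ v n : M)}).annihilator :=
      (Submodule.mem_annihilator_span_singleton _ _).mpr hr0
    have h4 : ∃ k, (decompose 𝒜 r k : R) ∉ (p.homogeneousCore 𝒜).toIdeal := by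
      by_contra h5
      push Not at h5
      apply hrq
      rw [← DirectSum.sum_support_decompose 𝒜 r]
      exact Ideal.sum_mem _ fun k _ => h5 k
    obtain ⟨k, hk⟩ := h4
    exact ⟨_, ⟨k, SetLike.coe_mem _⟩, hk,
      (Submodule.mem_annihilator_span_singleton _ _).mp (hann k hr)⟩
  choose s hsh hsq hs0 using h1
  have hprod : SetLike.IsHomogeneousElem 𝒜 (∏ n ∈ (decompose ℳ v).support, s n) := by
    refine Finset.prod_induction _ (SetLike.IsHomogeneousElem 𝒜) (fun a b ha hb => ha.mul hb)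
      (SetLike.isHomogeneousElem_one 𝒜) (fun n _ => hsh n)
  have hprodq : (∏ n ∈ (decompose ℳ v).support, s n) ∉ (p.homogeneousCore 𝒜).toIdeal := by
    rw [hqprime.prod_mem_iff]
    push Not
    exact fun n _ => hsq n
  have hkill : (∏ n ∈ (decompose ℳ v).support, s n) • v = 0 := by
    rw [show (∏ n ∈ (decompose ℳ v).support, s n) • v = (∏ n ∈ (decompose ℳ v).support, s n) •
      ∑ n ∈ (decompose ℳ v).support, (decompose ℳ v n : M) from by
        rw [DirectSum.sum_support_decompose ℳ v]]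
    rw [Finset.smul_sum]
    refine Finset.sum_eq_zero fun n hn => ?_
    rw [← Finset.mul_prod_erase _ _ hn, mul_comm, mul_smul, hs0 n, smul_zero]
  exact hprodq (Ideal.mem_homogeneousCore_of_homogeneous_of_mem hprod (hv _ hkill))

end Core

section Backward
variable {R : Type u} [CommRing R] [IsNoetherianRing R] (𝒜 : ℤ → AddSubgroup R) [GradedRing 𝒜]
  {M : Type u} [AddCommGroup M] [Module R M] (ℳ : ℤ → AddSubgroup M) [DirectSum.Decomposition ℳ]
  [SetLike.GradedSMul 𝒜 ℳ]

include ℳ in
/-- A graded module having the core of a non-graded prime as an associated prime is not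
injective. -/
theorem not_injective_of_core_mem_associatedPrimes (p : Ideal R) [hp : p.IsPrime]
    (hph : ¬ p.IsHomogeneous 𝒜)
    (hass : (p.homogeneousCore 𝒜).toIdeal ∈ associatedPrimes R M) : ¬ Module.Injective R M := by
  classical
  intro hinj
  set q : Ideal R := (p.homogeneousCore 𝒜).toIdeal with hqdef
  have hqprime : q.IsPrime := hp.homogeneousCore
  have hqh : q.IsHomogeneous 𝒜 := (p.homogeneousCore 𝒜).isHomogeneous
  have hqp : q ≤ p := Ideal.toIdeal_homogeneousCore_le 𝒜 p
  obtain ⟨-, u, hu⟩ := isAssociatedPrime_iff.mp hass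
  have humem : ∀ r : R, r • u = 0 ↔ r ∈ q := by
    intro r
    rw [hu, Submodule.mem_colon_singleton, Submodule.mem_bot]
  -- a homogeneous element with annihilator `q`
  obtain ⟨d, hx⟩ := exists_component_annihilator 𝒜 p ℳ u (fun r hr => (humem r).mpr hr)
    (fun r hr => hqp ((humem r).mp hr))
  set x : M := (decompose ℳ u d : M) with hxdef
  have hxd : x ∈ ℳ d := SetLike.coe_mem _
  -- an element of `p` outside `q`
  obtain ⟨a, hap, haq⟩ : ∃ a, a ∈ p ∧ a ∉ q := by
    by_contra hcon
    push Not at hcon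
    apply hph
    have : q = p := le_antisymm hqp hcon
    rw [← this]
    exact hqh
  -- divide `x` by `a`
  let f : (R ⧸ q) →ₗ[R] (R ⧸ q) := LinearMap.lsmul R (R ⧸ q) a
  have hf : Function.Injective f := by
    rw [← LinearMap.ker_eq_bot, eq_bot_iff]
    intro z hz
    rw [LinearMap.mem_ker] at hz
    obtain ⟨c, rfl⟩ := Ideal.Quotient.mk_surjective z
    have h1 : Ideal.Quotient.mk q (a * c) = 0 := hz
    rw [Ideal.Quotient.eq_zero_iff_mem] at h1
    rw [Submodule.mem_bot, Ideal.Quotient.eq_zero_iff_mem]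
    exact (hqprime.mem_or_mem h1).resolve_left haq
  let g : (R ⧸ q) →ₗ[R] M := Submodule.liftQ q (LinearMap.toSpanSingleton R M x) (by
    intro r hr
    rw [LinearMap.mem_ker, LinearMap.toSpanSingleton_apply]
    exact (hx r).mpr hr)
  obtain ⟨h, hh⟩ := Module.Injective.extension_property R M (R ⧸ q) (R ⧸ q) f hf g
  set y : M := h (Ideal.Quotient.mk q 1) with hydef
  have hay : a • y = x := by
    have h1 := LinearMap.congr_fun hh (Ideal.Quotient.mk q 1)
    rw [LinearMap.comp_apply] at h1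
    have h2 : f (Ideal.Quotient.mk q 1) = a • Ideal.Quotient.mk q 1 := rfl
    rw [h2, map_smul] at h1
    rw [h1]
    change Submodule.liftQ q (LinearMap.toSpanSingleton R M x) _ (Submodule.Quotient.mk 1) = x
    rw [Submodule.liftQ_apply, LinearMap.toSpanSingleton_apply, one_smul]
  have hqy : ∀ r ∈ q, r • y = 0 := by
    intro r hr
    rw [hydef, ← map_smul]
    have : r • Ideal.Quotient.mk q 1 = 0 := by
      change Ideal.Quotient.mk q (r * 1) = 0
      rw [mul_one, Ideal.Quotient.eq_zero_iff_mem]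
      exact hr
    rw [this, map_zero]
  -- torsion bookkeeping
  have hxtor : x ∉ tor 𝒜 q M := by
    rintro ⟨s, hs, hsq, hsx⟩
    exact hsq ((hx s).mp hsx)
  have hytor : y ∉ tor 𝒜 q M := fun h => hxtor (hay ▸ Submodule.smul_mem _ a h)
  set K : Finset ℤ := (decompose 𝒜 a).support.filter (fun k => (decompose 𝒜 a k : R) ∉ q) with hK
  set N : Finset ℤ := (decompose ℳ y).support.filter
    (fun n => (decompose ℳ y n : M) ∉ tor 𝒜 q M) with hN
  have hmemK : ∀ k, k ∈ K ↔ (decompose 𝒜 a k : R) ∉ q := by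
    intro k
    rw [hK, Finset.mem_filter, DFinsupp.mem_support_iff]
    constructor
    · exact fun h => h.2
    · intro h
      refine ⟨fun h0 => h ?_, h⟩
      rw [h0]
      exact q.zero_mem
  have hmemN : ∀ n, n ∈ N ↔ (decompose ℳ y n : M) ∉ tor 𝒜 q M := by
    intro n
    rw [hN, Finset.mem_filter, DFinsupp.mem_support_iff]
    constructor
    · exact fun h => h.2
    · intro h
      refine ⟨fun h0 => h ?_, h⟩
      rw [h0]
      exact Submodule.zero_mem _
  have hKne : K.Nonempty := by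
    by_contra hcon
    rw [Finset.not_nonempty_iff_eq_empty] at hcon
    apply haq
    rw [← DirectSum.sum_support_decompose 𝒜 a]
    refine Ideal.sum_mem _ fun k _ => ?_
    by_contra hk
    have := (hmemK k).mpr hk
    rw [hcon] at this
    exact absurd this (Finset.notMem_empty k)
  have hNne : N.Nonempty := by
    by_contra hcon
    rw [Finset.not_nonempty_iff_eq_empty] at hcon
    apply hytor
    rw [← DirectSum.sum_support_decompose ℳ y]
    refine Submodule.sum_mem _ fun n _ => ?_
    by_contra hn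
    have := (hmemN n).mpr hn
    rw [hcon] at this
    exact absurd this (Finset.notMem_empty n)
  have hdeg : ∀ m : ℤ, (decompose ℳ (a • y) m : M) ≠ 0 → m = d := by
    intro m hm
    by_contra hmd
    apply hm
    rw [hay]
    exact decompose_of_mem_ne ℳ hxd (fun h => hmd h.symm)
  -- top and bottom degrees
  have htop : K.max' hKne + N.max' hNne = d := by
    apply hdeg
    refine decompose_smul_ne_zero 𝒜 q ℳ hqh a y hqy _ _ ((hmemK _).mp (Finset.max'_mem K hKne))
      ((hmemN _).mp (Finset.max'_mem N hNne)) ?_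
    intro k n hk hn hkn
    have h1 := Finset.le_max' K k ((hmemK k).mpr hk)
    have h2 := Finset.le_max' N n ((hmemN n).mpr hn)
    omega
  have hbot : K.min' hKne + N.min' hNne = d := by
    apply hdeg
    refine decompose_smul_ne_zero 𝒜 q ℳ hqh a y hqy _ _ ((hmemK _).mp (Finset.min'_mem K hKne))
      ((hmemN _).mp (Finset.min'_mem N hNne)) ?_
    intro k n hk hn hkn
    have h1 := Finset.min'_le K k ((hmemK k).mpr hk)
    have h2 := Finset.min'_le N n ((hmemN n).mpr hn)
    omega
  have hKK : K.min' hKne = K.max' hKne := by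
    have h1 := Finset.min'_le K _ (Finset.max'_mem K hKne)
    have h2 := Finset.min'_le N _ (Finset.max'_mem N hNne)
    omega
  -- so `a` has a single component outside `q`, which lies in `p`, hence in `q`
  set k₀ := K.max' hKne with hk₀
  have hk₀K : k₀ ∈ K := Finset.max'_mem K hKne
  have hrest : ∀ k, k ≠ k₀ → (decompose 𝒜 a k : R) ∈ q := by
    intro k hk
    by_contra hkq
    have hkK := (hmemK k).mpr hkq
    have h1 := Finset.le_max' K k hkK
    have h2 := Finset.min'_le K k hkK
    omega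
  have hk₀s : k₀ ∈ (decompose 𝒜 a).support := (Finset.mem_filter.mp hk₀K).1
  have hsum : (decompose 𝒜 a k₀ : R) ∈ p := by
    have h1 := DirectSum.sum_support_decompose 𝒜 a
    rw [← Finset.add_sum_erase _ _ hk₀s] at h1
    have h2 : ∑ k ∈ (decompose 𝒜 a).support.erase k₀, (decompose 𝒜 a k : R) ∈ p :=
      Ideal.sum_mem _ fun k hk => hqp (hrest k (Finset.ne_of_mem_erase hk))
    have h3 : (decompose 𝒜 a k₀ : R) =
        a - ∑ k ∈ (decompose 𝒜 a).support.erase k₀, (decompose 𝒜 a k : R) :=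
      eq_sub_of_add_eq h1
    rw [h3]
    exact p.sub_mem hap h2
  exact (hmemK k₀).mp hk₀K
    (Ideal.mem_homogeneousCore_of_homogeneous_of_mem ⟨k₀, SetLike.coe_mem _⟩ hsum)

end Backward

section Forward
variable {R : Type u} [CommRing R] [IsNoetherianRing R] (𝒜 : ℤ → AddSubgroup R) [GradedRing 𝒜]
  {M : Type u} [AddCommGroup M] [Module R M] (ℳ : ℤ → AddSubgroup M) [DirectSum.Decomposition ℳ]
  [SetLike.GradedSMul 𝒜 ℳ]

open Groth.Agent.Lib.Helper93.GrHullMax in
/-- A *injective module which is not injective has the core of some non-graded prime as an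
associated prime. -/
theorem exists_prime_of_not_injective (hM : IsStarInj 𝒜 ℳ) (hninj : ¬ Module.Injective R M) :
    ∃ p : Ideal R, p.IsPrime ∧ ¬ p.IsHomogeneous 𝒜 ∧
      (p.homogeneousCore 𝒜).toIdeal ∈ associatedPrimes R M := by
  classical
  obtain ⟨I, _, _, i, hI, hi⟩ := exists_injective_embedding R M
  obtain ⟨Ē, C, hMĒ, hess, hcompl⟩ := exists_essIn_isCompl hI (LinearMap.range i)
  -- `M` is properly contained in its hull
  have hne : ¬ Ē ≤ LinearMap.range i := by
    intro hle
    apply hninj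
    have heq : LinearMap.range i = Ē := le_antisymm hMĒ hle
    have hinjR : Module.Injective R (LinearMap.range i) := by
      rw [heq]
      exact injective_of_isCompl hI hcompl
    refine injective_of_retract hinjR (LinearEquiv.ofInjective i hi).toLinearMap
      (LinearEquiv.ofInjective i hi).symm.toLinearMap ?_
    ext x
    simp
  obtain ⟨z, hzĒ, hzM⟩ := SetLike.not_le_iff_exists.mp hne
  -- an associated prime of the quotient
  let N : Submodule R Ē := (LinearMap.range i).comap Ē.subtype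
  have hnt : Nontrivial (Ē ⧸ N) :=
    ⟨N.mkQ ⟨z, hzĒ⟩, 0, fun h => hzM ((Submodule.Quotient.mk_eq_zero N).mp h)⟩
  obtain ⟨p, hp⟩ := associatedPrimes.nonempty R (Ē ⧸ N)
  obtain ⟨hpprime, w', hw'⟩ := isAssociatedPrime_iff.mp hp
  obtain ⟨w, rfl⟩ := N.mkQ_surjective w'
  have hmem : ∀ r : R, r ∈ p ↔ r • (w : I) ∈ LinearMap.range i := by
    intro r
    rw [hw', Submodule.mem_colon_singleton, Submodule.mem_bot, ← map_smul, Submodule.mkQ_apply,
      Submodule.Quotient.mk_eq_zero]
    rfl
  -- general principle: an element of the hull whose conductor into `M` contains a graded ideal `J`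
  -- can be moved by an element of `M` so as to be killed by `J`
  have hwĒ : (w : I) ∈ Ē := w.2
  -- `p` is not graded
  have hpnh : ¬ p.IsHomogeneous 𝒜 := by
    intro hph
    obtain ⟨x₀, hx₀⟩ := exists_lift_of_smul_mem 𝒜 ℳ hM i hi p hph (w : I)
      (fun a ha => (hmem a).mp ha)
    have hz'Ē : (w : I) - i x₀ ∈ Ē := Ē.sub_mem hwĒ (hMĒ ⟨x₀, rfl⟩)
    by_cases hz0 : (w : I) - i x₀ = 0
    · apply hpprime.ne_top
      rw [Ideal.eq_top_iff_one, hmem, one_smul, sub_eq_zero.mp hz0]
      exact ⟨x₀, rfl⟩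
    · obtain ⟨r, hr0, hr⟩ := hess _ hz'Ē hz0
      apply hr0
      have hrp : r ∈ p := by
        rw [hmem]
        have : r • (w : I) = r • ((w : I) - i x₀) + i (r • x₀) := by
          rw [map_smul, smul_sub, sub_add_cancel]
        rw [this]
        exact Submodule.add_mem _ hr ⟨_, rfl⟩
      rw [smul_sub, hx₀ r hrp, sub_self]
  refine ⟨p, hpprime, hpnh, ?_⟩
  set q : Ideal R := (p.homogeneousCore 𝒜).toIdeal with hqdef
  have hqprime : q.IsPrime := hpprime.homogeneousCore
  have hqh : q.IsHomogeneous 𝒜 := (p.homogeneousCore 𝒜).isHomogeneous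
  have hqp : q ≤ p := Ideal.toIdeal_homogeneousCore_le 𝒜 p
  -- move `w` so that it is killed by `q`
  obtain ⟨x₁, hx₁⟩ := exists_lift_of_smul_mem 𝒜 ℳ hM i hi q hqh (w : I)
    (fun a ha => (hmem a).mp (hqp ha))
  set z₁ : I := (w : I) - i x₁ with hz₁
  have hz₁Ē : z₁ ∈ Ē := Ē.sub_mem hwĒ (hMĒ ⟨x₁, rfl⟩)
  have hqz₁ : ∀ r ∈ q, r • z₁ = 0 := by
    intro r hr
    rw [hz₁, smul_sub, hx₁ r hr, sub_self]
  have hmem₁ : ∀ r : R, r ∈ p ↔ r • z₁ ∈ LinearMap.range i := by
    intro r
    rw [hmem]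
    have h1 : r • (w : I) = r • z₁ + i (r • x₁) := by
      rw [hz₁, map_smul, smul_sub, sub_add_cancel]
    constructor
    · intro h
      have : r • z₁ = r • (w : I) - i (r • x₁) := by rw [h1, add_sub_cancel_right]
      rw [this]
      exact Submodule.sub_mem _ h ⟨_, rfl⟩
    · intro h
      rw [h1]
      exact Submodule.add_mem _ h ⟨_, rfl⟩
  -- an element `c ∈ p` with the annihilator of `c • z₁` inside `p`
  have hc : ∃ c ∈ p, ∀ r : R, r • (c • z₁) = 0 → r ∈ p := by
    by_contra hcon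
    push Not at hcon
    choose! s hs0 hsp using hcon
    obtain ⟨G, hG⟩ := (isNoetherianRing_iff_ideal_fg R).mp inferInstance p
    have hGp : ∀ c ∈ G, c ∈ p := fun c hc => hG ▸ Submodule.subset_span hc
    set t : R := ∏ c ∈ G, s c with ht
    have htp : t ∉ p := by
      rw [ht, hpprime.prod_mem_iff]
      push Not
      exact fun c hc => hsp c (hGp c hc)
    have hker : p ≤ LinearMap.ker (LinearMap.toSpanSingleton R I (t • z₁)) := by
      rw [← hG, Ideal.span, Submodule.span_le]
      intro c hc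
      rw [SetLike.mem_coe, LinearMap.mem_ker, LinearMap.toSpanSingleton_apply, ht,
        ← Finset.mul_prod_erase _ _ hc, smul_comm, mul_comm, mul_smul, hs0 c (hGp c hc), smul_zero]
    have hz'Ē : t • z₁ ∈ Ē := Ē.smul_mem t hz₁Ē
    have hz'M : t • z₁ ∉ LinearMap.range i := fun h => htp ((hmem₁ t).mpr h)
    have hz'0 : t • z₁ ≠ 0 := fun h => hz'M (h ▸ Submodule.zero_mem _)
    obtain ⟨r, hr0, hr⟩ := hess _ hz'Ē hz'0
    apply hr0
    have hrt : r * t ∈ p := by
      rw [hmem₁, mul_smul]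
      exact hr
    have hrp : r ∈ p := (hpprime.mem_or_mem hrt).resolve_right htp
    have := hker hrp
    rw [LinearMap.mem_ker, LinearMap.toSpanSingleton_apply] at this
    exact this
  obtain ⟨c, hcp, hcann⟩ := hc
  obtain ⟨v₀, hv₀⟩ := (hmem₁ c).mp hcp
  have hqv₀ : ∀ r ∈ q, r • v₀ = 0 := by
    intro r hr
    apply hi
    rw [map_smul, hv₀, map_zero, smul_comm, hqz₁ r hr, smul_zero]
  have hannv₀ : ∀ r : R, r • v₀ = 0 → r ∈ p := by
    intro r hr
    apply hcann
    rw [← hv₀, ← map_smul, hr, map_zero]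
  obtain ⟨n, hn⟩ := exists_component_annihilator 𝒜 p ℳ v₀ hqv₀ hannv₀
  refine isAssociatedPrime_iff.mpr ⟨hqprime, (decompose ℳ v₀ n : M), ?_⟩
  ext r
  rw [Submodule.mem_colon_singleton, Submodule.mem_bot, hn r]

/-- **Criterion**: a *injective module over a Noetherian ℤ-graded ring is not injective iff the
graded core of some non-graded prime is an associated prime. -/
theorem not_injective_iff (hM : IsStarInj 𝒜 ℳ) :
    ¬ Module.Injective R M ↔ ∃ p : Ideal R, p.IsPrime ∧ ¬ p.IsHomogeneous 𝒜 ∧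
      (p.homogeneousCore 𝒜).toIdeal ∈ associatedPrimes R M := by
  constructor
  · exact exists_prime_of_not_injective 𝒜 ℳ hM
  · rintro ⟨p, hp, hph, hass⟩
    exact not_injective_of_core_mem_associatedPrimes 𝒜 ℳ p hph hass

end Forward

end Groth.Agent.Lib.Helper93.GrInjCrit
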