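import Groth.Agent.Lib.Helper93.GrExtAll
import Groth.Agent.Lib.Helper93.GrCofreeSeq
import Mathlib.CategoryTheory.Abelian.Injective.Dimension

/-!
# A *injective module over a Noetherian ℤ-graded ring has injective dimension at most 1 (helper93)
-/

set_option autoImplicit false
universe u

namespace Groth.Agent.Lib.Helper93.GrInjDim

open CategoryTheory Abelian DirectSum GrLC Groth.Agent.Lib.Helper39
  Groth.Agent.Lib.Helper93.GrCofreeSeq

variable {R : Type u} [CommRing R] [IsNoetherianRing R]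
  (𝒜 : ℤ → AddSubgroup R) [GradedRing 𝒜]
  {I : Type u} [AddCommGroup I] [Module R I] (ℐ : ℤ → AddSubgroup I) [DirectSum.Decomposition ℐ]
  [SetLike.GradedSMul 𝒜 ℐ]

include ℐ in
/-- `Ext^{n+2}_R(Y, I) = 0` for every `R`-module `Y` when `I` is *injective. -/
theorem ext_subsingleton_add_two (hI : IsStarInj 𝒜 ℐ) (n : ℕ) (Y : ModuleCat.{u} R) :
    Subsingleton (Ext.{u} Y (ModuleCat.of R I) (n + 2)) := by
  let decC := cofreeDecomposition 𝒜 Y
  have smulC := cofreeGradedSMul 𝒜 Y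
  have h1 : Subsingleton (Ext.{u} (shortComplex 𝒜 Y).X₁ (ModuleCat.of R I) (n + 1)) :=
    GrExtAll.ext_subsingleton 𝒜 ℐ hI n (Cofree 𝒜 Y) (cofreePieces 𝒜 Y)
  have h2 : Subsingleton (Ext.{u} (shortComplex 𝒜 Y).X₂ (ModuleCat.of R I) (n + 1 + 1)) :=
    GrExtAll.ext_subsingleton 𝒜 ℐ hI (n + 1) (Cofree 𝒜 Y) (cofreePieces 𝒜 Y)
  have hS := shortComplex_shortExact 𝒜 Y
  refine ⟨fun a b => ?_⟩
  have key : ∀ x₃ : Ext.{u} (shortComplex 𝒜 Y).X₃ (ModuleCat.of R I) (n + 2), x₃ = 0 := by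
    intro x₃
    obtain ⟨x₁, hx₁⟩ := Ext.contravariant_sequence_exact₃ hS (ModuleCat.of R I) x₃
      (h2.elim _ _) (add_comm 1 (n + 1))
    rw [← hx₁, h1.elim x₁ 0, Ext.comp_zero]
  exact (key a).trans (key b).symm

include ℐ in
/-- **A *injective module over a Noetherian ℤ-graded ring has injective dimension `≤ 1`.** -/
theorem hasInjectiveDimensionLT_two (hI : IsStarInj 𝒜 ℐ) :
    HasInjectiveDimensionLT (ModuleCat.of R I) 2 :=
  hasInjectiveDimensionLT_of_enoughProjectives.{u} (ModuleCat.of R I) 2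
    (fun Y => ext_subsingleton_add_two 𝒜 ℐ hI 0 Y)

end Groth.Agent.Lib.Helper93.GrInjDim
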