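import Groth.Agent.Lib.Helper93.GrCoreHeight
import Groth.Agent.Lib.Helper39.GrStarLocal
import Groth.Agent.Lib.Helper39.GrStarLocal2

/-!
# `dim R = ht m` for a Noetherian positively graded `*local` ring `(R, m)` (helper93)
-/

set_option autoImplicit false
universe u

namespace Groth.Agent.Lib.Helper93.GrStarDim

open GrLC Groth.Agent.Lib.Helper93.GrCoreHeight

variable {R : Type u} [CommRing R] {𝒜 : ℤ → AddSubgroup R} [GradedRing 𝒜]

/-- every maximal ideal has height at most the height of the `*`maximal ideal. -/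
theorem height_le_height_starMaximal [IsNoetherianRing R] (hpos : ∀ n : ℤ, n < 0 → 𝒜 n = ⊥)
    {m : HomogeneousIdeal 𝒜} (hm : IsStarLocal 𝒜 m) (n : Ideal R) [hn : n.IsPrime] :
    n.height ≤ m.toIdeal.height := by
  have hmax : m.toIdeal.IsMaximal := Groth.Agent.Lib.Helper39.GrStarLocal.isMaximal hpos hm
  have hmp : m.toIdeal.IsPrime := hmax.isPrime
  have hcp : ((n.homogeneousCore 𝒜).toIdeal).IsPrime := Ideal.IsPrime.homogeneousCore hn
  have hcle : n.homogeneousCore 𝒜 ≤ m := by
    apply Groth.Agent.Lib.Helper39.GrStarLocal.le_of_ne_top hm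
    intro h
    apply hcp.ne_top
    rw [h, HomogeneousIdeal.toIdeal_top]
  by_cases heq : (n.homogeneousCore 𝒜).toIdeal = m.toIdeal
  · have hmn : m.toIdeal ≤ n := heq ▸ Ideal.toIdeal_homogeneousCore_le 𝒜 n
    rw [hmax.eq_of_le hn.ne_top hmn]
  · have hlt : (n.homogeneousCore 𝒜).toIdeal < m.toIdeal := lt_of_le_of_ne hcle heq
    exact (height_le_height_core_add_one 𝒜 n).trans
      (Ideal.height_add_one_le_of_lt_of_isPrime hlt)

/-- **`dim R = ht m`** for a Noetherian positively graded `*local` ring. -/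
theorem ringKrullDim_eq_height [IsNoetherianRing R] (hpos : ∀ n : ℤ, n < 0 → 𝒜 n = ⊥)
    {m : HomogeneousIdeal 𝒜} (hm : IsStarLocal 𝒜 m) :
    ringKrullDim R = (m.toIdeal.height : WithBot ℕ∞) := by
  have hmax : m.toIdeal.IsMaximal := Groth.Agent.Lib.Helper39.GrStarLocal.isMaximal hpos hm
  apply le_antisymm
  · rw [ringKrullDim_le_iff_isMaximal_height_le]
    intro n hn
    have := hn.isPrime
    exact_mod_cast height_le_height_starMaximal hpos hm n
  · exact Ideal.height_le_ringKrullDim_of_ne_top hmax.ne_top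

end Groth.Agent.Lib.Helper93.GrStarDim
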