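import Groth.Agent.S11660
import Groth.Agent.S11653
import Groth.Agent.S0329

/-!
# Grothendieck's finiteness theorem from Faltings' annihilator theorem — helper93

For `A` a homomorphic image of a regular ring, `I` an ideal and `M` a finite module:
`H^i_I(M)` is finite for all `i ≤ n` iff `n < depth M_p + ht((I+p)/p)` for all primes `p ⊉ I`.
-/

set_option autoImplicit false
universe u

namespace Groth.Agent.Lib.Helper93.GrothFin

open LocCoh

variable {A : Type u} [CommRing A]

theorem lt_finDimRel_iff (a b : Ideal A) (M : Type u) [AddCommGroup M] [Module A M] (n : ℕ) :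
    (n : ℕ∞) < LocCoh.finDimRel a b M ↔
      ∀ i : ℕ, i ≤ n → b ≤ (Module.annihilator A (LocCoh.H a i M)).radical := by
  unfold LocCoh.finDimRel
  constructor
  · intro h i hin
    by_contra hb
    have h1 : (⨅ (i : ℕ) (_ : ¬ b ≤ (Module.annihilator A (LocCoh.H a i M)).radical), (i : ℕ∞)) ≤
        (i : ℕ∞) := iInf₂_le i hb
    have h2 : (n : ℕ∞) < (i : ℕ∞) := lt_of_lt_of_le h h1
    have h3 : n < i := by exact_mod_cast h2
    omega
  · intro h
    rw [← ENat.add_one_le_iff (ENat.natCast_ne_top n)]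
    refine le_iInf₂ fun i hi => ?_
    have : n < i := by
      by_contra hni
      exact hi (h i (by omega))
    exact_mod_cast this

theorem lt_minAdjDepth_iff (a b : Ideal A) (M : Type u) [AddCommGroup M] [Module A M] (n : ℕ) :
    (n : ℕ∞) < LocCoh.minAdjDepth a b M ↔
      ∀ p : PrimeSpectrum A, ¬ b ≤ p.asIdeal → (n : ℕ∞) < LocCoh.adjDepth a M p := by
  unfold LocCoh.minAdjDepth
  rw [← ENat.add_one_le_iff (ENat.natCast_ne_top n), le_iInf₂_iff]
  refine forall₂_congr fun p _ => ?_
  rw [ENat.add_one_le_iff (ENat.natCast_ne_top n)]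

theorem exists_ideal_of_forall_le_radical [IsNoetherianRing A] (I : Ideal A) (M : Type u)
    [AddCommGroup M] [Module A M] (n : ℕ)
    (h : ∀ i : ℕ, i ≤ n → I ≤ (Module.annihilator A (LocCoh.H I i M)).radical) :
    ∃ J : Ideal A, I ≤ J.radical ∧ ∀ i : ℕ, i ≤ n → ∀ a ∈ J, ∀ x : LocCoh.H I i M, a • x = 0 := by
  induction n with
  | zero =>
    refine ⟨Module.annihilator A (LocCoh.H I 0 M), h 0 le_rfl, ?_⟩
    intro i hi a ha x
    obtain rfl : i = 0 := by omega
    exact Module.mem_annihilator.mp ha x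
  | succ n ih =>
    obtain ⟨J, hJ, hkill⟩ := ih fun i hi => h i (by omega)
    refine ⟨J ⊓ Module.annihilator A (LocCoh.H I (n + 1) M), ?_, ?_⟩
    · rw [Ideal.radical_inf]
      exact le_inf hJ (h (n + 1) le_rfl)
    · intro i hi a ha x
      rcases Nat.lt_or_ge i (n + 1) with h1 | h1
      · exact hkill i (by omega) a ha.1 x
      · obtain rfl : i = n + 1 := by omega
        exact Module.mem_annihilator.mp ha.2 x

/-- Grothendieck's finiteness theorem. -/
theorem finite_below_iff (R : Type u) [CommRing R] [IsRegularRing R] [IsNoetherianRing A]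
    (π : R →+* A) (hπ : Function.Surjective π) (I : Ideal A) (M : Type u) [AddCommGroup M]
    [Module A M] [Module.Finite A M] (n : ℕ) :
    (∀ i : ℕ, i ≤ n → Module.Finite A (LocCoh.H I i M)) ↔
      (n : ℕ∞) < LocCoh.minAdjDepth I I M := by
  constructor
  · intro h
    obtain ⟨J, hIJ, hJ⟩ := (Groth.Agent.S0329.result A I M n).mp h
    refine lt_of_lt_of_le ?_ (Groth.Agent.S11653.result A I I M)
    rw [lt_finDimRel_iff]
    intro i hi x hx
    obtain ⟨k, hk⟩ := hIJ hx
    exact ⟨k, Module.mem_annihilator.mpr fun y => hJ i hi _ hk y⟩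
  · intro h
    have h1 := lt_of_lt_of_le h (Groth.Agent.S11660.result R A π hπ I I M)
    rw [lt_finDimRel_iff] at h1
    exact (Groth.Agent.S0329.result A I M n).mpr (exists_ideal_of_forall_le_radical I M n h1)

/-- Pointwise form. -/
theorem finite_below_iff' (R : Type u) [CommRing R] [IsRegularRing R] [IsNoetherianRing A]
    (π : R →+* A) (hπ : Function.Surjective π) (I : Ideal A) (M : Type u) [AddCommGroup M]
    [Module A M] [Module.Finite A M] (n : ℕ) :
    (∀ i : ℕ, i ≤ n → Module.Finite A (LocCoh.H I i M)) ↔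
      ∀ p : PrimeSpectrum A, ¬ I ≤ p.asIdeal → (n : ℕ∞) <
        LocCoh.depth (Localization.AtPrime p.asIdeal) (LocalizedModule p.asIdeal.primeCompl M) +
          ((I ⊔ p.asIdeal).map (Ideal.Quotient.mk p.asIdeal)).height := by
  rw [finite_below_iff R π hπ I M n, lt_minAdjDepth_iff]
  rfl

end Groth.Agent.Lib.Helper93.GrothFin
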