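import Groth.Prelude.Def_W4c6modpairsegaMP

/-!
# `(I₁ ⊓ I₂) * (I₁ ⊔ I₂) = I₁ * I₂` when the sum is locally principal (helper93)
-/

set_option autoImplicit false
universe u
open CategoryTheory CategoryTheory.Limits AlgebraicGeometry TopologicalSpace

namespace Groth.Agent.Lib.Helper93.InfMulSup

/-- For ideals with principal sum, `(I₁ ⊓ I₂) * (I₁ ⊔ I₂) = I₁ * I₂`. -/
theorem _root_.Ideal.inf_mul_sup_eq_mul_of_sup_eq_span {R : Type*} [CommRing R] (I₁ I₂ : Ideal R)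
    (e : R) (h : I₁ ⊔ I₂ = Ideal.span {e}) : (I₁ ⊓ I₂) * (I₁ ⊔ I₂) = I₁ * I₂ := by
  apply le_antisymm
  · rw [Ideal.mul_sup]
    refine sup_le ?_ ?_
    · rw [mul_comm]
      exact Ideal.mul_mono_right inf_le_right
    · exact Ideal.mul_mono_left inf_le_left
  · rw [Ideal.mul_le]
    intro p hp q hq
    have hp' : p ∈ Ideal.span {e} := h ▸ (le_sup_left : I₁ ≤ I₁ ⊔ I₂) hp
    have hq' : q ∈ Ideal.span {e} := h ▸ (le_sup_right : I₂ ≤ I₁ ⊔ I₂) hq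
    obtain ⟨p', rfl⟩ := Ideal.mem_span_singleton'.mp hp'
    obtain ⟨q', rfl⟩ := Ideal.mem_span_singleton'.mp hq'
    have h1 : p' * (q' * e) ∈ I₁ ⊓ I₂ := by
      refine ⟨?_, I₂.mul_mem_left _ hq⟩
      have : p' * (q' * e) = q' * (p' * e) := by ring
      rw [this]
      exact I₁.mul_mem_left _ hp
    have h2 : p' * e * (q' * e) = (p' * (q' * e)) * e := by ring
    rw [h2, h]
    exact Ideal.mul_mem_mul h1 (Ideal.mem_span_singleton_self e)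

/-- For ideal sheaves whose sum is effective Cartier, `(I₁ ⊓ I₂) * (I₁ ⊔ I₂) = I₁ * I₂`. -/
theorem inf_mul_sup_eq_mul {X : Scheme.{u}} (I₁ I₂ : X.IdealSheafData)
    (hE : BlowUp.IsEffCartierIdeal (I₁ ⊔ I₂)) : (I₁ ⊓ I₂) * (I₁ ⊔ I₂) = I₁ * I₂ := by
  let S := {U : X.affineOpens // ∃ e : Γ(X, U.1), (I₁ ⊔ I₂).ideal U = Ideal.span {e}}
  have hcov : ⨆ i : S, (i.1 : X.Opens) = ⊤ := by
    rw [eq_top_iff]
    intro x _
    obtain ⟨V, hxV, b, hb, hV⟩ := hE x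
    exact Opens.mem_iSup.mpr ⟨⟨V, b, hV⟩, hxV⟩
  refine Scheme.IdealSheafData.ext_of_iSup_eq_top (fun i : S => i.1) hcov ?_
  rintro ⟨U, e, he⟩
  change (I₁.ideal U ⊓ I₂.ideal U) * (I₁.ideal U ⊔ I₂.ideal U) = I₁.ideal U * I₂.ideal U
  exact Ideal.inf_mul_sup_eq_mul_of_sup_eq_span _ _ e he

end Groth.Agent.Lib.Helper93.InfMulSup
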