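import Mathlib

/-! # Independence of isotypic components for a family of non-isomorphic simple modules -/

namespace Groth.Agent.Lib.Helper93.Isotypic

universe u v w x

variable {R : Type u} [Ring R] {M : Type v} [AddCommGroup M] [Module R M]

/-- The isotypic components attached to pairwise non-isomorphic simple modules are independent. -/
theorem iSupIndep_isotypicComponent {ι : Type x} (S : ι → Type w) [∀ j, AddCommGroup (S j)]
    [∀ j, Module R (S j)] [hS : ∀ j, IsSimpleModule R (S j)]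
    (hne : ∀ j j', j ≠ j' → IsEmpty (S j ≃ₗ[R] S j')) :
    iSupIndep (fun j => isotypicComponent R M (S j)) := by
  intro j
  rw [disjoint_iff]
  by_contra ne
  have hss : IsSemisimpleModule R (isotypicComponent R M (S j)) := inferInstance
  have hN : IsSemisimpleModule R
      ↥(isotypicComponent R M (S j) ⊓ ⨆ j', ⨆ (_ : j' ≠ j), isotypicComponent R M (S j')) :=
    IsSemisimpleModule.of_injective _ (Submodule.inclusion_injective
      (inf_le_left : isotypicComponent R M (S j) ⊓ _ ≤ isotypicComponent R M (S j)))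
  obtain ⟨m, hmle, hmsimple⟩ := (IsSemisimpleModule.eq_bot_or_exists_simple_le _).resolve_left ne
  -- `m` is isomorphic to `S j`
  have h1 : ∀ m' : {m' : Submodule R M | Nonempty (m' ≃ₗ[R] S j)}, IsSimpleModule R m'.1 :=
    fun m' => IsSimpleModule.congr m'.2.some
  obtain ⟨m1, ⟨e1⟩, ⟨e1'⟩⟩ := m.linearEquiv_of_le_sSup
    {m' : Submodule R M | Nonempty (m' ≃ₗ[R] S j)} (le_trans hmle inf_le_left)
  -- `m` is isomorphic to some `S j'` with `j' ≠ j`
  let s2 : Set (Submodule R M) := {m' | ∃ j', j' ≠ j ∧ Nonempty (m' ≃ₗ[R] S j')}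
  have h2 : ∀ m' : s2, IsSimpleModule R m'.1 := by
    rintro ⟨m', j', _, ⟨e⟩⟩
    exact IsSimpleModule.congr e
  have hle2 : (⨆ j', ⨆ (_ : j' ≠ j), isotypicComponent R M (S j')) ≤ sSup s2 := by
    refine iSup₂_le (fun j' hj' => ?_)
    apply sSup_le_sSup
    rintro m' ⟨e⟩
    exact ⟨j', hj', ⟨e⟩⟩
  obtain ⟨m2, ⟨j', hj', ⟨e2⟩⟩, ⟨e2'⟩⟩ := m.linearEquiv_of_le_sSup s2
    (le_trans (le_trans hmle inf_le_right) hle2)
  exact (hne j' j hj').false (e2.symm.trans (e2'.symm.trans (e1'.trans e1)))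

end Groth.Agent.Lib.Helper93.Isotypic
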