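import Groth.Agent.Lib.Helper93.KoszulTrans
import Groth.Agent.Lib.Helper93.ConeLES

/-!
# The bottom cohomology of the Koszul complex (helper93)

`bot M xs j hj : H^j(K(xs; M)) →ₗ M` for `j + length xs = 0`: the canonical identification of the
lowest Koszul cohomology with the submodule of `M` killed by all `xs`.  It is injective
(`bot_injective`), has the expected range (`mem_range_bot`), is natural in the module
(`bot_kMapH`) and compatible with the transition maps of the powers (`bot_transH`).
-/

set_option autoImplicit false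
universe u
open CategoryTheory CategoryTheory.Limits CochainComplex HomComplex CohIII HomologicalComplex
open Groth.Agent.Lib.Helper12.Koszul Groth.Agent.Lib.Helper12.KoszulTop
open Groth.Agent.Lib.Helper93.KoszulTrans Groth.Agent.Lib.Helper93.ConeLES

namespace Groth.Agent.Lib.Helper93.KoszulBot

variable {A : Type u} [CommRing A]

/-- multiplication by a scalar on a complex acts by the scalar on cohomology. -/
lemma homologyMap_smul_id_apply (K : CochainComplex (ModuleCat.{u} A) ℤ) (a : A) (j : ℤ)
    (w : K.homology j) : (homologyMap (a • 𝟙 K) j).hom w = a • w := by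
  rw [homologyMap_smul', homologyMap_id]
  rfl

lemma homologyMap_smul_apply {K L : CochainComplex (ModuleCat.{u} A) ℤ} (φ : K ⟶ L) (a : A) (j : ℤ)
    (w : K.homology j) : (homologyMap (a • φ) j).hom w = a • (homologyMap φ j).hom w := by
  rw [homologyMap_smul']
  rfl

/-- the canonical map from the bottom Koszul cohomology to the module. -/
noncomputable def bot (M : ModuleCat.{u} A) :
    ∀ (xs : List A) (j : ℤ) (_ : j + xs.length = 0), (koszulCx M xs).homology j →ₗ[A] M
  | [], j, hj =>
    (singleObjHomologySelfIso (ComplexShape.up ℤ) 0 M).hom.hom ∘ₗ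
      (eqToHom (by
        have : j = 0 := by simpa using hj
        rw [this]) : (koszulCx M []).homology j ⟶ (koszulCx M []).homology 0).hom
  | x :: xs, j, hj =>
    bot M xs (j + 1) (by simp only [List.length_cons, Nat.cast_add, Nat.cast_one] at hj; omega) ∘ₗ
      coneδ (x • 𝟙 (koszulCx M xs)) j (j + 1) rfl

lemma bot_nil (M : ModuleCat.{u} A) (x : (koszulCx M []).homology 0) :
    bot M [] 0 (by simp) x = (singleObjHomologySelfIso (ComplexShape.up ℤ) 0 M).hom.hom x := by
  simp [bot]
  rfl

lemma bot_cons (M : ModuleCat.{u} A) (x : A) (xs : List A) (j : ℤ)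
    (hj : j + (x :: xs).length = 0) (w : (koszulCx M (x :: xs)).homology j) :
    bot M (x :: xs) j hj w = bot M xs (j + 1)
      (by simp only [List.length_cons, Nat.cast_add, Nat.cast_one] at hj; omega)
      (coneδ (x • 𝟙 (koszulCx M xs)) j (j + 1) rfl w) := rfl

lemma bot_injective (M : ModuleCat.{u} A) :
    ∀ (xs : List A) (j : ℤ) (hj : j + xs.length = 0), Function.Injective (bot M xs j hj)
  | [], j, hj => by
    obtain rfl : j = 0 := by simpa using hj
    intro a b hab
    rw [bot_nil, bot_nil] at hab
    exact ((ConcreteCategory.isIso_iff_bijective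
      (singleObjHomologySelfIso (ComplexShape.up ℤ) 0 M).hom).mp inferInstance).1 hab
  | x :: xs, j, hj => by
    have hj' : j + 1 + (xs.length : ℤ) = 0 := by
      simp only [List.length_cons, Nat.cast_add, Nat.cast_one] at hj; omega
    rw [injective_iff_map_eq_zero]
    intro w hw
    rw [bot_cons] at hw
    have h0 := (injective_iff_map_eq_zero _).mp (bot_injective M xs (j + 1) hj') _ hw
    obtain ⟨y, rfl⟩ := exists_of_coneδ_eq_zero _ j (j + 1) rfl w h0
    have hz : IsZero ((koszulCx M xs).homology j) :=
      isZero_homology_koszulCx_of_lt M xs j (by omega)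
    have : Subsingleton ((koszulCx M xs).homology j) := ModuleCat.subsingleton_of_isZero hz
    rw [Subsingleton.elim y 0, map_zero]
    rfl

lemma mem_range_bot (M : ModuleCat.{u} A) :
    ∀ (xs : List A) (j : ℤ) (hj : j + xs.length = 0) (z : M),
      z ∈ LinearMap.range (bot M xs j hj) ↔ ∀ g ∈ xs, g • z = 0
  | [], j, hj, z => by
    obtain rfl : j = 0 := by simpa using hj
    simp only [List.not_mem_nil, false_imp_iff, implies_true, iff_true]
    obtain ⟨w, hw⟩ := ((ConcreteCategory.isIso_iff_bijective
      (singleObjHomologySelfIso (ComplexShape.up ℤ) 0 M).hom).mp inferInstance).2 z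
    exact ⟨w, (bot_nil M w).trans hw⟩
  | x :: xs, j, hj, z => by
    have hj' : j + 1 + (xs.length : ℤ) = 0 := by
      simp only [List.length_cons, Nat.cast_add, Nat.cast_one] at hj; omega
    have ih := mem_range_bot M xs (j + 1) hj'
    constructor
    · rintro ⟨w, rfl⟩ g hg
      rw [bot_cons]
      rcases List.mem_cons.mp hg with rfl | hg
      · rw [← map_smul, ← homologyMap_smul_id_apply, map_coneδ, map_zero]
      · exact (ih _).mp ⟨_, rfl⟩ g hg
    · intro h
      obtain ⟨w, rfl⟩ := (ih z).mpr (fun g hg => h g (List.mem_cons_of_mem _ hg))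
      have hxw : x • w = 0 := by
        apply bot_injective M xs (j + 1) hj'
        rw [map_smul, map_zero]
        exact h x List.mem_cons_self
      obtain ⟨v, rfl⟩ := exists_of_map_eq_zero (x • 𝟙 (koszulCx M xs)) j (j + 1) rfl w
        (by rw [homologyMap_smul_id_apply]; exact hxw)
      exact ⟨v, bot_cons M x xs j hj v⟩

lemma bot_transH (M : ModuleCat.{u} A) (n m : ℕ) (h : n ≤ m) :
    ∀ (fs : List A) (j : ℤ) (hn : j + (fs.map (· ^ n)).length = 0)
      (hm : j + (fs.map (· ^ m)).length = 0) (x : (koszulCx M (fs.map (· ^ n))).homology j),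
      bot M (fs.map (· ^ m)) j hm (transH M fs j n m h x) = bot M (fs.map (· ^ n)) j hn x
  | [], j, hn, hm, x => by
    unfold transH
    rw [koszulTrans_nil, homologyMap_id]
    rfl
  | f :: fs, j, hn, hm, x => by
    have e1 := bot_cons M (f ^ m) (fs.map (· ^ m)) j hm (transH M (f :: fs) j n m h x)
    have e2 := bot_cons M (f ^ n) (fs.map (· ^ n)) j hn x
    refine e1.trans (Eq.trans ?_ e2.symm)
    have e3 := coneδ_map (f ^ n • 𝟙 (koszulCx M (fs.map (· ^ n))))
      (f ^ m • 𝟙 (koszulCx M (fs.map (· ^ m)))) (koszulTrans M n m h fs)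
      (f ^ (m - n) • koszulTrans M n m h fs) (by
          simp only [Linear.smul_comp, Linear.comp_smul, Category.id_comp, Category.comp_id,
            smul_smul, ← pow_add, Nat.sub_add_cancel h]) j (j + 1) rfl x
    refine (congrArg _ e3).trans ?_
    exact bot_transH M n m h fs (j + 1) _ _ _

lemma bot_kMapH {M N : ModuleCat.{u} A} (g : M ⟶ N) :
    ∀ (xs : List A) (j : ℤ) (hj : j + xs.length = 0) (x : (koszulCx M xs).homology j),
      bot N xs j hj ((homologyMap (kMap g xs) j).hom x) = g.hom (bot M xs j hj x)
  | [], j, hj, x => by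
    obtain rfl : j = 0 := by simpa using hj
    rw [bot_nil, bot_nil]
    have := singleObjHomologySelfIso_hom_naturality (ComplexShape.up ℤ) (0 : ℤ) g
    exact congrArg (fun φ => φ.hom x) this
  | a :: xs, j, hj, x => by
    rw [bot_cons, bot_cons]
    have e3 := coneδ_map (a • 𝟙 (koszulCx M xs)) (a • 𝟙 (koszulCx N xs)) (kMap g xs) (kMap g xs)
      (by simp) j (j + 1) rfl x
    refine (congrArg _ e3).trans ?_
    exact bot_kMapH g xs (j + 1) _ _

end Groth.Agent.Lib.Helper93.KoszulBot
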