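import Groth.Agent.Lib.Helper93.KoszulBot
import Groth.Agent.Lib.Helper47.ExtCechInjective

/-!
# Koszul cohomology of the powers: the cone sequence at each stage, and vanishing on injectives
(helper93)

* `inrH`, `δH` : the maps of the cone sequence of `K(f^n :: fs^n; M) = cone(f^n on K(fs^n; M))`
  on cohomology, with their compatibility with the transition maps;
* `exists_transH_eq_zero_of_injective` : over a Noetherian ring, for `M` injective every class of
  positive Koszul-cohomological degree dies at a later stage;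
* `subsingleton_koszulHLim_of_injective`.
-/

set_option autoImplicit false
universe u
open CategoryTheory CategoryTheory.Limits CochainComplex HomComplex CohIII HomologicalComplex
open Groth.Agent.Lib.Helper12.Koszul Groth.Agent.Lib.Helper12.KoszulTop
open Groth.Agent.Lib.Helper93.KoszulTrans Groth.Agent.Lib.Helper93.ConeLES
open Groth.Agent.Lib.Helper93.KoszulBot

namespace Groth.Agent.Lib.Helper93.KoszulInj

variable {A : Type u} [CommRing A]

section stage

variable (M : ModuleCat.{u} A) (f : A) (fs : List A)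

/-- `H^j(K(fs^n)) → H^j(K((f :: fs)^n))`. -/
noncomputable def inrH (j : ℤ) (n : ℕ) :
    (koszulCx M (fs.map (· ^ n))).homology j →ₗ[A]
      (koszulCx M ((f :: fs).map (· ^ n))).homology j :=
  (homologyMap (mappingCone.inr (f ^ n • 𝟙 (koszulCx M (fs.map (· ^ n))))) j).hom

/-- `H^j(K((f :: fs)^n)) → H^{j+1}(K(fs^n))`. -/
noncomputable def δH (j j' : ℤ) (h : j + 1 = j') (n : ℕ) :
    (koszulCx M ((f :: fs).map (· ^ n))).homology j →ₗ[A]
      (koszulCx M (fs.map (· ^ n))).homology j' :=
  coneδ (f ^ n • 𝟙 (koszulCx M (fs.map (· ^ n)))) j j' h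

lemma δH_transH (j j' : ℤ) (h : j + 1 = j') (n m : ℕ) (hnm : n ≤ m)
    (x : (koszulCx M ((f :: fs).map (· ^ n))).homology j) :
    δH M f fs j j' h m (transH M (f :: fs) j n m hnm x) =
      transH M fs j' n m hnm (δH M f fs j j' h n x) :=
  coneδ_map (f ^ n • 𝟙 (koszulCx M (fs.map (· ^ n))))
    (f ^ m • 𝟙 (koszulCx M (fs.map (· ^ m)))) (koszulTrans M n m hnm fs)
    (f ^ (m - n) • koszulTrans M n m hnm fs) (by
      simp only [Linear.smul_comp, Linear.comp_smul, Category.id_comp, Category.comp_id,
        smul_smul, ← pow_add, Nat.sub_add_cancel hnm]) j j' h x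

lemma transH_inrH (j : ℤ) (n m : ℕ) (hnm : n ≤ m)
    (y : (koszulCx M (fs.map (· ^ n))).homology j) :
    transH M (f :: fs) j n m hnm (inrH M f fs j n y) =
      inrH M f fs j m (f ^ (m - n) • transH M fs j n m hnm y) := by
  have e := map_inr (f ^ n • 𝟙 (koszulCx M (fs.map (· ^ n))))
    (f ^ m • 𝟙 (koszulCx M (fs.map (· ^ m)))) (koszulTrans M n m hnm fs)
    (f ^ (m - n) • koszulTrans M n m hnm fs) (by
      simp only [Linear.smul_comp, Linear.comp_smul, Category.id_comp, Category.comp_id,
        smul_smul, ← pow_add, Nat.sub_add_cancel hnm]) j y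
  refine e.trans ?_
  unfold inrH
  rw [homologyMap_smul_apply]
  rfl

lemma exists_inrH_of_δH_eq_zero (j j' : ℤ) (h : j + 1 = j') (n : ℕ)
    (x : (koszulCx M ((f :: fs).map (· ^ n))).homology j) (hx : δH M f fs j j' h n x = 0) :
    ∃ y, inrH M f fs j n y = x :=
  exists_of_coneδ_eq_zero _ j j' h x hx

lemma inrH_pow_smul (j : ℤ) (n : ℕ) (y : (koszulCx M (fs.map (· ^ n))).homology j) :
    inrH M f fs j n (f ^ n • y) = 0 := by
  rw [← homologyMap_smul_id_apply]
  exact inr_map _ j y

end stage

/-- **Vanishing on injectives, stagewise.** -/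
theorem exists_transH_eq_zero_of_injective [IsNoetherianRing A] (M : Type u) [AddCommGroup M]
    [Module A M] [Module.Injective A M] :
    ∀ (fs : List A) (j : ℤ), 1 ≤ j + fs.length → ∀ (n : ℕ)
      (x : (koszulCx (ModuleCat.of A M) (fs.map (· ^ n))).homology j),
      ∃ (m : ℕ) (h : n ≤ m), transH (ModuleCat.of A M) fs j n m h x = 0 := by
  intro fs
  induction fs with
  | nil =>
    intro j hj n x
    have hz : IsZero ((koszulCx (ModuleCat.of A M) ([].map (· ^ n))).homology j) :=
      isZero_homology_koszulCx_of_pos _ _ j (by simp at hj; omega)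
    have : Subsingleton ((koszulCx (ModuleCat.of A M) ([].map (· ^ n))).homology j) :=
      ModuleCat.subsingleton_of_isZero hz
    exact ⟨n, le_rfl, by rw [Subsingleton.elim x 0, map_zero]⟩
  | cons f fs ih =>
    intro j hj n x
    have hj1 : 1 ≤ j + 1 + (fs.length : ℤ) := by
      simp only [List.length_cons, Nat.cast_add, Nat.cast_one] at hj; omega
    obtain ⟨m, hnm, hm⟩ := ih (j + 1) hj1 n (δH _ f fs j (j + 1) rfl n x)
    rw [← δH_transH] at hm
    obtain ⟨y, hy⟩ := exists_inrH_of_δH_eq_zero _ f fs j (j + 1) rfl m _ hm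
    -- it suffices to kill `inrH y` at a later stage
    suffices hs : ∃ (m' : ℕ) (h : m ≤ m'),
        transH (ModuleCat.of A M) (f :: fs) j m m' h (inrH _ f fs j m y) = 0 by
      obtain ⟨m', hmm', h0⟩ := hs
      refine ⟨m', hnm.trans hmm', ?_⟩
      rw [← transH_trans _ _ _ n m m' hnm hmm', ← hy, h0]
    by_cases hb : 1 ≤ j + (fs.length : ℤ)
    · obtain ⟨m', hmm', h0⟩ := ih j hb m y
      exact ⟨m', hmm', by rw [transH_inrH, h0, smul_zero, map_zero]⟩
    · -- bottom degree
      have hj0 : j + (fs.length : ℤ) = 0 := by omega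
      have hlen : ∀ k : ℕ, j + ((fs.map (· ^ k)).length : ℤ) = 0 := fun k => by
        rw [List.length_map]; exact hj0
      set z : M := bot (ModuleCat.of A M) (fs.map (· ^ m)) j (hlen m) y with hz
      have hzk : ∀ g ∈ fs.map (· ^ m), g • z = 0 :=
        (mem_range_bot (ModuleCat.of A M) _ j (hlen m) z).mp ⟨y, rfl⟩
      have hzJ : ∀ a ∈ Ideal.span {a | a ∈ fs.map (· ^ m)}, a • z = 0 := by
        intro a ha
        induction ha using Submodule.span_induction with
        | mem a ha => exact hzk a ha
        | zero => exact zero_smul _ _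
        | add a b _ _ ha hb => rw [add_smul, ha, hb, add_zero]
        | smul c a _ ha => rw [smul_eq_mul, mul_smul, ha, smul_zero]
      obtain ⟨k, z', hz'J, hz'⟩ := Groth.Agent.Lib.Helper47.exists_pow_smul_eq_of_injective
        (Ideal.span {a | a ∈ fs.map (· ^ m)}) z hzJ f m
      have hz'k : ∀ g ∈ fs.map (· ^ (m + k)), g • z' = 0 := by
        intro g hg
        rw [List.mem_map] at hg
        obtain ⟨a, ha, rfl⟩ := hg
        rw [pow_add, mul_comm, mul_smul, hz'J (a ^ m)
          (Ideal.subset_span (List.mem_map.mpr ⟨a, ha, rfl⟩)), smul_zero]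
      obtain ⟨y', hy'⟩ := (mem_range_bot (ModuleCat.of A M) _ j (hlen (m + k)) z').mpr hz'k
      have key : f ^ (m + k - m) • transH (ModuleCat.of A M) fs j m (m + k) (Nat.le_add_right m k) y =
          f ^ (m + k) • y' := by
        apply bot_injective _ _ j (hlen (m + k))
        rw [map_smul, map_smul, bot_transH _ m (m + k) (Nat.le_add_right m k) fs j (hlen m), hy',
          ← hz, hz', Nat.add_sub_cancel_left]
      exact ⟨m + k, Nat.le_add_right m k, by rw [transH_inrH, key, inrH_pow_smul]⟩

/-- **`colim_n H^i(f^n; M) = 0` for `i > 0` and `M` injective over a Noetherian ring.** -/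
theorem subsingleton_koszulHLim_of_injective [IsNoetherianRing A] (fs : List A) (M : Type u)
    [AddCommGroup M] [Module A M] [Module.Injective A M] (i : ℕ) (hi : 0 < i) :
    Subsingleton (koszulHLim fs (ModuleCat.of A M) i) := by
  rw [HLim.subsingleton_iff]
  intro n x
  exact exists_transH_eq_zero_of_injective M fs _ (by omega) n x

end Groth.Agent.Lib.Helper93.KoszulInj
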