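import Groth.Agent.Lib.Helper93.KoszulInj

/-!
# The top cohomology of the Koszul complex (helper93)

`top M xs : M →ₗ H^0(K(xs; M))`: the canonical surjection with kernel `(xs) M`, compatible with the
transition maps of the powers: `K(f^n) → K(f^m)` induces multiplication by `(∏ f)^(m-n)`.
-/

set_option autoImplicit false
universe u
open CategoryTheory CategoryTheory.Limits CochainComplex HomComplex CohIII HomologicalComplex
open Groth.Agent.Lib.Helper12.Koszul Groth.Agent.Lib.Helper12.KoszulTop
open Groth.Agent.Lib.Helper93.KoszulTrans Groth.Agent.Lib.Helper93.ConeLES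
open Groth.Agent.Lib.Helper93.KoszulBot Groth.Agent.Lib.Helper93.KoszulInj
open Pointwise

namespace Groth.Agent.Lib.Helper93.KoszulTopMap

variable {A : Type u} [CommRing A]

/-- the canonical map from the module to the top Koszul cohomology. -/
noncomputable def top (M : ModuleCat.{u} A) : ∀ xs : List A, M →ₗ[A] (koszulCx M xs).homology 0
  | [] => (singleObjHomologySelfIso (ComplexShape.up ℤ) 0 M).inv.hom
  | x :: xs => (homologyMap (mappingCone.inr (x • 𝟙 (koszulCx M xs))) 0).hom ∘ₗ top M xs

lemma top_cons (M : ModuleCat.{u} A) (x : A) (xs : List A) (z : M) :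
    top M (x :: xs) z = (homologyMap (mappingCone.inr (x • 𝟙 (koszulCx M xs))) 0).hom (top M xs z) :=
  rfl

lemma top_surjective (M : ModuleCat.{u} A) : ∀ xs : List A, Function.Surjective (top M xs)
  | [] => ((ConcreteCategory.isIso_iff_bijective
      (singleObjHomologySelfIso (ComplexShape.up ℤ) 0 M).inv).mp inferInstance).2
  | x :: xs => by
    intro w
    have hz : IsZero ((koszulCx M xs).homology (0 + 1)) :=
      isZero_homology_koszulCx_of_pos M xs _ (by norm_num)
    have : Subsingleton ((koszulCx M xs).homology (0 + 1)) := ModuleCat.subsingleton_of_isZero hz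
    obtain ⟨y, rfl⟩ := exists_of_coneδ_eq_zero (x • 𝟙 (koszulCx M xs)) 0 (0 + 1) rfl w
      (Subsingleton.elim _ _)
    obtain ⟨z, rfl⟩ := top_surjective M xs y
    exact ⟨z, rfl⟩

lemma top_eq_zero_iff (M : ModuleCat.{u} A) :
    ∀ (xs : List A) (z : M), top M xs z = 0 ↔ z ∈ Ideal.ofList xs • (⊤ : Submodule A M)
  | [], z => by
    rw [Ideal.ofList_nil, Submodule.bot_smul, Submodule.mem_bot]
    exact (injective_iff_map_eq_zero' _).mp ((ConcreteCategory.isIso_iff_bijective
      (singleObjHomologySelfIso (ComplexShape.up ℤ) 0 M).inv).mp inferInstance).1 z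
  | x :: xs, z => by
    rw [Ideal.ofList_cons_smul, Submodule.mem_sup, top_cons]
    constructor
    · intro h
      obtain ⟨w, hw⟩ := exists_of_inr_eq_zero (x • 𝟙 (koszulCx M xs)) 0 _ h
      rw [homologyMap_smul_id_apply] at hw
      obtain ⟨w', rfl⟩ := top_surjective M xs w
      have h1 : top M xs (z - x • w') = 0 := by rw [map_sub, map_smul, hw, sub_self]
      refine ⟨x • w', Submodule.smul_mem_pointwise_smul _ _ _ trivial, z - x • w',
        (top_eq_zero_iff M xs _).mp h1, by abel⟩
    · rintro ⟨y, hy, y', hy', rfl⟩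
      obtain ⟨w, -, rfl⟩ := (Submodule.mem_smul_pointwise_iff_exists _ _ _).mp hy
      rw [map_add, (top_eq_zero_iff M xs y').mpr hy', add_zero, map_smul,
        ← homologyMap_smul_id_apply]
      exact inr_map _ 0 _

lemma transH_top (M : ModuleCat.{u} A) (n m : ℕ) (h : n ≤ m) :
    ∀ (fs : List A) (z : M), transH M fs 0 n m h (top M (fs.map (· ^ n)) z) =
      top M (fs.map (· ^ m)) (fs.prod ^ (m - n) • z)
  | [], z => by
    unfold transH
    rw [koszulTrans_nil, homologyMap_id, List.prod_nil, one_pow, one_smul]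
    rfl
  | f :: fs, z => by
    have e1 := top_cons M (f ^ n) (fs.map (· ^ n)) z
    have e2 := top_cons M (f ^ m) (fs.map (· ^ m)) ((f :: fs).prod ^ (m - n) • z)
    refine (congrArg _ e1).trans (Eq.trans ?_ e2.symm)
    refine (transH_inrH M f fs 0 n m h _).trans ?_
    unfold inrH
    rw [transH_top M n m h fs z, ← map_smul, smul_smul, List.prod_cons, mul_pow]
    rfl

/-- `top` landing in a degree only propositionally equal to `0`. -/
noncomputable def topAt (M : ModuleCat.{u} A) (xs : List A) (j : ℤ) (hj : j = 0) :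
    M →ₗ[A] (koszulCx M xs).homology j := by
  subst hj
  exact top M xs

lemma topAt_surjective (M : ModuleCat.{u} A) (xs : List A) (j : ℤ) (hj : j = 0) :
    Function.Surjective (topAt M xs j hj) := by
  subst hj
  exact top_surjective M xs

lemma topAt_eq_zero_iff (M : ModuleCat.{u} A) (xs : List A) (j : ℤ) (hj : j = 0) (z : M) :
    topAt M xs j hj z = 0 ↔ z ∈ Ideal.ofList xs • (⊤ : Submodule A M) := by
  subst hj
  exact top_eq_zero_iff M xs z

lemma transH_topAt (M : ModuleCat.{u} A) (n m : ℕ) (h : n ≤ m) (fs : List A) (j : ℤ) (hj : j = 0)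
    (z : M) : transH M fs j n m h (topAt M (fs.map (· ^ n)) j hj z) =
      topAt M (fs.map (· ^ m)) j hj (fs.prod ^ (m - n) • z) := by
  subst hj
  exact transH_top M n m h fs z

end Groth.Agent.Lib.Helper93.KoszulTopMap
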