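import Groth.Agent.Lib.Helper12.Koszul
import Groth.Agent.Lib.Helper12.KoszulTop

/-!
# The transition maps `koszulTrans` between Koszul complexes of powers (helper93)

* `koszulTrans_refl`, `koszulTrans_comp` : the maps `K(f^n; M) ⟶ K(f^m; M)` form a directed system;
* `kMap_koszulTrans` : naturality in the module;
* `instDirectedSystem` : the induced system on cohomology is a `DirectedSystem`;
* `HLim.of`, `HLim.exists_of`, `HLim.zero_exact` : elementwise API for `CohIII.koszulHLim`.
-/

set_option autoImplicit false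
universe u
open CategoryTheory CategoryTheory.Limits CochainComplex HomComplex CohIII
open Groth.Agent.Lib.Helper12.Koszul Groth.Agent.Lib.Helper12.KoszulTop

namespace Groth.Agent.Lib.Helper93.KoszulTrans

variable {A : Type u} [CommRing A]

section general

variable {C : Type*} [Category C] [Preadditive C] [HasBinaryBiproducts C]
  {K₁ L₁ K₂ L₂ : CochainComplex C ℤ} (φ₁ : K₁ ⟶ L₁) (φ₂ : K₂ ⟶ L₂)

lemma map_congr {a a' : K₁ ⟶ K₂} {b b' : L₁ ⟶ L₂} (ha : a = a') (hb : b = b')
    (comm : φ₁ ≫ b = a ≫ φ₂) :
    mappingCone.map φ₁ φ₂ a b comm =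
      mappingCone.map φ₁ φ₂ a' b' (by rw [← ha, ← hb]; exact comm) := by
  subst ha hb
  rfl

end general

lemma koszulTrans_nil (M : ModuleCat.{u} A) (n m : ℕ) (h : n ≤ m) :
    koszulTrans M n m h [] = 𝟙 _ := rfl

lemma koszulTrans_cons (M : ModuleCat.{u} A) (n m : ℕ) (h : n ≤ m) (f : A) (fs : List A) :
    koszulTrans M n m h (f :: fs) =
      mappingCone.map (f ^ n • 𝟙 (koszulCx M (fs.map (· ^ n))))
        (f ^ m • 𝟙 (koszulCx M (fs.map (· ^ m)))) (koszulTrans M n m h fs)
        (f ^ (m - n) • koszulTrans M n m h fs) (by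
          simp only [Linear.smul_comp, Linear.comp_smul, Category.id_comp, Category.comp_id,
            smul_smul, ← pow_add, Nat.sub_add_cancel h]) := rfl

lemma koszulTrans_refl (M : ModuleCat.{u} A) (n : ℕ) :
    ∀ fs : List A, koszulTrans M n n le_rfl fs = 𝟙 _
  | [] => rfl
  | f :: fs => by
    rw [koszulTrans_cons, map_congr _ _ (koszulTrans_refl M n fs)
      (show f ^ (n - n) • koszulTrans M n n le_rfl fs = 𝟙 _ by
        rw [koszulTrans_refl M n fs, Nat.sub_self, pow_zero, one_smul])]
    exact mappingCone.map_id _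

lemma koszulTrans_comp (M : ModuleCat.{u} A) (n m k : ℕ) (h₁ : n ≤ m) (h₂ : m ≤ k) :
    ∀ fs : List A, koszulTrans M n m h₁ fs ≫ koszulTrans M m k h₂ fs =
      koszulTrans M n k (h₁.trans h₂) fs
  | [] => by
    rw [koszulTrans_nil, koszulTrans_nil, koszulTrans_nil, Category.comp_id]
  | f :: fs => by
    rw [koszulTrans_cons, koszulTrans_cons, koszulTrans_cons]
    refine (mappingCone.map_comp _ _ _ _ _ _ _ _ _).symm.trans ?_
    apply map_congr
    · exact koszulTrans_comp M n m k h₁ h₂ fs
    · rw [Linear.smul_comp, Linear.comp_smul, smul_smul, koszulTrans_comp M n m k h₁ h₂ fs,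
        ← pow_add]
      congr 2
      omega

lemma kMap_koszulTrans {M N : ModuleCat.{u} A} (g : M ⟶ N) (n m : ℕ) (h : n ≤ m) :
    ∀ fs : List A, kMap g (fs.map (· ^ n)) ≫ koszulTrans N n m h fs =
      koszulTrans M n m h fs ≫ kMap g (fs.map (· ^ m))
  | [] => by
    rw [koszulTrans_nil, koszulTrans_nil, Category.comp_id]
    exact (Category.id_comp _).symm
  | f :: fs => by
    rw [koszulTrans_cons, koszulTrans_cons]
    change coneMap (f ^ n) (kMap g (fs.map (· ^ n))) ≫ _ = _ ≫ coneMap (f ^ m) (kMap g (fs.map (· ^ m)))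
    unfold coneMap
    refine (mappingCone.map_comp _ _ _ _ _ _ _ _ _).symm.trans
      (Eq.trans ?_ (mappingCone.map_comp _ _ _ _ _ _ _ _ _))
    apply map_congr
    · exact kMap_koszulTrans g n m h fs
    · rw [Linear.smul_comp, Linear.comp_smul, kMap_koszulTrans g n m h fs]

/-- the transition maps on cohomology, as linear maps. -/
noncomputable abbrev transH (M : ModuleCat.{u} A) (fs : List A) (j : ℤ) (n m : ℕ) (h : n ≤ m) :
    (koszulCx M (fs.map (· ^ n))).homology j →ₗ[A] (koszulCx M (fs.map (· ^ m))).homology j :=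
  (HomologicalComplex.homologyMap (koszulTrans M n m h fs) j).hom

lemma transH_refl (M : ModuleCat.{u} A) (fs : List A) (j : ℤ) (n : ℕ)
    (x : (koszulCx M (fs.map (· ^ n))).homology j) : transH M fs j n n le_rfl x = x := by
  unfold transH
  rw [koszulTrans_refl, HomologicalComplex.homologyMap_id]
  rfl

lemma transH_trans (M : ModuleCat.{u} A) (fs : List A) (j : ℤ) (n m k : ℕ) (h₁ : n ≤ m)
    (h₂ : m ≤ k) (x : (koszulCx M (fs.map (· ^ n))).homology j) :
    transH M fs j m k h₂ (transH M fs j n m h₁ x) = transH M fs j n k (h₁.trans h₂) x := by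
  unfold transH
  rw [← koszulTrans_comp M n m k h₁ h₂ fs, HomologicalComplex.homologyMap_comp]
  rfl

/-- functoriality of the cohomology of the stages in the module. -/
noncomputable abbrev kMapH {M N : ModuleCat.{u} A} (g : M ⟶ N) (fs : List A) (j : ℤ) (n : ℕ) :
    (koszulCx M (fs.map (· ^ n))).homology j →ₗ[A] (koszulCx N (fs.map (· ^ n))).homology j :=
  (HomologicalComplex.homologyMap (kMap g (fs.map (· ^ n))) j).hom

lemma kMapH_transH {M N : ModuleCat.{u} A} (g : M ⟶ N) (fs : List A) (j : ℤ) (n m : ℕ)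
    (h : n ≤ m) (x : (koszulCx M (fs.map (· ^ n))).homology j) :
    transH N fs j n m h (kMapH g fs j n x) = kMapH g fs j m (transH M fs j n m h x) := by
  unfold transH kMapH
  have h1 : HomologicalComplex.homologyMap (kMap g (fs.map (· ^ n))) j ≫
      HomologicalComplex.homologyMap (koszulTrans N n m h fs) j =
      HomologicalComplex.homologyMap (koszulTrans M n m h fs) j ≫
        HomologicalComplex.homologyMap (kMap g (fs.map (· ^ m))) j := by
    rw [← HomologicalComplex.homologyMap_comp, ← HomologicalComplex.homologyMap_comp,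
      kMap_koszulTrans g n m h fs]
  exact congrArg (fun φ => φ.hom x) h1

instance instDirectedSystem (fs : List A) (M : ModuleCat.{u} A) (p : ℕ) :
    DirectedSystem (fun n : ℕ => (koszulHPow fs M p n : Type u))
      (fun n m h => (HomologicalComplex.homologyMap (koszulTrans M n m h fs)
        ((p : ℤ) - fs.length)).hom) where
  map_self n x := transH_refl M fs _ n x
  map_map _ _ _ h₁ h₂ x := transH_trans M fs _ _ _ _ h₁ h₂ x

namespace HLim

variable (fs : List A) (M : ModuleCat.{u} A) (p : ℕ)

/-- the canonical map from a stage to the limit. -/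
noncomputable def of (n : ℕ) : koszulHPow fs M p n →ₗ[A] koszulHLim fs M p :=
  Module.DirectLimit.of A ℕ (fun n : ℕ => (koszulHPow fs M p n : Type u))
    (fun n m h => (HomologicalComplex.homologyMap (koszulTrans M n m h fs)
      ((p : ℤ) - fs.length)).hom) n

lemma of_trans {n m : ℕ} (h : n ≤ m) (x : koszulHPow fs M p n) :
    of fs M p m (transH M fs _ n m h x) = of fs M p n x :=
  Module.DirectLimit.of_f

lemma exists_of (z : koszulHLim fs M p) : ∃ (n : ℕ) (x : koszulHPow fs M p n), of fs M p n x = z :=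
  Module.DirectLimit.exists_of z

lemma of_eq_zero_iff {n : ℕ} (x : koszulHPow fs M p n) :
    of fs M p n x = 0 ↔ ∃ (m : ℕ) (h : n ≤ m), transH M fs _ n m h x = 0 := by
  constructor
  · intro h
    exact Module.DirectLimit.of.zero_exact h
  · rintro ⟨m, h, hx⟩
    rw [← of_trans fs M p h, hx, map_zero]

/-- the limit vanishes iff every class dies at a later stage. -/
lemma subsingleton_iff : Subsingleton (koszulHLim fs M p) ↔
    ∀ (n : ℕ) (x : koszulHPow fs M p n), ∃ (m : ℕ) (h : n ≤ m), transH M fs _ n m h x = 0 := by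
  constructor
  · intro hs n x
    exact (of_eq_zero_iff fs M p x).mp (Subsingleton.elim _ _)
  · intro h
    refine ⟨fun a b => ?_⟩
    obtain ⟨n, x, rfl⟩ := exists_of fs M p a
    obtain ⟨m, y, rfl⟩ := exists_of fs M p b
    rw [(of_eq_zero_iff fs M p x).mpr (h n x), (of_eq_zero_iff fs M p y).mpr (h m y)]

end HLim

end Groth.Agent.Lib.Helper93.KoszulTrans
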