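import Groth.Agent.Lib.Helper93.KoszulH1
import Groth.Agent.Lib.Helper93.KoszulIso

/-!
# Vanishing of all `colim_n H^p(f^n; M)` forces `M = (f) M` (helper93)

Over an arbitrary commutative ring `A`, for a list `fs` and an `A`-module `M`:
if `colim_n H^p(f^n; M) = 0` for **all** `p` (i.e. `RΓ_{(fs)}(M) = 0`), then `M = (fs) M`
(`eq_smul_top_of_acyc`); in particular for `M = A` the `fs` generate the unit ideal
(`span_eq_top_of_acyc`).

The proof is the elementary form of `RΓ_I(M) ⊗ᴸ A/I = M ⊗ᴸ A/I`: the class `Acyc` of modules with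
vanishing `colim_n H^p(f^n; -)` is closed under extensions, cokernels of monomorphisms and
contains the terms of the Koszul complex `K(fs; M)`; the cohomology of `K(fs; M)` is
`fs`-power-torsion, and a power-torsion module `H` has `colim_n H^0(f^n; H) = H`.  Climbing up the
Koszul complex one shows that all boundaries are in `Acyc` and all cohomology modules vanish.
-/

set_option autoImplicit false
universe u
open CategoryTheory CategoryTheory.Limits CochainComplex HomComplex CohIII HomologicalComplex
open Groth.Agent.Lib.Helper12.Koszul Groth.Agent.Lib.Helper12.KoszulTop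
open Groth.Agent.Lib.Helper93.KoszulTrans Groth.Agent.Lib.Helper93.ConeLES
open Groth.Agent.Lib.Helper93.KoszulBot Groth.Agent.Lib.Helper93.KoszulInj
open Groth.Agent.Lib.Helper93.KoszulTopMap Groth.Agent.Lib.Helper93.KoszulLC
open Groth.Agent.Lib.Helper93.KoszulVanish Groth.Agent.Lib.Helper93.KoszulH1
open Groth.Agent.Lib.Helper93.KoszulIso
open Groth.Agent.Lib.Helper47 Groth.Agent.Lib.Helper60

namespace Groth.Agent.Lib.Helper93.KoszulUnit

variable {A : Type u} [CommRing A] (fs : List A)

/-- the class of modules all of whose `colim_n H^p(f^n; -)` vanish. -/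
def Acyc (N : ModuleCat.{u} A) : Prop := ∀ p : ℕ, Subsingleton (koszulHLim fs N p)

variable {fs}

lemma Acyc.of_iso {N N' : ModuleCat.{u} A} (e : N ≅ N') (h : Acyc fs N) : Acyc fs N' := fun p =>
  have := h p
  (limEquiv fs e p).symm.toEquiv.subsingleton

lemma acyc_of_subsingleton (N : ModuleCat.{u} A) [Subsingleton N] : Acyc fs N := by
  intro p
  rw [HLim.subsingleton_iff]
  intro n x
  have := subsingleton_homology_of_subsingleton N (fs.map (· ^ n)) ((p : ℤ) - fs.length)
  exact ⟨n, le_rfl, Subsingleton.elim _ _⟩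

section ses

variable {S : ShortComplex (ModuleCat.{u} A)} (hS : S.ShortExact)

include hS in
/-- cokernels of monomorphisms between acyclic modules are acyclic. -/
lemma Acyc.X₃ (h1 : Acyc fs S.X₁) (h2 : Acyc fs S.X₂) : Acyc fs S.X₃ := by
  intro p
  have hinj := limδ_injective fs hS p (h2 p)
  have := h1 (p + 1)
  exact hinj.subsingleton

include hS in
/-- extensions of acyclic modules are acyclic. -/
lemma Acyc.X₂ (h1 : Acyc fs S.X₁) (h3 : Acyc fs S.X₃) : Acyc fs S.X₂ := by
  intro p
  refine ⟨fun b b' => ?_⟩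
  suffices h : ∀ b : koszulHLim fs S.X₂ p, b = 0 by rw [h b, h b']
  intro b
  have := h3 p
  have := h1 p
  obtain ⟨a, rfl⟩ := exists_of_limMap_g_eq_zero fs hS p b (Subsingleton.elim _ _)
  rw [Subsingleton.elim a 0, map_zero]

end ses

lemma Acyc.of_isZero {N : ModuleCat.{u} A} (h : IsZero N) : Acyc fs N := by
  have := ModuleCat.subsingleton_of_isZero h
  exact acyc_of_subsingleton N

lemma Acyc.biprod {M N : ModuleCat.{u} A} (hM : Acyc fs M) (hN : Acyc fs N) :
    Acyc fs (M ⊞ N) :=
  Acyc.X₂ (S := ShortComplex.mk (biprod.inl : M ⟶ M ⊞ N) (biprod.snd : M ⊞ N ⟶ N) (by simp))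
    (ShortComplex.Splitting.ofHasBinaryBiproduct M N).shortExact hM hN

/-- the terms of the Koszul complex of an acyclic module are acyclic. -/
lemma acyc_koszulCx_X {M : ModuleCat.{u} A} (hM : Acyc fs M) :
    ∀ (xs : List A) (j : ℤ), Acyc fs ((koszulCx M xs).X j)
  | [], j => by
    by_cases hj : j = 0
    · subst hj
      exact hM.of_iso (HomologicalComplex.singleObjXSelf (ComplexShape.up ℤ) 0 M).symm
    · exact Acyc.of_isZero (HomologicalComplex.isZero_single_obj_X _ _ _ _ hj)
  | x :: xs, j => by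
    have e := homotopyCofiber.XIsoBiprod (x • 𝟙 (koszulCx M xs)) j (j + 1) rfl
    exact ((acyc_koszulCx_X hM xs (j + 1)).biprod (acyc_koszulCx_X hM xs j)).of_iso e.symm

/-- **Koszul cohomology is power-torsion for the elements of the sequence.** -/
theorem exists_pow_smul_koszul_homology_eq_zero (M : ModuleCat.{u} A) :
    ∀ (xs : List A) (a : A), a ∈ xs → ∀ (j : ℤ) (y : (koszulCx M xs).homology j),
      ∃ k : ℕ, a ^ k • y = 0 := by
  intro xs
  induction xs with
  | nil => intro a ha; simp at ha
  | cons x xs ih =>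
    intro a ha j y
    rcases List.mem_cons.mp ha with rfl | ha'
    · -- the head of the list: `a ^ 2` kills
      have h1 : a • coneδ (a • 𝟙 (koszulCx M xs)) j (j + 1) rfl y = 0 := by
        rw [← homologyMap_smul_id_apply]
        exact map_coneδ (a • 𝟙 (koszulCx M xs)) j (j + 1) rfl y
      rw [← map_smul] at h1
      obtain ⟨w, hw⟩ := exists_of_coneδ_eq_zero (a • 𝟙 (koszulCx M xs)) j (j + 1) rfl _ h1
      refine ⟨2, ?_⟩
      have e : a ^ 2 • y =
          (homologyMap (mappingCone.inr (a • 𝟙 (koszulCx M xs))) j).hom (a • w) := by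
        rw [map_smul, hw, pow_two, mul_smul]
        rfl
      rw [e, ← homologyMap_smul_id_apply]
      exact inr_map (a • 𝟙 (koszulCx M xs)) j w
    · obtain ⟨k, hk⟩ := ih a ha' (j + 1) (coneδ (x • 𝟙 (koszulCx M xs)) j (j + 1) rfl y)
      rw [← map_smul] at hk
      obtain ⟨w, hw⟩ := exists_of_coneδ_eq_zero (x • 𝟙 (koszulCx M xs)) j (j + 1) rfl _ hk
      obtain ⟨l, hl⟩ := ih a ha' j w
      refine ⟨l + k, ?_⟩
      have e : a ^ (l + k) • y =
          (homologyMap (mappingCone.inr (x • 𝟙 (koszulCx M xs))) j).hom (a ^ l • w) := by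
        rw [map_smul, hw, pow_add, mul_smul]
        rfl
      rw [e, hl]
      exact map_zero _

section bridge

variable (K : CochainComplex (ModuleCat.{u} A) ℤ) (i j k : ℤ) (hij : i + 1 = j) (hjk : j + 1 = k)

/-- the concrete model `ker d^j / im d^{j-1}` of the cohomology of a complex of modules. -/
noncomputable def homologyEquivConcrete :
    K.homology j ≃ₗ[A] (LinearMap.ker (K.sc' i j k).g.hom ⧸
      LinearMap.range (K.sc' i j k).moduleCatToCycles) :=
  (K.homologyIsoSc' i j k (by subst hij; simp) (by subst hjk; simp) ≪≫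
    (K.sc' i j k).moduleCatHomologyIso).toLinearEquiv

include hij hjk in
/-- if the cohomology is `a`-power torsion, a power of `a` maps each cocycle to a coboundary. -/
lemma exists_pow_smul_mem_range (a : A) (h : ∀ y : K.homology j, ∃ n : ℕ, a ^ n • y = 0)
    (z : K.X j) (hz : (K.d j k).hom z = 0) :
    ∃ n : ℕ, a ^ n • z ∈ LinearMap.range (K.d i j).hom := by
  let c : LinearMap.ker (K.sc' i j k).g.hom := ⟨z, hz⟩
  obtain ⟨n, hn⟩ := h ((homologyEquivConcrete K i j k hij hjk).symm (Submodule.Quotient.mk c))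
  refine ⟨n, ?_⟩
  rw [← map_smul, LinearEquiv.map_eq_zero_iff, ← Submodule.Quotient.mk_smul,
    Submodule.Quotient.mk_eq_zero] at hn
  obtain ⟨w, hw⟩ := hn
  exact ⟨w, congrArg Subtype.val hw⟩

include hij hjk in
/-- the cohomology vanishes if every cocycle is a coboundary. -/
lemma subsingleton_homology_of_ker_le_range
    (h : ∀ z : K.X j, (K.d j k).hom z = 0 → z ∈ LinearMap.range (K.d i j).hom) :
    Subsingleton (K.homology j) := by
  have : Subsingleton (LinearMap.ker (K.sc' i j k).g.hom ⧸
      LinearMap.range (K.sc' i j k).moduleCatToCycles) := by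
    refine ⟨fun x y => ?_⟩
    suffices h0 : ∀ x : (LinearMap.ker (K.sc' i j k).g.hom ⧸
        LinearMap.range (K.sc' i j k).moduleCatToCycles), x = 0 by rw [h0 x, h0 y]
    intro x
    obtain ⟨⟨z, hz⟩, rfl⟩ := Submodule.Quotient.mk_surjective _ x
    rw [Submodule.Quotient.mk_eq_zero]
    obtain ⟨w, hw⟩ := h z hz
    exact ⟨w, Subtype.ext hw⟩
  exact (homologyEquivConcrete K i j k hij hjk).toEquiv.subsingleton

end bridge

section main

variable {M : ModuleCat.{u} A} (hM : Acyc fs M)

include hM in
/-- the key step: if the coboundaries `B^j` of the Koszul complex are acyclic, then `Z^j = B^j`. -/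
lemma ker_le_range_of_acyc (i j k : ℤ) (hij : i + 1 = j) (hjk : j + 1 = k)
    (hB : Acyc fs (ModuleCat.of A (LinearMap.range ((koszulCx M fs).d i j).hom))) :
    LinearMap.ker ((koszulCx M fs).d j k).hom ≤ LinearMap.range ((koszulCx M fs).d i j).hom := by
  have hBZ : LinearMap.range ((koszulCx M fs).d i j).hom ≤
      LinearMap.ker ((koszulCx M fs).d j k).hom := by
    rintro _ ⟨w, rfl⟩
    rw [LinearMap.mem_ker, ← ModuleCat.comp_apply, HomologicalComplex.d_comp_d]
    rfl
  have hι : Function.Injective (Submodule.inclusion hBZ) := Submodule.inclusion_injective hBZ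
  have hS := sesOfInjective_shortExact (Submodule.inclusion hBZ) hι
  intro z hz
  have hq0 : ∀ a ∈ fs, ∃ n : ℕ, a ^ n • ((LinearMap.range (Submodule.inclusion hBZ)).mkQ
      (⟨z, hz⟩ : LinearMap.ker ((koszulCx M fs).d j k).hom)) = 0 := by
    intro a ha
    obtain ⟨n, w, hw⟩ := exists_pow_smul_mem_range (koszulCx M fs) i j k hij hjk a
      (exists_pow_smul_koszul_homology_eq_zero M fs a ha j) z hz
    refine ⟨n, ?_⟩
    rw [← map_smul, Submodule.mkQ_apply, Submodule.Quotient.mk_eq_zero]
    exact ⟨⟨((koszulCx M fs).d i j).hom w, ⟨w, rfl⟩⟩, Subtype.ext hw⟩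
  have hq : (show (sesOfInjective (Submodule.inclusion hBZ)).X₃ from
      (LinearMap.range (Submodule.inclusion hBZ)).mkQ
        (⟨z, hz⟩ : LinearMap.ker ((koszulCx M fs).d j k).hom)) ∈
      powTorsionList fs (sesOfInjective (Submodule.inclusion hBZ)).X₃ := hq0
  rw [← range_kosEps] at hq
  obtain ⟨ξ, hξ⟩ := hq
  have h1 : limδ fs hS 0 ξ = 0 := by
    have : Subsingleton (koszulHLim fs (sesOfInjective (Submodule.inclusion hBZ)).X₁ (0 + 1)) :=
      hB 1
    exact Subsingleton.elim _ _
  obtain ⟨η, rfl⟩ := (limδ_eq_zero_iff fs hS 0 ξ).mp h1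
  rw [kosEps_naturality] at hξ
  have h2 : kosEps fs (sesOfInjective (Submodule.inclusion hBZ)).X₂ η = 0 := by
    have h3 := kosEps_naturality fs (M := (sesOfInjective (Submodule.inclusion hBZ)).X₂)
      (N := (koszulCx M fs).X j)
      (ModuleCat.ofHom (LinearMap.ker ((koszulCx M fs).d j k).hom).subtype) η
    have := acyc_koszulCx_X hM fs j 0
    rw [Subsingleton.elim (limMap fs _ 0 η) 0, map_zero] at h3
    exact Subtype.ext h3.symm
  rw [h2, map_zero] at hξ
  have h4 : (⟨z, hz⟩ : LinearMap.ker ((koszulCx M fs).d j k).hom) ∈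
      LinearMap.range (Submodule.inclusion hBZ) := by
    rw [← Submodule.Quotient.mk_eq_zero]
    exact hξ.symm
  obtain ⟨⟨b, hb⟩, hb'⟩ := h4
  have : b = z := congrArg Subtype.val hb'
  exact this ▸ hb

include hM in
/-- all coboundary modules of the Koszul complex of an acyclic module are acyclic. -/
lemma acyc_range : ∀ (j : ℤ), -(fs.length : ℤ) - 1 ≤ j → ∀ i : ℤ, i + 1 = j →
    Acyc fs (ModuleCat.of A (LinearMap.range ((koszulCx M fs).d i j).hom)) := by
  refine Int.leInduction ?_ ?_
  · intro i hi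
    have hz : IsZero ((koszulCx M fs).X i) := isZero_koszulCx_X_of_lt M fs i (by omega)
    have := ModuleCat.subsingleton_of_isZero hz
    have : Subsingleton (ModuleCat.of A (LinearMap.range ((koszulCx M fs).d i
        (-(fs.length : ℤ) - 1)).hom)) := by
      refine ⟨fun x y => ?_⟩
      obtain ⟨_, ⟨w, rfl⟩⟩ := x
      obtain ⟨_, ⟨w', rfl⟩⟩ := y
      rw [Subsingleton.elim w w']
    exact acyc_of_subsingleton _
  · intro j hj ih i hi
    obtain rfl : i = j := by omega
    have hB := ih (i - 1) (by omega)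
    have hle := ker_le_range_of_acyc hM (i - 1) i (i + 1) (by omega) rfl hB
    have hBZ : LinearMap.range ((koszulCx M fs).d (i - 1) i).hom ≤
        LinearMap.ker ((koszulCx M fs).d i (i + 1)).hom := by
      rintro _ ⟨w, rfl⟩
      rw [LinearMap.mem_ker, ← ModuleCat.comp_apply, HomologicalComplex.d_comp_d]
      rfl
    have hZB : LinearMap.ker ((koszulCx M fs).d i (i + 1)).hom =
        LinearMap.range ((koszulCx M fs).d (i - 1) i).hom := le_antisymm hle hBZ
    have hZ : Acyc fs (ModuleCat.of A (LinearMap.ker ((koszulCx M fs).d i (i + 1)).hom)) := by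
      rw [hZB]
      exact hB
    have hS := sesOfInjective_shortExact
      (LinearMap.ker ((koszulCx M fs).d i (i + 1)).hom).subtype (Submodule.injective_subtype _)
    have h3 := Acyc.X₃ hS hZ (acyc_koszulCx_X hM fs i)
    let e : ((koszulCx M fs).X i ⧸ LinearMap.range
        (LinearMap.ker ((koszulCx M fs).d i (i + 1)).hom).subtype) ≃ₗ[A]
        LinearMap.range ((koszulCx M fs).d i (i + 1)).hom :=
      (Submodule.quotEquivOfEq _ _ (Submodule.range_subtype _)).trans
        (LinearMap.quotKerEquivRange _)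
    exact h3.of_iso e.toModuleIso

include hM in
/-- **If `colim_n H^p(f^n; M) = 0` for all `p`, then `M = (fs) M`.** -/
theorem smul_top_eq_top_of_acyc : Ideal.ofList fs • (⊤ : Submodule A M) = ⊤ := by
  have hB := acyc_range hM 0 (by omega) (-1) (by omega)
  have hle := ker_le_range_of_acyc hM (-1) 0 1 (by omega) (by omega) hB
  have hs : Subsingleton ((koszulCx M fs).homology 0) :=
    subsingleton_homology_of_ker_le_range _ (-1) 0 1 (by omega) (by omega) (fun z hz => hle hz)
  rw [eq_top_iff]
  intro z _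
  rw [← top_eq_zero_iff]
  exact Subsingleton.elim _ _

end main

/-- **If `colim_n H^p(f^n; A) = 0` for all `p`, the `fs` generate the unit ideal.** -/
theorem span_eq_top_of_acyc (h : Acyc fs (ModuleCat.of A A)) : Ideal.span {a | a ∈ fs} = ⊤ := by
  have h1 := smul_top_eq_top_of_acyc h
  rw [eq_top_iff] at h1 ⊢
  intro z _
  have h2 := h1 (Submodule.mem_top (x := (z : ModuleCat.of A A)))
  rw [smul_eq_mul, Ideal.mul_top] at h2
  exact h2

end Groth.Agent.Lib.Helper93.KoszulUnit
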