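import Mathlib.AlgebraicGeometry.AffineTransitionLimit
import Groth.Prelude.Def_W4c6modpairsegaMP
import Groth.Agent.Lib.Helper18.IdealComap
import Groth.Agent.Lib.Helper93.ModPairInterior
import Groth.Agent.Lib.Helper93.IdealClopenCover
import Groth.Agent.H8.EffCartier

/-!
# Effective Cartier ideals in cofiltered limits with affine transition maps (helper93)
-/

set_option autoImplicit false
universe u

open CategoryTheory CategoryTheory.Limits AlgebraicGeometry TopologicalSpace

namespace Groth.Agent.Lib.Helper93.LimitEffCartier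

open Groth.Agent.Lib.Helper93.ModPairInterior Groth.Agent.Lib.Helper18

/-- A principal generator of an effective Cartier ideal sheaf on an affine open is a
nonzerodivisor. -/
theorem generator_mem_nonZeroDivisors {X : Scheme.{u}} (I : X.IdealSheafData)
    (hI : BlowUp.IsEffCartierIdeal I) (V : X.affineOpens) (b : Γ(X, V.1))
    (hV : I.ideal V = Ideal.span {b}) : b ∈ nonZeroDivisors Γ(X, V.1) := by
  have : IsSchemeTheoreticallyDominant ((𝟙 X) ⁻¹ᵁ ModPair.interior I).ι :=
    isSchemeTheoreticallyDominant_ι_interior I hI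
  have h := appLE_generator_mem_nonZeroDivisors I hI (𝟙 X) V b hV V.1 le_rfl
  have h2 : (𝟙 X : X ⟶ X).appLE V.1 V.1 le_rfl = 𝟙 _ := by
    rw [Scheme.Hom.appLE, Scheme.Hom.id_app]
    exact X.presheaf.map_id _
  rw [h2] at h
  exact h

variable {I : Type u} [SmallCategory I] [IsCofiltered I] (D : I ⥤ Scheme.{u}) (c : Cone D)
  (hc : IsLimit c)

include hc in
/-- In a cofiltered limit of affine schemes, a section that is a nonzerodivisor at all finer
levels is a nonzerodivisor in the limit. -/
theorem appTop_mem_nonZeroDivisors_of_isLimit [∀ i, IsAffine (D.obj i)] (i₀ : I)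
    (f : Γ(D.obj i₀, ⊤))
    (hf : ∀ (j : I) (t : j ⟶ i₀), (D.map t).appTop f ∈ nonZeroDivisors Γ(D.obj j, ⊤)) :
    (c.π.app i₀).appTop f ∈ nonZeroDivisors Γ(c.pt, ⊤) := by
  refine (mem_nonZeroDivisors_iff_right (M₀ := Γ(c.pt, ⊤))).mpr ?_
  intro a ha
  obtain ⟨j, aj, rfl⟩ := exists_appTop_π_eq_of_isAffine_of_isLimit D c hc a
  obtain ⟨k, tj, ti, -⟩ := IsCofilteredOrEmpty.cone_objs j i₀
  have h1 : (c.π.app j).appTop aj = (c.π.app k).appTop ((D.map tj).appTop aj) := by
    rw [← c.w tj, Scheme.Hom.comp_appTop]; rfl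
  have h2 : (c.π.app i₀).appTop f = (c.π.app k).appTop ((D.map ti).appTop f) := by
    rw [← c.w ti, Scheme.Hom.comp_appTop]; rfl
  rw [h1, h2, ← map_mul] at ha
  obtain ⟨l, tl, hl⟩ := exists_appTop_map_eq_zero_of_isAffine_of_isLimit D c hc k _ ha
  rw [map_mul] at hl
  have h3 : (D.map tl).appTop ((D.map ti).appTop f) = (D.map (tl ≫ ti)).appTop f := by
    rw [D.map_comp, Scheme.Hom.comp_appTop]; rfl
  rw [h3] at hl
  have h4 := (mem_nonZeroDivisors_iff_right.mp (hf l (tl ≫ ti))) _ hl
  rw [h1, ← c.w tl, Scheme.Hom.comp_appTop]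
  change (c.π.app l).appTop ((D.map tl).appTop ((D.map tj).appTop aj)) = 0
  rw [h4, map_zero]

include hc in
/-- The affine case: a cofiltered system of affine schemes with effective Cartier ideal sheaves
and minimal transition maps, one of the ideals being globally principal. -/
theorem isEffCartierIdeal_comap_π_of_isAffine [∀ i, IsAffine (D.obj i)]
    (J : ∀ i, (D.obj i).IdealSheafData) (hJ : ∀ i, BlowUp.IsEffCartierIdeal (J i))
    (hmin : ∀ (i j : I) (t : i ⟶ j), J i = (J j).comap (D.map t)) (i₀ : I)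
    (f : Γ(D.obj i₀, ⊤)) (hf : (J i₀).ideal ⟨⊤, isAffineOpen_top _⟩ = Ideal.span {f}) :
    BlowUp.IsEffCartierIdeal ((J i₀).comap (c.π.app i₀)) := by
  have : IsAffine c.pt := Scheme.isAffine_of_isLimit c hc
  change BlowUp.IsEffCartierIdeal
    (@Scheme.IdealSheafData.comap c.pt (D.obj i₀) (J i₀) (c.π.app i₀))
  intro x
  refine ⟨⟨⊤, isAffineOpen_top _⟩, trivial, (c.π.app i₀).appTop f, ?_, ?_⟩
  · apply appTop_mem_nonZeroDivisors_of_isLimit D c hc i₀ f
    intro j t
    apply generator_mem_nonZeroDivisors (J j) (hJ j) ⟨⊤, isAffineOpen_top _⟩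
    rw [hmin j i₀ t, ideal_comap_top_of_isAffine, hf, Ideal.map_span, Set.image_singleton]
  · rw [ideal_comap_top_of_isAffine, hf, Ideal.map_span, Set.image_singleton]

set_option backward.isDefEq.respectTransparency false in
include hc in
/-- A cofiltered limit of schemes with effective Cartier ideal sheaves along affine minimal
transition maps: the pulled back ideal sheaf on the limit is effective Cartier (S18744). -/
theorem isEffCartierIdeal_comap_π [∀ (i j : I) (t : i ⟶ j), IsAffineHom (D.map t)]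
    (J : ∀ i, (D.obj i).IdealSheafData) (hJ : ∀ i, BlowUp.IsEffCartierIdeal (J i))
    (hmin : ∀ (i j : I) (t : i ⟶ j), J i = (J j).comap (D.map t)) (i : I) :
    BlowUp.IsEffCartierIdeal ((J i).comap (c.π.app i)) := by
  change BlowUp.IsEffCartierIdeal
    (@Scheme.IdealSheafData.comap c.pt (D.obj i) (J i) (c.π.app i))
  choose U hyU f hf hU using hJ i
  let W : c.pt → c.pt.Opens := fun x => c.π.app i ⁻¹ᵁ (U ((c.π.app i) x)).1
  refine IdealClopenCover.isEffCartierIdeal_of_comap (Y := c.pt) (X := fun x => (W x : Scheme.{u}))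
    (fun x => (W x).ι) ?_ _ ?_
  · rw [eq_top_iff]
    intro x _
    refine Opens.mem_iSup.mpr ⟨x, ?_⟩
    rw [Scheme.Opens.opensRange_ι]
    exact hyU _
  · intro x
    set V := U ((c.π.app i) x) with hVdef
    have hAff : ∀ j : Over i, IsAffine ((opensDiagram D i V.1).obj j) :=
      fun j => V.2.preimage (D.map _)
    let J' : ∀ j : Over i, ((opensDiagram D i V.1).obj j).IdealSheafData :=
      fun j => (J j.left).comap (D.map j.hom ⁻¹ᵁ V.1).ι
    have hJ' : ∀ j, BlowUp.IsEffCartierIdeal (J' j) :=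
      fun j => Groth.Agent.H8.EffCartier.isEffCartierIdeal_comap_of_flat _ _ (hJ j.left)
    have hmin' : ∀ (j k : Over i) (t : j ⟶ k),
        J' j = (J' k).comap ((opensDiagram D i V.1).map t) := by
      intro j k t
      simp only [J', opensDiagram_map]
      rw [← Scheme.IdealSheafData.comap_comp, Scheme.Hom.resLE_comp_ι,
        Scheme.IdealSheafData.comap_comp, ← hmin]
    let i₀ : Over i := Over.mk (𝟙 i)
    have e : (⊤ : ((opensDiagram D i V.1).obj i₀).Opens) ≤
        ((D.map i₀.hom ⁻¹ᵁ V.1).ι ≫ D.map i₀.hom) ⁻¹ᵁ V.1 := by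
      intro y _
      exact y.2
    have hf' : (J' i₀).ideal ⟨⊤, isAffineOpen_top _⟩ =
        Ideal.span {(((D.map i₀.hom ⁻¹ᵁ V.1).ι ≫ D.map i₀.hom).appLE V.1 ⊤ e).hom
          (f ((c.π.app i) x))} := by
      have h1 : J' i₀ = (J i).comap ((D.map i₀.hom ⁻¹ᵁ V.1).ι ≫ D.map i₀.hom) := by
        simp only [J']
        rw [hmin i₀.left i i₀.hom, ← Scheme.IdealSheafData.comap_comp]
      rw [h1, ideal_comap_of_le _ (J i) ⟨⊤, isAffineOpen_top _⟩ V e, hU, Ideal.map_span,
        Set.image_singleton]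
      rfl
    have key := isEffCartierIdeal_comap_π_of_isAffine (opensDiagram D i V.1)
      (opensCone D c i V.1) (isLimitOpensCone D c hc i V.1) J' hJ' hmin' i₀ _ hf'
    have h2 : (J' i₀).comap ((opensCone D c i V.1).π.app i₀) =
        ((J i).comap (c.π.app i)).comap (W x).ι := by
      simp only [J', opensCone_π_app]
      rw [← Scheme.IdealSheafData.comap_comp, Scheme.Hom.resLE_comp_ι,
        Scheme.IdealSheafData.comap_comp]
      rfl
    rw [h2] at key
    exact key

end Groth.Agent.Lib.Helper93.LimitEffCartier
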