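import Groth.Agent.Lib.Helper93.LimitSeparateBC
import Groth.Agent.S9183
import Mathlib.AlgebraicGeometry.Morphisms.FinitePresentation
import Mathlib.AlgebraicGeometry.Fiber

/-!
# Closed sets avoiding a fibre descend to a finitely presented approximation (helper93)
-/

set_option autoImplicit false
universe u

open CategoryTheory CategoryTheory.Limits AlgebraicGeometry TopologicalSpace

namespace Groth.Agent.Lib.Helper93.LimitFibreClosed

open Groth.Agent.Lib.Helper93.LimitSeparateBC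

variable {X S : Scheme.{u}} (f : X ⟶ S)

lemma isPullback_bcMap {A B : Over S} (φ : A ⟶ B) :
    IsPullback (bcMap f φ) (pullback.snd f A.hom) (pullback.snd f B.hom) φ.left := by
  have hbig : IsPullback (bcMap f φ ≫ pullback.fst f B.hom) (pullback.snd f A.hom) f
      (φ.left ≫ B.hom) := by
    rw [bcMap_fst, Over.w]
    exact IsPullback.of_hasPullback f A.hom
  exact IsPullback.of_right hbig (bcMap_snd f φ) (IsPullback.of_hasPullback f B.hom)

/-- Surjectivity on fibres of the base change map. -/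
lemma exists_bcMap_eq {A B : Over S} (φ : A ⟶ B) (z' : ↥(pullback f B.hom)) (a : A.left)
    (h : pullback.snd f B.hom z' = φ.left a) :
    ∃ z : ↥(pullback f A.hom), bcMap f φ z = z' ∧ pullback.snd f A.hom z = a := by
  obtain ⟨w, hw1, hw2⟩ := Scheme.Pullback.exists_preimage_pullback z' a h
  refine ⟨(isPullback_bcMap f φ).isoPullback.inv w, ?_, ?_⟩
  · rw [← Scheme.Hom.comp_apply, IsPullback.isoPullback_inv_fst, hw1]
  · rw [← Scheme.Hom.comp_apply, IsPullback.isoPullback_inv_snd, hw2]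

attribute [local instance] IsFiltered.isConnected in
/-- Stacks-style approximation: a closed subset of `X ×_S T` avoiding the fibre over `t`
is, near `t`, contained in the preimage of a closed subset of `X ×_S T'` avoiding the fibre
over the image of `t`, with `T'` affine and locally of finite presentation over `S`. -/
theorem exists_lfp_nhd_closed_avoiding_fibre {T : Scheme.{u}} [QuasiCompact f] (g : T ⟶ S) (t : T)
    (Z : Set ↥(pullback f g)) (hZ : IsClosed Z) (hZt : ∀ z ∈ Z, (pullback.snd f g) z ≠ t) :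
    ∃ (V : T.Opens) (ht : t ∈ V) (T' : Scheme.{u}) (b : T' ⟶ S) (a : (V : Scheme.{u}) ⟶ T')
      (n : pullback f (V.ι ≫ g) ⟶ pullback f g) (m : pullback f (V.ι ≫ g) ⟶ pullback f b)
      (Z' : Set ↥(pullback f b)),
      IsAffineOpen V ∧ IsAffine T' ∧ LocallyOfFinitePresentation b ∧ a ≫ b = V.ι ≫ g ∧
      n ≫ pullback.fst f g = pullback.fst f (V.ι ≫ g) ∧
      n ≫ pullback.snd f g = pullback.snd f (V.ι ≫ g) ≫ V.ι ∧
      m ≫ pullback.fst f b = pullback.fst f (V.ι ≫ g) ∧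
      m ≫ pullback.snd f b = pullback.snd f (V.ι ≫ g) ≫ a ∧
      IsClosed Z' ∧ (∀ z' ∈ Z', (pullback.snd f b) z' ≠ a ⟨t, ht⟩) ∧
      ∀ z : ↥(pullback f (V.ι ≫ g)), n z ∈ Z → m z ∈ Z' := by
  obtain ⟨S', hS', hgS'⟩ : ∃ S' : S.Opens, IsAffineOpen S' ∧ g t ∈ S' := by
    obtain ⟨_, ⟨S', hS', rfl⟩, hgS', -⟩ := S.isBasis_affineOpens.exists_subset_of_mem_open
      (Set.mem_univ (g t)) isOpen_univ
    exact ⟨S', hS', hgS'⟩
  obtain ⟨V, hV, htV, hVS'⟩ : ∃ V : T.Opens, IsAffineOpen V ∧ t ∈ V ∧ V ≤ g ⁻¹ᵁ S' := by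
    obtain ⟨_, ⟨V, hV, rfl⟩, htV, hVS'⟩ := T.isBasis_affineOpens.exists_subset_of_mem_open
      (show t ∈ g ⁻¹ᵁ S' from hgS') (g ⁻¹ᵁ S').isOpen
    exact ⟨V, hV, htV, hVS'⟩
  let φ := g.appLE S' V hVS'
  let _ : Algebra Γ(S, S') Γ(T, V) := φ.hom.toAlgebra
  obtain ⟨I, _, _, D, c, hc, hfp, ⟨ε⟩⟩ := Groth.Agent.S9183.result Γ(S, S') Γ(T, V)
  let c' := c.extend ε.hom
  have hc' : IsColimit c' := IsColimit.extendIso ε.hom hc
  let E : Iᵒᵖ ⥤ Scheme.{u} := (D ⋙ Under.forget _).op ⋙ Scheme.Spec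
  let cE : Cone E := Scheme.Spec.mapCone ((Under.forget _).mapCocone c').op
  have hcE : IsLimit cE :=
    isLimitOfPreserves Scheme.Spec (isColimitOfPreserves (Under.forget _) hc').op
  let eV : cE.pt ≅ ↑V := hV.isoSpec.symm
  let c₀ : Cone E := cE.extend eV.inv
  have hc₀ : IsLimit c₀ := IsLimit.ofIsoLimit hcE (Cone.extendIso cE eV)
  let s : E ⟶ (Functor.const Iᵒᵖ).obj S :=
    { app := fun i => Spec.map (D.obj i.unop).hom ≫ hS'.fromSpec
      naturality := fun i j t => by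
        change Spec.map (D.map t.unop).right ≫ Spec.map (D.obj j.unop).hom ≫ hS'.fromSpec =
          (Spec.map (D.obj i.unop).hom ≫ hS'.fromSpec) ≫ 𝟙 S
        rw [Category.comp_id, ← Spec.map_comp_assoc, Under.w] }
  have hp : ∀ j, c₀.π.app j ≫ s.app j = V.ι ≫ g := by
    intro j
    change (hV.isoSpec.hom ≫ Spec.map (c.ι.app j.unop ≫ ε.hom).right) ≫
      Spec.map (D.obj j.unop).hom ≫ hS'.fromSpec = V.ι ≫ g
    rw [Category.assoc, ← Spec.map_comp_assoc, Under.w]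
    change hV.isoSpec.hom ≫ Spec.map φ ≫ hS'.fromSpec = V.ι ≫ g
    rw [IsAffineOpen.SpecMap_appLE_fromSpec g hS' hV hVS', IsAffineOpen.isoSpec_hom_fromSpec_assoc]
  let 𝒟 : Iᵒᵖ ⥤ Over S := Over.lift E s
  let 𝒸 : Cone 𝒟 := Over.liftCone E s c₀ (V.ι ≫ g) hp
  have h𝒸 : IsLimit 𝒸 := Over.isLimitLiftCone E s c₀ (V.ι ≫ g) hp hc₀
  have haff : ∀ {i j : Iᵒᵖ} (t : i ⟶ j), IsAffineHom (𝒟.map t).left := fun t => by
    change IsAffineHom (Spec.map (D.map t.unop).right)
    infer_instance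
  let n : pullback f (V.ι ≫ g) ⟶ pullback f g :=
    pullback.map f (V.ι ≫ g) f g (𝟙 X) V.ι (𝟙 S) (by simp) (by simp)
  have hn1 : n ≫ pullback.fst f g = pullback.fst f (V.ι ≫ g) := by
    rw [pullback.lift_fst, Category.comp_id]
  have hn2 : n ≫ pullback.snd f g = pullback.snd f (V.ι ≫ g) ≫ V.ι := pullback.lift_snd _ _ _
  let K : Set ↥(pullback f (V.ι ≫ g)) := (pullback.snd f (V.ι ≫ g)) ⁻¹' {⟨t, htV⟩}
  have hK : IsCompact K := Scheme.Hom.isCompact_preimage_singleton _ _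
  have hdisj : Disjoint K (n ⁻¹' Z) := by
    rw [Set.disjoint_left]
    intro z hzK hzZ
    refine hZt (n z) hzZ ?_
    rw [← Scheme.Hom.comp_apply, hn2, Scheme.Hom.comp_apply]
    rw [show pullback.snd f (V.ι ≫ g) z = ⟨t, htV⟩ from hzK]
    rfl
  obtain ⟨j, W, hKW, hWZ⟩ := exists_opens_separating_pullback f 𝒟 𝒸 h𝒸 K (n ⁻¹' Z) hK
    (hZ.preimage n.continuous) hdisj
  refine ⟨V, htV, (𝒟.obj j).left, (𝒟.obj j).hom, (𝒸.π.app j).left, n, bcMap f (𝒸.π.app j),
    (W : Set ↥(pullback f (𝒟.obj j).hom))ᶜ, hV, ?_, ?_, Over.w (𝒸.π.app j), hn1, hn2,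
    bcMap_fst f _, bcMap_snd f _, W.isOpen.isClosed_compl, ?_, ?_⟩
  · change IsAffine (Spec (D.obj j.unop).right)
    infer_instance
  · change LocallyOfFinitePresentation (Spec.map (D.obj j.unop).hom ≫ hS'.fromSpec)
    have : LocallyOfFinitePresentation (Spec.map (D.obj j.unop).hom) := by
      rw [HasRingHomProperty.Spec_iff (P := @LocallyOfFinitePresentation)]
      exact hfp j.unop
    infer_instance
  · intro z' hz' hz'a
    obtain ⟨z, hz1, hz2⟩ := exists_bcMap_eq f (𝒸.π.app j) z' ⟨t, htV⟩ hz'a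
    exact hz' (hz1 ▸ hKW hz2)
  · intro z hzZ hzW
    exact Set.disjoint_left.mp hWZ hzW hzZ

end Groth.Agent.Lib.Helper93.LimitFibreClosed
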