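import Mathlib.AlgebraicGeometry.AffineTransitionLimit
import Mathlib.AlgebraicGeometry.Morphisms.SchemeTheoreticallyDominant

/-!
# Morphisms from a cofiltered limit to a scheme of finite type, dominant transitions (helper93)

If `X = lim Xᵢ` is a cofiltered limit of qcqs `S`-schemes with affine, scheme-theoretically
dominant transition maps and `Y` is locally of finite type over `S`, every `S`-morphism `X ⟶ Y`
factors through some `Xᵢ`.  (Mathlib has the statement for `Y` locally of finite presentation,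
without dominance; the proof of the general case below is adapted from Mathlib's.)
-/

set_option autoImplicit false
universe vJ uJ u

open CategoryTheory Limits

namespace Groth.Agent.Lib.Helper93.LimitHomFiniteType

section Ring

variable {J : Type uJ} [Category.{vJ} J] [IsFiltered J]
variable (R : CommRingCat.{u}) (F : J ⥤ CommRingCat.{u}) (α : (Functor.const _).obj R ⟶ F)
variable {S : CommRingCat.{u}} (f : R ⟶ S) (c : Cocone F) (hc : IsColimit c)
variable [PreservesColimit F (forget CommRingCat)]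

include hc in
/-- In a filtered colimit of rings with injective transition maps the cocone maps are injective. -/
lemma cocone_ι_injective (hinj : ∀ {i j : J} (φ : i ⟶ j), Function.Injective (F.map φ)) (i : J) :
    Function.Injective (c.ι.app i) := by
  have hc' := isColimitOfPreserves (forget _) hc
  intro x y hxy
  obtain ⟨k, f1, f2, e⟩ :=
    (Types.FilteredColimit.isColimit_eq_iff _ hc' (xi := x) (xj := y)).mp hxy
  have e' : F.map f1 x = F.map f2 y := e
  have h1 : F.map (f1 ≫ IsFiltered.coeqHom f1 f2) x = F.map (f1 ≫ IsFiltered.coeqHom f1 f2) y := by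
    conv_rhs => rw [IsFiltered.coeq_condition f1 f2]
    rw [F.map_comp, F.map_comp, CommRingCat.comp_apply, CommRingCat.comp_apply, e']
  exact hinj _ h1

set_option backward.defeqAttrib.useBackward true in
set_option backward.isDefEq.respectTransparency false in
include hc in
/-- Given a filtered diagram `F` of rings over `R` with injective transition maps, `S` an
`R`-algebra of finite type and a ring hom `g : S ⟶ colimit F` over `R`,
there exists `i` such that `g` factors through `Fᵢ`. -/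
lemma exists_eq_comp_ι_app_of_isColimit_of_finiteType (hf : f.hom.FiniteType)
    (hinj : ∀ {i j : J} (φ : i ⟶ j), Function.Injective (F.map φ))
    (g : S ⟶ c.pt) (hg : ∀ i, f ≫ g = α.app i ≫ c.ι.app i) :
    ∃ (i : J) (g' : S ⟶ F.obj i), f ≫ g' = α.app i ∧ g = g' ≫ c.ι.app i := by
  classical
  have hc' := isColimitOfPreserves (forget _) hc
  let := f.hom.toAlgebra
  obtain ⟨n, π₀, hπ₀⟩ := Algebra.FiniteType.iff_quotient_mvPolynomial''.mp hf
  let P := CommRingCat.of (MvPolynomial (Fin n) R)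
  let iP : R ⟶ P := CommRingCat.ofHom MvPolynomial.C
  obtain ⟨π, rfl, hπ⟩ : ∃ π : P ⟶ S, iP ≫ π = f ∧ Function.Surjective π :=
    ⟨CommRingCat.ofHom π₀, by ext1; exact π₀.comp_algebraMap, hπ₀⟩
  obtain ⟨i, g', hg', hg''⟩ : ∃ (i : J) (g' : P ⟶ F.obj i),
      π ≫ g = g' ≫ c.ι.app i ∧ iP ≫ g' = α.app i := by
    choose j x h using fun i ↦ Types.jointly_surjective_of_isColimit hc' ((π ≫ g) (.X i))
    obtain ⟨i, ⟨hi⟩⟩ : ∃ i, Nonempty (∀ a, (j a ⟶ i)) := by
      have : ∃ i, ∀ a, Nonempty (j a ⟶ i) := by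
        simpa using! IsFiltered.sup_objs_exists (Finset.univ.image j)
      simpa [← exists_true_iff_nonempty, Classical.skolem, -exists_const_iff] using! this
    refine ⟨i, CommRingCat.ofHom (MvPolynomial.eval₂Hom
      (α.app i).hom (F.map (hi _) <| x ·)), ?_, ?_⟩
    · ext1
      apply MvPolynomial.ringHom_ext
      · simpa using! fun x ↦ congr($(hg i).hom x)
      · intro i
        simp only [CommRingCat.hom_comp, RingHom.coe_comp, Function.comp_apply,
          Functor.const_obj_obj, CommRingCat.hom_ofHom, MvPolynomial.coe_eval₂Hom,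
          MvPolynomial.eval₂_X]
        exact (congr($(c.w (hi i)).hom (x i)).trans (h i)).symm
    · ext x
      simp [P, iP]
  refine ⟨i, CommRingCat.ofHom (RingHom.liftOfSurjective π.hom hπ ⟨g'.hom, ?_⟩), ?_, ?_⟩
  · intro r hr
    rw [RingHom.mem_ker] at hr ⊢
    apply cocone_ι_injective F c hc hinj i
    rw [map_zero]
    have h1 : (π ≫ g) r = (g' ≫ c.ι.app i) r := congr($hg' r)
    have h2 : (π ≫ g) r = 0 := by
      rw [CommRingCat.comp_apply]
      change g (π.hom r) = 0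
      rw [hr, map_zero]
    rw [← h2, h1]
    rfl
  · ext x
    suffices (iP ≫ g') x = α.app i x by
      simpa [RingHom.liftOfRightInverse_comp_apply] using! this
    exact congr($hg'' x)
  · ext x
    obtain ⟨x, rfl⟩ := hπ x
    suffices (π ≫ g) x = (g' ≫ c.ι.app _) x by
      simpa only [CommRingCat.hom_comp, CommRingCat.hom_ofHom,
        RingHom.liftOfRightInverse_comp_apply, RingHom.coe_comp, Function.comp_apply] using! this
    exact congr($hg' x)

end Ring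

section Scheme

open AlgebraicGeometry

/-- The morphism to an affine scheme determined by a ring map on global sections. -/
noncomputable def homOfAppTop {Z Y : Scheme.{u}} [IsAffine Y] (ψ : Γ(Y, ⊤) ⟶ Γ(Z, ⊤)) : Z ⟶ Y :=
  Z.toSpecΓ ≫ Spec.map ψ ≫ Y.isoSpec.inv

lemma homOfAppTop_appTop {Z Y : Scheme.{u}} [IsAffine Y] (ψ : Γ(Y, ⊤) ⟶ Γ(Z, ⊤)) :
    (homOfAppTop ψ).appTop = ψ := by
  unfold homOfAppTop
  rw [Scheme.Hom.comp_appTop, Scheme.Hom.comp_appTop, Scheme.toSpecΓ_appTop, Category.assoc,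
    Scheme.ΓSpecIso_naturality, ← Category.assoc]
  have h : Y.isoSpec.inv.appTop ≫ (Scheme.ΓSpecIso Γ(Y, ⊤)).hom = 𝟙 _ := by
    rw [← Scheme.toSpecΓ_appTop, ← Scheme.isoSpec_hom, ← Scheme.Hom.comp_appTop, Iso.hom_inv_id]
    rfl
  rw [h, Category.id_comp]

variable {I : Type u} [Category.{u} I] {S X : Scheme.{u}} (D : I ⥤ Scheme.{u})
  (t : D ⟶ (Functor.const I).obj S) (f : X ⟶ S) (c : Cone D) (hc : IsLimit c)

include hc in
/-- The affine case. -/
lemma exists_π_app_comp_eq_of_isAffine [IsCofiltered I] [LocallyOfFiniteType f]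
    [IsAffine S] [IsAffine X] [∀ i, IsAffine (D.obj i)]
    (hinj : ∀ {i j : I} (φ : i ⟶ j), Function.Injective (D.map φ).appTop)
    (a : c.pt ⟶ X) (ha : c.π ≫ t = (Functor.const _).map (a ≫ f)) :
    ∃ (i : I) (g : D.obj i ⟶ X), c.π.app i ≫ g = a ∧ g ≫ f = t.app i := by
  have hop : ∀ i : Iᵒᵖ, IsAffine (D.op.obj i).unop := fun i => by dsimp; infer_instance
  have hcc : IsColimit (Scheme.Γ.mapCocone c.op) := isColimitOfPreserves Scheme.Γ hc.op
  let α : (Functor.const Iᵒᵖ).obj Γ(S, ⊤) ⟶ D.op ⋙ Scheme.Γ :=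
    { app := fun i => (t.app i.unop).appTop
      naturality := fun i j φ => by
        have h := t.naturality φ.unop
        dsimp at h ⊢
        rw [Category.comp_id] at h
        rw [Category.id_comp, ← h]
        rfl }
  have hft : f.appTop.hom.FiniteType :=
    (HasRingHomProperty.iff_of_isAffine (P := @LocallyOfFiniteType)).mp ‹_›
  have hg : ∀ i : Iᵒᵖ, f.appTop ≫ a.appTop = α.app i ≫ (Scheme.Γ.mapCocone c.op).ι.app i := by
    intro i
    have h : c.π.app i.unop ≫ t.app i.unop = a ≫ f := congr(($ha).app i.unop)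
    have h' := congr(($h).appTop)
    rw [Scheme.Hom.comp_appTop, Scheme.Hom.comp_appTop] at h'
    exact h'.symm
  obtain ⟨i, g', hg1, hg2⟩ : ∃ (i : Iᵒᵖ) (g' : Γ(X, ⊤) ⟶ Γ(D.obj i.unop, ⊤)),
      f.appTop ≫ g' = (t.app i.unop).appTop ∧ a.appTop = g' ≫ (c.π.app i.unop).appTop :=
    exists_eq_comp_ι_app_of_isColimit_of_finiteType Γ(S, ⊤)
      (D.op ⋙ Scheme.Γ) α f.appTop _ hcc hft (fun φ => hinj φ.unop) a.appTop hg
  refine ⟨i.unop, homOfAppTop g', ?_, ?_⟩
  · apply ext_of_isAffine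
    rw [Scheme.Hom.comp_appTop, homOfAppTop_appTop, hg2]
  · apply ext_of_isAffine
    rw [Scheme.Hom.comp_appTop, homOfAppTop_appTop, hg1]

lemma isSchemeTheoreticallyDominant_resLE {X Y : Scheme.{u}} (g : X ⟶ Y)
    [IsSchemeTheoreticallyDominant g] [QuasiCompact g] (U : Y.Opens) (V : X.Opens)
    (e : V = g ⁻¹ᵁ U) : IsSchemeTheoreticallyDominant (g.resLE U V e.le) := by
  have H : IsPullback (g.resLE U V e.le) V.ι U.ι g :=
    IsOpenImmersion.isPullback _ _ _ _ (by simp) (by simp [e])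
  exact IsSchemeTheoreticallyDominant.of_isPullback H.flip

end Scheme

end Groth.Agent.Lib.Helper93.LimitHomFiniteType

namespace AlgebraicGeometry

open Groth.Agent.Lib.Helper93.LimitHomFiniteType

variable {I : Type u} [Category.{u} I] {S X : Scheme.{u}} (D : I ⥤ Scheme.{u})
  (t : D ⟶ (Functor.const I).obj S) (f : X ⟶ S) (c : Cone D) (hc : IsLimit c)

set_option backward.defeqAttrib.useBackward true in
set_option backward.isDefEq.respectTransparency false in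
open TopologicalSpace in
include hc in
/--
Given a cofiltered diagram of qcqs schemes `Dᵢ` over `S` with affine, scheme-theoretically dominant
transition maps.
If `X` is locally of finite type over `S`, then any `S`-morphism `lim Dᵢ ⟶ X` factors
through some `lim Dᵢ ⟶ Dⱼ ⟶ X` for some `j`.  (Adapted from Mathlib's
`Scheme.exists_π_app_comp_eq_of_locallyOfFinitePresentation`.)
-/
lemma Scheme.exists_π_app_comp_eq_of_locallyOfFiniteType_of_dominant_h93
    [IsCofiltered I] [LocallyOfFiniteType f]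
    [∀ {i j} (f : i ⟶ j), IsAffineHom (D.map f)]
    [∀ {i j} (f : i ⟶ j), IsSchemeTheoreticallyDominant (D.map f)]
    [∀ i, CompactSpace (D.obj i)] [∀ i, QuasiSeparatedSpace (D.obj i)]
    (a : c.pt ⟶ X) (ha : c.π ≫ t = (Functor.const _).map (a ≫ f)) :
    ∃ (i : I) (g : D.obj i ⟶ X), c.π.app i ≫ g = a ∧ g ≫ f = t.app i := by
  have 𝒰 := (c.pt.isBasis_affineOpens).isOpenCover_mem_and_le
    (((X.isBasis_affineOpens).isOpenCover_mem_and_le
    ((S.isBasis_affineOpens).isOpenCover.comap f.base.hom)).comap a.base.hom)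
  obtain ⟨i, s, 𝒱, h𝒱, h𝒱𝒰⟩ := Scheme.exists_isOpenCover_and_isAffine D c hc _ 𝒰 fun U ↦ U.2.1
  obtain ⟨i', fi'i, hi'⟩ : ∃ (i' : I) (fi'i : i' ⟶ i),
      ∀ j, D.map fi'i ⁻¹ᵁ 𝒱 j ≤ t.app i' ⁻¹ᵁ j.1.1.2.1.2.1 := by
    choose k fk hk using fun j ↦ exists_map_preimage_le_map_preimage D c hc (h𝒱𝒰 j).1.isCompact
      (V := t.app i ⁻¹ᵁ j.1.1.2.1.2.1) (by
      rw [← Hom.comp_preimage, ← NatTrans.comp_app, ha]
      exact (h𝒱𝒰 j).2.symm.trans_le (j.1.prop.2.trans (a.preimage_mono j.1.1.2.prop.2)))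
    obtain ⟨i', fi'i, fi', hfi'⟩ := IsCofiltered.wideCospan fk
    refine ⟨i', fi'i, fun j ↦ ?_⟩
    rw [← hfi', Functor.map_comp, Hom.comp_preimage]
    refine (Hom.preimage_mono _ (hk _)).trans ?_
    simp only [← Hom.comp_preimage, t.naturality, Functor.const_obj_obj,
      Functor.const_obj_map, Category.comp_id, le_refl]
  have : ∃ k, ∃ (fk : k ⟶ i), ∀ j, ∃ (ak : ↑(D.map fk ⁻¹ᵁ 𝒱 j) ⟶ X),
      ak ≫ f = Opens.ι _ ≫ t.app k ∧ c.π.app _ ∣_ _ ≫ ak = Opens.ι _ ≫ a := by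
    let 𝒱' := (D.map fi'i ⁻¹ᵁ 𝒱 ·)
    have h𝒱'𝒰 (j : s) : c.π.app i' ⁻¹ᵁ 𝒱' j = j.1.1.1 := by
      rw [← Hom.comp_preimage, c.w fi'i]; exact (h𝒱𝒰 j).2.symm
    have _ (j k) : IsAffine ((opensDiagram D i' (𝒱' j)).obj k) := ((h𝒱𝒰 _).1.preimage _).preimage _
    let t𝒱 (j : _) : opensDiagram D i' (𝒱' j) ⟶ (Functor.const (Over i')).obj j.1.1.2.1.2 :=
    { app k := (t.app k.left).resLE _ _ <| by
        refine (Hom.preimage_mono _ (hi' _)).trans ?_
        simp only [Functor.const_obj_obj, ← Hom.comp_preimage, t.naturality,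
          Functor.const_obj_map, Category.comp_id, le_refl]
      naturality {k₁ k₂} f₁₂ := by simp [Hom.resLE_comp_resLE] }
    have (j : s) : IsAffine j.1.1.2.1.1 := j.1.1.2.prop.1
    have hinj (j : s) {k₁ k₂ : Over i'} (φ : k₁ ⟶ k₂) :
        Function.Injective ((opensDiagram D i' (𝒱' j)).map φ).appTop := by
      have : IsSchemeTheoreticallyDominant ((opensDiagram D i' (𝒱' j)).map φ) :=
        isSchemeTheoreticallyDominant_resLE (D.map φ.left) _ _
          (by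
            change D.map k₁.hom ⁻¹ᵁ 𝒱' j = D.map φ.left ⁻¹ᵁ (D.map k₂.hom ⁻¹ᵁ 𝒱' j)
            rw [← Over.w φ, D.map_comp, Scheme.Hom.comp_preimage])
      exact Scheme.Hom.app_injective _ ⊤
    choose k ak hk hk' using fun j ↦ exists_π_app_comp_eq_of_isAffine
      _ (t𝒱 j) (f.resLE _ _ j.1.1.2.prop.2) _ (isLimitOpensCone D c hc i' (𝒱' j)) (hinj j)
      (a.resLE _ _ ((h𝒱'𝒰 _).trans_le j.1.prop.2)) (by
      ext k
      simp [t𝒱, Hom.resLE_comp_resLE, show c.π.app k.left ≫ t.app k.left = a ≫ f from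
        congr(($ha).app k.left)])
    obtain ⟨i'', fi''i', fi'', hi''⟩ := IsCofiltered.wideCospan fun j ↦ (k j).hom
    refine ⟨i'', fi''i' ≫ fi'i, fun j ↦
      ⟨Scheme.homOfLE _ ?_ ≫ D.map (fi'' _) ∣_ _ ≫ ak j ≫ Opens.ι _, ?_, ?_⟩⟩
    · simp only [← Hom.comp_preimage, ← Functor.map_comp, 𝒱', reassoc_of% hi'']; rfl
    · have : ak j ≫ Opens.ι _ ≫ f = Opens.ι _ ≫ t.app (k j).left := by
        simpa [t𝒱] using! congr($(hk' j) ≫ Opens.ι _)
      simp [this]
    · have e : c.π.app i'' ⁻¹ᵁ D.map (fi''i' ≫ fi'i) ⁻¹ᵁ 𝒱 j ≤ c.π.app i' ⁻¹ᵁ 𝒱' j := by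
        simp only [← Hom.comp_preimage, Cone.w, 𝒱']; rfl
      simpa [← AlgebraicGeometry.Scheme.Hom.resLE_eq_morphismRestrict,
        Scheme.Hom.resLE_comp_resLE_assoc] using! congr(Scheme.homOfLE _ e ≫ $(hk j) ≫ Opens.ι _)
  choose k fki ak hak hak' using this
  obtain ⟨l, flk, hl⟩ : ∃ (l : I) (flk : l ⟶ k), ∀ j₁ j₂, Scheme.homOfLE _ inf_le_left ≫
      D.map flk ∣_ _ ≫ ak j₁ = Scheme.homOfLE _ inf_le_right ≫ D.map flk ∣_ _ ≫ ak j₂ := by
    let 𝒱' := (D.map fki ⁻¹ᵁ 𝒱 ·)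
    have (j₁ j₂ : s) : ∃ (l : I) (flk : l ⟶ k), Scheme.homOfLE _ inf_le_left ≫ D.map flk ∣_ _ ≫
        ak j₁ = Scheme.homOfLE _ inf_le_right ≫ D.map flk ∣_ _ ≫ ak j₂ := by
      have _ (x) : CompactSpace ↥((opensDiagram D k (𝒱' j₁ ⊓ 𝒱' j₂)).obj x) :=
        isCompact_iff_compactSpace.mp (QuasiCompact.isCompact_preimage _ (𝒱' j₁ ⊓ 𝒱' j₂).isOpen
          (((h𝒱𝒰 _).1.preimage _).isCompact.inter_of_isOpen ((h𝒱𝒰 _).1.preimage _).isCompact
            (D.map fki ⁻¹ᵁ 𝒱 j₁).2 (D.map fki ⁻¹ᵁ 𝒱 j₂).2))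
      obtain ⟨⟨l, ⟨⟨⟩⟩, flk⟩, ⟨flk', ⟨⟨⟨⟩⟩⟩, h⟩, e⟩ :=
        Scheme.exists_hom_comp_eq_comp_of_locallyOfFiniteType _
          (opensDiagramι .. ≫ (Over.forget k).whiskerLeft t) f _
          (isLimitOpensCone D c hc k (𝒱' j₁ ⊓ 𝒱' j₂)) (i := .mk (𝟙 k))
          (Scheme.homOfLE _ (by simp [𝒱']) ≫ ak j₁) (Scheme.homOfLE _ (by simp [𝒱']) ≫ ak j₂)
          (by simp [hak]) (by simp [hak]) (by simp; simp [Hom.resLE, hak'])
      obtain rfl : flk = flk' := by simpa using! h.symm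
      refine ⟨l, flk, by simpa [← Scheme.Hom.resLE_eq_morphismRestrict] using! e⟩
    choose l flk hflk using this
    obtain ⟨l', fl'k, fl'l, hl'⟩ := IsCofiltered.wideCospan (I := s × s) fun x ↦ flk x.1 x.2
    refine ⟨l', fl'k, fun j₁ j₂ ↦ ?_⟩
    have H : (D.map fl'k ≫ D.map fki) ⁻¹ᵁ (𝒱 j₁ ⊓ 𝒱 j₂) ≤
        (D.map (fl'l (j₁, j₂)) ≫ D.map (flk j₁ j₂) ≫ D.map fki) ⁻¹ᵁ (𝒱 j₁ ⊓ 𝒱 j₂) := by
      simp only [← Functor.map_comp, reassoc_of% hl']; rfl
    simpa [← Scheme.Hom.resLE_eq_morphismRestrict, Scheme.Hom.resLE_comp_resLE_assoc,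
      ← Functor.map_comp, hl'] using! congr((D.map (fl'l (j₁, j₂))).resLE _ _ H ≫ $(hflk j₁ j₂))
  let h𝒲 := (h𝒱.comap (D.map fki).base.hom).comap (D.map flk).base.hom
  let 𝒲 := Scheme.openCoverOfIsOpenCover _ (D.map flk ⁻¹ᵁ D.map fki ⁻¹ᵁ 𝒱 ·) h𝒲
  let F := 𝒲.glueMorphisms (fun j ↦ D.map flk ∣_ D.map fki ⁻¹ᵁ 𝒱 j ≫ ak j) (fun j₁ j₂ ↦ by
      rw [← cancel_epi (isPullback_opens_inf _ _).isoPullback.hom]
      simpa [𝒲] using! hl j₁ j₂)
  have hF (j : s) : (D.map flk ⁻¹ᵁ D.map fki ⁻¹ᵁ 𝒱 j).ι ≫ F = D.map flk ∣_ _ ≫ ak j :=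
    Scheme.Cover.ι_glueMorphisms ..
  refine ⟨l, F, ?_, ?_⟩
  · refine Cover.hom_ext (𝒲.pullback₁ (c.π.app l)) _ _ fun j ↦ ?_
    rw [← cancel_epi (isPullback_morphismRestrict _ _).flip.isoPullback.hom]
    dsimp [𝒲]
    simp only [pullback.condition_assoc, IsPullback.isoPullback_hom_snd_assoc,
      IsPullback.isoPullback_hom_fst_assoc, hF]
    have h : c.π.app l ⁻¹ᵁ D.map flk ⁻¹ᵁ D.map fki ⁻¹ᵁ 𝒱 j ≤ c.π.app k ⁻¹ᵁ D.map fki ⁻¹ᵁ 𝒱 j := by
      simp only [← Hom.comp_preimage, c.w_assoc, c.w]; rfl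
    simpa [← Scheme.Hom.resLE_eq_morphismRestrict, Scheme.Hom.resLE_comp_resLE_assoc] using!
      congr(Scheme.homOfLE _ h ≫ $(hak' j))
  · refine 𝒲.hom_ext _ _ fun j ↦ ?_
    simp [F, Cover.ι_glueMorphisms_assoc, hak]; rfl

end AlgebraicGeometry
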