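import Mathlib.AlgebraicGeometry.AffineTransitionLimit
import Groth.Agent.Lib.Helper18.IdealComap
import Groth.Agent.Lib.Helper93.IdealClopenCover

/-!
# Descending an inequality of pulled-back ideal sheaves along a cofiltered limit (helper93)
-/

set_option autoImplicit false
universe vJ uJ u

open CategoryTheory Limits

namespace Groth.Agent.Lib.Helper93.LimitModulus

section Ring

variable {J : Type uJ} [Category.{vJ} J] [IsFiltered J]
variable (F : J ⥤ CommRingCat.{u}) (c : Cocone F) (hc : IsColimit c)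
variable [PreservesColimit F (forget CommRingCat)]

include hc in
/-- If `a ∈ Fᵢ` lies in the extension of `𝔟 ⊆ Fᵢ` to the filtered colimit, it already lies in the
extension of `𝔟` to some `Fⱼ`. -/
lemma exists_map_mem_map (i : J) (a : F.obj i) (𝔟 : Ideal (F.obj i))
    (h : c.ι.app i a ∈ Ideal.map (c.ι.app i).hom 𝔟) :
    ∃ (j : J) (t : i ⟶ j), F.map t a ∈ Ideal.map (F.map t).hom 𝔟 := by
  have hc' := isColimitOfPreserves (forget _) hc
  have P : ∀ x ∈ Ideal.map (c.ι.app i).hom 𝔟, ∃ (j : J) (t : i ⟶ j) (y : F.obj j),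
      y ∈ Ideal.map (F.map t).hom 𝔟 ∧ c.ι.app j y = x := by
    intro x hx
    induction hx using Submodule.span_induction with
    | mem x hx =>
      obtain ⟨b, hb, rfl⟩ := hx
      exact ⟨i, 𝟙 i, b, by simpa using hb, rfl⟩
    | zero => exact ⟨i, 𝟙 i, 0, zero_mem _, map_zero _⟩
    | add x₁ x₂ _ _ h₁ h₂ =>
      obtain ⟨j₁, t₁, y₁, hy₁, rfl⟩ := h₁
      obtain ⟨j₂, t₂, y₂, hy₂, rfl⟩ := h₂
      obtain ⟨j, s₁, s₂, hs⟩ := IsFiltered.span t₁ t₂
      refine ⟨j, t₁ ≫ s₁, F.map s₁ y₁ + F.map s₂ y₂, add_mem ?_ ?_, ?_⟩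
      · have := Ideal.mem_map_of_mem (F.map s₁).hom hy₁
        rwa [Ideal.map_map, ← CommRingCat.hom_comp, ← F.map_comp] at this
      · have := Ideal.mem_map_of_mem (F.map s₂).hom hy₂
        rwa [Ideal.map_map, ← CommRingCat.hom_comp, ← F.map_comp, ← hs] at this
      · rw [map_add, ← CommRingCat.comp_apply, ← CommRingCat.comp_apply, c.w, c.w]
    | smul r x _ h₁ =>
      obtain ⟨j₁, t₁, y₁, hy₁, rfl⟩ := h₁
      obtain ⟨k, r', hr'⟩ := Types.jointly_surjective_of_isColimit hc' r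
      have hr : c.ι.app k r' = r := hr'
      refine ⟨IsFiltered.max j₁ k, t₁ ≫ IsFiltered.leftToMax j₁ k,
        F.map (IsFiltered.rightToMax j₁ k) r' * F.map (IsFiltered.leftToMax j₁ k) y₁,
        Ideal.mul_mem_left _ _ ?_, ?_⟩
      · have := Ideal.mem_map_of_mem (F.map (IsFiltered.leftToMax j₁ k)).hom hy₁
        rwa [Ideal.map_map, ← CommRingCat.hom_comp, ← F.map_comp] at this
      · rw [map_mul, ← CommRingCat.comp_apply, ← CommRingCat.comp_apply, c.w, c.w, hr]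
        rfl
  obtain ⟨j, t, y, hy, hxy⟩ := P _ h
  have h1 : c.ι.app j y = c.ι.app j (F.map t a) := by
    rw [hxy, ← CommRingCat.comp_apply, c.w]
  obtain ⟨k, f, hf⟩ := (Types.FilteredColimit.isColimit_eq_iff' hc' y (F.map t a)).mp h1
  have hf' : F.map f y = F.map f (F.map t a) := hf
  refine ⟨k, t ≫ f, ?_⟩
  have h2 : F.map (t ≫ f) a = F.map f y := by
    rw [F.map_comp, CommRingCat.comp_apply, ← hf']
  rw [h2]
  have := Ideal.mem_map_of_mem (F.map f).hom hy
  rwa [Ideal.map_map, ← CommRingCat.hom_comp, ← F.map_comp] at this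

end Ring

section Scheme

open AlgebraicGeometry Groth.Agent.Lib.Helper18

lemma comap_le_comap_iff_of_isAffine {P Q : Scheme.{u}} [IsAffine P] [IsAffine Q] (π : P ⟶ Q)
    (A B : Q.IdealSheafData) (a : Γ(Q, ⊤))
    (ha : A.ideal ⟨⊤, isAffineOpen_top _⟩ = Ideal.span {a}) :
    A.comap π ≤ B.comap π ↔
      π.appTop a ∈ Ideal.map π.appTop.hom (B.ideal ⟨⊤, isAffineOpen_top _⟩) := by
  rw [← map_le_map_iff (Scheme.IdealSheafData.equivOfIsAffine (X := P)),
    Scheme.IdealSheafData.equivOfIsAffine_apply, Scheme.IdealSheafData.equivOfIsAffine_apply,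
    ideal_comap_top_of_isAffine, ideal_comap_top_of_isAffine, ha, Ideal.map_span,
    Set.image_singleton, Ideal.span_singleton_le_iff_mem]

variable {I : Type u} [Category.{u} I] [IsCofiltered I] (D : I ⥤ Scheme.{u}) (c : Cone D)
  (hc : IsLimit c)

include hc in
/-- The all-affine case, with `A` principal. -/
lemma exists_comap_le_comap_of_isAffine [∀ i, IsAffine (D.obj i)] (i : I)
    (A B : (D.obj i).IdealSheafData)
    (hA : ∃ a, A.ideal ⟨⊤, isAffineOpen_top _⟩ = Ideal.span {a})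
    (h : A.comap (c.π.app i) ≤ B.comap (c.π.app i)) :
    ∃ (j : I) (f : j ⟶ i), A.comap (D.map f) ≤ B.comap (D.map f) := by
  obtain ⟨a, ha⟩ := hA
  have hpt : IsAffine c.pt := Scheme.isAffine_of_isLimit c hc
  have hop : ∀ i : Iᵒᵖ, IsAffine (D.op.obj i).unop := fun i => by dsimp; infer_instance
  have hcc : IsColimit (Scheme.Γ.mapCocone c.op) := isColimitOfPreserves Scheme.Γ hc.op
  have h1 : (c.π.app i).appTop a ∈
      Ideal.map (c.π.app i).appTop.hom (B.ideal ⟨⊤, isAffineOpen_top _⟩) :=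
    (comap_le_comap_iff_of_isAffine (P := c.pt) (c.π.app i) A B a ha).mp h
  obtain ⟨j, t, ht⟩ := exists_map_mem_map (D.op ⋙ Scheme.Γ) _ hcc (Opposite.op i) a
    (B.ideal ⟨⊤, isAffineOpen_top _⟩) h1
  exact ⟨j.unop, t.unop, (comap_le_comap_iff_of_isAffine (D.map t.unop) A B a ha).mpr ht⟩

lemma comap_le_comap_of_comm {X Y Z W : Scheme.{u}} (A B : W.IdealSheafData) (p : X ⟶ Y)
    (q : Y ⟶ W) (r : X ⟶ Z) (s : Z ⟶ W) (hcomm : p ≫ q = r ≫ s)
    (h : A.comap q ≤ B.comap q) : (A.comap s).comap r ≤ (B.comap s).comap r := by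
  rw [← Scheme.IdealSheafData.comap_comp, ← Scheme.IdealSheafData.comap_comp, ← hcomm,
    Scheme.IdealSheafData.comap_comp, Scheme.IdealSheafData.comap_comp]
  exact Scheme.IdealSheafData.comap_mono p h

set_option backward.isDefEq.respectTransparency false in
include hc in
/-- Local step: on a small affine open where `A` is principal. -/
lemma exists_comap_le_comap_local [∀ {i j} (f : i ⟶ j), IsAffineHom (D.map f)] (i : I)
    (A B : (D.obj i).IdealSheafData) (U : (D.obj i).affineOpens) (a : Γ(D.obj i, U.1))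
    (hUa : A.ideal U = Ideal.span {a})
    (h : A.comap (c.π.app i) ≤ B.comap (c.π.app i)) :
    ∃ (j : I) (f : j ⟶ i), (A.comap (D.map f)).comap (D.map f ⁻¹ᵁ U.1).ι ≤
      (B.comap (D.map f)).comap (D.map f ⁻¹ᵁ U.1).ι := by
  have hE : ∀ k : Over i, IsAffine ((opensDiagram D i U.1).obj k) := fun k =>
    U.2.preimage (D.map _)
  let k₀ : Over i := Over.mk (𝟙 i)
  let U₀ : (D.obj i).Opens := D.map (𝟙 i) ⁻¹ᵁ U.1
  have hU₀ : IsAffineOpen U₀ := U.2.preimage (D.map (𝟙 i))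
  have hU₀U : U₀ = U.1 := by simp [U₀]
  obtain ⟨a₀, ha₀⟩ : ∃ a₀ : Γ(D.obj i, U₀), A.ideal ⟨U₀, hU₀⟩ = Ideal.span {a₀} := by
    have key : ∀ (V : (D.obj i).Opens) (hV : IsAffineOpen V), V = U.1 →
        ∃ a₀ : Γ(D.obj i, V), A.ideal ⟨V, hV⟩ = Ideal.span {a₀} := by
      rintro V hV rfl
      exact ⟨a, hUa⟩
    exact key U₀ hU₀ hU₀U
  have hU₀aff : IsAffine (U₀ : Scheme.{u}) := hU₀
  have hA' : ∃ a', (A.comap U₀.ι).ideal ⟨⊤, isAffineOpen_top _⟩ = Ideal.span {a'} := by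
    refine ⟨U₀.topIso.inv.hom a₀, ?_⟩
    have := ideal_comap_ι_top A ⟨U₀, hU₀⟩
    rw [this, ha₀, Ideal.map_span, Set.image_singleton]
  have h' : (A.comap U₀.ι).comap ((opensCone D c i U.1).π.app k₀) ≤
      (B.comap U₀.ι).comap ((opensCone D c i U.1).π.app k₀) := by
    refine comap_le_comap_of_comm A B (c.π.app i ⁻¹ᵁ U.1).ι (c.π.app i) _ _ ?_ h
    simp [opensCone, k₀, U₀]
  obtain ⟨k, t, hk⟩ := exists_comap_le_comap_of_isAffine (opensDiagram D i U.1)
    (opensCone D c i U.1) (isLimitOpensCone D c hc i U.1) k₀ (A.comap U₀.ι) (B.comap U₀.ι) hA' h'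
  have ht : t.left = k.hom := (Category.comp_id _).symm.trans (Over.w t)
  refine ⟨k.left, k.hom, ?_⟩
  have hcomm : (opensDiagram D i U.1).map t ≫ U₀.ι = (D.map k.hom ⁻¹ᵁ U.1).ι ≫ D.map k.hom := by
    simp only [opensDiagram, ht, U₀]
    exact Scheme.Hom.resLE_comp_ι _ _
  rw [← Scheme.IdealSheafData.comap_comp, ← Scheme.IdealSheafData.comap_comp, ← hcomm,
    Scheme.IdealSheafData.comap_comp, Scheme.IdealSheafData.comap_comp]
  exact hk

lemma comap_le_comap_of_fac {X Y W : Scheme.{u}} (A B : W.IdealSheafData) (q : Y ⟶ W)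
    (p : X ⟶ Y) (r : X ⟶ W) (hfac : p ≫ q = r) (h : A.comap q ≤ B.comap q) :
    A.comap r ≤ B.comap r := by
  rw [← hfac, Scheme.IdealSheafData.comap_comp, Scheme.IdealSheafData.comap_comp]
  exact Scheme.IdealSheafData.comap_mono p h

set_option backward.isDefEq.respectTransparency false in
include hc in
/-- If `A` is locally principal and `A.comap π ≤ B.comap π` on the limit, the inequality already
holds on some stage. -/
theorem exists_comap_le_comap [∀ {i j} (f : i ⟶ j), IsAffineHom (D.map f)]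
    (i : I) [CompactSpace (D.obj i)] (A B : (D.obj i).IdealSheafData)
    (hA : ∀ x : D.obj i, ∃ (U : (D.obj i).affineOpens) (a : Γ(D.obj i, U.1)),
      x ∈ U.1 ∧ A.ideal U = Ideal.span {a})
    (h : A.comap (c.π.app i) ≤ B.comap (c.π.app i)) :
    ∃ (j : I) (f : j ⟶ i), A.comap (D.map f) ≤ B.comap (D.map f) := by
  classical
  choose U a hxU hUa using hA
  have hloc := fun x => exists_comap_le_comap_local D c hc i A B (U x) (a x) (hUa x) h
  choose j f hjf using hloc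
  obtain ⟨t, ht⟩ := CompactSpace.elim_nhds_subcover (fun x => ((U x).1 : Set (D.obj i)))
    (fun x => (U x).1.isOpen.mem_nhds (hxU x))
  obtain ⟨l, fl, g, hg⟩ := IsCofiltered.wideCospan (fun x : t => f x.1)
  refine ⟨l, fl, ?_⟩
  refine Groth.Agent.Lib.Helper93.IdealClopenCover.le_of_comap_le
    (fun x : t => (D.map fl ⁻¹ᵁ (U x.1).1).ι) ?_ ?_
  · rw [eq_top_iff]
    intro y _
    have hy : (D.map fl) y ∈ ⋃ x ∈ t, ((U x).1 : Set (D.obj i)) := by rw [ht]; trivial
    obtain ⟨x, hx⟩ := Set.mem_iUnion.mp hy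
    obtain ⟨hxt, hyx⟩ := Set.mem_iUnion.mp hx
    refine TopologicalSpace.Opens.mem_iSup.mpr ⟨⟨x, hxt⟩, ?_⟩
    rw [Scheme.Opens.opensRange_ι]
    exact hyx
  · intro x
    have hle : D.map fl ⁻¹ᵁ (U x.1).1 ≤ D.map (g x) ⁻¹ᵁ (D.map (f x.1) ⁻¹ᵁ (U x.1).1) := by
      rw [← Scheme.Hom.comp_preimage, ← D.map_comp, hg]
    have hcomm : (D.map (g x)).resLE _ _ hle ≫
        ((D.map (f x.1) ⁻¹ᵁ (U x.1).1).ι ≫ D.map (f x.1)) =
          (D.map fl ⁻¹ᵁ (U x.1).1).ι ≫ D.map fl := by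
      rw [← Category.assoc, Scheme.Hom.resLE_comp_ι, Category.assoc, ← D.map_comp, hg]
    have h1 := hjf x.1
    rw [← Scheme.IdealSheafData.comap_comp, ← Scheme.IdealSheafData.comap_comp] at h1
    have h2 := comap_le_comap_of_fac A B _ _ _ hcomm h1
    rw [Scheme.IdealSheafData.comap_comp, Scheme.IdealSheafData.comap_comp] at h2
    exact h2

end Scheme

end Groth.Agent.Lib.Helper93.LimitModulus
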