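import Mathlib.AlgebraicGeometry.AffineTransitionLimit

/-!
# Separating a compact set from a closed set in a cofiltered limit of schemes (helper93)
-/

set_option autoImplicit false
universe u

open CategoryTheory CategoryTheory.Limits AlgebraicGeometry TopologicalSpace

namespace Groth.Agent.Lib.Helper93.LimitSeparate

variable {I : Type u} [SmallCategory I] [IsCofiltered I] (D : I ⥤ Scheme.{u}) (c : Cone D)
  (hc : IsLimit c)

include hc in
/-- In a cofiltered limit of schemes with affine transition maps, a compact set disjoint from a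
closed set is contained in the preimage of an open of some stage which is still disjoint from
the closed set. -/
theorem exists_opens_separating [∀ {i j} (f : i ⟶ j), IsAffineHom (D.map f)]
    (K Z : Set c.pt) (hK : IsCompact K) (hZ : IsClosed Z) (hKZ : Disjoint K Z) :
    ∃ (i : I) (W : (D.obj i).Opens), K ⊆ ((c.π.app i ⁻¹ᵁ W : c.pt.Opens) : Set c.pt) ∧
      Disjoint ((c.π.app i ⁻¹ᵁ W : c.pt.Opens) : Set c.pt) Z := by
  classical
  haveI : Nonempty I := IsCofiltered.nonempty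
  let O : c.pt.Opens := ⟨Zᶜ, hZ.isOpen_compl⟩
  have hB := isBasis_preimage_isAffineOpen D c hc
  have key : ∀ x : c.pt, x ∈ K → ∃ (i : I) (V : (D.obj i).Opens),
      x ∈ c.π.app i ⁻¹ᵁ V ∧ c.π.app i ⁻¹ᵁ V ≤ O := by
    intro x hx
    have hxO : x ∈ O := fun hxZ => Set.disjoint_left.mp hKZ hx hxZ
    obtain ⟨_, ⟨i, V, -, rfl⟩, hxV, hVO⟩ := Opens.isBasis_iff_nbhd.mp hB hxO
    exact ⟨i, V, hxV, hVO⟩
  choose! i V hxV hVO using key
  obtain ⟨t, htK, hcov⟩ := hK.elim_nhds_subcover (fun x => ((c.π.app (i x) ⁻¹ᵁ V x : c.pt.Opens) : Set c.pt))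
    (fun x hx => (c.π.app (i x) ⁻¹ᵁ V x).isOpen.mem_nhds (hxV x hx))
  obtain ⟨j, fj⟩ := IsCofiltered.inf_objs_exists (t.image i)
  replace fj : ∀ x ∈ t, j ⟶ i x := fun x hx => (@fj (i x) (Finset.mem_image_of_mem i hx)).some
  refine ⟨j, ⨆ x : t, D.map (fj x.1 x.2) ⁻¹ᵁ V x.1, ?_, ?_⟩
  · intro y hy
    obtain ⟨x, hxt, hyx⟩ := Set.mem_iUnion₂.mp (hcov hy)
    rw [Scheme.Hom.preimage_iSup]
    refine Opens.mem_iSup.mpr ⟨⟨x, hxt⟩, ?_⟩
    rw [← Scheme.Hom.comp_preimage, c.w]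
    exact hyx
  · rw [Set.disjoint_left]
    intro y hy hyZ
    rw [Scheme.Hom.preimage_iSup] at hy
    obtain ⟨⟨x, hxt⟩, hyx⟩ := Opens.mem_iSup.mp hy
    rw [← Scheme.Hom.comp_preimage, c.w] at hyx
    exact hVO x (htK x hxt) hyx hyZ

end Groth.Agent.Lib.Helper93.LimitSeparate
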