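import Groth.Agent.Lib.Helper93.LimitSeparate
import Mathlib.CategoryTheory.Comma.Over.Pullback
import Mathlib.CategoryTheory.Limits.Constructions.Over.Connected

/-!
# Separating a compact set from a closed set in a base change of a cofiltered limit (helper93)
-/

set_option autoImplicit false
universe u

open CategoryTheory CategoryTheory.Limits AlgebraicGeometry TopologicalSpace

namespace Groth.Agent.Lib.Helper93.LimitSeparateBC

open Groth.Agent.Lib.Helper93.LimitSeparate

variable {X S : Scheme.{u}} (f : X ⟶ S)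

/-- The base change functor to schemes. -/
noncomputable abbrev bcF : Over S ⥤ Scheme.{u} := Over.pullback f ⋙ Over.forget X

/-- The action of `bcF` on morphisms, with a clean type. -/
noncomputable def flipMap {A B : Over S} (φ : A ⟶ B) : pullback A.hom f ⟶ pullback B.hom f :=
  (bcF f).map φ

@[reassoc]
lemma flipMap_fst {A B : Over S} (φ : A ⟶ B) :
    flipMap f φ ≫ pullback.fst B.hom f = pullback.fst A.hom f ≫ φ.left := by
  simp only [flipMap, Functor.comp_map, Over.forget_map, Over.pullback_map_left]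
  exact pullback.lift_fst _ _ _

@[reassoc]
lemma flipMap_snd {A B : Over S} (φ : A ⟶ B) :
    flipMap f φ ≫ pullback.snd B.hom f = pullback.snd A.hom f := by
  simp only [flipMap, Functor.comp_map, Over.forget_map, Over.pullback_map_left]
  exact pullback.lift_snd _ _ _

lemma isPullback_flipMap {A B : Over S} (φ : A ⟶ B) :
    IsPullback (pullback.fst A.hom f) (flipMap f φ) φ.left (pullback.fst B.hom f) := by
  have hbig : IsPullback (flipMap f φ ≫ pullback.snd B.hom f)
      (pullback.fst A.hom f) f (φ.left ≫ B.hom) := by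
    rw [flipMap_snd, Over.w]
    exact (IsPullback.of_hasPullback A.hom f).flip
  have hright : IsPullback (pullback.snd B.hom f) (pullback.fst B.hom f) f B.hom :=
    (IsPullback.of_hasPullback B.hom f).flip
  exact (IsPullback.of_right hbig (flipMap_fst f φ) hright).flip

/-- The canonical map between the (unflipped) base changes. -/
noncomputable def bcMap {A B : Over S} (φ : A ⟶ B) : pullback f A.hom ⟶ pullback f B.hom :=
  pullback.map f A.hom f B.hom (𝟙 X) φ.left (𝟙 S) (by simp) (by simp)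

@[reassoc (attr := simp)]
lemma bcMap_fst {A B : Over S} (φ : A ⟶ B) :
    bcMap f φ ≫ pullback.fst f B.hom = pullback.fst f A.hom := by
  rw [bcMap, pullback.map, pullback.lift_fst, Category.comp_id]

@[reassoc (attr := simp)]
lemma bcMap_snd {A B : Over S} (φ : A ⟶ B) :
    bcMap f φ ≫ pullback.snd f B.hom = pullback.snd f A.hom ≫ φ.left := by
  rw [bcMap, pullback.map, pullback.lift_snd]

lemma bcMap_symmetry {A B : Over S} (φ : A ⟶ B) :
    bcMap f φ ≫ (pullbackSymmetry f B.hom).hom =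
      (pullbackSymmetry f A.hom).hom ≫ flipMap f φ := by
  apply pullback.hom_ext
  · rw [Category.assoc, Category.assoc, pullbackSymmetry_hom_comp_fst, bcMap_snd, flipMap_fst,
      pullbackSymmetry_hom_comp_fst_assoc]
  · rw [Category.assoc, Category.assoc, pullbackSymmetry_hom_comp_snd, bcMap_fst, flipMap_snd,
      pullbackSymmetry_hom_comp_snd]

variable {J : Type u} [SmallCategory J] (𝒟 : J ⥤ Over S) (𝒸 : Cone 𝒟)

instance isAffineHom_bcF_map [∀ {i j : J} (t : i ⟶ j), IsAffineHom (𝒟.map t).left]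
    {i j : J} (t : i ⟶ j) : IsAffineHom ((𝒟 ⋙ bcF f).map t) :=
  MorphismProperty.of_isPullback (P := @IsAffineHom) (isPullback_flipMap f (𝒟.map t))
    inferInstance

attribute [local instance] IsCofiltered.isConnected in
/-- The base change of a limit cone is a limit cone. -/
noncomputable def isLimitBcCone [IsCofiltered J] (h𝒸 : IsLimit 𝒸) :
    IsLimit ((bcF f).mapCone 𝒸) :=
  isLimitOfPreserves (bcF f) h𝒸

variable [IsCofiltered J]

/-- In the base change of a cofiltered limit (in `Over S`, with affine transition maps) along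
`f : X ⟶ S`, a compact set disjoint from a closed set is contained in the preimage of an open
of some stage which is still disjoint from the closed set. -/
theorem exists_opens_separating_pullback (h𝒸 : IsLimit 𝒸)
    [∀ {i j : J} (t : i ⟶ j), IsAffineHom (𝒟.map t).left]
    (K Z : Set ↥(pullback f 𝒸.pt.hom)) (hK : IsCompact K) (hZ : IsClosed Z) (hKZ : Disjoint K Z) :
    ∃ (j : J) (W : (pullback f (𝒟.obj j).hom).Opens),
      K ⊆ ((bcMap f (𝒸.π.app j) ⁻¹ᵁ W : (pullback f 𝒸.pt.hom).Opens) :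
        Set ↥(pullback f 𝒸.pt.hom)) ∧
      Disjoint ((bcMap f (𝒸.π.app j) ⁻¹ᵁ W : (pullback f 𝒸.pt.hom).Opens) :
        Set ↥(pullback f 𝒸.pt.hom)) Z := by
  let σ := pullbackSymmetry f 𝒸.pt.hom
  have hσ : ∀ x, σ.inv (σ.hom x) = x := fun x => by
    rw [← Scheme.Hom.comp_apply, Iso.hom_inv_id]; rfl
  obtain ⟨j, W', hKW, hWZ⟩ := exists_opens_separating (𝒟 ⋙ bcF f) ((bcF f).mapCone 𝒸)
    (isLimitBcCone f 𝒟 𝒸 h𝒸) (σ.hom '' K) (σ.inv ⁻¹' Z) (hK.image σ.hom.continuous)
    (hZ.preimage σ.inv.continuous) (by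
      rw [Set.disjoint_left]
      rintro _ ⟨x, hxK, rfl⟩ hxZ
      rw [Set.mem_preimage, hσ] at hxZ
      exact Set.disjoint_left.mp hKZ hxK hxZ)
  change (pullback (𝒟.obj j).hom f).Opens at W'
  change σ.hom '' K ⊆ ((flipMap f (𝒸.π.app j) ⁻¹ᵁ W' : (pullback 𝒸.pt.hom f).Opens) : Set ↥(pullback 𝒸.pt.hom f)) at hKW
  change Disjoint ((flipMap f (𝒸.π.app j) ⁻¹ᵁ W' : (pullback 𝒸.pt.hom f).Opens) : Set ↥(pullback 𝒸.pt.hom f)) _ at hWZ
  have hpre : bcMap f (𝒸.π.app j) ⁻¹ᵁ ((pullbackSymmetry f (𝒟.obj j).hom).hom ⁻¹ᵁ W') =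
      σ.hom ⁻¹ᵁ (flipMap f (𝒸.π.app j) ⁻¹ᵁ W') := by
    rw [← Scheme.Hom.comp_preimage, bcMap_symmetry, Scheme.Hom.comp_preimage]
    rfl
  refine ⟨j, (pullbackSymmetry f (𝒟.obj j).hom).hom ⁻¹ᵁ W', ?_, ?_⟩
  · rw [hpre]
    intro x hx
    exact hKW ⟨x, hx, rfl⟩
  · rw [hpre, Set.disjoint_left]
    intro x hx hxZ
    refine Set.disjoint_left.mp hWZ hx ?_
    change σ.inv (σ.hom x) ∈ Z
    rw [hσ]
    exact hxZ

end Groth.Agent.Lib.Helper93.LimitSeparateBC
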