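import Mathlib.AlgebraicGeometry.AffineTransitionLimit

/-!
# Descending finite quasi-compact open covers along cofiltered limits (helper93)
-/

set_option autoImplicit false
universe u

open CategoryTheory CategoryTheory.Limits AlgebraicGeometry TopologicalSpace

namespace Groth.Agent.Lib.Helper93.LimitZariskiCover

variable {I : Type u} [SmallCategory I] [IsCofiltered I] (D : I ⥤ Scheme.{u}) (c : Cone D)
  (hc : IsLimit c)

include hc in
/-- Finitely many quasi-compact opens of the limit come from a common level. -/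
theorem exists_preimage_eq_finset [∀ {i j} (f : i ⟶ j), IsAffineHom (D.map f)] {α : Type*}
    (t : Finset α) (O : α → c.pt.Opens) (hO : ∀ a, IsCompact (O a : Set c.pt)) :
    ∃ (i : I) (V : α → (D.obj i).Opens), ∀ a ∈ t, IsCompact (V a : Set (D.obj i)) ∧
      c.π.app i ⁻¹ᵁ V a = O a := by
  classical
  induction t using Finset.induction_on with
  | empty =>
    obtain ⟨i⟩ := IsCofiltered.nonempty (C := I)
    exact ⟨i, fun _ => ⊥, fun a ha => (Finset.notMem_empty a ha).elim⟩
  | insert a t _ ih =>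
    obtain ⟨i, V, hV⟩ := ih
    obtain ⟨ia, Va, hVa, hVa'⟩ := exists_preimage_eq D c hc (O a) (hO a)
    obtain ⟨k, f, g, -⟩ := IsCofilteredOrEmpty.cone_objs i ia
    refine ⟨k, fun b => if b = a then D.map g ⁻¹ᵁ Va else D.map f ⁻¹ᵁ V b, fun b hb => ?_⟩
    by_cases hba : b = a
    · subst hba
      simp only [if_true]
      refine ⟨QuasiCompact.isCompact_preimage (f := D.map g) _ Va.2 hVa, ?_⟩
      rw [← Scheme.Hom.comp_preimage, c.w, hVa']
    · simp only [if_neg hba]
      have hbt : b ∈ t := (Finset.mem_insert.mp hb).resolve_left hba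
      refine ⟨QuasiCompact.isCompact_preimage (f := D.map f) _ (V b).2 (hV b hbt).1, ?_⟩
      rw [← Scheme.Hom.comp_preimage, c.w, (hV b hbt).2]

include hc in
/-- A finite cover of the limit by quasi-compact opens descends to a finite cover by quasi-compact
opens at some level. -/
theorem exists_cover_descends [∀ {i j} (f : i ⟶ j), IsAffineHom (D.map f)]
    [∀ i, CompactSpace (D.obj i)] {α : Type*}
    (t : Finset α) (O : α → c.pt.Opens) (hO : ∀ a, IsCompact (O a : Set c.pt))
    (hcov : ⨆ a ∈ t, O a = ⊤) :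
    ∃ (i : I) (V : α → (D.obj i).Opens), (∀ a ∈ t, IsCompact (V a : Set (D.obj i)) ∧
      c.π.app i ⁻¹ᵁ V a = O a) ∧ ⨆ a ∈ t, V a = ⊤ := by
  obtain ⟨i, V, hV⟩ := exists_preimage_eq_finset D c hc t O hO
  have h1 : c.π.app i ⁻¹ᵁ (⨆ a ∈ t, V a) = ⊤ := by
    rw [← hcov, Scheme.Hom.preimage_iSup]
    refine iSup_congr fun a => ?_
    rw [Scheme.Hom.preimage_iSup]
    refine iSup_congr_Prop Iff.rfl fun ha => (hV a ha).2
  obtain ⟨k, f, hk⟩ := exists_map_eq_top D c hc _ h1
  refine ⟨k, fun a => D.map f ⁻¹ᵁ V a, fun a ha => ⟨?_, ?_⟩, ?_⟩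
  · exact QuasiCompact.isCompact_preimage (f := D.map f) _ (V a).2 (hV a ha).1
  · rw [← Scheme.Hom.comp_preimage, c.w, (hV a ha).2]
  · rw [← hk, Scheme.Hom.preimage_iSup]
    refine iSup_congr fun a => ?_
    rw [Scheme.Hom.preimage_iSup]

end Groth.Agent.Lib.Helper93.LimitZariskiCover
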