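import Mathlib

/-! Helper lemmas about linearly topologized vector spaces over a discrete field. -/

namespace Groth.Agent.Lib.Helper93.LinTop

open Topology

variable {k : Type*} {M : Type*} [Field k] [TopologicalSpace k] [DiscreteTopology k]
  [AddCommGroup M] [Module k M] [TopologicalSpace M] [IsTopologicalAddGroup M]

/-- A linear functional whose kernel contains an open submodule is continuous. -/
theorem continuous_of_open_le_ker (f : M →ₗ[k] k) (U : Submodule k M)
    (hU : IsOpen (U : Set M)) (hUf : U ≤ LinearMap.ker f) : Continuous f := by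
  have : Continuous f.toAddMonoidHom := by
    apply continuous_of_continuousAt_zero
    intro V hV
    rw [Filter.mem_map]
    have h0 : (0 : k) ∈ V := by
      have := mem_of_mem_nhds hV
      simpa using this
    refine Filter.mem_of_superset (hU.mem_nhds U.zero_mem) ?_
    intro y hy
    have : f y = 0 := hUf hy
    simp [this, h0]
  exact this

/-- In a linearly topologized module, a point outside a closed submodule is separated from it
by an open submodule. -/
theorem exists_open_submodule_sup_notMem [IsLinearTopology k M]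
    (M₁ : Submodule k M) (hM₁ : IsClosed (M₁ : Set M)) (x : M) (hx : x ∉ M₁) :
    ∃ U : Submodule k M, IsOpen (U : Set M) ∧ x ∉ M₁ ⊔ U := by
  have hopen : IsOpen ((M₁ : Set M)ᶜ) := hM₁.isOpen_compl
  have hnhds : (fun y : M => x + y) ⁻¹' ((M₁ : Set M)ᶜ) ∈ 𝓝 (0 : M) := by
    have hc : Continuous (fun y : M => x + y) := continuous_const.add continuous_id
    apply hc.continuousAt
    simpa using hopen.mem_nhds hx
  obtain ⟨U, hU, hUsub⟩ := (IsLinearTopology.hasBasis_open_submodule k (M := M)).mem_iff.mp hnhds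
  refine ⟨U, hU, ?_⟩
  intro hmem
  obtain ⟨m, hm, u, hu, rfl⟩ := Submodule.mem_sup.mp hmem
  have h1 : -u ∈ (U : Set M) := U.neg_mem hu
  have h2 := hUsub h1
  simp only [Set.mem_preimage, Set.mem_compl_iff, SetLike.mem_coe] at h2
  apply h2
  simpa using hm

end Groth.Agent.Lib.Helper93.LinTop

namespace Groth.Agent.Lib.Helper93.LinTop

open Topology

variable {k : Type*} {M : Type*} [Field k] [TopologicalSpace k] [DiscreteTopology k]
  [AddCommGroup M] [Module k M] [TopologicalSpace M] [IsTopologicalAddGroup M]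

/-- Extension of a continuous functional from a submodule (with the subspace topology) to the
whole linearly topologized space. -/
theorem exists_extension [IsLinearTopology k M] (M₂ : Submodule k M) (ψ : M₂ →L[k] k) :
    ∃ φ : M →L[k] k, ∀ m : M₂, φ (m : M) = ψ m := by
  -- the kernel of ψ is open in M₂
  have hker : IsOpen ((ψ : M₂ → k) ⁻¹' {0}) := (isOpen_discrete _).preimage ψ.continuous
  obtain ⟨V, hV, hVker⟩ := isOpen_induced_iff.mp hker
  have hV0 : V ∈ 𝓝 (0 : M) := by
    apply hV.mem_nhds
    have : (0 : M₂) ∈ Subtype.val ⁻¹' V := by rw [hVker]; simp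
    simpa using this
  obtain ⟨U, hU, hUV⟩ := (IsLinearTopology.hasBasis_open_submodule k (M := M)).mem_iff.mp hV0
  -- the induced map on quotients
  let U₂ : Submodule k M₂ := U.comap M₂.subtype
  have hU₂ : U₂ ≤ LinearMap.ker (ψ : M₂ →ₗ[k] k) := by
    intro m hm
    have h1 : (m : M) ∈ V := hUV hm
    have h2 : m ∈ Subtype.val ⁻¹' V := h1
    rw [hVker] at h2
    simpa using h2
  let ψbar : (M₂ ⧸ U₂) →ₗ[k] k := U₂.liftQ (ψ : M₂ →ₗ[k] k) hU₂
  let ι : (M₂ ⧸ U₂) →ₗ[k] (M ⧸ U) := U₂.mapQ U M₂.subtype (le_refl _)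
  have hι : Function.Injective ι := by
    rw [← LinearMap.ker_eq_bot]
    rw [Submodule.ker_mapQ] 
    simp [U₂]
  obtain ⟨g, hg⟩ := LinearMap.exists_leftInverse_of_injective ι (LinearMap.ker_eq_bot.mpr hι)
  let φ : M →ₗ[k] k := ψbar ∘ₗ g ∘ₗ U.mkQ
  have hφ : Continuous φ := by
    apply continuous_of_open_le_ker φ U hU
    intro u hu
    simp [φ, (Submodule.Quotient.mk_eq_zero U).mpr hu]
  refine ⟨⟨φ, hφ⟩, fun m => ?_⟩
  change ψbar (g (U.mkQ (m : M))) = ψ m
  have h1 : U.mkQ (m : M) = ι (U₂.mkQ m) := by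
    simp [ι]
  rw [h1]
  have h2 : g (ι (U₂.mkQ m)) = U₂.mkQ m := by
    have := congrArg (fun h => h (U₂.mkQ m)) hg
    simpa using this
  rw [h2]
  simp [ψbar]

end Groth.Agent.Lib.Helper93.LinTop
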