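import Groth.Agent.Lib.Helper93.LocPullback
import Mathlib.CategoryTheory.Limits.Constructions.LimitsOfProductsAndEqualizers

/-!
# Finite limits in a localization with a right calculus of fractions (helper93)

If `C` has a terminal object and every cospan of morphisms of `C` has a pullback in the localization
`D`, then `D` has finite limits.
-/

set_option autoImplicit false
universe v₁ v₂ u₁ u₂

open CategoryTheory CategoryTheory.Limits

namespace Groth.Agent.Lib.Helper93.LocFiniteLimits

variable {C : Type u₁} [Category.{v₁} C] (W : MorphismProperty C) [W.HasRightCalculusOfFractions]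
  {D : Type u₂} [Category.{v₂} D] (L : C ⥤ D) [L.IsLocalization W]

/-- The image of a terminal object is terminal in the localization. -/
noncomputable def isTerminalObj (T : C) (hT : IsTerminal T) : IsTerminal (L.obj T) := by
  have hess := Localization.essSurj L W
  have hsub : ∀ A : D, Subsingleton (A ⟶ L.obj T) := by
    intro A
    constructor
    intro α β
    let i : L.obj (L.objPreimage A) ≅ A := L.objObjPreimageIso A
    obtain ⟨Z', s, hs, a, b, ha, hb⟩ :=
      Groth.Agent.Lib.Helper93.LocPullback.exists_common_den W L (i.hom ≫ α) (i.hom ≫ β)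
    have : IsIso (L.map s) := Localization.inverts L W _ hs
    have hab : a = b := hT.hom_ext _ _
    rw [← cancel_epi i.hom, ← cancel_epi (L.map s), ha, hb, hab]
  have hne : ∀ A : D, Nonempty (A ⟶ L.obj T) := by
    intro A
    let i : L.obj (L.objPreimage A) ≅ A := L.objObjPreimageIso A
    exact ⟨i.inv ≫ L.map (hT.from _)⟩
  exact IsTerminal.ofUniqueHom (fun A => (hne A).some) (fun A m => (hsub A).elim _ _)

include W in
/-- If all cospans coming from `C` have pullbacks in the localization, it has pullbacks. -/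
theorem hasPullbacks_of_map
    (hpb : ∀ {X T P : C} (f : X ⟶ P) (g : T ⟶ P), HasPullback (L.map f) (L.map g)) :
    HasPullbacks D := by
  have hess := Localization.essSurj L W
  suffices h : ∀ {A B Cc : D} {α : A ⟶ Cc} {β : B ⟶ Cc}, HasLimit (cospan α β) from
    hasPullbacks_of_hasLimit_cospan D
  intro A B Cc α β
  let iA : L.obj (L.objPreimage A) ≅ A := L.objObjPreimageIso A
  let iB : L.obj (L.objPreimage B) ≅ B := L.objObjPreimageIso B
  let iC : L.obj (L.objPreimage Cc) ≅ Cc := L.objObjPreimageIso Cc
  obtain ⟨ψ₁, h₁⟩ := Localization.exists_rightFraction L W (iA.hom ≫ α ≫ iC.inv)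
  obtain ⟨ψ₂, h₂⟩ := Localization.exists_rightFraction L W (iB.hom ≫ β ≫ iC.inv)
  have i1 : IsIso (L.map ψ₁.s) := Localization.inverts L W _ ψ₁.hs
  have i2 : IsIso (L.map ψ₂.s) := Localization.inverts L W _ ψ₂.hs
  have e₁ : L.map ψ₁.f = L.map ψ₁.s ≫ iA.hom ≫ α ≫ iC.inv := by
    rw [h₁, MorphismProperty.RightFraction.map_s_comp_map]
  have e₂ : L.map ψ₂.f = L.map ψ₂.s ≫ iB.hom ≫ β ≫ iC.inv := by
    rw [h₂, MorphismProperty.RightFraction.map_s_comp_map]
  have := hpb ψ₁.f ψ₂.f
  refine hasLimit_of_iso (F := cospan (L.map ψ₁.f) (L.map ψ₂.f))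
    (cospanExt (asIso (L.map ψ₁.s) ≪≫ iA) (asIso (L.map ψ₂.s) ≪≫ iB) iC ?_ ?_)
  · rw [e₁]
    simp
  · rw [e₂]
    simp

include W in
/-- Finite limits in the localization. -/
theorem hasFiniteLimits (T : C) (hT : IsTerminal T)
    (hpb : ∀ {X T P : C} (f : X ⟶ P) (g : T ⟶ P), HasPullback (L.map f) (L.map g)) :
    HasFiniteLimits D := by
  have h1 : HasTerminal D := (isTerminalObj W L T hT).hasTerminal
  have h2 : HasPullbacks D := hasPullbacks_of_map W L hpb
  exact hasFiniteLimits_of_hasTerminal_and_pullbacks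

end Groth.Agent.Lib.Helper93.LocFiniteLimits
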