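import Mathlib.CategoryTheory.Localization.CalculusOfFractions
import Mathlib.CategoryTheory.Limits.Shapes.Pullback.IsPullback.Basic

/-!
# Pullback squares in a localization with a right calculus of fractions (helper93)

A commutative square in `C` which has the lifting property up to `W` and is jointly monic becomes
a pullback square in the localization.
-/

set_option autoImplicit false
set_option linter.unusedSectionVars false
universe v₁ v₂ u₁ u₂

open CategoryTheory CategoryTheory.Limits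

namespace Groth.Agent.Lib.Helper93.LocPullback

variable {C : Type u₁} [Category.{v₁} C] (W : MorphismProperty C) [W.HasRightCalculusOfFractions]
  {D : Type u₂} [Category.{v₂} D] (L : C ⥤ D) [L.IsLocalization W]

/-- Two morphisms with the same source, between images of objects, have a common denominator. -/
theorem exists_common_den {Z A B : C} (α : L.obj Z ⟶ L.obj A) (β : L.obj Z ⟶ L.obj B) :
    ∃ (Z' : C) (s : Z' ⟶ Z) (_ : W s) (a : Z' ⟶ A) (b : Z' ⟶ B),
      L.map s ≫ α = L.map a ∧ L.map s ≫ β = L.map b := by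
  obtain ⟨ψ₁, rfl⟩ := Localization.exists_rightFraction L W α
  obtain ⟨ψ₂, rfl⟩ := Localization.exists_rightFraction L W β
  obtain ⟨ψ, hψ⟩ := MorphismProperty.HasRightCalculusOfFractions.exists_rightFraction
    (W := W) (MorphismProperty.LeftFraction.mk ψ₂.s ψ₁.s ψ₁.hs)
  dsimp at hψ
  refine ⟨ψ.X', ψ.s ≫ ψ₂.s, W.comp_mem _ _ ψ.hs ψ₂.hs, ψ.f ≫ ψ₁.f, ψ.s ≫ ψ₂.f, ?_, ?_⟩
  · rw [hψ, L.map_comp, Category.assoc, MorphismProperty.RightFraction.map_s_comp_map,
      ← L.map_comp]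
  · rw [L.map_comp, Category.assoc, MorphismProperty.RightFraction.map_s_comp_map,
      ← L.map_comp]

variable {Y T X P : C} (prT : Y ⟶ T) (prX : Y ⟶ X) (g : T ⟶ P) (f : X ⟶ P)
  (comm : prT ≫ g = prX ≫ f)
  (lift : ∀ (Z : C) (a : Z ⟶ T) (b : Z ⟶ X), a ≫ g = b ≫ f →
     ∃ (Z₂ : C) (r : Z₂ ⟶ Z) (_ : W r) (c : Z₂ ⟶ Y), c ≫ prT = r ≫ a ∧ c ≫ prX = r ≫ b)
  (mono : ∀ (Z : C) (c c' : Z ⟶ Y), c ≫ prT = c' ≫ prT → c ≫ prX = c' ≫ prX → c = c')

include lift in
theorem exists_of_map (Z : C) (a : Z ⟶ T) (b : Z ⟶ X)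
    (h : L.map a ≫ L.map g = L.map b ≫ L.map f) :
    ∃ γ : L.obj Z ⟶ L.obj Y, γ ≫ L.map prT = L.map a ∧ γ ≫ L.map prX = L.map b := by
  rw [← L.map_comp, ← L.map_comp, MorphismProperty.map_eq_iff_precomp L W] at h
  obtain ⟨Z', t, ht, fac⟩ := h
  obtain ⟨Z₂, r, hr, c, hc1, hc2⟩ := lift Z' (t ≫ a) (t ≫ b) (by
    rw [Category.assoc, Category.assoc, fac])
  have hs : W (r ≫ t) := W.comp_mem _ _ hr ht
  have : IsIso (L.map (r ≫ t)) := Localization.inverts L W _ hs
  refine ⟨inv (L.map (r ≫ t)) ≫ L.map c, ?_, ?_⟩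
  · rw [Category.assoc, ← L.map_comp, hc1, ← Category.assoc, L.map_comp (r ≫ t) a,
      IsIso.inv_hom_id_assoc]
  · rw [Category.assoc, ← L.map_comp, hc2, ← Category.assoc, L.map_comp (r ≫ t) b,
      IsIso.inv_hom_id_assoc]

include lift in
theorem exists_lift (Z : C) (α : L.obj Z ⟶ L.obj T) (β : L.obj Z ⟶ L.obj X)
    (h : α ≫ L.map g = β ≫ L.map f) :
    ∃ γ : L.obj Z ⟶ L.obj Y, γ ≫ L.map prT = α ∧ γ ≫ L.map prX = β := by
  obtain ⟨Z', s, hs, a, b, ha, hb⟩ := exists_common_den W L α β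
  have : IsIso (L.map s) := Localization.inverts L W _ hs
  obtain ⟨γ₀, h1, h2⟩ := exists_of_map W L prT prX g f lift Z' a b (by
    rw [← ha, ← hb, Category.assoc, Category.assoc, h])
  refine ⟨inv (L.map s) ≫ γ₀, ?_, ?_⟩
  · rw [Category.assoc, h1, ← ha, IsIso.inv_hom_id_assoc]
  · rw [Category.assoc, h2, ← hb, IsIso.inv_hom_id_assoc]

include W mono in
theorem lift_unique (Z : C) (γ γ' : L.obj Z ⟶ L.obj Y)
    (h1 : γ ≫ L.map prT = γ' ≫ L.map prT) (h2 : γ ≫ L.map prX = γ' ≫ L.map prX) : γ = γ' := by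
  obtain ⟨Z', s, hs, c, c', hc, hc'⟩ := exists_common_den W L γ γ'
  have : IsIso (L.map s) := Localization.inverts L W _ hs
  have e1 : L.map (c ≫ prT) = L.map (c' ≫ prT) := by
    rw [L.map_comp, L.map_comp, ← hc, ← hc', Category.assoc, Category.assoc, h1]
  obtain ⟨Z₁, t₁, ht₁, fac₁⟩ := (MorphismProperty.map_eq_iff_precomp L W _ _).mp e1
  have e2 : L.map (t₁ ≫ c ≫ prX) = L.map (t₁ ≫ c' ≫ prX) := by
    rw [L.map_comp, L.map_comp, L.map_comp t₁, L.map_comp c', ← hc, ← hc', Category.assoc,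
      Category.assoc, h2]
  obtain ⟨Z₂, t₂, ht₂, fac₂⟩ := (MorphismProperty.map_eq_iff_precomp L W _ _).mp e2
  have hv : W (t₂ ≫ t₁) := W.comp_mem _ _ ht₂ ht₁
  have : IsIso (L.map (t₂ ≫ t₁)) := Localization.inverts L W _ hv
  have hcc : (t₂ ≫ t₁) ≫ c = (t₂ ≫ t₁) ≫ c' := by
    apply mono
    · simp only [Category.assoc]; rw [fac₁]
    · simp only [Category.assoc]; exact fac₂
  have hLc : L.map c = L.map c' := by
    rw [← cancel_epi (L.map (t₂ ≫ t₁)), ← L.map_comp, ← L.map_comp, hcc]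
  rw [← cancel_epi (L.map s), hc, hc', hLc]

include comm lift mono in
/-- The square becomes a pullback square in the localization. -/
theorem isPullback : IsPullback (L.map prT) (L.map prX) (L.map g) (L.map f) := by
  have hess := Localization.essSurj L W
  have w : L.map prT ≫ L.map g = L.map prX ≫ L.map f := by
    rw [← L.map_comp, ← L.map_comp, comm]
  have key : ∀ s : PullbackCone (L.map g) (L.map f),
      ∃ γ : s.pt ⟶ L.obj Y, γ ≫ L.map prT = s.fst ∧ γ ≫ L.map prX = s.snd := by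
    intro s
    let i : L.obj (L.objPreimage s.pt) ≅ s.pt := L.objObjPreimageIso s.pt
    obtain ⟨γ, h1, h2⟩ := exists_lift W L prT prX g f lift _ (i.hom ≫ s.fst) (i.hom ≫ s.snd)
      (by rw [Category.assoc, Category.assoc, s.condition])
    refine ⟨i.inv ≫ γ, ?_, ?_⟩
    · rw [Category.assoc, h1, Iso.inv_hom_id_assoc]
    · rw [Category.assoc, h2, Iso.inv_hom_id_assoc]
  refine ⟨⟨w⟩, ⟨PullbackCone.IsLimit.mk w (fun s => (key s).choose)
    (fun s => (key s).choose_spec.1) (fun s => (key s).choose_spec.2) ?_⟩⟩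
  intro s m hm1 hm2
  let i : L.obj (L.objPreimage s.pt) ≅ s.pt := L.objObjPreimageIso s.pt
  have := lift_unique W L prT prX mono _ (i.hom ≫ m) (i.hom ≫ (key s).choose)
    (by rw [Category.assoc, Category.assoc, hm1, (key s).choose_spec.1])
    (by rw [Category.assoc, Category.assoc, hm2, (key s).choose_spec.2])
  exact (cancel_epi i.hom).mp this

end Groth.Agent.Lib.Helper93.LocPullback
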