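import Groth.Prelude.Def_W4c6modpairsegaMP
import Groth.Agent.Lib.Helper93.IdealClopenCover
import Mathlib.AlgebraicGeometry.Limits
import Mathlib.CategoryTheory.Limits.Preserves.Shapes.Products

/-!
# Coproducts of modulus pairs (helper93)

Given a scheme `Y` covered by pairwise disjoint open immersions `ι i : (P i).total ⟶ Y` which form
a colimit cofan of schemes, there is a modulus on `Y` restricting to the moduli of the `P i`, and
the resulting pair is the coproduct of the `P i` in the category of modulus pairs.
-/

set_option autoImplicit false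
universe u

open CategoryTheory CategoryTheory.Limits AlgebraicGeometry TopologicalSpace

namespace Groth.Agent.Lib.Helper93.ModPairCoprod

open Groth.Agent.Lib.Helper93.IdealClopenCover

variable {σ : Type*} (P : σ → ModPair.Pair.{u}) (c : Cofan fun i => (P i).total)
  (hc : IsColimit c) [∀ i, IsOpenImmersion (c.inj i)]
  (hcov : ⨆ i, (c.inj i).opensRange = ⊤)
  (hdisj : ∀ i j, i ≠ j → Disjoint ((c.inj i).opensRange : Set c.pt) ((c.inj j).opensRange : Set c.pt))

/-- The modulus on the coproduct. -/
noncomputable def modulus : c.pt.IdealSheafData :=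
  (exists_comap_eq (fun i => c.inj i) hcov hdisj (fun i => (P i).mod)).choose

theorem modulus_comap (i : σ) : (modulus P c hcov hdisj).comap (c.inj i) = (P i).mod :=
  (exists_comap_eq (fun i => c.inj i) hcov hdisj (fun i => (P i).mod)).choose_spec i

theorem isEffCartierIdeal_modulus : BlowUp.IsEffCartierIdeal (modulus P c hcov hdisj) := by
  refine isEffCartierIdeal_of_comap (fun i => c.inj i) hcov _ fun i => ?_
  rw [modulus_comap]
  exact (P i).isEffCartier

/-- The coproduct pair. -/
noncomputable def coprodPair : ModPair.Pair.{u} :=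
  ⟨c.pt, modulus P c hcov hdisj, isEffCartierIdeal_modulus P c hcov hdisj⟩

/-- The coprojections. -/
noncomputable def injHom (i : σ) : P i ⟶ coprodPair P c hcov hdisj :=
  ⟨c.inj i, (modulus_comap P c hcov hdisj i).ge⟩

/-- The cofan of pairs. -/
noncomputable def cofan : Cofan P := Cofan.mk (coprodPair P c hcov hdisj) (injHom P c hcov hdisj)

include hc in
theorem isAmbient_desc (t : Cofan P) :
    ModPair.IsAmbient (modulus P c hcov hdisj) t.pt.mod
      (Cofan.IsColimit.desc hc fun i => (t.inj i).hom) := by
  change modulus P c hcov hdisj ≤ _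
  refine le_of_comap_le (fun i => c.inj i) hcov fun i => ?_
  rw [modulus_comap, ← Scheme.IdealSheafData.comap_comp, Cofan.IsColimit.fac]
  exact (t.inj i).cond

/-- The cofan of pairs is a colimit. -/
noncomputable def isColimit : IsColimit (cofan P c hcov hdisj) :=
  Cofan.IsColimit.mk _
    (fun t => ⟨Cofan.IsColimit.desc hc fun i => (t.inj i).hom, isAmbient_desc P c hc hcov hdisj t⟩)
    (fun t j => by
      apply ModPair.Pair.Hom.ext
      exact Cofan.IsColimit.fac hc _ j)
    (fun t m hm => by
      apply ModPair.Pair.Hom.ext
      refine Cofan.IsColimit.hom_ext hc _ _ fun i => ?_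
      rw [Cofan.IsColimit.fac]
      exact congrArg ModPair.Pair.Hom.hom (hm i))

/-- The total-space functor sends the cofan of pairs to the given cofan of schemes. -/
noncomputable def isColimitMapCocone :
    IsColimit (ModPair.Pair.forget.mapCocone (cofan P c hcov hdisj)) where
  desc s := Cofan.IsColimit.desc hc (fun i => (s.ι.app ⟨i⟩ : (P i).total ⟶ s.pt))
  fac s := by
    rintro ⟨i⟩
    exact Cofan.IsColimit.fac hc _ i
  uniq s m hm := by
    refine Cofan.IsColimit.hom_ext hc _ _ fun i => ?_
    rw [Cofan.IsColimit.fac]
    exact hm ⟨i⟩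

end Groth.Agent.Lib.Helper93.ModPairCoprod
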