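import Groth.Agent.Lib.Helper93.ModPairInterior
import Mathlib.AlgebraicGeometry.Morphisms.ClosedImmersion

/-!
# Scheme-theoretic images of interiors and products of modulus pairs (helper93)
-/

set_option autoImplicit false
universe u

open CategoryTheory CategoryTheory.Limits AlgebraicGeometry TopologicalSpace

namespace Groth.Agent.Lib.Helper93.ModPairProd

open Groth.Agent.Lib.Helper93.ModPairInterior Groth.Agent.Lib.Helper18

section Image

variable {X Y : Scheme.{u}}

/-- The map to the scheme-theoretic image of a quasi-compact morphism is scheme-theoretically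
dominant. -/
theorem isSchemeTheoreticallyDominant_toImage (f : X ⟶ Y) [QuasiCompact f] :
    IsSchemeTheoreticallyDominant f.toImage := by
  rw [isSchemeTheoreticallyDominant_iff]
  have hcov : ⨆ U : Y.affineOpens, (f.imageι ⁻¹ᵁ U.1) = ⊤ := by
    rw [eq_top_iff]
    intro z _
    have hz : f.imageι z ∈ (⊤ : Y.Opens) := trivial
    rw [← iSup_affineOpens_eq_top Y] at hz
    obtain ⟨U, hU⟩ := TopologicalSpace.Opens.mem_iSup.mp hz
    exact TopologicalSpace.Opens.mem_iSup.mpr ⟨U, hU⟩
  refine Scheme.IdealSheafData.ext_of_iSup_eq_top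
    (fun U : Y.affineOpens => ⟨f.imageι ⁻¹ᵁ U.1, U.2.preimage f.imageι⟩) hcov ?_
  intro U
  rw [Scheme.Hom.ker_apply, Scheme.IdealSheafData.ideal_bot, Pi.bot_apply]
  exact (RingHom.injective_iff_ker_eq_bot _).mp (f.toImage_app_injective U)

/-- For an open `U` with quasi-compact inclusion, `U` is scheme-theoretically dense in its
scheme-theoretic image. -/
theorem isSchemeTheoreticallyDominant_ι_preimage_imageι (U : Y.Opens) [QuasiCompact U.ι] :
    IsSchemeTheoreticallyDominant (U.ι.imageι ⁻¹ᵁ U).ι := by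
  have hT := isSchemeTheoreticallyDominant_toImage U.ι
  have hrange : Set.range U.ι.toImage ⊆ Set.range (U.ι.imageι ⁻¹ᵁ U).ι := by
    rintro _ ⟨y, rfl⟩
    rw [Scheme.Opens.range_ι]
    change U.ι.imageι (U.ι.toImage y) ∈ U
    rw [← Scheme.Hom.comp_apply, Scheme.Hom.toImage_imageι]
    exact y.2
  let k := IsOpenImmersion.lift (U.ι.imageι ⁻¹ᵁ U).ι U.ι.toImage hrange
  have hk : k ≫ (U.ι.imageι ⁻¹ᵁ U).ι = U.ι.toImage := IsOpenImmersion.lift_fac _ _ _
  rw [isSchemeTheoreticallyDominant_iff, eq_bot_iff]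
  calc (U.ι.imageι ⁻¹ᵁ U).ι.ker ≤ (k ≫ (U.ι.imageι ⁻¹ᵁ U).ι).ker := Scheme.Hom.le_ker_comp _ _
    _ = ⊥ := by rw [hk]; exact hT.ker_eq_bot

end Image

section Interior

variable {X Y : Scheme.{u}}

/-- An ambient morphism maps the interior into the interior. -/
theorem interior_le_preimage_of_isAmbient (I : X.IdealSheafData) (J : Y.IdealSheafData)
    (f : X ⟶ Y) (h : ModPair.IsAmbient I J f) :
    ModPair.interior I ≤ f ⁻¹ᵁ ModPair.interior J := by
  intro x hx
  have hx1 : x ∉ I.support := hx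
  change f x ∉ J.support
  intro hx2
  have hx3 : x ∈ (J.comap f).support := by
    rw [Scheme.IdealSheafData.support_comap]
    exact hx2
  exact hx1 (Scheme.IdealSheafData.support_antitone h hx3)

/-- For a minimal morphism the interior is the preimage of the interior. -/
theorem interior_eq_preimage_of_isMinimal (I : X.IdealSheafData) (J : Y.IdealSheafData)
    (f : X ⟶ Y) (h : ModPair.IsMinimal I J f) :
    ModPair.interior I = f ⁻¹ᵁ ModPair.interior J := by
  apply le_antisymm (interior_le_preimage_of_isAmbient I J f (le_of_eq h))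
  intro x hx
  have hx1 : f x ∉ J.support := hx
  change x ∉ I.support
  intro hx2
  rw [h, Scheme.IdealSheafData.support_comap] at hx2
  exact hx1 hx2

/-- Version of pulling back an effective Cartier ideal along a morphism for which the preimage
of the interior is scheme-theoretically dense. -/
theorem isEffCartierIdeal_comap_of_dominant (I : Y.IdealSheafData)
    (hI : BlowUp.IsEffCartierIdeal I) (f : X ⟶ Y)
    [IsSchemeTheoreticallyDominant (f ⁻¹ᵁ ModPair.interior I).ι] :
    BlowUp.IsEffCartierIdeal (I.comap f) := by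
  intro x
  obtain ⟨V, hxV, b, hb, hV⟩ := hI (f x)
  obtain ⟨U, hU, hxU, hUV⟩ := TopologicalSpace.Opens.isBasis_iff_nbhd.mp X.isBasis_affineOpens
    (show x ∈ f ⁻¹ᵁ V.1 from hxV)
  refine ⟨⟨U, hU⟩, hxU, (f.appLE V.1 U hUV).hom b, ?_, ?_⟩
  · exact appLE_generator_mem_nonZeroDivisors I hI f V b hV U hUV
  · rw [ideal_comap_of_le f I ⟨U, hU⟩ V hUV, hV, Ideal.map_span, Set.image_singleton]

end Interior

section Prod

variable {S T X : Scheme.{u}}

/-- If `p` is ambient and `f` minimal, the product interior is the preimage of the interior of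
the first factor. -/
theorem prodInterior_eq_fst (IS : S.IdealSheafData) (IT : T.IdealSheafData)
    (IX : X.IdealSheafData) (p : X ⟶ S) (hp : ModPair.IsAmbient IX IS p) (f : T ⟶ S)
    (hf : ModPair.IsMinimal IT IS f) :
    ModPair.prodInterior p f IX IT = pullback.fst p f ⁻¹ᵁ ModPair.interior IX := by
  apply le_antisymm inf_le_left
  refine le_inf le_rfl ?_
  rw [interior_eq_preimage_of_isMinimal IT IS f hf, ← Scheme.Hom.comp_preimage,
    ← pullback.condition, Scheme.Hom.comp_preimage]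
  intro z hz
  exact interior_le_preimage_of_isAmbient IX IS p hp hz

/-- If `s` is minimal and `g` ambient, the product interior is the preimage of the interior of
the second factor. -/
theorem prodInterior_eq_snd (IS : S.IdealSheafData) (IT : T.IdealSheafData)
    (IX : X.IdealSheafData) (s : X ⟶ S) (hs : ModPair.IsMinimal IX IS s) (g : T ⟶ S)
    (hg : ModPair.IsAmbient IT IS g) :
    ModPair.prodInterior s g IX IT = pullback.snd s g ⁻¹ᵁ ModPair.interior IT := by
  apply le_antisymm inf_le_right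
  refine le_inf ?_ le_rfl
  rw [interior_eq_preimage_of_isMinimal IX IS s hs, ← Scheme.Hom.comp_preimage,
    pullback.condition, Scheme.Hom.comp_preimage]
  intro z hz
  exact interior_le_preimage_of_isAmbient IT IS g hg hz

end Prod

section ImageRestrict

variable {Y : Scheme.{u}}

/-- The closed immersion of the scheme-theoretic image of an open `U` is an isomorphism over any
open contained in `U`. -/
theorem isIso_imageι_restrict (U V : Y.Opens) (hVU : V ≤ U) : IsIso (U.ι.imageι ∣_ V) := by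
  have hrange : Set.range (Y.homOfLE hVU ≫ U.ι.toImage) ⊆ Set.range (U.ι.imageι ⁻¹ᵁ V).ι := by
    rintro _ ⟨y, rfl⟩
    rw [Scheme.Opens.range_ι]
    change U.ι.imageι ((Y.homOfLE hVU ≫ U.ι.toImage) y) ∈ V
    rw [← Scheme.Hom.comp_apply, Category.assoc, Scheme.Hom.toImage_imageι, Scheme.homOfLE_ι]
    exact y.2
  let k := IsOpenImmersion.lift (U.ι.imageι ⁻¹ᵁ V).ι (Y.homOfLE hVU ≫ U.ι.toImage) hrange
  have hk : k ≫ (U.ι.imageι ⁻¹ᵁ V).ι = Y.homOfLE hVU ≫ U.ι.toImage :=
    IsOpenImmersion.lift_fac _ _ _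
  have hsec : k ≫ (U.ι.imageι ∣_ V) = 𝟙 _ := by
    rw [← cancel_mono V.ι, Category.assoc, morphismRestrict_ι, ← Category.assoc, hk,
      Category.assoc, Scheme.Hom.toImage_imageι, Scheme.homOfLE_ι, Category.id_comp]
  have : IsSplitEpi (U.ι.imageι ∣_ V) := ⟨⟨k, hsec⟩⟩
  have : Mono (U.ι.imageι ∣_ V) := inferInstance
  exact isIso_of_mono_of_isSplitEpi _

end ImageRestrict

section Ext

variable {X Y Z W : Scheme.{u}}

/-- Two morphisms to a scheme separated over `Z`, agreeing over `Z` and on a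
scheme-theoretically dense subscheme, are equal. -/
theorem ext_of_isSchemeTheoreticallyDominant_of_isSeparated {f g : X ⟶ Y}
    (s : Y ⟶ Z) [IsSeparated s] (h : f ≫ s = g ≫ s)
    (ι : W ⟶ X) [IsSchemeTheoreticallyDominant ι] (hU : ι ≫ f = ι ≫ g) : f = g := by
  let X' : Over Z := Over.mk (f ≫ s)
  let Y' : Over Z := Over.mk s
  let U' : Over Z := Over.mk (ι ≫ f ≫ s)
  let f' : X' ⟶ Y' := Over.homMk f
  let g' : X' ⟶ Y' := Over.homMk g h.symm
  let ι' : U' ⟶ X' := Over.homMk ι
  have : IsSeparated Y'.hom := ‹_›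
  have hlift : ι' ≫ f' = ι' ≫ g' := by ext1; exact hU
  have hfac : (equalizer.lift ι' hlift).left ≫ (equalizer.ι f' g').left = ι := by
    rw [← Over.comp_left, equalizer.lift_ι]; rfl
  have hker : (equalizer.ι f' g').left.ker = ⊥ := by
    rw [eq_bot_iff]
    calc (equalizer.ι f' g').left.ker
        ≤ ((equalizer.lift ι' hlift).left ≫ (equalizer.ι f' g').left).ker :=
          Scheme.Hom.le_ker_comp _ _
      _ = ⊥ := by rw [hfac]; exact IsSchemeTheoreticallyDominant.ker_eq_bot ι
  have : IsIso (equalizer.ι f' g').left := IsClosedImmersion.isIso_iff_ker_eq_bot.mpr hker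
  rw [← cancel_epi (equalizer.ι f' g').left]
  exact congr($(equalizer.condition f' g').left)

end Ext

section AdmBlowup

variable {X Y Z : Scheme.{u}}

theorem isAdmBlowup_id (I : X.IdealSheafData) : ModPair.IsAdmBlowup I I (𝟙 X) := by
  refine ⟨(Scheme.IdealSheafData.comap_id I).symm, inferInstance, ?_⟩
  infer_instance

theorem isAdmBlowup_comp (I : X.IdealSheafData) (J : Y.IdealSheafData) (K : Z.IdealSheafData)
    (f : X ⟶ Y) (g : Y ⟶ Z) (hf : ModPair.IsAdmBlowup I J f) (hg : ModPair.IsAdmBlowup J K g) :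
    ModPair.IsAdmBlowup I K (f ≫ g) := by
  obtain ⟨hf1, hf2, hf3⟩ := hf
  obtain ⟨hg1, hg2, hg3⟩ := hg
  refine ⟨?_, inferInstance, ?_⟩
  · change I = K.comap (f ≫ g)
    rw [Scheme.IdealSheafData.comap_comp, ← hg1]
    exact hf1
  · rw [morphismRestrict_comp]
    have h1 : IsIso (f ∣_ g ⁻¹ᵁ ModPair.interior K) := by
      rw [← interior_eq_preimage_of_isMinimal J K g hg1]
      exact hf3
    exact IsIso.comp_isIso' h1 hg3

/-- Ambient morphisms into the source of an admissible blow-up are determined by their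
composite with the blow-up. -/
theorem hom_ext_of_isAdmBlowup (I : X.IdealSheafData) (hI : BlowUp.IsEffCartierIdeal I)
    (J : Y.IdealSheafData) (K : Z.IdealSheafData)
    (f₁ f₂ : X ⟶ Y) (h₁ : ModPair.IsAmbient I J f₁) (h₂ : ModPair.IsAmbient I J f₂)
    (s : Y ⟶ Z) (hs : ModPair.IsAdmBlowup J K s) (h : f₁ ≫ s = f₂ ≫ s) : f₁ = f₂ := by
  obtain ⟨hs1, hs2, hs3⟩ := hs
  have hdom : IsSchemeTheoreticallyDominant (ModPair.interior I).ι :=
    isSchemeTheoreticallyDominant_ι_interior I hI
  have hJ := interior_eq_preimage_of_isMinimal J K s hs1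
  refine ext_of_isSchemeTheoreticallyDominant_of_isSeparated s h (ModPair.interior I).ι ?_
  have hr : ∀ (φ : X ⟶ Y), ModPair.IsAmbient I J φ →
      Set.range ((ModPair.interior I).ι ≫ φ) ⊆ Set.range (s ⁻¹ᵁ ModPair.interior K).ι := by
    intro φ hφ
    rintro _ ⟨x, rfl⟩
    rw [Scheme.Opens.range_ι, ← hJ, Scheme.Hom.comp_apply]
    exact interior_le_preimage_of_isAmbient I J φ hφ x.2
  let φ₁ := IsOpenImmersion.lift (s ⁻¹ᵁ ModPair.interior K).ι _ (hr f₁ h₁)
  let φ₂ := IsOpenImmersion.lift (s ⁻¹ᵁ ModPair.interior K).ι _ (hr f₂ h₂)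
  have hφ₁ : φ₁ ≫ (s ⁻¹ᵁ ModPair.interior K).ι = (ModPair.interior I).ι ≫ f₁ :=
    IsOpenImmersion.lift_fac _ _ _
  have hφ₂ : φ₂ ≫ (s ⁻¹ᵁ ModPair.interior K).ι = (ModPair.interior I).ι ≫ f₂ :=
    IsOpenImmersion.lift_fac _ _ _
  have hmono : Mono ((s ⁻¹ᵁ ModPair.interior K).ι ≫ s) := by
    rw [← morphismRestrict_ι]
    infer_instance
  have heq : φ₁ = φ₂ := by
    rw [← cancel_mono ((s ⁻¹ᵁ ModPair.interior K).ι ≫ s), ← Category.assoc, ← Category.assoc,
      hφ₁, hφ₂, Category.assoc, Category.assoc, h]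
  rw [← hφ₁, ← hφ₂, heq]

end AdmBlowup

end Groth.Agent.Lib.Helper93.ModPairProd
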