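import Groth.Agent.Lib.Helper93.ModPairAmbProd
import Groth.Agent.Lib.Helper93.ModPairProd
import Groth.Agent.Lib.Helper93.IdealClopenCover
import Mathlib.AlgebraicGeometry.Morphisms.Finite
import Mathlib.AlgebraicGeometry.Morphisms.IsIso
import Mathlib.AlgebraicGeometry.Limits

/-!
# The coproduct of the closures of a clopen decomposition of the interior (helper93)
-/

set_option autoImplicit false
universe u

open CategoryTheory CategoryTheory.Limits AlgebraicGeometry TopologicalSpace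

namespace Groth.Agent.Lib.Helper93.ModPairCoprodClosures

variable {X : Scheme.{u}}

/-- A clopen piece of an open with quasi-compact inclusion has quasi-compact inclusion. -/
theorem quasiCompact_ι_of_sup_eq (U U₀ U₁ : X.Opens) [QuasiCompact U.ι] (hU : U₀ ⊔ U₁ = U)
    (hd : Disjoint U₀ U₁) : QuasiCompact U₀.ι := by
  rw [quasiCompact_iff]
  intro K hK hK'
  rw [U₀.ι.isOpenEmbedding.isInducing.isCompact_iff]
  have h1 : IsCompact (U.ι ⁻¹' K) := QuasiCompact.isCompact_preimage K hK hK'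
  rw [U.ι.isOpenEmbedding.isInducing.isCompact_iff] at h1
  have h2 : U₀.ι '' (U₀.ι ⁻¹' K) = (U.ι '' (U.ι ⁻¹' K)) ∩ (U₁ : Set X)ᶜ := by
    ext x
    constructor
    · rintro ⟨y, hy, rfl⟩
      have hyU : y.1 ∈ U := hU ▸ (le_sup_left : U₀ ≤ U₀ ⊔ U₁) y.2
      refine ⟨⟨⟨y.1, hyU⟩, hy, rfl⟩, fun h => ?_⟩
      exact (disjoint_iff.mp hd).le ⟨y.2, h⟩
    · rintro ⟨⟨y, hy, rfl⟩, hx⟩
      have hy' : y.1 ∈ U₀ ⊔ U₁ := hU ▸ y.2
      rcases hy' with h | h
      · exact ⟨⟨y.1, h⟩, hy, rfl⟩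
      · exact absurd h hx
  rw [h2]
  exact h1.inter_right U₁.2.isClosed_compl

/-- **Restriction criterion**: if `p⁻¹(V)` is the image under an open immersion `j` of the
preimage of `V` under `j ≫ p`, and `j ≫ p` is an isomorphism over `V`, so is `p`. -/
theorem isIso_restrict_of_isOpenImmersion {W X' : Scheme.{u}} (p : W ⟶ X) (j : X' ⟶ W)
    [IsOpenImmersion j] (V : X.Opens) (H' : p ⁻¹ᵁ V = j ''ᵁ ((j ≫ p) ⁻¹ᵁ V))
    [IsIso ((j ≫ p) ∣_ V)] : IsIso (p ∣_ V) := by
  have sq : IsPullback ((j ≫ p) ∣_ V) (((j ≫ p) ⁻¹ᵁ V).ι ≫ j) V.ι p := by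
    refine IsOpenImmersion.isPullback _ _ _ _ ?_ ?_
    · rw [Category.assoc, morphismRestrict_ι]
    · rw [Scheme.Opens.opensRange_ι, H', Scheme.Hom.opensRange_comp, Scheme.Opens.opensRange_ι]
  have sq' := isPullback_morphismRestrict p V
  let e := sq'.isoIsPullback _ _ sq
  have he : e.hom ≫ (j ≫ p) ∣_ V = p ∣_ V := sq'.isoIsPullback_hom_fst _ _ sq
  rw [← he]
  infer_instance

/-- Being an isomorphism over two opens implies being an isomorphism over their union. -/
theorem isIso_restrict_sup {W : Scheme.{u}} (p : W ⟶ X) (U₀ U₁ : X.Opens) [IsIso (p ∣_ U₀)]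
    [IsIso (p ∣_ U₁)] : IsIso (p ∣_ (U₀ ⊔ U₁)) := by
  set U := U₀ ⊔ U₁ with hU
  have key : (MorphismProperty.isomorphisms Scheme.{u}) (p ∣_ U) := by
    refine IsZariskiLocalAtTarget.of_iSup_eq_top
      (fun b : Bool => U.ι ⁻¹ᵁ (bif b then U₀ else U₁)) ?_ ?_
    · rw [eq_top_iff]
      rintro ⟨x, hx⟩ -
      rcases hx with h | h
      · exact Opens.mem_iSup.mpr ⟨true, h⟩
      · exact Opens.mem_iSup.mpr ⟨false, h⟩
    · intro b
      refine (MorphismProperty.arrow_mk_iso_iff (MorphismProperty.isomorphisms Scheme.{u})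
        (morphismRestrictRestrict p U _)).mpr ?_
      have hle : (bif b then U₀ else U₁) ≤ U := by
        cases b
        · exact le_sup_right
        · exact le_sup_left
      have himg : U.ι ''ᵁ (U.ι ⁻¹ᵁ (bif b then U₀ else U₁)) = (bif b then U₀ else U₁) := by
        rw [Scheme.Hom.image_preimage_eq_opensRange_inf, Scheme.Opens.opensRange_ι]
        exact inf_eq_right.mpr hle
      refine (MorphismProperty.arrow_mk_iso_iff (MorphismProperty.isomorphisms Scheme.{u})
        (morphismRestrictEq p himg)).mpr ?_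
      cases b
      · exact (inferInstance : IsIso (p ∣_ U₁))
      · exact (inferInstance : IsIso (p ∣_ U₀))
  exact key


open Groth.Agent.Lib.Helper93.IdealClopenCover in
/-- Effective Cartier-ness on a binary coproduct is checked on the two summands. -/
theorem isEffCartierIdeal_comap_coprodDesc {X₀ X₁ : Scheme.{u}} (f₀ : X₀ ⟶ X) (f₁ : X₁ ⟶ X)
    (I : X.IdealSheafData) (h₀ : BlowUp.IsEffCartierIdeal (I.comap f₀))
    (h₁ : BlowUp.IsEffCartierIdeal (I.comap f₁)) :
    BlowUp.IsEffCartierIdeal (I.comap (coprod.desc f₀ f₁)) := by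
  let Xf : WalkingPair → Scheme.{u} := fun j => WalkingPair.casesOn j X₀ X₁
  let ιf : ∀ j, Xf j ⟶ X₀ ⨿ X₁ := fun j =>
    match j with
    | .left => (coprod.inl : X₀ ⟶ X₀ ⨿ X₁)
    | .right => (coprod.inr : X₁ ⟶ X₀ ⨿ X₁)
  have hoi : ∀ j, IsOpenImmersion (ιf j) := by
    rintro (_ | _)
    · exact inferInstanceAs (IsOpenImmersion (coprod.inl : X₀ ⟶ X₀ ⨿ X₁))
    · exact inferInstanceAs (IsOpenImmersion (coprod.inr : X₁ ⟶ X₀ ⨿ X₁))
  refine isEffCartierIdeal_of_comap ιf ?_ _ ?_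
  · rw [eq_top_iff]
    intro y _
    obtain ⟨(a | b), rfl⟩ := (coprodMk X₀ X₁).surjective y
    · exact Opens.mem_iSup.mpr ⟨.left, a, (coprodMk_inl X₀ X₁ a).symm⟩
    · exact Opens.mem_iSup.mpr ⟨.right, b, (coprodMk_inr X₀ X₁ b).symm⟩
  · rintro (_ | _)
    · change BlowUp.IsEffCartierIdeal ((I.comap (coprod.desc f₀ f₁)).comap coprod.inl)
      rw [← Scheme.IdealSheafData.comap_comp, coprod.inl_desc]
      exact h₀
    · change BlowUp.IsEffCartierIdeal ((I.comap (coprod.desc f₀ f₁)).comap coprod.inr)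
      rw [← Scheme.IdealSheafData.comap_comp, coprod.inr_desc]
      exact h₁

section Main

open Groth.Agent.Lib.Helper93.ModPairProd Groth.Agent.Lib.Helper93.ModPairAmbProd
  Groth.Agent.Lib.Helper93.ModPairInterior

/-- The range of the closed immersion of the scheme-theoretic image of an open `U₁` misses every
open disjoint from `U₁`. -/
theorem imageι_notMem_of_disjoint (U₀ U₁ : X.Opens) [QuasiCompact U₁.ι] (hd : Disjoint U₀ U₁)
    (b : U₁.ι.image) : U₁.ι.imageι b ∉ U₀ := by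
  intro hb
  have h1 : U₁.ι.imageι b ∈ closure (Set.range U₁.ι) := by
    rw [← Scheme.Hom.support_ker U₁.ι, ← Scheme.IdealSheafData.range_subschemeι]
    exact ⟨b, rfl⟩
  obtain ⟨y, hy0, ⟨w, rfl⟩⟩ := mem_closure_iff.mp h1 _ U₀.2 hb
  exact (disjoint_iff.mp hd).le ⟨hy0, by rw [← Scheme.Opens.range_ι]; exact ⟨w, rfl⟩⟩

theorem isEffCartier_and_isAdmBlowup (I : X.IdealSheafData) (hI : BlowUp.IsEffCartierIdeal I)
    (U₀ U₁ : X.Opens) (hU : U₀ ⊔ U₁ = ModPair.interior I) (hd : Disjoint U₀ U₁) :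
    BlowUp.IsEffCartierIdeal (I.comap (coprod.desc U₀.ι.imageι U₁.ι.imageι)) ∧
      ModPair.IsAdmBlowup (I.comap (coprod.desc U₀.ι.imageι U₁.ι.imageι)) I
        (coprod.desc U₀.ι.imageι U₁.ι.imageι) := by
  have hqc : QuasiCompact (ModPair.interior I).ι := quasiCompact_ι_interior I hI
  have hqc₀ : QuasiCompact U₀.ι := quasiCompact_ι_of_sup_eq (ModPair.interior I) U₀ U₁ hU hd
  have hqc₁ : QuasiCompact U₁.ι :=
    quasiCompact_ι_of_sup_eq (ModPair.interior I) U₁ U₀ (by rw [sup_comm, hU]) hd.symm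
  have hle₀ : U₀ ≤ ModPair.interior I := hU ▸ le_sup_left
  have hle₁ : U₁ ≤ ModPair.interior I := hU ▸ le_sup_right
  -- effective Cartier on each closure
  have hE₀ : BlowUp.IsEffCartierIdeal (I.comap U₀.ι.imageι) := by
    have h1 := isSchemeTheoreticallyDominant_ι_preimage_imageι U₀
    have h2 : IsSchemeTheoreticallyDominant (U₀.ι.imageι ⁻¹ᵁ ModPair.interior I).ι :=
      isSchemeTheoreticallyDominant_ι_of_le (V := U₀.ι.imageι ⁻¹ᵁ U₀)
        (fun x hx => hle₀ hx)
    exact isEffCartierIdeal_comap_of_dominant I hI _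
  have hE₁ : BlowUp.IsEffCartierIdeal (I.comap U₁.ι.imageι) := by
    have h1 := isSchemeTheoreticallyDominant_ι_preimage_imageι U₁
    have h2 : IsSchemeTheoreticallyDominant (U₁.ι.imageι ⁻¹ᵁ ModPair.interior I).ι :=
      isSchemeTheoreticallyDominant_ι_of_le (V := U₁.ι.imageι ⁻¹ᵁ U₁)
        (fun x hx => hle₁ hx)
    exact isEffCartierIdeal_comap_of_dominant I hI _
  refine ⟨isEffCartierIdeal_comap_coprodDesc _ _ I hE₀ hE₁, rfl, inferInstance, ?_⟩
  -- isomorphism over the interior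
  set p := coprod.desc U₀.ι.imageι U₁.ι.imageι with hp
  let inl₀ : U₀.ι.image ⟶ U₀.ι.image ⨿ U₁.ι.image := coprod.inl
  let inr₀ : U₁.ι.image ⟶ U₀.ι.image ⨿ U₁.ι.image := coprod.inr
  have hiso₀ : IsIso (p ∣_ U₀) := by
    have hj : (coprod.inl : U₀.ι.image ⟶ _) ≫ p = U₀.ι.imageι := coprod.inl_desc _ _
    have : IsIso (((coprod.inl : U₀.ι.image ⟶ _) ≫ p) ∣_ U₀) := by
      rw [hj]; exact isIso_imageι_restrict U₀ U₀ le_rfl
    refine isIso_restrict_of_isOpenImmersion p coprod.inl U₀ ?_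
    ext y
    constructor
    · intro hy
      obtain ⟨(a | b), rfl⟩ := (coprodMk _ _).surjective y
      · rw [coprodMk_inl] at hy ⊢
        refine ⟨a, ?_, rfl⟩
        change (coprod.inl ≫ p) a ∈ U₀
        rw [Scheme.Hom.comp_apply]
        exact hy
      · exfalso
        rw [coprodMk_inr] at hy
        have : p (inr₀ b) = U₁.ι.imageι b := by
          rw [← Scheme.Hom.comp_apply, hp, coprod.inr_desc]
        have hy' : p (inr₀ b) ∈ U₀ := hy
        rw [this] at hy'
        exact imageι_notMem_of_disjoint U₀ U₁ hd b hy'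
    · rintro ⟨a, ha, rfl⟩
      have ha' : (coprod.inl ≫ p) a ∈ U₀ := ha
      rw [Scheme.Hom.comp_apply] at ha'
      exact ha'
  have hiso₁ : IsIso (p ∣_ U₁) := by
    have hj : (coprod.inr : U₁.ι.image ⟶ _) ≫ p = U₁.ι.imageι := coprod.inr_desc _ _
    have : IsIso (((coprod.inr : U₁.ι.image ⟶ _) ≫ p) ∣_ U₁) := by
      rw [hj]; exact isIso_imageι_restrict U₁ U₁ le_rfl
    refine isIso_restrict_of_isOpenImmersion p coprod.inr U₁ ?_
    ext y
    constructor
    · intro hy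
      obtain ⟨(a | b), rfl⟩ := (coprodMk _ _).surjective y
      · exfalso
        rw [coprodMk_inl] at hy
        have : p (inl₀ a) = U₀.ι.imageι a := by
          rw [← Scheme.Hom.comp_apply, hp, coprod.inl_desc]
        have hy' : p (inl₀ a) ∈ U₁ := hy
        rw [this] at hy'
        exact imageι_notMem_of_disjoint U₁ U₀ hd.symm a hy'
      · rw [coprodMk_inr] at hy ⊢
        refine ⟨b, ?_, rfl⟩
        change (coprod.inr ≫ p) b ∈ U₁
        rw [Scheme.Hom.comp_apply]
        exact hy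
    · rintro ⟨b, hb, rfl⟩
      have hb' : (coprod.inr ≫ p) b ∈ U₁ := hb
      rw [Scheme.Hom.comp_apply] at hb'
      exact hb'
  rw [← hU]
  exact isIso_restrict_sup p U₀ U₁

end Main

end Groth.Agent.Lib.Helper93.ModPairCoprodClosures
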