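import Groth.Agent.Lib.Helper93.ModPairCoprod
import Groth.Agent.Lib.Helper93.ClopenCoverMap
import Groth.Agent.Lib.Helper93.ModPairAmbProd
import Mathlib.AlgebraicGeometry.Morphisms.IsIso

/-!
# A coproduct of abstract admissible blow-ups is an abstract admissible blow-up (helper93)
-/

set_option autoImplicit false
universe u

open CategoryTheory CategoryTheory.Limits AlgebraicGeometry TopologicalSpace

namespace Groth.Agent.Lib.Helper93.ModPairCoprod

open Groth.Agent.Lib.Helper93.IdealClopenCover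

variable {σ : Type*} (P Q : σ → ModPair.Pair.{u})
  (cP : Cofan fun i => (P i).total) (cQ : Cofan fun i => (Q i).total)
  [∀ i, IsOpenImmersion (cP.inj i)] [∀ i, IsOpenImmersion (cQ.inj i)]
  (hcovP : ⨆ i, (cP.inj i).opensRange = ⊤)
  (hdisjP : ∀ i j, i ≠ j →
    Disjoint ((cP.inj i).opensRange : Set cP.pt) ((cP.inj j).opensRange : Set cP.pt))
  (hcovQ : ⨆ i, (cQ.inj i).opensRange = ⊤)
  (hdisjQ : ∀ i j, i ≠ j →
    Disjoint ((cQ.inj i).opensRange : Set cQ.pt) ((cQ.inj j).opensRange : Set cQ.pt))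
  (g : ∀ i, P i ⟶ Q i) (hg : ∀ i, ModPair.IsAdmBlowup (P i).mod (Q i).mod (g i).hom)
  (ψ : cP.pt ⟶ cQ.pt) (hψ : ∀ i, cP.inj i ≫ ψ = (g i).hom ≫ cQ.inj i)

include hg hψ in
theorem isAdmBlowup_map :
    ModPair.IsAdmBlowup (modulus P cP hcovP hdisjP) (modulus Q cQ hcovQ hdisjQ) ψ := by
  refine ⟨?_, ?_, ?_⟩
  · -- minimal
    refine eq_of_comap_eq (fun i => cP.inj i) hcovP fun i => ?_
    rw [modulus_comap, ← Scheme.IdealSheafData.comap_comp, hψ, Scheme.IdealSheafData.comap_comp,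
      modulus_comap]
    exact (hg i).1
  · -- proper
    exact of_forall (P := @IsProper) (fun i => cP.inj i) (fun i => cQ.inj i) hcovP hdisjQ
      (fun i => (g i).hom) ψ hψ hcovQ fun i => (hg i).2.1
  · -- isomorphism over the interior
    set MQ := modulus Q cQ hcovQ hdisjQ with hMQ
    set U := ModPair.interior MQ with hU
    have hUi : ∀ i, cQ.inj i ⁻¹ᵁ U = ModPair.interior (Q i).mod := by
      intro i
      rw [hU, ← Groth.Agent.Lib.Helper93.ModPairAmbProd.interior_comap, hMQ, modulus_comap]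
    have hrange : ∀ i, Set.range ((ModPair.interior (Q i).mod).ι ≫ cQ.inj i) ⊆ Set.range U.ι := by
      rintro i _ ⟨w, rfl⟩
      rw [Scheme.Opens.range_ι]
      have : w.1 ∈ cQ.inj i ⁻¹ᵁ U := by rw [hUi]; exact w.2
      exact this
    let k : ∀ i, ((ModPair.interior (Q i).mod : (Q i).total.Opens) : Scheme.{u}) ⟶ (U : Scheme.{u}) :=
      fun i => IsOpenImmersion.lift U.ι ((ModPair.interior (Q i).mod).ι ≫ cQ.inj i) (hrange i)
    have hk : ∀ i, k i ≫ U.ι = (ModPair.interior (Q i).mod).ι ≫ cQ.inj i :=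
      fun i => IsOpenImmersion.lift_fac _ _ _
    have hkoi : ∀ i, IsOpenImmersion (k i) := by
      intro i
      have : IsOpenImmersion (k i ≫ U.ι) := by rw [hk]; infer_instance
      exact IsOpenImmersion.of_comp (k i) U.ι
    have sq3 := isPullback_morphismRestrict ψ U
    have hcomm : ∀ i, ((g i).hom ∣_ ModPair.interior (Q i).mod ≫ k i) ≫ U.ι =
        (((g i).hom ⁻¹ᵁ ModPair.interior (Q i).mod).ι ≫ cP.inj i) ≫ ψ := by
      intro i
      rw [Category.assoc, hk, Category.assoc, hψ, ← Category.assoc, ← Category.assoc,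
        morphismRestrict_ι]
    let m : ∀ i, (((g i).hom ⁻¹ᵁ ModPair.interior (Q i).mod : (P i).total.Opens) : Scheme.{u}) ⟶
        ((ψ ⁻¹ᵁ U : cP.pt.Opens) : Scheme.{u}) :=
      fun i => sq3.lift _ _ (hcomm i)
    have hm1 : ∀ i, m i ≫ ψ ∣_ U = (g i).hom ∣_ ModPair.interior (Q i).mod ≫ k i :=
      fun i => sq3.lift_fst _ _ _
    have hm2 : ∀ i, m i ≫ (ψ ⁻¹ᵁ U).ι =
        ((g i).hom ⁻¹ᵁ ModPair.interior (Q i).mod).ι ≫ cP.inj i :=
      fun i => sq3.lift_snd _ _ _
    have hsq : ∀ i, IsPullback ((g i).hom ∣_ ModPair.interior (Q i).mod) (m i) (k i) (ψ ∣_ U) := by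
      intro i
      have sq1 := isPullback_morphismRestrict (g i).hom (ModPair.interior (Q i).mod)
      have sq2 := isPullback (fun i => cP.inj i) (fun i => cQ.inj i) hcovP hdisjQ
        (fun i => (g i).hom) ψ hψ i
      have sq12 := sq1.paste_vert sq2
      rw [← hm2, ← hk] at sq12
      exact IsPullback.of_bot sq12 (hm1 i).symm sq3
    have hiso : (MorphismProperty.isomorphisms Scheme.{u}) (ψ ∣_ U) := by
      refine of_isPullback_cover (ψ ∣_ U) k ?_ m
        (fun i => (g i).hom ∣_ ModPair.interior (Q i).mod) (fun i => (hsq i).flip)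
        (fun i => (hg i).2.2)
      intro y
      have hy' : y.1 ∈ ⨆ i, (cQ.inj i).opensRange := hcovQ ▸ trivial
      obtain ⟨i, b, hb⟩ := Opens.mem_iSup.mp hy'
      have hbU : b ∈ ModPair.interior (Q i).mod := by
        rw [← hUi]
        change cQ.inj i b ∈ U
        rw [hb]; exact y.2
      refine ⟨i, ⟨b, hbU⟩, ?_⟩
      apply U.ι.isOpenEmbedding.injective
      rw [← Scheme.Hom.comp_apply, hk, Scheme.Hom.comp_apply]
      exact hb
    exact hiso

end Groth.Agent.Lib.Helper93.ModPairCoprod
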