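import Groth.Agent.Lib.Helper93.ModPairCoprodMap
import Groth.Agent.Lib.Helper93.ModPairProd
import Mathlib.CategoryTheory.Localization.FiniteProducts
import Mathlib.CategoryTheory.Localization.Opposite
import Mathlib.CategoryTheory.Limits.Preserves.Opposites
import Mathlib.CategoryTheory.Limits.Shapes.Opposites.Products

/-!
# Binary coproducts in the localization of modulus pairs at admissible blow-ups (helper93)
-/

set_option autoImplicit false
universe u v₁ u₁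

open CategoryTheory CategoryTheory.Limits AlgebraicGeometry TopologicalSpace

namespace Groth.Agent.Lib.Helper93.ModPairLocCoprod

/-! ### Generalities: stability under coproducts passes to products in the opposite category -/

section Op

variable {C : Type u₁} [Category.{v₁} C] (W : MorphismProperty C) (J : Type*)

theorem op_isStableUnderProductsOfShape [W.IsStableUnderCoproductsOfShape J] :
    W.op.IsStableUnderProductsOfShape J where
  condition X₁ X₂ c₁ c₂ hc₁ hc₂ f hf φ hφ := by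
    -- the unopposite cocones
    let Y₁ : Discrete J ⥤ C := Discrete.functor fun j => (X₁.obj ⟨j⟩).unop
    let Y₂ : Discrete J ⥤ C := Discrete.functor fun j => (X₂.obj ⟨j⟩).unop
    let d₁ : Cocone Y₁ := ⟨c₁.pt.unop, Discrete.natTrans fun ⟨j⟩ => (c₁.π.app ⟨j⟩).unop⟩
    let d₂ : Cocone Y₂ := ⟨c₂.pt.unop, Discrete.natTrans fun ⟨j⟩ => (c₂.π.app ⟨j⟩).unop⟩
    have hd₁ : IsColimit d₁ :=
      { desc := fun s => (hc₁.lift ⟨Opposite.op s.pt,
          Discrete.natTrans fun ⟨j⟩ => (s.ι.app ⟨j⟩).op⟩).unop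
        fac := fun s ⟨j⟩ => by
          have := hc₁.fac ⟨Opposite.op s.pt, Discrete.natTrans fun ⟨j⟩ => (s.ι.app ⟨j⟩).op⟩ ⟨j⟩
          exact congrArg Quiver.Hom.unop this
        uniq := fun s m hm => by
          apply Quiver.Hom.op_inj
          refine hc₁.uniq ⟨Opposite.op s.pt, Discrete.natTrans fun ⟨j⟩ => (s.ι.app ⟨j⟩).op⟩ m.op ?_
          rintro ⟨j⟩
          exact congrArg Quiver.Hom.op (hm ⟨j⟩) }
    have hd₂ : IsColimit d₂ :=
      { desc := fun s => (hc₂.lift ⟨Opposite.op s.pt,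
          Discrete.natTrans fun ⟨j⟩ => (s.ι.app ⟨j⟩).op⟩).unop
        fac := fun s ⟨j⟩ => by
          have := hc₂.fac ⟨Opposite.op s.pt, Discrete.natTrans fun ⟨j⟩ => (s.ι.app ⟨j⟩).op⟩ ⟨j⟩
          exact congrArg Quiver.Hom.unop this
        uniq := fun s m hm => by
          apply Quiver.Hom.op_inj
          refine hc₂.uniq ⟨Opposite.op s.pt, Discrete.natTrans fun ⟨j⟩ => (s.ι.app ⟨j⟩).op⟩ m.op ?_
          rintro ⟨j⟩
          exact congrArg Quiver.Hom.op (hm ⟨j⟩) }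
    let g : Y₂ ⟶ Y₁ := Discrete.natTrans fun ⟨j⟩ => (f.app ⟨j⟩).unop
    have hg : W.functorCategory (Discrete J) g := by
      rintro ⟨j⟩
      exact hf ⟨j⟩
    refine MorphismProperty.IsStableUnderColimitsOfShape.condition (W := W) Y₂ Y₁ d₂ d₁ hd₂ hd₁ g hg
      φ.unop ?_
    rintro ⟨j⟩
    exact congrArg Quiver.Hom.unop (hφ ⟨j⟩)

end Op

/-! ### Isomorphisms of pairs are admissible blow-ups -/

theorem admBlowup_of_isIso {P Q : ModPair.Pair.{u}} (f : P ⟶ Q) [IsIso f] :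
    ModPair.Pair.admBlowup f := by
  have h1 : f.hom ≫ (inv f).hom = 𝟙 _ := congrArg ModPair.Pair.Hom.hom (IsIso.hom_inv_id f)
  have h2 : (inv f).hom ≫ f.hom = 𝟙 _ := congrArg ModPair.Pair.Hom.hom (IsIso.inv_hom_id f)
  have hiso : IsIso f.hom := ⟨(inv f).hom, h1, h2⟩
  refine ⟨le_antisymm f.cond ?_, inferInstance, inferInstance⟩
  have : Q.mod.comap f.hom ≤ (P.mod.comap (inv f).hom).comap f.hom :=
    Scheme.IdealSheafData.comap_mono f.hom (inv f).cond
  rw [← Scheme.IdealSheafData.comap_comp, h1, Scheme.IdealSheafData.comap_id] at this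
  exact this

instance : (ModPair.Pair.admBlowup.{u}).IsMultiplicative where
  id_mem P := Groth.Agent.Lib.Helper93.ModPairProd.isAdmBlowup_id P.mod
  comp_mem {P Q R} f g hf hg :=
    Groth.Agent.Lib.Helper93.ModPairProd.isAdmBlowup_comp P.mod Q.mod R.mod f.hom g.hom hf hg

/-! ### Explicit coproducts -/

section Explicit

variable {J : Type} [Small.{u} J] (P : J → ModPair.Pair.{u})

/-- The coproduct of the total spaces. -/
noncomputable abbrev c₀ : Cofan fun j => (P j).total :=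
  Cofan.mk (∐ fun j => (P j).total) (Sigma.ι fun j => (P j).total)

noncomputable def hc₀ : IsColimit (c₀ P) := coproductIsCoproduct _

instance (j : J) : IsOpenImmersion ((c₀ P).inj j) :=
  inferInstanceAs (IsOpenImmersion (Sigma.ι (fun j => (P j).total) j))

theorem hcov : ⨆ j, ((c₀ P).inj j).opensRange = ⊤ :=
  (AlgebraicGeometry.sigmaOpenCover fun j => (P j).total).iSup_opensRange

theorem hdisj : ∀ i j, i ≠ j → Disjoint (((c₀ P).inj i).opensRange : Set (c₀ P).pt)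
    (((c₀ P).inj j).opensRange : Set (c₀ P).pt) := fun i j h =>
  TopologicalSpace.Opens.coe_disjoint.mpr
    (AlgebraicGeometry.disjoint_opensRange_sigmaι (fun j => (P j).total) i j h)

/-- The explicit coproduct cofan of pairs. -/
noncomputable abbrev e : Cofan P := ModPairCoprod.cofan P (c₀ P) (hcov P) (hdisj P)

noncomputable def he : IsColimit (e P) := ModPairCoprod.isColimit P (c₀ P) (hc₀ P) (hcov P) (hdisj P)

end Explicit

theorem hasCoproductsOfShape (J : Type) [Small.{u} J] :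
    HasCoproductsOfShape J ModPair.Pair.{u} := by
  constructor
  intro F
  have : HasColimit (Discrete.functor (F.obj ∘ Discrete.mk)) := ⟨⟨⟨e _, he _⟩⟩⟩
  exact hasColimit_of_iso Discrete.natIsoFunctor

theorem admBlowup_isStableUnderCoproductsOfShape (J : Type) [Small.{u} J] :
    (ModPair.Pair.admBlowup.{u}).IsStableUnderCoproductsOfShape J where
  condition X₁ X₂ c₁ c₂ hc₁ hc₂ f hf φ hφ := by
    let P₁ : J → ModPair.Pair.{u} := fun j => X₁.obj ⟨j⟩
    let P₂ : J → ModPair.Pair.{u} := fun j => X₂.obj ⟨j⟩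
    let c₁' : Cofan P₁ := Cofan.mk c₁.pt fun j => c₁.ι.app ⟨j⟩
    let c₂' : Cofan P₂ := Cofan.mk c₂.pt fun j => c₂.ι.app ⟨j⟩
    have hc₁' : IsColimit c₁' := Cofan.IsColimit.mk _
      (fun t => hc₁.desc ⟨t.pt, Discrete.natTrans fun ⟨j⟩ => t.inj j⟩)
      (fun t j => hc₁.fac ⟨t.pt, Discrete.natTrans fun ⟨j⟩ => t.inj j⟩ ⟨j⟩)
      (fun t m hm => hc₁.uniq ⟨t.pt, Discrete.natTrans fun ⟨j⟩ => t.inj j⟩ m fun ⟨j⟩ => hm j)
    have hc₂' : IsColimit c₂' := Cofan.IsColimit.mk _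
      (fun t => hc₂.desc ⟨t.pt, Discrete.natTrans fun ⟨j⟩ => t.inj j⟩)
      (fun t j => hc₂.fac ⟨t.pt, Discrete.natTrans fun ⟨j⟩ => t.inj j⟩ ⟨j⟩)
      (fun t m hm => hc₂.uniq ⟨t.pt, Discrete.natTrans fun ⟨j⟩ => t.inj j⟩ m fun ⟨j⟩ => hm j)
    let u₁ : (e P₁).pt ≅ c₁.pt := IsColimit.coconePointUniqueUpToIso (he P₁) hc₁'
    let u₂ : (e P₂).pt ≅ c₂.pt := IsColimit.coconePointUniqueUpToIso (he P₂) hc₂'
    have hu₁ : ∀ j, (e P₁).inj j ≫ u₁.hom = c₁.ι.app ⟨j⟩ :=
      fun j => IsColimit.comp_coconePointUniqueUpToIso_hom (he P₁) hc₁' ⟨j⟩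
    have hu₂ : ∀ j, c₂.ι.app ⟨j⟩ ≫ u₂.inv = (e P₂).inj j :=
      fun j => IsColimit.comp_coconePointUniqueUpToIso_inv (he P₂) hc₂' ⟨j⟩
    let ψ : (e P₁).pt ⟶ (e P₂).pt := u₁.hom ≫ φ ≫ u₂.inv
    have hψ : ∀ j, (e P₁).inj j ≫ ψ = f.app ⟨j⟩ ≫ (e P₂).inj j := by
      intro j
      change (e P₁).inj j ≫ u₁.hom ≫ φ ≫ u₂.inv = _
      rw [← Category.assoc, hu₁, ← Category.assoc, hφ ⟨j⟩, Category.assoc, hu₂]
    have hψadm : ModPair.Pair.admBlowup ψ :=
      ModPairCoprod.isAdmBlowup_map P₁ P₂ (c₀ P₁) (c₀ P₂) (hcov P₁) (hdisj P₁) (hcov P₂) (hdisj P₂)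
        (fun j => f.app ⟨j⟩) (fun j => hf ⟨j⟩) ψ.hom
        (fun j => congrArg ModPair.Pair.Hom.hom (hψ j))
    have hφeq : φ = u₁.inv ≫ ψ ≫ u₂.hom := by
      change φ = u₁.inv ≫ (u₁.hom ≫ φ ≫ u₂.inv) ≫ u₂.hom
      simp
    rw [hφeq]
    exact MorphismProperty.comp_mem _ _ _ (admBlowup_of_isIso u₁.inv)
      (MorphismProperty.comp_mem _ _ _ hψadm (admBlowup_of_isIso u₂.hom))

end Groth.Agent.Lib.Helper93.ModPairLocCoprod
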