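import Groth.Agent.Lib.Helper93.ValRingTest
import Groth.Agent.H8.EffCartier
import Groth.Prelude.Def_W4c6modpairsegaMP

/-!
# Equality of effective Cartier moduli can be tested on valuation rings (helper93)
-/

set_option autoImplicit false
universe u

open CategoryTheory CategoryTheory.Limits AlgebraicGeometry TopologicalSpace

namespace Groth.Agent.Lib.Helper93.ModulusValTest

open Groth.Agent.Lib.Helper93.ValRingTest Groth.Agent.Lib.Helper18 Groth.Agent.H8.EffCartier

variable {X : Scheme.{u}}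

lemma preimage_specMap_fromSpec {U : X.Opens} (hU : IsAffineOpen U) {R : CommRingCat.{u}}
    (ψ : Γ(X, U) ⟶ R) : (Spec.map ψ ≫ hU.fromSpec) ⁻¹ᵁ U = ⊤ := by
  rw [Scheme.Hom.comp_preimage, hU.fromSpec_preimage_self]
  rfl

/-- The ring map on sections of `Spec.map ψ ≫ hU.fromSpec`. -/
lemma appLE_specMap_fromSpec {U : X.Opens} (hU : IsAffineOpen U) {R : CommRingCat.{u}}
    (ψ : Γ(X, U) ⟶ R)
    (hle : (⊤ : (Spec R).Opens) ≤ (Spec.map ψ ≫ hU.fromSpec) ⁻¹ᵁ U) :
    (Spec.map ψ ≫ hU.fromSpec).appLE U ⊤ hle = ψ ≫ (Scheme.ΓSpecIso R).inv := by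
  have h1 := IsAffineOpen.SpecMap_appLE_fromSpec (Spec.map ψ ≫ hU.fromSpec) hU
    (isAffineOpen_top (Spec R)) hle
  rw [IsAffineOpen.fromSpec_top, Scheme.isoSpec_Spec_inv, ← Spec.map_comp_assoc] at h1
  exact Spec.map_injective ((cancel_mono hU.fromSpec).mp h1)

/-- Ideal of the pullback to `Spec R` along `Spec.map ψ ≫ hU.fromSpec`, transported to `R`. -/
lemma ideal_comap_specMap_fromSpec (K : X.IdealSheafData) (U : X.affineOpens)
    {R : CommRingCat.{u}} (ψ : Γ(X, U.1) ⟶ R) :
    ((K.comap (Spec.map ψ ≫ U.2.fromSpec)).ideal ⟨⊤, isAffineOpen_top _⟩).map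
      (Scheme.ΓSpecIso R).hom.hom = (K.ideal U).map ψ.hom := by
  have hle : (⊤ : (Spec R).Opens) ≤ (Spec.map ψ ≫ U.2.fromSpec) ⁻¹ᵁ U.1 :=
    (preimage_specMap_fromSpec U.2 ψ).ge
  rw [ideal_comap_of_le (Spec.map ψ ≫ U.2.fromSpec) K ⟨⊤, isAffineOpen_top _⟩ U hle,
    appLE_specMap_fromSpec U.2 ψ hle, Ideal.map_map, ← CommRingCat.hom_comp, Category.assoc,
    Iso.inv_hom_id, Category.comp_id]

/-- Membership in the interior of the pullback to `Spec R`, in terms of a generator. -/
lemma mem_interior_comap_specMap_fromSpec (K : X.IdealSheafData) (U : X.affineOpens)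
    (a : Γ(X, U.1)) (hK : K.ideal U = Ideal.span {a})
    {R : CommRingCat.{u}} (ψ : Γ(X, U.1) ⟶ R) (y : Spec R) :
    y ∈ (ModPair.interior (K.comap (Spec.map ψ ≫ U.2.fromSpec)) : Set (Spec R)) ↔
      ψ.hom a ∉ y.asIdeal := by
  have hle : (⊤ : (Spec R).Opens) ≤ (Spec.map ψ ≫ U.2.fromSpec) ⁻¹ᵁ U.1 :=
    (preimage_specMap_fromSpec U.2 ψ).ge
  have hy : y ∈ (K.comap (Spec.map ψ ≫ U.2.fromSpec)).support ↔ ψ.hom a ∈ y.asIdeal := by
    rw [Scheme.IdealSheafData.mem_support_iff_of_mem (U := ⟨⊤, isAffineOpen_top _⟩) trivial,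
      ideal_comap_of_le (Spec.map ψ ≫ U.2.fromSpec) K ⟨⊤, isAffineOpen_top _⟩ U hle,
      appLE_specMap_fromSpec U.2 ψ hle, hK, Ideal.map_span, Set.image_singleton,
      Scheme.zeroLocus_span, Scheme.zeroLocus_singleton]
    change y ∉ (Spec R).basicOpen ((Scheme.ΓSpecIso R).inv (ψ.hom a)) ↔ _
    rw [basicOpen_eq_of_affine]
    change ¬ (ψ.hom a ∉ y.asIdeal) ↔ _
    exact not_not
  exact not_congr hy

/-- **Valuation ring test for equality of effective Cartier moduli.** -/
theorem modulus_eq_of_eq_on_valuationRings (I J : X.IdealSheafData)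
    (hI : BlowUp.IsEffCartierIdeal I) (hJ : BlowUp.IsEffCartierIdeal J) (hJI : J ≤ I)
    (h : ∀ (R : Type u) [CommRing R] [IsDomain R] [ValuationRing R]
      (p : Spec (CommRingCat.of R) ⟶ X), BlowUp.IsEffCartierIdeal (I.comap p) →
        (∀ x : Spec (CommRingCat.of R),
          x ∈ (ModPair.interior (I.comap p) : Set (Spec (CommRingCat.of R))) ↔ x.asIdeal = ⊥) →
        I.comap p = J.comap p) :
    I = J := by
  have key : ∀ x : X, ∃ U : X.affineOpens, x ∈ U.1 ∧ I.ideal U = J.ideal U := by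
    intro x
    obtain ⟨U₁, hxU₁, -, a₁, ha₁, hIU₁⟩ := exists_generator_le I hI x ⊤ trivial
    obtain ⟨U, hxU, hUU₁, b, hb, hJU⟩ := exists_generator_le J hJ x U₁.1 hxU₁
    obtain ⟨ha, hIU⟩ := restrict_generator I U₁ a₁ ha₁ hIU₁ U hUU₁
    set a := (X.presheaf.map (homOfLE hUU₁).op).hom a₁ with ha_def
    have hba : b ∈ Ideal.span {a} := by
      rw [← hIU]
      apply hJI U
      rw [hJU]
      exact Ideal.subset_span rfl
    obtain ⟨c, hc⟩ := Ideal.mem_span_singleton'.mp hba
    by_cases hcx : x ∈ X.basicOpen c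
    · refine ⟨X.affineBasicOpen c, hcx, ?_⟩
      rw [← I.map_ideal_basicOpen U c, ← J.map_ideal_basicOpen U c, hIU, hJU, Ideal.map_span,
        Ideal.map_span, Set.image_singleton, Set.image_singleton, ← hc, map_mul]
      have hu : IsUnit ((X.presheaf.map (homOfLE (X.basicOpen_le c)).op).hom c) :=
        X.toRingedSpace.isUnit_res_basicOpen c
      exact (Ideal.span_singleton_mul_left_unit hu _).symm
    · exfalso
      let 𝔭 := U.2.primeIdealOf ⟨x, hxU⟩
      have hc𝔭 : c ∈ 𝔭.asIdeal := by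
        by_contra hcon
        apply hcx
        have h1 : 𝔭 ∈ PrimeSpectrum.basicOpen c := hcon
        rw [← U.2.fromSpec_preimage_basicOpen] at h1
        have h2 : U.2.fromSpec 𝔭 = x := U.2.fromSpec_primeIdealOf ⟨x, hxU⟩
        rw [← h2]
        exact h1
      have hac : a * c ∈ nonZeroDivisors Γ(X, U.1) := by
        rw [mul_comm, hc]
        exact hb
      obtain ⟨R, _, _, _, ψ, hψa, hprime, hψc⟩ :=
        exists_valuationRing_hom a c hac 𝔭.asIdeal hc𝔭
      let ψ' : Γ(X, U.1) ⟶ CommRingCat.of R := CommRingCat.ofHom ψ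
      let p : Spec (CommRingCat.of R) ⟶ X := Spec.map ψ' ≫ U.2.fromSpec
      have hle : (⊤ : (Spec (CommRingCat.of R)).Opens) ≤ p ⁻¹ᵁ U.1 :=
        (preimage_specMap_fromSpec U.2 ψ').ge
      have hEff : BlowUp.IsEffCartierIdeal (I.comap p) := by
        intro y
        refine ⟨⟨⊤, isAffineOpen_top _⟩, trivial,
          (Scheme.ΓSpecIso (CommRingCat.of R)).inv.hom (ψ a), ?_, ?_⟩
        · rw [mem_nonZeroDivisors_iff_right]
          intro z hz
          have h1 := congr_arg (Scheme.ΓSpecIso (CommRingCat.of R)).hom.hom hz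
          rw [map_mul, map_zero] at h1
          have h2 : (Scheme.ΓSpecIso (CommRingCat.of R)).hom.hom
              ((Scheme.ΓSpecIso (CommRingCat.of R)).inv.hom (ψ a)) = ψ a :=
            Iso.inv_hom_id_apply (Scheme.ΓSpecIso (CommRingCat.of R)) (ψ a)
          rw [h2] at h1
          have h3 : (Scheme.ΓSpecIso (CommRingCat.of R)).hom.hom z = 0 :=
            (mul_eq_zero.mp h1).resolve_right hψa
          have h4 := congr_arg (Scheme.ΓSpecIso (CommRingCat.of R)).inv.hom h3
          rw [map_zero] at h4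
          rw [← h4]
          exact (Iso.hom_inv_id_apply (Scheme.ΓSpecIso (CommRingCat.of R)) z).symm
        · rw [ideal_comap_of_le p I ⟨⊤, isAffineOpen_top _⟩ U hle,
            appLE_specMap_fromSpec U.2 ψ' hle, hIU, Ideal.map_span, Set.image_singleton]
          rfl
      have hInt : ∀ y : Spec (CommRingCat.of R),
          y ∈ (ModPair.interior (I.comap p) : Set (Spec (CommRingCat.of R))) ↔
            y.asIdeal = ⊥ := by
        intro y
        rw [mem_interior_comap_specMap_fromSpec I U a hIU ψ' y]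
        exact hprime y.asIdeal y.isPrime
      have heq := h R p hEff hInt
      have h1 := ideal_comap_specMap_fromSpec I U ψ'
      have h2 := ideal_comap_specMap_fromSpec J U ψ'
      change ((I.comap p).ideal _).map _ = _ at h1
      change ((J.comap p).ideal _).map _ = _ at h2
      rw [heq, h2, hIU, hJU, Ideal.map_span, Ideal.map_span, Set.image_singleton,
        Set.image_singleton] at h1
      change Ideal.span {ψ b} = Ideal.span {ψ a} at h1
      have h3 : ψ a ∈ Ideal.span {ψ b} := by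
        rw [h1]
        exact Ideal.subset_span rfl
      obtain ⟨r, hr⟩ := Ideal.mem_span_singleton'.mp h3
      rw [← hc, map_mul] at hr
      have h4 : (r * ψ c - 1) * ψ a = 0 := by
        rw [sub_mul, one_mul, mul_assoc, hr, sub_self]
      have h5 : r * ψ c = 1 := sub_eq_zero.mp ((mul_eq_zero.mp h4).resolve_right hψa)
      exact hψc (IsUnit.of_mul_eq_one r (by rw [mul_comm]; exact h5))
  choose U hxU hU using key
  refine Scheme.IdealSheafData.ext_of_iSup_eq_top U ?_ hU
  rw [eq_top_iff]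
  intro x _
  exact Opens.mem_iSup.mpr ⟨x, hxU x⟩

end Groth.Agent.Lib.Helper93.ModulusValTest
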