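import Mathlib.CategoryTheory.Monoidal.Functor
import Groth.Prelude.Def_W4c5suslinpi1abAdj

/-!
# Projection morphisms, base change and exterior products: naturality (helper93)
-/

set_option autoImplicit false
set_option linter.unusedSectionVars false
universe v u

open CategoryTheory MonoidalCategory Functor.LaxMonoidal Functor.OplaxMonoidal

namespace Groth.Agent.Lib.Helper93.MonAdjSquare

open W4c5suslinpi1ab

variable {C : Type u} [Category.{v} C] [MonoidalCategory C]
variable {D : Type u} [Category.{v} D] [MonoidalCategory D]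

section Proj

variable {L : C ⥤ D} {R : D ⥤ C} (adj : L ⊣ R) [R.LaxMonoidal]

lemma projR_natural_right (A : D) {B B' : C} (φ : B ⟶ B') :
    (R.obj A ◁ φ) ≫ projR adj A B' = projR adj A B ≫ R.map (A ◁ L.map φ) := by
  unfold projR
  rw [← MonoidalCategory.whiskerLeft_comp_assoc, ← adj.unit_naturality φ,
    MonoidalCategory.whiskerLeft_comp_assoc, Category.assoc, μ_natural_right]

lemma projR_natural_left {A A' : D} (a : A ⟶ A') (B : C) :
    (R.map a ▷ B) ≫ projR adj A' B = projR adj A B ≫ R.map (a ▷ L.obj B) := by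
  unfold projR
  rw [← whisker_exchange_assoc, Category.assoc]
  dsimp only [Functor.comp_obj, Functor.id_obj]
  rw [μ_natural_left]

lemma projL_natural_right (A : C) {B B' : D} (b : B ⟶ B') :
    (A ◁ R.map b) ≫ projL adj A B' = projL adj A B ≫ R.map (L.obj A ◁ b) := by
  unfold projL
  rw [whisker_exchange_assoc, Category.assoc]
  dsimp only [Functor.comp_obj, Functor.id_obj]
  rw [μ_natural_right]

lemma projL_natural_left {A A' : C} (a : A ⟶ A') (B : D) :
    (a ▷ R.obj B) ≫ projL adj A' B = projL adj A B ≫ R.map (L.map a ▷ B) := by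
  unfold projL
  rw [← MonoidalCategory.comp_whiskerRight_assoc, ← adj.unit_naturality a,
    MonoidalCategory.comp_whiskerRight_assoc, Category.assoc, μ_natural_left]

end Proj

section ProjAdjoint

variable {L : C ⥤ D} {R : D ⥤ C} (adj : L ⊣ R) [L.OplaxMonoidal] [R.LaxMonoidal] [adj.IsMonoidal]

/-- The adjoint of the right projection morphism. -/
lemma map_projR_counit (A : D) (B : C) :
    L.map (projR adj A B) ≫ adj.counit.app (A ⊗ L.obj B) =
      δ L (R.obj A) B ≫ (adj.counit.app A ▷ L.obj B) := by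
  unfold projR
  rw [L.map_comp, Category.assoc, adj.map_μ_comp_counit_app_tensor]
  have h := δ_natural_right L (R.obj A) (adj.unit.app B)
  dsimp only [Functor.comp_obj, Functor.id_obj] at h ⊢
  rw [← reassoc_of% h, tensorHom_def', ← MonoidalCategory.whiskerLeft_comp_assoc,
    adj.left_triangle_components, MonoidalCategory.whiskerLeft_id, Category.id_comp]

/-- The adjoint of the left projection morphism. -/
lemma map_projL_counit (A : C) (B : D) :
    L.map (projL adj A B) ≫ adj.counit.app (L.obj A ⊗ B) =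
      δ L A (R.obj B) ≫ (L.obj A ◁ adj.counit.app B) := by
  unfold projL
  rw [L.map_comp, Category.assoc, adj.map_μ_comp_counit_app_tensor]
  have h := δ_natural_left L (adj.unit.app A) (R.obj B)
  dsimp only [Functor.comp_obj, Functor.id_obj] at h ⊢
  rw [← reassoc_of% h, tensorHom_def, ← MonoidalCategory.comp_whiskerRight_assoc,
    adj.left_triangle_components, MonoidalCategory.id_whiskerRight, Category.id_comp]

end ProjAdjoint

section Cup

variable {L : C ⥤ D} {R : D ⥤ C} {S : C ⥤ D} (adj : L ⊣ R) (adj' : R ⊣ S) [R.LaxMonoidal]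
  [∀ (A : D) (B : C), IsIso (projR adj A B)]

lemma cupShriek_natural_right (A : C) {B B' : C} (φ : B ⟶ B') :
    (S.obj A ◁ L.map φ) ≫ cupShriek adj adj' A B' = cupShriek adj adj' A B ≫ S.map (A ◁ φ) := by
  unfold cupShriek
  rw [← adj'.homEquiv_naturality_left, ← adj'.homEquiv_naturality_right]
  congr 1
  have h := projR_natural_right adj (S.obj A) φ
  have h2 : R.map (S.obj A ◁ L.map φ) ≫ inv (projR adj (S.obj A) B') =
      inv (projR adj (S.obj A) B) ≫ (R.obj (S.obj A) ◁ φ) := by
    rw [IsIso.comp_inv_eq, Category.assoc, IsIso.eq_inv_comp, h]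
  rw [← Category.assoc, h2, Category.assoc, Category.assoc, whisker_exchange]
  rfl

/-- The adjoint of `cupShriek`. -/
lemma map_cupShriek_counit (A B : C) :
    R.map (cupShriek adj adj' A B) ≫ adj'.counit.app (A ⊗ B) =
      inv (projR adj (S.obj A) B) ≫ (adj'.counit.app A ▷ B) := by
  unfold cupShriek
  have := (adj'.homEquiv (S.obj A ⊗ L.obj B) (A ⊗ B)).symm_apply_apply
    (inv (projR adj (S.obj A) B) ≫ (adj'.counit.app A ▷ B))
  rw [Adjunction.homEquiv_counit] at this
  exact this

end Cup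

section Square

variable {S₀ : Type u} [Category.{v} S₀] [MonoidalCategory S₀]
variable {Y₁ : Type u} [Category.{v} Y₁] [MonoidalCategory Y₁]
variable {Y₂ : Type u} [Category.{v} Y₂] [MonoidalCategory Y₂]
variable {X : Type u} [Category.{v} X] [MonoidalCategory X]
variable {fL : S₀ ⥤ Y₁} {fR : Y₁ ⥤ S₀} (adjf : fL ⊣ fR) [fR.LaxMonoidal] {gR : Y₂ ⥤ S₀}
  {pL : Y₁ ⥤ X} {pR : X ⥤ Y₁} (adjp : pL ⊣ pR) [pR.LaxMonoidal]
  {qL : Y₂ ⥤ X} {qR : X ⥤ Y₂} (adjq : qL ⊣ qR) (ν : qR ⋙ gR ⟶ pR ⋙ fR)
  {fS : S₀ ⥤ Y₁} (adjf' : fR ⊣ fS) {gS : S₀ ⥤ Y₂} (adjg' : gR ⊣ gS)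
  {pS : Y₁ ⥤ X} (adjp' : pR ⊣ pS)
  [∀ (A : Y₁) (B : S₀), IsIso (projR adjf A B)]
  [∀ (A : Y₁) (B : X), IsIso (projL adjp A B)]
  [∀ B : Y₂, IsIso ((bcMor adjf adjq ν).app B)]

omit [∀ (A : Y₁) (B : S₀), IsIso (projR adjf A B)] [∀ (A : Y₁) (B : X), IsIso (projL adjp A B)]
  [∀ B : Y₂, IsIso ((bcMor adjf adjq ν).app B)] in
/-- Naturality of the exterior product. -/
theorem extProd_natural {A A' : Y₁} (a : A ⟶ A') {B B' : Y₂} (b : B ⟶ B') :
    (fR.map a ⊗ₘ gR.map b) ≫ extProd adjf adjp adjq ν A' B' =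
      extProd adjf adjp adjq ν A B ≫ fR.map (pR.map (pL.map a ⊗ₘ qL.map b)) := by
  have h1 := projR_natural_right adjf A' (gR.map b)
  have h2 := projR_natural_left adjf a (gR.obj B)
  have h3 := (bcMor adjf adjq ν).naturality b
  have h4 := projL_natural_right adjp A' (qL.map b)
  have h5 := projL_natural_left adjp a (qL.obj B)
  dsimp only [Functor.comp_obj, Functor.comp_map, Functor.id_obj] at h1 h2 h3 h4 h5
  unfold extProd
  have e1 : (A' ◁ fL.map (gR.map b)) ≫ (A' ◁ (bcMor adjf adjq ν).app B') =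
      (A' ◁ (bcMor adjf adjq ν).app B) ≫ (A' ◁ pR.map (qL.map b)) := by
    rw [← MonoidalCategory.whiskerLeft_comp, h3, MonoidalCategory.whiskerLeft_comp]
  calc (fR.map a ⊗ₘ gR.map b) ≫ projR adjf A' (gR.obj B') ≫
        fR.map (A' ◁ (bcMor adjf adjq ν).app B') ≫ fR.map (projL adjp A' (qL.obj B'))
      = (fR.map a ▷ gR.obj B) ≫ ((fR.obj A' ◁ gR.map b) ≫ projR adjf A' (gR.obj B')) ≫
        fR.map (A' ◁ (bcMor adjf adjq ν).app B') ≫ fR.map (projL adjp A' (qL.obj B')) := by
        rw [tensorHom_def]; simp only [Category.assoc]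
    _ = ((fR.map a ▷ gR.obj B) ≫ projR adjf A' (gR.obj B)) ≫
        fR.map ((A' ◁ fL.map (gR.map b)) ≫ (A' ◁ (bcMor adjf adjq ν).app B')) ≫
          fR.map (projL adjp A' (qL.obj B')) := by
        rw [h1]; simp only [Category.assoc, Functor.map_comp]
    _ = projR adjf A (gR.obj B) ≫
        fR.map (((a ▷ fL.obj (gR.obj B)) ≫ (A' ◁ (bcMor adjf adjq ν).app B)) ≫
          (A' ◁ pR.map (qL.map b)) ≫ projL adjp A' (qL.obj B')) := by
        rw [h2, e1]; simp only [Category.assoc, Functor.map_comp]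
    _ = projR adjf A (gR.obj B) ≫
        fR.map ((A ◁ (bcMor adjf adjq ν).app B) ≫ ((a ▷ pR.obj (qL.obj B)) ≫
          projL adjp A' (qL.obj B)) ≫ pR.map (pL.obj A' ◁ qL.map b)) := by
        rw [← whisker_exchange, h4]; simp only [Category.assoc]; rfl
    _ = projR adjf A (gR.obj B) ≫ fR.map (A ◁ (bcMor adjf adjq ν).app B) ≫
        fR.map (projL adjp A (qL.obj B)) ≫ fR.map (pR.map (pL.map a ⊗ₘ qL.map b)) := by
        rw [h5, tensorHom_def]; simp only [Category.assoc, Functor.map_comp]
    _ = _ := by simp only [Category.assoc]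

/-- The adjoint of `prodShriek` under `adjp'`. -/
lemma map_prodShriek_counit (A B : S₀) :
    pR.map (prodShriek adjf adjf' adjg' adjp adjp' adjq ν A B) ≫
        adjp'.counit.app (fS.obj (A ⊗ B)) =
      inv (projL adjp (fS.obj A) (qL.obj (gS.obj B))) ≫
        (fS.obj A ◁ inv ((bcMor adjf adjq ν).app (gS.obj B))) ≫
        cupShriek adjf adjf' A (gR.obj (gS.obj B)) ≫ fS.map (A ◁ adjg'.counit.app B) := by
  unfold prodShriek
  have := (adjp'.homEquiv (pL.obj (fS.obj A) ⊗ qL.obj (gS.obj B)) (fS.obj (A ⊗ B))).symm_apply_apply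
    (inv (projL adjp (fS.obj A) (qL.obj (gS.obj B))) ≫
        (fS.obj A ◁ inv ((bcMor adjf adjq ν).app (gS.obj B))) ≫
        cupShriek adjf adjf' A (gR.obj (gS.obj B)) ≫ fS.map (A ◁ adjg'.counit.app B))
  rw [Adjunction.homEquiv_counit] at this
  exact this

/-- The comparison of the two shriek products (S18593). -/
theorem extProd_prodShriek (A B : S₀) :
    extProd adjf adjp adjq ν (fS.obj A) (gS.obj B) ≫
      fR.map (pR.map (prodShriek adjf adjf' adjg' adjp adjp' adjq ν A B)) ≫
        fR.map (adjp'.counit.app (fS.obj (A ⊗ B))) =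
      (fR.obj (fS.obj A) ◁ adjg'.counit.app B) ≫ projR adjf (fS.obj A) B ≫
        fR.map (cupShriek adjf adjf' A B) := by
  rw [← fR.map_comp, map_prodShriek_counit]
  unfold extProd
  simp only [Category.assoc]
  have h1 := cupShriek_natural_right adjf adjf' A (adjg'.counit.app B)
  have h2 := projR_natural_right adjf (fS.obj A) (adjg'.counit.app B)
  dsimp only [Functor.comp_obj, Functor.id_obj] at h1 h2
  rw [← fR.map_comp, ← fR.map_comp, IsIso.hom_inv_id_assoc,
    ← MonoidalCategory.whiskerLeft_comp_assoc, IsIso.hom_inv_id,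
    MonoidalCategory.whiskerLeft_id, Category.id_comp,
    ← h1, fR.map_comp, ← Category.assoc, ← h2, Category.assoc]

/-- The exterior product followed by the adjoint of the shriek product is the tensor product of the
counits (S18592). -/
theorem extProd_homEquiv_symm_prodShriek (A B : S₀) :
    extProd adjf adjp adjq ν (fS.obj A) (gS.obj B) ≫
      ((adjp'.comp adjf').homEquiv _ _).symm
        (prodShriek adjf adjf' adjg' adjp adjp' adjq ν A B) =
      (adjf'.counit.app A ⊗ₘ adjg'.counit.app B) := by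
  rw [Adjunction.homEquiv_counit, Adjunction.comp_counit_app]
  have h := extProd_prodShriek adjf adjp adjq ν adjf' adjg' adjp' A B
  have h2 := map_cupShriek_counit adjf adjf' A B
  dsimp only [Functor.comp_obj, Functor.comp_map, Functor.id_obj] at h h2 ⊢
  rw [← Category.assoc (fR.map (pR.map _)), ← Category.assoc, h, Category.assoc, Category.assoc,
    h2, IsIso.hom_inv_id_assoc, tensorHom_def']

omit [∀ (A : Y₁) (B : S₀), IsIso (projR adjf A B)] [∀ (A : Y₁) (B : X), IsIso (projL adjp A B)]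
  [∀ B : Y₂, IsIso ((bcMor adjf adjq ν).app B)] in
/-- The adjoint of the exterior product under the composite adjunction (S18591). -/
theorem homEquiv_symm_extProd [fL.OplaxMonoidal] [adjf.IsMonoidal] [pL.OplaxMonoidal]
    [adjp.IsMonoidal] (A : Y₁) (B : Y₂) :
    ((adjf.comp adjp).homEquiv _ _).symm (extProd adjf adjp adjq ν A B) =
      δ (fL ⋙ pL) (fR.obj A) (gR.obj B) ≫
        (pL.map (adjf.counit.app A) ⊗ₘ
          (pL.map ((bcMor adjf adjq ν).app B) ≫ adjp.counit.app (qL.obj B))) := by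
  rw [Adjunction.homEquiv_counit, Adjunction.comp_counit_app]
  have e1 : fL.map (extProd adjf adjp adjq ν A B) ≫ adjf.counit.app _ =
      δ fL (fR.obj A) (gR.obj B) ≫ (adjf.counit.app A ▷ fL.obj (gR.obj B)) ≫
        (A ◁ (bcMor adjf adjq ν).app B) ≫ projL adjp A (qL.obj B) := by
    unfold extProd
    have h1 := adjf.counit.naturality ((A ◁ (bcMor adjf adjq ν).app B) ≫ projL adjp A (qL.obj B))
    have h2 := map_projR_counit adjf A (gR.obj B)
    dsimp only [Functor.comp_obj, Functor.comp_map, Functor.id_obj, Functor.id_map] at h1 h2 ⊢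
    rw [← fR.map_comp, fL.map_comp, Category.assoc, h1, reassoc_of% h2]
  have e2 := map_projL_counit adjp A (qL.obj B)
  have e3 := δ_natural_right pL A ((bcMor adjf adjq ν).app B)
  have e4 := δ_natural_left pL (adjf.counit.app A) (fL.obj (gR.obj B))
  dsimp only [Functor.comp_obj, Functor.comp_map, Functor.id_obj, Functor.id_map] at e1 e2 e3 e4 ⊢
  rw [← Category.assoc, ← pL.map_comp, e1, pL.map_comp, pL.map_comp, pL.map_comp, Category.assoc,
    Category.assoc, Category.assoc, e2, ← reassoc_of% e3, ← reassoc_of% e4,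
    Functor.OplaxMonoidal.comp_δ, Category.assoc, tensorHom_def,
    MonoidalCategory.whiskerLeft_comp]

instance isIso_extProd (A' : Y₁) (B' : Y₂) : IsIso (extProd adjf adjp adjq ν A' B') := by
  unfold extProd
  infer_instance

/-- The Fubini criterion (S18594). -/
theorem prodShriek_comp_iff (A B : S₀) (A' : Y₁) (B' : Y₂) (C' : X)
    (trA : A' ⟶ fS.obj A) (trB : B' ⟶ gS.obj B) (trC : C' ⟶ pS.obj (fS.obj (A ⊗ B)))
    (m : pL.obj A' ⊗ qL.obj B' ⟶ C') :
    ((pL.map trA ⊗ₘ qL.map trB) ≫ prodShriek adjf adjf' adjg' adjp adjp' adjq ν A B =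
        m ≫ trC) ↔
      (((adjf'.homEquiv _ _).symm trA ⊗ₘ (adjg'.homEquiv _ _).symm trB) =
        extProd adjf adjp adjq ν A' B' ≫ fR.map (pR.map m) ≫
          ((adjp'.comp adjf').homEquiv _ _).symm trC) := by
  have key : extProd adjf adjp adjq ν A' B' ≫
      ((adjp'.comp adjf').homEquiv _ _).symm
        ((pL.map trA ⊗ₘ qL.map trB) ≫ prodShriek adjf adjf' adjg' adjp adjp' adjq ν A B) =
      ((adjf'.homEquiv _ _).symm trA ⊗ₘ (adjg'.homEquiv _ _).symm trB) := by
    rw [Adjunction.homEquiv_naturality_left_symm]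
    have h1 := extProd_natural adjf adjp adjq ν trA trB
    have h2 := extProd_homEquiv_symm_prodShriek adjf adjp adjq ν adjf' adjg' adjp' A B
    dsimp only [Functor.comp_obj, Functor.comp_map] at h1 h2 ⊢
    rw [← Category.assoc, ← h1, Category.assoc, h2, Adjunction.homEquiv_counit,
      Adjunction.homEquiv_counit, tensorHom_comp_tensorHom]
  have key2 : extProd adjf adjp adjq ν A' B' ≫
      ((adjp'.comp adjf').homEquiv _ _).symm (m ≫ trC) =
      extProd adjf adjp adjq ν A' B' ≫ fR.map (pR.map m) ≫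
          ((adjp'.comp adjf').homEquiv _ _).symm trC := by
    rw [Adjunction.homEquiv_naturality_left_symm]
    rfl
  constructor
  · intro h
    rw [← key, h, key2]
  · intro h
    rw [← key, ← key2, cancel_epi] at h
    exact (Equiv.injective _ h)

end Square

end Groth.Agent.Lib.Helper93.MonAdjSquare
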