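import Groth.Agent.Lib.Helper93.KoszulUnit
import Groth.Agent.Lib.Helper93.KoszulSect
import Groth.Agent.Lib.Helper93.CechKoszulOpen
import Groth.Agent.Lib.Helper93.CechLocalizeScheme
import Mathlib.AlgebraicGeometry.QuasiAffine

/-!
# A quasi-affine scheme with `H^p(X, O_X) = 0` for `p > 0` is affine (helper93)

More generally (`span_eq_top_of_subsingleton_HH`): if `X` is quasi-compact separated, covered by
affine basic opens `X_{f_i}` of global functions and `H^p(X, O_X) = 0` for all `p > 0`, then the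
`f_i` generate the unit ideal of `Γ(X, O_X)` (hence `X` is affine).
-/

set_option autoImplicit false
universe u
open CategoryTheory CategoryTheory.Limits Opposite TopologicalSpace AlgebraicGeometry CohIII
open Groth.Agent.Helper19.QCohExt
open Groth.Agent.Lib.Helper93.KoszulSect Groth.Agent.Lib.Helper93.KoszulUnit
open Groth.Agent.Lib.Helper93.CechKoszulOpen Groth.Agent.Lib.Helper93.CechLocalizeScheme

namespace Groth.Agent.Lib.Helper93.QuasiAffineAcyclic

variable {X : Scheme.{u}}

lemma res_bijective_of_eq_top (F : X.Modules) (V : X.Opens) (hV : V = ⊤) (h : V ≤ ⊤) :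
    Function.Bijective (res F h) := by
  subst hV
  refine ⟨fun a b hab => ?_, fun y => ⟨y, res_self h y⟩⟩
  rwa [res_self, res_self] at hab

lemma subsingleton_HHon_of_eq_top [CompactSpace X] [X.IsSeparated] (F : X.Modules)
    [F.IsQuasicoherent] (q : ℕ) (hq : Subsingleton (Coh.HH X F q)) :
    ∀ V : X.Opens, V = ⊤ → Subsingleton (Coh.HHon X F V q) := by
  have h1 : X.basicOpen (1 : Γ(X, ⊤)) = ⊤ := X.basicOpen_of_isUnit isUnit_one
  rintro V rfl
  rw [← h1]
  obtain ⟨e⟩ := nonempty_localizedModule_addEquiv_HHon F (1 : Γ(X, ⊤)) q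
  have : Subsingleton (LocalizedModule (Submonoid.powers (1 : Γ(X, ⊤))) (Coh.HH X F q)) := by
    refine ⟨fun a b => ?_⟩
    induction a using LocalizedModule.induction_on with
    | h m s =>
      induction b using LocalizedModule.induction_on with
      | h m' s' => rw [Subsingleton.elim m 0, Subsingleton.elim m' 0, LocalizedModule.zero_mk,
          LocalizedModule.zero_mk]
  exact e.symm.toEquiv.subsingleton

/-- all `colim_n H^p(f^n; Γ(X, F))` vanish when the `X_{f_i}` are affine and cover `X`, and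
`H^p(X, F) = 0` for `p > 0`. -/
theorem acyc_of_subsingleton_HH [CompactSpace X] [X.IsSeparated] (F : X.Modules)
    [F.IsQuasicoherent] (fs : List Γ(X, ⊤))
    (haff : ∀ i : Fin fs.length, IsAffineOpen (X.basicOpen (fs.get i)))
    (hcov : ⨆ i : Fin fs.length, X.basicOpen (fs.get i) = ⊤)
    (h : ∀ p : ℕ, 0 < p → Subsingleton (Coh.HH X F p)) :
    Acyc fs (ModuleCat.of Γ(X, ⊤) Γ(F, ⊤)) := by
  intro p
  have hb := res_bijective_of_eq_top F (U fs) hcov le_top
  match p with
  | 0 =>
    obtain ⟨e⟩ := nonempty_ker_addEquiv_koszulHLim (F := F) fs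
    have : Subsingleton (res F (le_top : U fs ≤ ⊤)).ker := by
      refine ⟨fun a b => Subtype.ext ?_⟩
      have ha := a.2
      have hb' := b.2
      rw [AddMonoidHom.mem_ker] at ha hb'
      exact hb.1 (ha.trans hb'.symm)
    exact e.symm.toEquiv.subsingleton
  | 1 =>
    obtain ⟨e⟩ := nonempty_quotient_addEquiv_koszulHLim (F := F) fs
    have : Subsingleton (Γ(F, U fs) ⧸ (res F (le_top : U fs ≤ ⊤)).range) := by
      refine ⟨fun a b => ?_⟩
      obtain ⟨a, rfl⟩ := QuotientAddGroup.mk_surjective a
      obtain ⟨b, rfl⟩ := QuotientAddGroup.mk_surjective b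
      rw [QuotientAddGroup.eq]
      exact hb.2 _
    exact e.symm.toEquiv.subsingleton
  | n + 2 =>
    obtain ⟨e⟩ := nonempty_HHon_addEquiv_koszulHLim F fs haff n
    have := subsingleton_HHon_of_eq_top F (n + 1) (h (n + 1) (Nat.succ_pos n)) (UU fs) hcov
    exact e.symm.toEquiv.subsingleton

/-- The structure sheaf is quasi-coherent (same argument as helper1's
`PushSupport.isQuasicoherent_structureModule`, restated to keep imports light). -/
theorem isQuasicoherent_structureModule (X : Scheme.{u}) :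
    SheafOfModules.IsQuasicoherent.{u, u, u} (Coh.structureModule X) := by
  have e : SheafOfModules.free (R := X.ringCatSheaf) PUnit.{u+1} ≅
      SheafOfModules.unit X.ringCatSheaf :=
    Limits.coproductUniqueIso (fun _ : PUnit.{u+1} => SheafOfModules.unit X.ringCatSheaf)
  exact (SheafOfModules.isQuasicoherent X.ringCatSheaf).prop_of_iso e
    (inferInstanceAs (SheafOfModules.free (R := X.ringCatSheaf) PUnit.{u+1}).IsQuasicoherent)

/-- If `X` is quasi-compact separated, covered by affine basic opens `X_{f_i}` and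
`H^p(X, O_X) = 0` for `p > 0`, the `f_i` generate the unit ideal. -/
theorem span_eq_top_of_subsingleton_HH [CompactSpace X] [X.IsSeparated] (fs : List Γ(X, ⊤))
    (haff : ∀ i : Fin fs.length, IsAffineOpen (X.basicOpen (fs.get i)))
    (hcov : ⨆ i : Fin fs.length, X.basicOpen (fs.get i) = ⊤)
    (h : ∀ p : ℕ, 0 < p → Subsingleton (Coh.HH X (Coh.structureModule X) p)) :
    Ideal.span {a | a ∈ fs} = ⊤ := by
  have hqc : (Coh.structureModule X).IsQuasicoherent := isQuasicoherent_structureModule X
  exact span_eq_top_of_acyc (acyc_of_subsingleton_HH (Coh.structureModule X) fs haff hcov h)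

/-- **A quasi-affine scheme with `H^p(X, O_X) = 0` for all `p > 0` is affine.** -/
theorem isAffine_of_isQuasiAffine (X : Scheme.{u}) [X.IsQuasiAffine]
    (h : ∀ p : ℕ, 0 < p → Subsingleton (Coh.HH X (Coh.structureModule X) p)) : IsAffine X := by
  have hbasis := Scheme.IsQuasiAffine.isBasis_basicOpen X
  have hx : ∀ x : X, ∃ r : Γ(X, ⊤), IsAffineOpen (X.basicOpen r) ∧ x ∈ X.basicOpen r := by
    intro x
    obtain ⟨_, ⟨_, ⟨r, hr, rfl⟩, rfl⟩, hxr, -⟩ :=
      hbasis.exists_subset_of_mem_open (Set.mem_univ x) isOpen_univ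
    exact ⟨r, hr, hxr⟩
  choose r hr hxr using hx
  obtain ⟨t, ht⟩ := isCompact_univ.elim_finite_subcover
    (fun x : X => (X.basicOpen (r x) : Set X)) (fun x => (X.basicOpen (r x)).2)
    (fun x _ => Set.mem_iUnion.2 ⟨x, hxr x⟩)
  have haff : ∀ i : Fin (t.toList.map r).length,
      IsAffineOpen (X.basicOpen ((t.toList.map r).get i)) := by
    intro i
    obtain ⟨x, -, hx⟩ := List.mem_map.mp (List.get_mem (t.toList.map r) i)
    rw [← hx]
    exact hr x
  have hcov : ⨆ i : Fin (t.toList.map r).length, X.basicOpen ((t.toList.map r).get i) = ⊤ := by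
    rw [eq_top_iff]
    intro y _
    obtain ⟨x, hxt, hy⟩ := Set.mem_iUnion₂.mp (ht (Set.mem_univ y))
    have hmem : r x ∈ t.toList.map r := List.mem_map.mpr ⟨x, Finset.mem_toList.mpr hxt, rfl⟩
    obtain ⟨i, hi⟩ := List.get_of_mem hmem
    exact Opens.mem_iSup.mpr ⟨i, by rw [hi]; exact hy⟩
  have hspan := span_eq_top_of_subsingleton_HH (t.toList.map r) haff hcov h
  refine isAffine_of_isAffineOpen_basicOpen {a | a ∈ t.toList.map r} hspan ?_
  intro a ha
  obtain ⟨x, -, hx⟩ := List.mem_map.mp ha
  rw [← hx]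
  exact hr x

end Groth.Agent.Lib.Helper93.QuasiAffineAcyclic
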