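import Mathlib.CategoryTheory.Localization.CalculusOfFractions
import Mathlib.CategoryTheory.Comma.Over.Basic

/-!
# Localization of a slice category under a right calculus of fractions (helper93)
-/

set_option autoImplicit false
set_option linter.unusedSectionVars false
universe v₁ v₂ v₃ u₁ u₂ u₃

open CategoryTheory

namespace Groth.Agent.Lib.Helper93.SliceLoc

variable {C : Type u₁} [Category.{v₁} C] (W : MorphismProperty C) (S : C)

/-- The class of morphisms of the slice with underlying morphism in `W`. -/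
abbrev WS : MorphismProperty (Over S) := W.inverseImage (Over.forget S)

instance [W.HasRightCalculusOfFractions] : (WS W S).HasRightCalculusOfFractions where
  id_mem A := by
    change W ((Over.forget S).map (𝟙 A))
    rw [Functor.map_id]
    exact W.id_mem _
  comp_mem f g hf hg := by
    change W ((Over.forget S).map (f ≫ g))
    rw [Functor.map_comp]
    exact W.comp_mem _ _ hf hg
  exists_rightFraction A B φ := by
    obtain ⟨ψ, hψ⟩ := MorphismProperty.HasRightCalculusOfFractions.exists_rightFraction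
      (W := W) (MorphismProperty.LeftFraction.mk φ.f.left φ.s.left φ.hs)
    dsimp at hψ
    let A' : Over S := Over.mk (ψ.s ≫ A.hom)
    let s' : A' ⟶ A := Over.homMk ψ.s rfl
    have hw : ψ.f ≫ B.hom = ψ.s ≫ A.hom := by
      rw [← Over.w φ.s, ← Category.assoc, ← hψ, Category.assoc, Over.w φ.f]
    let f' : A' ⟶ B := Over.homMk ψ.f hw
    refine ⟨MorphismProperty.RightFraction.mk s' ψ.hs f', ?_⟩
    ext
    exact hψ
  ext A B B' f₁ f₂ s hs h := by
    obtain ⟨X', t, ht, fac⟩ := MorphismProperty.HasRightCalculusOfFractions.ext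
      (W := W) f₁.left f₂.left s.left hs (congrArg CommaMorphism.left h)
    let A' : Over S := Over.mk (t ≫ A.hom)
    let t' : A' ⟶ A := Over.homMk t rfl
    refine ⟨A', t', ht, ?_⟩
    ext
    exact fac

variable {S}
variable [W.HasRightCalculusOfFractions]
variable {D : Type u₂} [Category.{v₂} D] (L : C ⥤ D) [L.IsLocalization W]
variable {E : Type u₃} [Category.{v₃} E] (L' : Over S ⥤ E) [L'.IsLocalization (WS W S)]
variable (Φ : E ⥤ Over (L.obj S)) (e : L' ⋙ Φ ≅ Over.post L)

/-- The underlying right fraction in `C` of a right fraction in the slice. -/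
def under {A B : Over S} (ψ : (WS W S).RightFraction A B) : W.RightFraction A.left B.left :=
  MorphismProperty.RightFraction.mk ψ.s.left (show W ψ.s.left from ψ.hs) ψ.f.left

/-- The morphism of `D` under a morphism of `D/L(S)` between images of slice objects. -/
def leftOf {A B : Over S} (β : (Over.post L).obj A ⟶ (Over.post L).obj B) :
    L.obj A.left ⟶ L.obj B.left := β.left

omit [L.IsLocalization W] in
theorem leftOf_w {A B : Over S} (β : (Over.post L).obj A ⟶ (Over.post L).obj B) :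
    leftOf L β ≫ L.map B.hom = L.map A.hom := Over.w β

omit [L.IsLocalization W] in
theorem leftOf_injective {A B : Over S} (β₁ β₂ : (Over.post L).obj A ⟶ (Over.post L).obj B)
    (h : leftOf L β₁ = leftOf L β₂) : β₁ = β₂ := Over.OverMorphism.ext h

include e in
/-- `Φ` of a right fraction, computed through `e`. -/
theorem map_rightFraction_left {A B : Over S} (ψ : (WS W S).RightFraction A B) :
    leftOf L (e.inv.app A ≫ Φ.map (ψ.map L' (Localization.inverts L' (WS W S))) ≫ e.hom.app B) =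
      (under W ψ).map L (Localization.inverts L W) := by
  have h1 : IsIso (L'.map ψ.s) := Localization.inverts L' (WS W S) _ ψ.hs
  have h2 : IsIso (L.map ψ.s.left) := Localization.inverts L W _ ψ.hs
  have h3 : IsIso ((Over.post L).map ψ.s) := by
    have : IsIso ((L' ⋙ Φ).map ψ.s) := by
      change IsIso (Φ.map (L'.map ψ.s)); infer_instance
    exact (NatIso.isIso_map_iff e ψ.s).mp this
  have key : e.inv.app A ≫ Φ.map (ψ.map L' (Localization.inverts L' (WS W S))) ≫ e.hom.app B =
      inv ((Over.post L).map ψ.s) ≫ (Over.post L).map ψ.f := by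
    rw [← cancel_epi ((Over.post L).map ψ.s), IsIso.hom_inv_id_assoc]
    have hn : (Over.post L).map ψ.s ≫ e.inv.app A = e.inv.app ψ.X' ≫ Φ.map (L'.map ψ.s) :=
      e.inv.naturality ψ.s
    rw [← Category.assoc, hn, Category.assoc, ← Φ.map_comp_assoc,
      MorphismProperty.RightFraction.map_s_comp_map]
    have hn2 : Φ.map (L'.map ψ.f) ≫ e.hom.app B = e.hom.app ψ.X' ≫ (Over.post L).map ψ.f :=
      e.hom.naturality ψ.f
    rw [hn2, Iso.inv_hom_id_app_assoc]
  rw [key]
  have h4 : (inv ((Over.post L).map ψ.s)).left = inv (L.map ψ.s.left) :=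
    Functor.map_inv (Over.forget (L.obj S)) ((Over.post L).map ψ.s)
  change (inv ((Over.post L).map ψ.s)).left ≫ L.map ψ.f.left = _
  rw [h4]
  rfl

include W L e in
theorem faithful_aux {A B : Over S} (φ₁ φ₂ : L'.obj A ⟶ L'.obj B)
    (h : Φ.map φ₁ = Φ.map φ₂) : φ₁ = φ₂ := by
  obtain ⟨ψ₁, rfl⟩ := Localization.exists_rightFraction L' (WS W S) φ₁
  obtain ⟨ψ₂, rfl⟩ := Localization.exists_rightFraction L' (WS W S) φ₂
  have h1 := map_rightFraction_left W L L' Φ e ψ₁
  have h2 := map_rightFraction_left W L L' Φ e ψ₂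
  rw [h] at h1
  have h3 := h1.symm.trans h2
  rw [MorphismProperty.RightFraction.map_eq_iff] at h3
  obtain ⟨Z, t₁, t₂, hst, hft, ht⟩ := h3
  change Z ⟶ ψ₁.X'.left at t₁
  change Z ⟶ ψ₂.X'.left at t₂
  change t₁ ≫ ψ₁.s.left = t₂ ≫ ψ₂.s.left at hst
  change t₁ ≫ ψ₁.f.left = t₂ ≫ ψ₂.f.left at hft
  change W (t₁ ≫ ψ₁.s.left) at ht
  rw [MorphismProperty.RightFraction.map_eq_iff]
  let Z' : Over S := Over.mk (t₁ ≫ ψ₁.X'.hom)
  have hZ : t₂ ≫ ψ₂.X'.hom = t₁ ≫ ψ₁.X'.hom := by
    rw [← Over.w ψ₁.s, ← Over.w ψ₂.s, ← Category.assoc, ← Category.assoc, hst]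
  refine ⟨Z', Over.homMk t₁ rfl, Over.homMk t₂ hZ, ?_, ?_, ?_⟩
  · ext; exact hst
  · ext; exact hft
  · exact ht

include W e in
theorem full_aux {A B : Over S} (β : Φ.obj (L'.obj A) ⟶ Φ.obj (L'.obj B)) :
    ∃ φ : L'.obj A ⟶ L'.obj B, Φ.map φ = β := by
  let β' : (Over.post L).obj A ⟶ (Over.post L).obj B := e.inv.app A ≫ β ≫ e.hom.app B
  obtain ⟨b, hb1, hb2⟩ : ∃ b : L.obj A.left ⟶ L.obj B.left,
      b = leftOf L β' ∧ b ≫ L.map B.hom = L.map A.hom := ⟨_, rfl, leftOf_w L β'⟩
  obtain ⟨ψ, hψ⟩ := Localization.exists_rightFraction L W b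
  have h3 : L.map (ψ.f ≫ B.hom) = L.map (ψ.s ≫ A.hom) := by
    rw [L.map_comp, L.map_comp, ← hb2, ← Category.assoc, hψ,
      MorphismProperty.RightFraction.map_s_comp_map]
  obtain ⟨X'', t, ht, fac⟩ := (MorphismProperty.map_eq_iff_precomp L W _ _).mp h3
  let A'' : Over S := Over.mk (t ≫ ψ.s ≫ A.hom)
  let σ : A'' ⟶ A := Over.homMk (t ≫ ψ.s) (by simp [A''])
  have hσ : WS W S σ := W.comp_mem _ _ ht ψ.hs
  let η : A'' ⟶ B := Over.homMk (t ≫ ψ.f)
    (by simp only [A'', Over.mk_hom, Category.assoc]; exact fac)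
  let ψ' : (WS W S).RightFraction A B := MorphismProperty.RightFraction.mk σ hσ η
  refine ⟨ψ'.map L' (Localization.inverts L' (WS W S)), ?_⟩
  have h4 := map_rightFraction_left W L L' Φ e ψ'
  have h5 : (under W ψ').map L (Localization.inverts L W) = b := by
    rw [hψ, MorphismProperty.RightFraction.map_eq_iff]
    refine ⟨X'', 𝟙 _, t, ?_, ?_, ?_⟩
    · simp [ψ', σ, under]
    · simp [ψ', η, under]
    · simpa [ψ', σ, under] using W.comp_mem _ _ ht ψ.hs
  rw [h5, hb1] at h4
  have h6 : e.inv.app A ≫ Φ.map (ψ'.map L' (Localization.inverts L' (WS W S))) ≫ e.hom.app B =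
      β' := leftOf_injective L _ _ h4
  have h7 := congrArg (fun x => e.hom.app A ≫ x ≫ e.inv.app B) h6
  simpa [β'] using h7

include W e in
theorem essSurj_aux (Y : Over (L.obj S)) : ∃ A : Over S, Nonempty (Φ.obj (L'.obj A) ≅ Y) := by
  have := Localization.essSurj L W
  obtain ⟨X, ⟨i⟩⟩ : ∃ X : C, Nonempty (L.obj X ≅ Y.left) :=
    ⟨L.objPreimage Y.left, ⟨L.objObjPreimageIso Y.left⟩⟩
  obtain ⟨ψ, hψ⟩ := Localization.exists_rightFraction L W (i.hom ≫ Y.hom)
  let A : Over S := Over.mk ψ.f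
  refine ⟨A, ⟨e.app A ≪≫ Over.isoMk (Localization.isoOfHom L W ψ.s ψ.hs ≪≫ i) ?_⟩⟩
  change (L.map ψ.s ≫ i.hom) ≫ Y.hom = L.map ψ.f
  rw [Category.assoc, hψ, MorphismProperty.RightFraction.map_s_comp_map]

include W L e in
theorem isEquivalence : Φ.IsEquivalence := by
  have hess := Localization.essSurj L' (WS W S)
  have hfaith : Φ.Faithful := by
    constructor
    intro X Y f g h
    let iX : L'.obj (L'.objPreimage X) ≅ X := L'.objObjPreimageIso X
    let iY : L'.obj (L'.objPreimage Y) ≅ Y := L'.objObjPreimageIso Y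
    have := faithful_aux W L L' Φ e (iX.hom ≫ f ≫ iY.inv) (iX.hom ≫ g ≫ iY.inv)
      (by simp only [Functor.map_comp, h])
    simpa using this
  have hfull : Φ.Full := by
    constructor
    intro X Y β
    let iX : L'.obj (L'.objPreimage X) ≅ X := L'.objObjPreimageIso X
    let iY : L'.obj (L'.objPreimage Y) ≅ Y := L'.objObjPreimageIso Y
    obtain ⟨φ, hφ⟩ := full_aux W L L' Φ e (Φ.map iX.hom ≫ β ≫ Φ.map iY.inv)
    refine ⟨iX.inv ≫ φ ≫ iY.hom, ?_⟩
    rw [Functor.map_comp, Functor.map_comp, hφ]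
    simp only [Category.assoc, ← Functor.map_comp, Iso.inv_hom_id, Functor.map_id,
      Category.comp_id]
    rw [← Functor.map_comp_assoc, Iso.inv_hom_id, Functor.map_id, Category.id_comp]
  have hes : Φ.EssSurj := by
    constructor
    intro Y
    obtain ⟨A, ⟨i⟩⟩ := essSurj_aux W L L' Φ e Y
    exact ⟨L'.obj A, ⟨i⟩⟩
  exact { }

end Groth.Agent.Lib.Helper93.SliceLoc
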