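import Mathlib.CategoryTheory.Localization.CalculusOfFractions
import Mathlib.CategoryTheory.ObjectProperty.FullSubcategory
import Groth.Agent.Lib.Helper93.SliceLoc

/-!
# Localization of a full subcategory closed under sources of `W`-morphisms (helper93)

If `W` has a right calculus of fractions on `C` and `P` is a property of objects such that the
source of every `W`-morphism into a `P`-object is a `P`-object, then the functor induced on
localizations by the inclusion of the full subcategory is fully faithful.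
-/

set_option autoImplicit false
set_option linter.unusedSectionVars false
universe v₁ v₂ v₃ u₁ u₂ u₃

open CategoryTheory

namespace Groth.Agent.Lib.Helper93.SubcatLoc

variable {C : Type u₁} [Category.{v₁} C] (W : MorphismProperty C) (P : ObjectProperty C)

/-- The class of morphisms of the full subcategory with underlying morphism in `W`. -/
abbrev WP : MorphismProperty P.FullSubcategory := W.inverseImage P.ι

variable (hP : ∀ ⦃X' X : C⦄ (s : X' ⟶ X), W s → P X → P X')

include hP in
theorem hasRightCalculusOfFractions [W.HasRightCalculusOfFractions] :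
    (WP W P).HasRightCalculusOfFractions where
  id_mem A := by
    change W (P.ι.map (𝟙 A))
    rw [Functor.map_id]
    exact W.id_mem _
  comp_mem f g hf hg := by
    change W (P.ι.map (f ≫ g))
    rw [Functor.map_comp]
    exact W.comp_mem _ _ hf hg
  exists_rightFraction A B φ := by
    obtain ⟨ψ, hψ⟩ := MorphismProperty.HasRightCalculusOfFractions.exists_rightFraction
      (W := W) (MorphismProperty.LeftFraction.mk φ.f.hom φ.s.hom φ.hs)
    dsimp at hψ
    let A' : P.FullSubcategory := ⟨ψ.X', hP ψ.s ψ.hs A.property⟩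
    refine ⟨MorphismProperty.RightFraction.mk (X' := A') (ObjectProperty.homMk ψ.s) ψ.hs
      (ObjectProperty.homMk ψ.f), ?_⟩
    ext
    exact hψ
  ext A B B' f₁ f₂ s hs h := by
    obtain ⟨X', t, ht, fac⟩ := MorphismProperty.HasRightCalculusOfFractions.ext
      (W := W) f₁.hom f₂.hom s.hom hs (congrArg InducedCategory.Hom.hom h)
    let A' : P.FullSubcategory := ⟨X', hP t ht A.property⟩
    refine ⟨A', ObjectProperty.homMk t, ht, ?_⟩
    ext
    exact fac

variable [W.HasRightCalculusOfFractions]
variable {D : Type u₂} [Category.{v₂} D] (L : C ⥤ D) [L.IsLocalization W]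
variable {E : Type u₃} [Category.{v₃} E] (L' : P.FullSubcategory ⥤ E)
  [L'.IsLocalization (WP W P)]
variable (G : E ⥤ D) (e : L' ⋙ G ≅ P.ι ⋙ L)

/-- The underlying right fraction in `C` of a right fraction in the full subcategory. -/
def under {A B : P.FullSubcategory} (ψ : (WP W P).RightFraction A B) :
    W.RightFraction A.obj B.obj :=
  MorphismProperty.RightFraction.mk ψ.s.hom (show W ψ.s.hom from ψ.hs) ψ.f.hom

include e in
/-- `G` of a right fraction, computed through `e`. -/
theorem map_rightFraction {A B : P.FullSubcategory} (ψ : (WP W P).RightFraction A B) :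
    e.inv.app A ≫ G.map (ψ.map L' (Localization.inverts L' (WP W P))) ≫ e.hom.app B =
      (under W P ψ).map L (Localization.inverts L W) := by
  have h1 : IsIso (L'.map ψ.s) := Localization.inverts L' (WP W P) _ ψ.hs
  have h2 : IsIso (L.map ψ.s.hom) := Localization.inverts L W _ ψ.hs
  have h3 : IsIso ((P.ι ⋙ L).map ψ.s) := h2
  have key : e.inv.app A ≫ G.map (ψ.map L' (Localization.inverts L' (WP W P))) ≫ e.hom.app B =
      inv ((P.ι ⋙ L).map ψ.s) ≫ (P.ι ⋙ L).map ψ.f := by
    rw [← cancel_epi ((P.ι ⋙ L).map ψ.s), IsIso.hom_inv_id_assoc]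
    have hn : (P.ι ⋙ L).map ψ.s ≫ e.inv.app A = e.inv.app ψ.X' ≫ G.map (L'.map ψ.s) :=
      e.inv.naturality ψ.s
    rw [← Category.assoc, hn, Category.assoc, ← G.map_comp_assoc,
      MorphismProperty.RightFraction.map_s_comp_map]
    have hn2 : G.map (L'.map ψ.f) ≫ e.hom.app B = e.hom.app ψ.X' ≫ (P.ι ⋙ L).map ψ.f :=
      e.hom.naturality ψ.f
    rw [hn2, Iso.inv_hom_id_app_assoc]
  rw [key]
  rfl

include hP e in
theorem faithful_aux {A B : P.FullSubcategory} (φ₁ φ₂ : L'.obj A ⟶ L'.obj B)
    (h : G.map φ₁ = G.map φ₂) : φ₁ = φ₂ := by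
  have := hasRightCalculusOfFractions W P hP
  obtain ⟨ψ₁, rfl⟩ := Localization.exists_rightFraction L' (WP W P) φ₁
  obtain ⟨ψ₂, rfl⟩ := Localization.exists_rightFraction L' (WP W P) φ₂
  have h1 := map_rightFraction W P L L' G e ψ₁
  have h2 := map_rightFraction W P L L' G e ψ₂
  rw [h] at h1
  have h3 := h1.symm.trans h2
  rw [MorphismProperty.RightFraction.map_eq_iff] at h3
  obtain ⟨Z, t₁, t₂, hst, hft, ht⟩ := h3
  change Z ⟶ ψ₁.X'.obj at t₁
  change Z ⟶ ψ₂.X'.obj at t₂
  change t₁ ≫ ψ₁.s.hom = t₂ ≫ ψ₂.s.hom at hst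
  change t₁ ≫ ψ₁.f.hom = t₂ ≫ ψ₂.f.hom at hft
  change W (t₁ ≫ ψ₁.s.hom) at ht
  rw [MorphismProperty.RightFraction.map_eq_iff]
  let Z' : P.FullSubcategory := ⟨Z, hP _ ht A.property⟩
  refine ⟨Z', ObjectProperty.homMk t₁, ObjectProperty.homMk t₂, ?_, ?_, ?_⟩
  · ext; exact hst
  · ext; exact hft
  · exact ht

include hP e in
theorem full_aux {A B : P.FullSubcategory} (β : G.obj (L'.obj A) ⟶ G.obj (L'.obj B)) :
    ∃ φ : L'.obj A ⟶ L'.obj B, G.map φ = β := by
  have := hasRightCalculusOfFractions W P hP
  let b : L.obj A.obj ⟶ L.obj B.obj := e.inv.app A ≫ β ≫ e.hom.app B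
  obtain ⟨ψ, hψ⟩ := Localization.exists_rightFraction L W b
  let A'' : P.FullSubcategory := ⟨ψ.X', hP ψ.s ψ.hs A.property⟩
  let ψ' : (WP W P).RightFraction A B :=
    MorphismProperty.RightFraction.mk (X' := A'') (ObjectProperty.homMk ψ.s) ψ.hs
      (ObjectProperty.homMk ψ.f)
  refine ⟨ψ'.map L' (Localization.inverts L' (WP W P)), ?_⟩
  have h4 := map_rightFraction W P L L' G e ψ'
  have h5 : (under W P ψ').map L (Localization.inverts L W) = b := hψ.symm
  rw [h5] at h4
  have h7 := congrArg (fun x => e.hom.app A ≫ x ≫ e.inv.app B) h4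
  simpa [b] using h7

include hP e in
theorem full_and_faithful : G.Full ∧ G.Faithful := by
  have := hasRightCalculusOfFractions W P hP
  have hess := Localization.essSurj L' (WP W P)
  have hfaith : G.Faithful := by
    constructor
    intro X Y f g h
    let iX : L'.obj (L'.objPreimage X) ≅ X := L'.objObjPreimageIso X
    let iY : L'.obj (L'.objPreimage Y) ≅ Y := L'.objObjPreimageIso Y
    have := faithful_aux W P hP L L' G e (iX.hom ≫ f ≫ iY.inv) (iX.hom ≫ g ≫ iY.inv)
      (by simp only [Functor.map_comp, h])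
    simpa using this
  have hfull : G.Full := by
    constructor
    intro X Y β
    let iX : L'.obj (L'.objPreimage X) ≅ X := L'.objObjPreimageIso X
    let iY : L'.obj (L'.objPreimage Y) ≅ Y := L'.objObjPreimageIso Y
    obtain ⟨φ, hφ⟩ := full_aux W P hP L L' G e (G.map iX.hom ≫ β ≫ G.map iY.inv)
    refine ⟨iX.inv ≫ φ ≫ iY.hom, ?_⟩
    rw [Functor.map_comp, Functor.map_comp, hφ]
    simp only [Category.assoc, ← Functor.map_comp, Iso.inv_hom_id, Functor.map_id,
      Category.comp_id]
    rw [← Functor.map_comp_assoc, Iso.inv_hom_id, Functor.map_id, Category.id_comp]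
  exact ⟨hfull, hfaith⟩

end Groth.Agent.Lib.Helper93.SubcatLoc

namespace Groth.Agent.Lib.Helper93.SliceLoc

variable {C : Type u₁} [Category.{v₁} C] (W : MorphismProperty C) {S : C}
variable [W.HasRightCalculusOfFractions]
variable {D : Type u₂} [Category.{v₂} D] (L : C ⥤ D) [L.IsLocalization W]

/-- `Over.post L` is a localization functor for the slice class. -/
theorem isLocalization_post : (Over.post (X := S) L).IsLocalization (WS W S) := by
  have hinv : (WS W S).IsInvertedBy (Over.post (X := S) L) := by
    intro A B f hf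
    have h1 : IsIso (L.map f.left) := Localization.inverts L W _ hf
    have h2 : IsIso ((Over.forget (L.obj S)).map ((Over.post (X := S) L).map f)) := h1
    exact isIso_of_reflects_iso _ (Over.forget (L.obj S))
  let Φ : (WS W S).Localization ⥤ Over (L.obj S) :=
    Localization.lift (Over.post (X := S) L) hinv (WS W S).Q
  let e : (WS W S).Q ⋙ Φ ≅ Over.post (X := S) L := Localization.fac _ hinv _
  have hΦ : Φ.IsEquivalence := isEquivalence W L (WS W S).Q Φ e
  exact Functor.IsLocalization.of_equivalence_target (WS W S).Q (WS W S) (Over.post (X := S) L)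
    Φ.asEquivalence e

end Groth.Agent.Lib.Helper93.SliceLoc
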