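import Mathlib

/-! Helper lemmas about rings graded by an additive commutative group, at a "fixed point":
a maximal ideal containing all homogeneous elements of non-zero degree. -/

namespace Groth.Agent.Lib.Helper93.TorusGr

open DirectSum

variable {k : Type*} [CommRing k] {M : Type*} [AddCommGroup M] [DecidableEq M]
  {A : Type*} [CommRing A] [Algebra k A] (𝒜 : M → Submodule k A) [GradedAlgebra 𝒜]

/-- An ideal containing all homogeneous elements of non-zero degree is homogeneous. -/
theorem isHomogeneous_of_fix (m : Ideal A) (hfix : ∀ i : M, i ≠ 0 → ∀ a ∈ 𝒜 i, a ∈ m) :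
    m.IsHomogeneous 𝒜 := by
  classical
  intro i x hx
  by_cases hi : i = 0
  · subst hi
    have h1 : (decompose 𝒜 x 0 : A) = x - ∑ j ∈ (decompose 𝒜 x).support.erase 0,
        (decompose 𝒜 x j : A) := by
      by_cases h0 : (0 : M) ∈ (decompose 𝒜 x).support
      · rw [eq_sub_iff_add_eq, Finset.add_sum_erase _ (fun j => (decompose 𝒜 x j : A)) h0,
          DirectSum.sum_support_decompose]
      · rw [Finset.erase_eq_of_notMem h0, DirectSum.sum_support_decompose, sub_self]
        rw [DFinsupp.notMem_support_iff] at h0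
        rw [h0]; rfl
    rw [h1]
    refine sub_mem hx (sum_mem (fun j hj => ?_))
    exact hfix j (Finset.ne_of_mem_erase hj) _ (SetLike.coe_mem _)
  · exact hfix i hi _ (SetLike.coe_mem _)

/-- Compatibility of decomposition with a degree-preserving ring homomorphism. -/
theorem decompose_map_of_graded {B : Type*} [CommRing B] [Algebra k B] (ℬ : M → Submodule k B)
    [GradedAlgebra ℬ] (φ : B →+* A) (hφ : ∀ i : M, ∀ b ∈ ℬ i, φ b ∈ 𝒜 i) (b : B) (i : M) :
    (decompose 𝒜 (φ b) i : A) = φ (decompose ℬ b i : B) := by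
  classical
  conv_lhs => rw [← DirectSum.sum_support_decompose ℬ b, map_sum, DirectSum.decompose_sum,
    DFinsupp.finsetSum_apply, AddSubmonoidClass.coe_finsetSum]
  rw [Finset.sum_eq_single i]
  · rw [DirectSum.decompose_of_mem_same 𝒜 (hφ i _ (SetLike.coe_mem _))]
  · intro j _ hji
    rw [DirectSum.decompose_of_mem_ne 𝒜 (hφ j _ (SetLike.coe_mem _)) hji]
  · intro hi
    rw [DFinsupp.notMem_support_iff] at hi
    rw [hi]
    simp

/-- The kernel of the localization at a fixed point is a homogeneous ideal. -/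
theorem ker_localization_isHomogeneous (m : Ideal A) [m.IsMaximal]
    (hfix : ∀ i : M, i ≠ 0 → ∀ a ∈ 𝒜 i, a ∈ m) :
    (RingHom.ker (algebraMap A (Localization.AtPrime m))).IsHomogeneous 𝒜 := by
  classical
  have hmhom := isHomogeneous_of_fix 𝒜 m hfix
  intro i a ha
  rw [RingHom.mem_ker, IsLocalization.map_eq_zero_iff m.primeCompl] at ha
  obtain ⟨⟨s, hs⟩, hsa⟩ := ha
  -- the ideal generated by the components of `a`
  let S : Set A := Set.range (fun j : M => (decompose 𝒜 a j : A))
  let N : Ideal A := Ideal.span S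
  have hSfin : S.Finite := by
    have : S ⊆ insert 0 ((fun j : M => (decompose 𝒜 a j : A)) '' ((decompose 𝒜 a).support : Set M)) := by
      rintro _ ⟨j, rfl⟩
      by_cases hj : j ∈ (decompose 𝒜 a).support
      · exact Set.mem_insert_of_mem _ ⟨j, hj, rfl⟩
      · rw [DFinsupp.notMem_support_iff] at hj
        left
        simp [hj]
    exact Set.Finite.subset ((Set.Finite.image _ (Finset.finite_toSet _)).insert 0) this
  have hNfg : (N : Submodule A A).FG := ⟨hSfin.toFinset, by simp [N]⟩
  have hNhom : N.IsHomogeneous 𝒜 := by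
    apply Ideal.homogeneous_span
    rintro _ ⟨j, rfl⟩
    exact ⟨j, SetLike.coe_mem _⟩
  have haN : a ∈ N := by
    rw [← DirectSum.sum_support_decompose 𝒜 a]
    exact sum_mem (fun j _ => Ideal.subset_span ⟨j, rfl⟩)
  have hmN : (m * N).IsHomogeneous 𝒜 := hmhom.mul hNhom
  have hamN : a ∈ m * N := by
    obtain ⟨y, t, ht, hyt⟩ := Ideal.IsMaximal.exists_inv ‹m.IsMaximal› hs
    have : a = t * a := by
      have h1 : a = (y * s + t) * a := by rw [hyt, one_mul]
      rw [add_mul, mul_assoc, hsa, mul_zero, zero_add] at h1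
      exact h1
    rw [this]
    exact Ideal.mul_mem_mul ht haN
  have hle : (N : Submodule A A) ≤ m • (N : Submodule A A) := by
    change N ≤ m * N
    rw [Ideal.span_le]
    rintro _ ⟨j, rfl⟩
    exact hmN j hamN
  obtain ⟨r, hr1, hr⟩ :=
    Submodule.exists_sub_one_mem_and_smul_eq_zero_of_fg_of_le_smul m (N : Submodule A A) hNfg hle
  have hrm : r ∉ m := by
    intro hrm
    have : (1 : A) ∈ m := by
      have := sub_mem hrm hr1
      simpa using this
    exact (Ideal.IsMaximal.ne_top ‹m.IsMaximal›) ((Ideal.eq_top_iff_one m).mpr this)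
  rw [RingHom.mem_ker, IsLocalization.map_eq_zero_iff m.primeCompl]
  refine ⟨⟨r, hrm⟩, ?_⟩
  have := hr (decompose 𝒜 a i : A) (Ideal.subset_span ⟨i, rfl⟩)
  simpa using this

end Groth.Agent.Lib.Helper93.TorusGr
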