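import Mathlib.CategoryTheory.Monoidal.Cartesian.Mon
import Mathlib.CategoryTheory.Limits.Shapes.Pullback.HasPullback

/-!
# The object of units of a monoid object (helper93)

In a cartesian monoidal category, for a monoid object `M` such that the pullback of
`(a, b) ↦ (ab, ba) : M ⊗ M ⟶ M ⊗ M` along `(1, 1) : 𝟙_ ⟶ M ⊗ M` exists, this pullback `unitsObj M`
with `unitsι : unitsObj M ⟶ M` represents the functor of units `T ↦ (T ⟶ M)ˣ`.
-/

set_option autoImplicit false
universe v₁ u₁

open CategoryTheory CategoryTheory.Limits MonoidalCategory CartesianMonoidalCategory MonObj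

namespace Groth.Agent.Lib.Helper93.UnitsObj

variable {C : Type u₁} [Category.{v₁} C] [CartesianMonoidalCategory C] (M : C) [MonObj M]

/-- `(a, b) ↦ (ab, ba)` -/
noncomputable def mulPair : M ⊗ M ⟶ M ⊗ M :=
  lift μ[M] (lift (snd M M) (fst M M) ≫ μ[M])

/-- `(1, 1)` -/
noncomputable def onePair : 𝟙_ C ⟶ M ⊗ M := lift η[M] η[M]

variable {M}

theorem lift_mulPair {T : C} (a b : T ⟶ M) : lift a b ≫ mulPair M = lift (a * b) (b * a) := by
  unfold mulPair
  rw [comp_lift, ← Category.assoc, comp_lift, lift_snd, lift_fst, Hom.mul_def, Hom.mul_def]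

theorem toUnit_onePair {T : C} : toUnit T ≫ onePair M = lift (1 : T ⟶ M) 1 := by
  unfold onePair
  rw [comp_lift, Hom.one_def]

variable (M)
variable [HasPullback (mulPair M) (onePair M)]

/-- The object of units. -/
noncomputable abbrev unitsObj : C := pullback (mulPair M) (onePair M)

/-- The inclusion of the object of units. -/
noncomputable def unitsι : unitsObj M ⟶ M := pullback.fst (mulPair M) (onePair M) ≫ fst M M

variable {M}

/-- A `T`-point of `unitsObj M` gives a two-sided inverse of its image in `M`. -/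
theorem exists_inverse {T : C} (g : T ⟶ unitsObj M) :
    ∃ b : T ⟶ M, (g ≫ unitsι M) * b = 1 ∧ b * (g ≫ unitsι M) = 1 ∧
      g ≫ pullback.fst (mulPair M) (onePair M) = lift (g ≫ unitsι M) b := by
  let p : T ⟶ M ⊗ M := g ≫ pullback.fst (mulPair M) (onePair M)
  have hp : p = lift (p ≫ fst M M) (p ≫ snd M M) := (lift_comp_fst_snd p).symm
  have hcond : p ≫ mulPair M = toUnit T ≫ onePair M := by
    have := pullback.condition (f := mulPair M) (g := onePair M)
    calc p ≫ mulPair M = g ≫ pullback.fst _ _ ≫ mulPair M := Category.assoc _ _ _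
      _ = g ≫ pullback.snd _ _ ≫ onePair M := by rw [this]
      _ = (g ≫ pullback.snd _ _) ≫ onePair M := (Category.assoc _ _ _).symm
      _ = toUnit T ≫ onePair M := by rw [toUnit_unique (g ≫ pullback.snd _ _) (toUnit T)]
  rw [hp, lift_mulPair, toUnit_onePair] at hcond
  have h1 := congrArg (· ≫ fst M M) hcond
  have h2 := congrArg (· ≫ snd M M) hcond
  simp only [lift_fst, lift_snd] at h1 h2
  have hm : g ≫ unitsι M = p ≫ fst M M := by
    unfold unitsι
    rw [← Category.assoc]
  refine ⟨p ≫ snd M M, ?_, ?_, ?_⟩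
  · rw [hm]; exact h1
  · rw [hm]; exact h2
  · rw [hm]; exact hp

/-- `unitsι` is a monomorphism. -/
instance unitsι_mono : Mono (unitsι M) := by
  constructor
  intro T g₁ g₂ h
  obtain ⟨b₁, h11, h12, h13⟩ := exists_inverse g₁
  obtain ⟨b₂, h21, h22, h23⟩ := exists_inverse g₂
  have hb : b₁ = b₂ := by
    rw [h] at h12
    exact left_inv_eq_right_inv h12 h21
  apply pullback.hom_ext
  · rw [h13, h23, h, hb]
  · exact toUnit_unique _ _

/-- A `T`-point of `M` factors through `unitsι` iff it is a unit of the monoid `T ⟶ M`. -/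
theorem exists_factor_iff_isUnit {T : C} (m : T ⟶ M) :
    (∃ g : T ⟶ unitsObj M, g ≫ unitsι M = m) ↔ IsUnit m := by
  constructor
  · rintro ⟨g, rfl⟩
    obtain ⟨b, h1, h2, -⟩ := exists_inverse g
    exact ⟨⟨_, b, h1, h2⟩, rfl⟩
  · rintro ⟨v, rfl⟩
    have hcond : lift (v : T ⟶ M) (↑v⁻¹ : T ⟶ M) ≫ mulPair M = toUnit T ≫ onePair M := by
      rw [lift_mulPair, toUnit_onePair, Units.mul_inv, Units.inv_mul]
    refine ⟨pullback.lift (lift (v : T ⟶ M) (↑v⁻¹ : T ⟶ M)) (toUnit T) hcond, ?_⟩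
    unfold unitsι
    rw [← Category.assoc, pullback.lift_fst, lift_fst]

/-- Any representing object of the functor of units is isomorphic to `unitsObj M`. -/
theorem exists_iso_of_represents {G : C} (i : G ⟶ M) [Mono i]
    (hi : ∀ (T : C) (m : T ⟶ M), (∃ g : T ⟶ G, g ≫ i = m) ↔ IsUnit m) :
    ∃ φ : G ≅ unitsObj M, φ.hom ≫ unitsι M = i := by
  obtain ⟨ψ, hψ⟩ := (exists_factor_iff_isUnit i).mpr ((hi G i).mp ⟨𝟙 G, Category.id_comp i⟩)
  obtain ⟨φ, hφ⟩ := (hi (unitsObj M) (unitsι M)).mpr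
    ((exists_factor_iff_isUnit (unitsι M)).mp ⟨𝟙 _, Category.id_comp _⟩)
  refine ⟨⟨ψ, φ, ?_, ?_⟩, hψ⟩
  · rw [← cancel_mono i, Category.assoc, hφ, hψ, Category.id_comp]
  · rw [← cancel_mono (unitsι M), Category.assoc, hψ, hφ, Category.id_comp]

end Groth.Agent.Lib.Helper93.UnitsObj
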