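import Mathlib.RingTheory.Valuation.LocalSubring
import Mathlib.RingTheory.LocalRing.ResidueField.Ideal

/-!
# Testing non-units by valuation rings (helper93)

For `a c` in a ring `A` with `a * c` a nonzerodivisor and `c` in a prime `𝔭`, there is a
valuation ring `R` with a map from `A` under which `a` becomes nonzero, is contained in every
nonzero prime, and `c` is not a unit.
-/

set_option autoImplicit false
universe u

namespace Groth.Agent.Lib.Helper93.ValRingTest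

section NoPow

variable {R : Type*} [CommRing R] [IsDomain R] [ValuationRing R]

/-- In a valuation ring, the ideal of elements dividing no power of `a ≠ 0`. -/
def noPowIdeal (a : R) (ha : a ≠ 0) : Ideal R where
  carrier := {x | ∀ n : ℕ, ¬ x ∣ a ^ n}
  zero_mem' := fun n h => pow_ne_zero n ha (zero_dvd_iff.mp h)
  add_mem' := by
    intro x y hx hy n hxy
    rcases ValuationRing.dvd_total x y with h | h
    · exact hx n ((dvd_add dvd_rfl h).trans hxy)
    · exact hy n ((dvd_add h dvd_rfl).trans hxy)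
  smul_mem' := by
    intro r x hx n h
    exact hx n ((Dvd.intro_left r rfl).trans h)

lemma mem_noPowIdeal {a : R} {ha : a ≠ 0} {x : R} :
    x ∈ noPowIdeal a ha ↔ ∀ n : ℕ, ¬ x ∣ a ^ n := Iff.rfl

instance noPowIdeal_isPrime (a : R) (ha : a ≠ 0) : (noPowIdeal a ha).IsPrime where
  ne_top' := by
    rw [Ideal.ne_top_iff_one]
    intro h
    exact h 0 (one_dvd _)
  mem_or_mem' := by
    intro x y hxy
    by_contra hcon
    push Not at hcon
    obtain ⟨hx, hy⟩ := hcon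
    rw [mem_noPowIdeal] at hx hy
    push Not at hx hy
    obtain ⟨n, hn⟩ := hx
    obtain ⟨m, hm⟩ := hy
    exact hxy (n + m) (by rw [pow_add]; exact mul_dvd_mul hn hm)

lemma self_notMem_noPowIdeal (a : R) (ha : a ≠ 0) : a ∉ noPowIdeal a ha := fun h =>
  h 1 (by rw [pow_one])

lemma le_noPowIdeal (a : R) (ha : a ≠ 0) (P : Ideal R) [P.IsPrime] (haP : a ∉ P) :
    P ≤ noPowIdeal a ha := by
  intro x hx n hn
  exact haP (Ideal.IsPrime.mem_of_pow_mem inferInstance n (Ideal.mem_of_dvd P hn hx))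

end NoPow

/-- The valuation ring test. -/
theorem exists_valuationRing_hom {A : Type u} [CommRing A] (a c : A)
    (hac : a * c ∈ nonZeroDivisors A) (𝔭 : Ideal A) [𝔭.IsPrime] (hc : c ∈ 𝔭) :
    ∃ (R : Type u) (_ : CommRing R) (_ : IsDomain R) (_ : ValuationRing R) (ψ : A →+* R),
      ψ a ≠ 0 ∧ (∀ Q : Ideal R, Q.IsPrime → (ψ a ∉ Q ↔ Q = ⊥)) ∧ ¬ IsUnit (ψ c) := by
  classical
  -- a prime `𝔮 ≤ 𝔭` avoiding `a * c`
  obtain ⟨𝔮, h𝔮, -, hdisj⟩ := Ideal.exists_le_prime_disjoint (⊥ : Ideal A)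
    (𝔭.primeCompl ⊔ Submonoid.powers (a * c)) (by
      rw [Set.disjoint_left]
      intro x hx hxS
      rw [SetLike.mem_coe, Ideal.mem_bot] at hx
      subst hx
      obtain ⟨y, hy, z, hz, hyz⟩ := Submonoid.mem_sup.mp hxS
      obtain ⟨n, rfl⟩ := hz
      have hz' : (a * c) ^ n ∈ nonZeroDivisors A := pow_mem hac n
      have : y = 0 := (mem_nonZeroDivisors_iff_right.mp hz') y hyz
      exact hy (this ▸ 𝔭.zero_mem))
  have h𝔮𝔭 : 𝔮 ≤ 𝔭 := by
    intro x hx
    by_contra hx𝔭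
    exact Set.disjoint_left.mp hdisj hx
      ((le_sup_left : 𝔭.primeCompl ≤ 𝔭.primeCompl ⊔ Submonoid.powers (a * c)) hx𝔭)
  have hac𝔮 : a * c ∉ 𝔮 := fun h => Set.disjoint_left.mp hdisj h
    ((le_sup_right : Submonoid.powers (a * c) ≤ 𝔭.primeCompl ⊔ Submonoid.powers (a * c))
      (Submonoid.mem_powers _))
  have ha𝔮 : a ∉ 𝔮 := fun h => hac𝔮 (𝔮.mul_mem_right c h)
  -- the residue field of `𝔮`
  let K := 𝔮.ResidueField
  let ψ₀ : A →+* K := algebraMap A K
  have hψ₀ : ∀ x, ψ₀ x = 0 ↔ x ∈ 𝔮 := fun x => Ideal.algebraMap_residueField_eq_zero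
  let A₀ : Subring K := ψ₀.range
  let c₀ : A₀ := ⟨ψ₀ c, c, rfl⟩
  have hI₀ : Ideal.span {c₀} ≠ ⊤ := by
    rw [Ne, Ideal.span_singleton_eq_top]
    intro hu
    obtain ⟨⟨_, u, rfl⟩, hu⟩ := isUnit_iff_exists_inv.mp hu
    have h1 : ψ₀ (c * u - 1) = 0 := by
      have := congr_arg Subtype.val hu
      simp only [c₀, Subring.coe_mul, Subring.coe_one] at this
      rw [map_sub, map_mul, map_one, this, sub_self]
    have h2 : c * u - 1 ∈ 𝔭 := h𝔮𝔭 ((hψ₀ _).mp h1)
    have h3 : (1 : A) ∈ 𝔭 := by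
      have := 𝔭.sub_mem (𝔭.mul_mem_right u hc) h2
      rwa [sub_sub_cancel] at this
    exact (Ideal.IsPrime.ne_top inferInstance) ((Ideal.eq_top_iff_one 𝔭).mpr h3)
  obtain ⟨R₀, hle, hnon⟩ := Ideal.image_subset_nonunits_valuationSubring _ hI₀
  have hmem : ∀ x, ψ₀ x ∈ R₀ := fun x => hle ⟨x, rfl⟩
  let ψ₁ : A →+* R₀ := ψ₀.codRestrict R₀ hmem
  have hcnon : (ψ₁ c : K) ∈ R₀.nonunits := hnon ⟨c₀, Ideal.subset_span rfl, rfl⟩
  have hcnon' : ¬ IsUnit (ψ₁ c) := by
    intro hu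
    rw [ValuationSubring.mem_nonunits_iff] at hcnon
    have := (ValuationSubring.valuation_eq_one_iff R₀ (ψ₁ c)).mp hu
    rw [this] at hcnon
    exact lt_irrefl _ hcnon
  have ha₁ : ψ₁ a ≠ 0 := by
    intro h
    have : ψ₀ a = 0 := congr_arg Subtype.val h
    exact ha𝔮 ((hψ₀ a).mp this)
  let P₀ := noPowIdeal (ψ₁ a) ha₁
  let ψ : A →+* (R₀ ⧸ P₀) := (Ideal.Quotient.mk P₀).comp ψ₁
  have hval : ValuationRing (R₀ ⧸ P₀) :=
    Function.Surjective.valuationRing (Ideal.Quotient.mk P₀) Ideal.Quotient.mk_surjective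
  have hψa : ψ a ≠ 0 := by
    intro h
    exact self_notMem_noPowIdeal (ψ₁ a) ha₁ (Ideal.Quotient.eq_zero_iff_mem.mp h)
  refine ⟨R₀ ⧸ P₀, inferInstance, inferInstance, hval, ψ, hψa, ?_, ?_⟩
  · intro Q hQ
    constructor
    · intro haQ
      have hQ' : (Q.comap (Ideal.Quotient.mk P₀)).IsPrime := Ideal.comap_isPrime _ _
      have hle' : Q.comap (Ideal.Quotient.mk P₀) ≤ P₀ :=
        le_noPowIdeal (ψ₁ a) ha₁ _ (fun h => haQ h)
      rw [eq_bot_iff]
      intro x hx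
      obtain ⟨y, rfl⟩ := Ideal.Quotient.mk_surjective x
      exact (Ideal.mem_bot).mpr (Ideal.Quotient.eq_zero_iff_mem.mpr (hle' hx))
    · rintro rfl h
      exact hψa ((Ideal.mem_bot).mp h)
  · intro hu
    have : IsLocalHom (Ideal.Quotient.mk P₀) :=
      IsLocalHom.of_surjective _ Ideal.Quotient.mk_surjective
    exact hcnon' (IsUnit.of_map (Ideal.Quotient.mk P₀) (ψ₁ c) hu)

end Groth.Agent.Lib.Helper93.ValRingTest
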