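import Mathlib

/-! Weighted homogeneity of the Witt structure polynomials. -/

namespace Groth.Agent.Lib.Helper93.WittHomog

open MvPolynomial Finset

variable {R : Type*} [CommSemiring R] {σ τ : Type*}

/-- Substituting weighted homogeneous polynomials into a weighted homogeneous polynomial. -/
theorem isWeightedHomogeneous_bind₁ {u : σ → ℕ} {w : τ → ℕ} {c d : ℕ}
    (f : σ → MvPolynomial τ R) (hf : ∀ b, IsWeightedHomogeneous w (f b) (c * u b))
    {Φ : MvPolynomial σ R} (hΦ : IsWeightedHomogeneous u Φ d) :
    IsWeightedHomogeneous w (bind₁ f Φ) (c * d) := by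
  induction hΦ using IsWeightedHomogeneous.induction_on with
  | zero => simpa using isWeightedHomogeneous_zero R w (c * d)
  | add p q hp hq ihp ihq => rw [map_add]; exact ihp.add ihq
  | monomial m r hr =>
    rw [bind₁_monomial]
    have h1 : IsWeightedHomogeneous w (∏ i ∈ m.support, f i ^ m i) (∑ i ∈ m.support, m i • (c * u i)) :=
      IsWeightedHomogeneous.prod _ _ _ (fun i _ => (hf i).pow (m i))
    have h2 : ∑ i ∈ m.support, m i • (c * u i) = c * d := by
      rw [← hr, Finsupp.weight_apply, Finsupp.sum, Finset.mul_sum]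
      refine Finset.sum_congr rfl (fun i _ => ?_)
      simp only [smul_eq_mul]
      ring
    rw [h2] at h1
    exact h1.C_mul r

/-- Weighted homogeneity transfers along injective coefficient maps. -/
theorem isWeightedHomogeneous_of_map {S : Type*} [CommSemiring S] (g : R →+* S)
    (hg : Function.Injective g) {w : τ → ℕ} {n : ℕ} {φ : MvPolynomial τ R}
    (h : IsWeightedHomogeneous w (map g φ) n) : IsWeightedHomogeneous w φ n := by
  intro d hd
  apply h
  rw [coeff_map]
  intro h0
  apply hd
  apply hg
  rw [h0, map_zero]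

theorem isWeightedHomogeneous_map {S : Type*} [CommSemiring S] (g : R →+* S)
    {w : τ → ℕ} {n : ℕ} {φ : MvPolynomial τ R}
    (h : IsWeightedHomogeneous w φ n) : IsWeightedHomogeneous w (map g φ) n := by
  intro d hd
  apply h
  rw [coeff_map] at hd
  intro h0
  apply hd
  rw [h0, map_zero]

variable (p : ℕ) [hp : Fact p.Prime] {idx : Type*}

/-- The renamed Witt polynomial is weighted homogeneous. -/
theorem isWeightedHomogeneous_rename_wittPolynomial (S : Type*) [CommRing S] (u : idx → ℕ) (b : idx) (n : ℕ) :
    IsWeightedHomogeneous (fun i : idx × ℕ => u i.1 * p ^ i.2)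
      (rename (fun i => (b, i)) (wittPolynomial p S n)) (p ^ n * u b) := by
  rw [wittPolynomial, map_sum]
  apply IsWeightedHomogeneous.sum
  intro i hi
  rw [rename_monomial]
  apply isWeightedHomogeneous_monomial
  rw [Finsupp.mapDomain_single, Finsupp.weight_single]
  simp only [smul_eq_mul]
  have : i ≤ n := Nat.lt_succ_iff.mp (Finset.mem_range.mp hi)
  calc p ^ (n - i) * (u b * p ^ i) = (p ^ (n - i) * p ^ i) * u b := by ring
    _ = p ^ n * u b := by rw [← pow_add, Nat.sub_add_cancel this]

/-- The rational Witt structure polynomials of a weighted homogeneous polynomial are weighted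
homogeneous. -/
theorem wittStructureRat_isWeightedHomogeneous (u : idx → ℕ) (d : ℕ) (Φ : MvPolynomial idx ℚ)
    (hΦ : IsWeightedHomogeneous u Φ d) (n : ℕ) :
    IsWeightedHomogeneous (fun i : idx × ℕ => u i.1 * p ^ i.2) (wittStructureRat p Φ n) (p ^ n * d) := by
  induction n using Nat.strong_induction_on with
  | h n IH =>
    rw [wittStructureRat_rec]
    apply IsWeightedHomogeneous.C_mul
    apply IsWeightedHomogeneous.sub
    · exact isWeightedHomogeneous_bind₁ _
        (fun b => isWeightedHomogeneous_rename_wittPolynomial p ℚ u b n) hΦ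
    · apply IsWeightedHomogeneous.sum
      intro i hi
      apply IsWeightedHomogeneous.C_mul
      have hin : i < n := Finset.mem_range.mp hi
      have h1 := (IH i hin).pow (p ^ (n - i))
      have h2 : p ^ (n - i) • (p ^ i * d) = p ^ n * d := by
        simp only [smul_eq_mul]
        rw [← mul_assoc, ← pow_add, Nat.sub_add_cancel hin.le]
      rw [h2] at h1
      exact h1

/-- The integral Witt structure polynomials of a weighted homogeneous polynomial are weighted
homogeneous. -/
theorem wittStructureInt_isWeightedHomogeneous (u : idx → ℕ) (d : ℕ) (Φ : MvPolynomial idx ℤ)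
    (hΦ : IsWeightedHomogeneous u Φ d) (n : ℕ) :
    IsWeightedHomogeneous (fun i : idx × ℕ => u i.1 * p ^ i.2) (wittStructureInt p Φ n) (p ^ n * d) := by
  apply isWeightedHomogeneous_of_map (Int.castRingHom ℚ) Int.cast_injective
  rw [map_wittStructureInt]
  exact wittStructureRat_isWeightedHomogeneous p u d _ (isWeightedHomogeneous_map _ hΦ) n

end Groth.Agent.Lib.Helper93.WittHomog

namespace Groth.Agent.Lib.Helper93.WittHomog

open MvPolynomial Finset

/-- Evaluating a weighted homogeneous integer polynomial at elements of a multiplicative family of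
submodules. -/
theorem aeval_mem_of_isWeightedHomogeneous {A K : Type*} [CommRing A] [CommRing K] [Algebra A K]
    (M' : ℕ → Submodule A K) (hone : (1 : K) ∈ M' 0)
    (hmul : ∀ (i j : ℕ) (a b : K), a ∈ M' i → b ∈ M' j → a * b ∈ M' (i + j))
    {τ : Type*} (w : τ → ℕ) (v : τ → K) (hv : ∀ t, v t ∈ M' (w t))
    {Ψ : MvPolynomial τ ℤ} {N : ℕ} (hΨ : IsWeightedHomogeneous w Ψ N) :
    aeval v Ψ ∈ M' N := by
  have : SetLike.GradedMonoid M' :=
    { one_mem := hone
      mul_mem := fun i j a b ha hb => hmul i j a b ha hb }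
  induction hΨ using IsWeightedHomogeneous.induction_on with
  | zero => simp
  | add p q hp hq ihp ihq => rw [map_add]; exact add_mem ihp ihq
  | monomial d r hr =>
    rw [aeval_monomial, Finsupp.prod]
    have h1 : ∏ i ∈ d.support, v i ^ d i ∈ M' (∑ i ∈ d.support, d i • w i) :=
      SetLike.prod_pow_mem_graded M' w v (fun i => d i) (fun k _ => hv k)
    have h2 : ∑ i ∈ d.support, d i • w i = N := by
      rw [← hr, Finsupp.weight_apply, Finsupp.sum]
    rw [h2] at h1
    rw [← Algebra.smul_def]
    exact zsmul_mem h1 r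

/-- The modification of a multiplicative family of submodules in degree zero. -/
theorem aeval_mem_of_isWeightedHomogeneous' {A K : Type*} [CommRing A] [CommRing K] [Algebra A K]
    (M : ℕ → Submodule A K)
    (hmul : ∀ (i j : ℕ) (a b : K), a ∈ M i → b ∈ M j → a * b ∈ M (i + j))
    {τ : Type*} (w : τ → ℕ) (v : τ → K)
    (hv : ∀ t, (w t ≠ 0 → v t ∈ M (w t)) ∧ (w t = 0 → v t ∈ Set.range (algebraMap A K)))
    {Ψ : MvPolynomial τ ℤ} {N : ℕ} (hN : N ≠ 0) (hΨ : IsWeightedHomogeneous w Ψ N) :
    aeval v Ψ ∈ M N := by
  let M' : ℕ → Submodule A K := fun n => if n = 0 then Submodule.span A {1} else M n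
  have hM'0 : M' 0 = Submodule.span A {1} := by simp [M']
  have hM'n : ∀ n, n ≠ 0 → M' n = M n := fun n hn => by simp [M', hn]
  have hone : (1 : K) ∈ M' 0 := by rw [hM'0]; exact Submodule.subset_span rfl
  have hmul' : ∀ (i j : ℕ) (a b : K), a ∈ M' i → b ∈ M' j → a * b ∈ M' (i + j) := by
    intro i j a b ha hb
    by_cases hi : i = 0
    · subst hi
      rw [hM'0, Submodule.mem_span_singleton] at ha
      obtain ⟨c, rfl⟩ := ha
      rw [zero_add, smul_mul_assoc, one_mul]
      exact Submodule.smul_mem _ _ hb
    · by_cases hj : j = 0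
      · subst hj
        rw [hM'0, Submodule.mem_span_singleton] at hb
        obtain ⟨c, rfl⟩ := hb
        rw [add_zero, mul_smul_comm, mul_one]
        exact Submodule.smul_mem _ _ ha
      · rw [hM'n i hi] at ha
        rw [hM'n j hj] at hb
        rw [hM'n (i + j) (by omega)]
        exact hmul i j a b ha hb
  have hv' : ∀ t, v t ∈ M' (w t) := by
    intro t
    by_cases ht : w t = 0
    · obtain ⟨c, hc⟩ := (hv t).2 ht
      rw [ht, hM'0, ← hc, Algebra.algebraMap_eq_smul_one]
      exact Submodule.smul_mem _ _ (Submodule.subset_span rfl)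
    · rw [hM'n _ ht]
      exact (hv t).1 ht
  have := aeval_mem_of_isWeightedHomogeneous M' hone hmul' w v hv' hΨ
  rwa [hM'n N hN] at this

end Groth.Agent.Lib.Helper93.WittHomog
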